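import Cfsg.Agent.Lib.Helper24.SylowPrime

set_option autoImplicit false

namespace Cfsg.Agent.Lib.Helper24

section KleinSylow
variable {G : Type*} [Group G]

theorem klein_sq (P : Subgroup G) (hP : IsKleinFour P) (x : G) (hx : x ∈ P) : x * x = 1 := by
  have := IsKleinFour.mul_self (⟨x, hx⟩ : P)
  exact congrArg Subtype.val this

theorem klein_comm (P : Subgroup G) (hP : IsKleinFour P) (x y : G) (hx : x ∈ P) (hy : y ∈ P) :
    x * y = y * x := by
  have := IsKleinFour.isMulCommutative (G := P)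
  have h := mul_comm' (⟨x, hx⟩ : P) ⟨y, hy⟩
  exact congrArg Subtype.val h

theorem klein_cases (P : Subgroup G) (hP : IsKleinFour P) (s t z : G) (hs : s ∈ P) (ht : t ∈ P)
    (hz : z ∈ P) (hs1 : s ≠ 1) (ht1 : t ≠ 1) (hst : s ≠ t) :
    z = 1 ∨ z = s ∨ z = t ∨ z = s * t := by
  by_contra h
  push Not at h
  obtain ⟨h1, h2, h3, h4⟩ := h
  apply h4
  have := IsKleinFour.eq_mul_of_ne_all (x := (⟨s, hs⟩ : P)) (y := ⟨t, ht⟩) (z := ⟨z, hz⟩)
    (by intro h; exact hs1 (congrArg Subtype.val h))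
    (by intro h; exact ht1 (congrArg Subtype.val h))
    (by intro h; exact hst (congrArg Subtype.val h))
    (by intro h; exact h1 (congrArg Subtype.val h))
    (by intro h; exact h2 (congrArg Subtype.val h))
    (by intro h; exact h3 (congrArg Subtype.val h))
  exact congrArg Subtype.val this

theorem klein_exists_pair (P : Subgroup G) (hP : IsKleinFour P) :
    ∃ a b : G, a ∈ P ∧ b ∈ P ∧ a ≠ 1 ∧ b ≠ 1 ∧ a ≠ b := by
  classical
  have hfin : Finite P := IsKleinFour.instFinite
  have := Fintype.ofFinite P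
  have hcard : 2 < Fintype.card P := by
    rw [← Nat.card_eq_fintype_card, IsKleinFour.card_four]; norm_num
  obtain ⟨x, y, z, hxy, hxz, hyz⟩ := Fintype.two_lt_card_iff.mp hcard
  have coe_ne : ∀ u v : P, u ≠ v → (u : G) ≠ (v : G) := fun u v h h' => h (Subtype.ext h')
  have coe_ne1 : ∀ u : P, u ≠ 1 → (u : G) ≠ 1 := fun u h h' => h (Subtype.ext h')
  by_cases hx : x = 1
  · have hy : y ≠ 1 := fun h => hxy (hx.trans h.symm)
    have hz : z ≠ 1 := fun h => hxz (hx.trans h.symm)
    exact ⟨y, z, y.2, z.2, coe_ne1 y hy, coe_ne1 z hz, coe_ne y z hyz⟩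
  · by_cases hy : y = 1
    · have hz : z ≠ 1 := fun h => hyz (hy.trans h.symm)
      exact ⟨x, z, x.2, z.2, coe_ne1 x hx, coe_ne1 z hz, coe_ne x z hxz⟩
    · exact ⟨x, y, x.2, y.2, coe_ne1 x hx, coe_ne1 y hy, coe_ne x y hxy⟩

/-- Fusion step: if distinct involutions `s, t` of the Klein four Sylow subgroup `P` are conjugate
in `G`, then `s * t` is conjugate to `s`. -/
theorem klein_fusion_step [Finite G] (P : Sylow 2 G) (hP : IsKleinFour (P : Subgroup G))
    (s t g : G) (hs : s ∈ (P : Subgroup G)) (ht : t ∈ (P : Subgroup G)) (hs1 : s ≠ 1)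
    (ht1 : t ≠ 1) (hst : s ≠ t) (hg : g⁻¹ * s * g = t) : ∃ k : G, k⁻¹ * s * k = s * t := by
  have hcommI : IsMulCommutative (P : Subgroup G) := IsKleinFour.isMulCommutative
  obtain ⟨n, hnN, hn⟩ := P.conj_eq_normalizer_conj_of_mem s g hs (hg ▸ ht)
  rw [hg] at hn
  -- n⁻¹ s n = t
  have hφt : n⁻¹ * t * n ∈ (P : Subgroup G) := (Subgroup.mem_normalizer_iff''.mp hnN t).mp ht
  have hφt1 : n⁻¹ * t * n ≠ 1 := by
    intro h
    apply ht1
    have : t = n * (n⁻¹ * t * n) * n⁻¹ := by group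
    rw [this, h]; group
  have hφtt : n⁻¹ * t * n ≠ t := by
    intro h
    apply hst
    have h2 : n⁻¹ * t * n = n⁻¹ * s * n := by rw [h, hn]
    exact (mul_left_cancel (mul_right_cancel h2)).symm
  rcases klein_cases (P : Subgroup G) hP s t _ hs ht hφt hs1 ht1 hst with h | h | h | h
  · exact absurd h hφt1
  · -- n swaps s and t : contradiction
    exfalso
    have hn2 : Commute (n * n) s := by
      have : (n * n)⁻¹ * s * (n * n) = s := by
        calc (n * n)⁻¹ * s * (n * n) = n⁻¹ * (n⁻¹ * s * n) * n := by group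
          _ = s := by rw [← hn, h]
      have h3 : s * (n * n) = (n * n) * s := by
        calc s * (n * n) = (n * n) * ((n * n)⁻¹ * s * (n * n)) := by group
          _ = (n * n) * s := by rw [this]
      exact h3.symm
    have hpos : orderOf n ≠ 0 := (orderOf_pos n).ne'
    obtain ⟨e, m', hm'odd, hm⟩ := Nat.exists_eq_two_pow_mul_odd hpos
    obtain ⟨j, hj⟩ := hm'odd
    have hn' : (n ^ m')⁻¹ * s * (n ^ m') = t := by
      have e1 : n ^ m' = (n * n) ^ j * n := by
        rw [hj, pow_succ, pow_mul, pow_two]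
      have hc : Commute ((n * n) ^ j) s := hn2.pow_left j
      rw [e1]
      calc ((n * n) ^ j * n)⁻¹ * s * ((n * n) ^ j * n)
          = n⁻¹ * (((n * n) ^ j)⁻¹ * (s * (n * n) ^ j)) * n := by group
        _ = n⁻¹ * (((n * n) ^ j)⁻¹ * ((n * n) ^ j * s)) * n := by rw [hc.eq]
        _ = n⁻¹ * s * n := by group
        _ = t := hn.symm
    have hn'N : n ^ m' ∈ Subgroup.normalizer ((P : Subgroup G) : Set G) :=
      Subgroup.pow_mem _ hnN m'
    have hpg : IsPGroup 2 (Subgroup.zpowers (n ^ m')) := by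
      have h1 : (n ^ m') ^ (2 ^ e) = 1 := by
        rw [← pow_mul, mul_comm, ← hm, pow_orderOf_eq_one]
      have h2 := orderOf_dvd_of_pow_eq_one h1
      obtain ⟨i, _, hi⟩ := (Nat.dvd_prime_pow Nat.prime_two).mp h2
      apply IsPGroup.of_card (n := i)
      rw [Nat.card_zpowers, hi]
    have hmem := mem_sylow_of_mem_normalizer_of_isPGroup P _ hn'N hpg
    have hc := klein_comm (P : Subgroup G) hP _ _ hmem hs
    have : (n ^ m')⁻¹ * s * (n ^ m') = s := by
      calc (n ^ m')⁻¹ * s * (n ^ m') = (n ^ m')⁻¹ * (s * n ^ m') := by group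
        _ = (n ^ m')⁻¹ * (n ^ m' * s) := by rw [hc]
        _ = s := by group
    exact hst (this.symm.trans hn')
  · exact absurd h hφtt
  · refine ⟨n * n, ?_⟩
    calc (n * n)⁻¹ * s * (n * n) = n⁻¹ * (n⁻¹ * s * n) * n := by group
      _ = s * t := by rw [← hn, h]

end KleinSylow

end Cfsg.Agent.Lib.Helper24
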