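import Cfsg.Agent.Lib.Helper24.Dih

set_option autoImplicit false

namespace Cfsg.Agent.Lib.Helper24

section DihIso
variable {G : Type*} [Group G]

theorem zpow_cast_add (u : G) (i j : ZMod (orderOf u)) :
    u ^ ((i + j).cast : ℤ) = u ^ ((i.cast : ℤ) + (j.cast : ℤ)) := by
  rw [zpow_eq_zpow_iff_modEq, ← ZMod.intCast_eq_intCast_iff]
  push_cast
  simp

theorem zpow_cast_sub (u : G) (i j : ZMod (orderOf u)) :
    u ^ ((j - i).cast : ℤ) = u ^ (-(i.cast : ℤ) + (j.cast : ℤ)) := by
  rw [zpow_eq_zpow_iff_modEq, ← ZMod.intCast_eq_intCast_iff]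
  push_cast
  ring

/-- the underlying function of the hom `DihedralGroup n → G` -/
noncomputable def dihFun (x y : G) : DihedralGroup (orderOf (x * y)) → G
  | DihedralGroup.r i => (x * y) ^ (i.cast : ℤ)
  | DihedralGroup.sr i => x * (x * y) ^ (i.cast : ℤ)

theorem dihFun_mul {x y : G} (hx : x * x = 1) (hy : y * y = 1)
    (a b : DihedralGroup (orderOf (x * y))) :
    dihFun x y (a * b) = dihFun x y a * dihFun x y b := by
  cases a with
  | r i =>
    cases b with
    | r j =>
      simp only [DihedralGroup.r_mul_r, dihFun]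
      rw [zpow_cast_add, zpow_add]
    | sr j =>
      simp only [DihedralGroup.r_mul_sr, dihFun]
      rw [zpow_cast_sub, ← mul_assoc, zpow_mul_left_swap hx hy, mul_assoc, ← zpow_add]
  | sr i =>
    cases b with
    | r j =>
      simp only [DihedralGroup.sr_mul_r, dihFun]
      rw [zpow_cast_add, zpow_add, mul_assoc]
    | sr j =>
      simp only [DihedralGroup.sr_mul_sr, dihFun]
      rw [zpow_cast_sub]
      calc (x * y) ^ (-(i.cast : ℤ) + (j.cast : ℤ))
          = (x * (x * y) ^ (i.cast : ℤ) * x) * (x * y) ^ (j.cast : ℤ) := by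
            rw [conj_zpow_inv hx hy, zpow_add]
        _ = x * (x * y) ^ (i.cast : ℤ) * (x * (x * y) ^ (j.cast : ℤ)) := by
            simp only [mul_assoc]

/-- the hom `DihedralGroup n → G` -/
noncomputable def dihHom {x y : G} (hx : x * x = 1) (hy : y * y = 1) :
    DihedralGroup (orderOf (x * y)) →* G where
  toFun := dihFun x y
  map_one' := by
    rw [DihedralGroup.one_def]
    simp [dihFun]
  map_mul' := dihFun_mul hx hy

theorem dihHom_injective [Finite G] {x y : G} (hx : orderOf x = 2) (hy : orderOf y = 2) :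
    Function.Injective (dihHom (sq_one_of_orderOf_two hx) (sq_one_of_orderOf_two hy)) := by
  rw [injective_iff_map_eq_one]
  intro a ha
  have hpos : 0 < orderOf (x * y) := orderOf_pos (x * y)
  have : NeZero (orderOf (x * y)) := ⟨hpos.ne'⟩
  cases a with
  | r i =>
    change (x * y) ^ (i.cast : ℤ) = 1 at ha
    rw [← orderOf_dvd_iff_zpow_eq_one] at ha
    have : ((i.cast : ℤ) : ZMod (orderOf (x * y))) = 0 :=
      (ZMod.intCast_zmod_eq_zero_iff_dvd _ _).mpr ha
    rw [ZMod.intCast_cast, ZMod.cast_id', id] at this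
    rw [this, DihedralGroup.one_def]
  | sr i =>
    exfalso
    change x * (x * y) ^ (i.cast : ℤ) = 1 at ha
    have hxm : x = (x * y) ^ (-(i.cast : ℤ)) := by
      rw [zpow_neg]
      exact eq_inv_of_mul_eq_one_left ha
    exact x_not_mem_zpowers hx hy (Subgroup.mem_zpowers_iff.mpr ⟨_, hxm.symm⟩)

theorem dihHom_range [Finite G] {x y : G} (hx : orderOf x = 2) (hy : orderOf y = 2) :
    (dihHom (sq_one_of_orderOf_two hx) (sq_one_of_orderOf_two hy)).range
      = Subgroup.closure ({x, y} : Set G) := by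
  have hx2 := sq_one_of_orderOf_two hx
  have hy2 := sq_one_of_orderOf_two hy
  apply le_antisymm
  · rintro _ ⟨a, rfl⟩
    cases a with
    | r i => exact u_zpow_mem_closure_pair x y _
    | sr i =>
      exact Subgroup.mul_mem _ (x_mem_closure_pair x y) (u_zpow_mem_closure_pair x y _)
  · rw [Subgroup.closure_le]
    rintro a (rfl | ha)
    · refine ⟨DihedralGroup.sr 0, ?_⟩
      change a * (a * y) ^ (((0 : ZMod (orderOf (a * y))).cast : ℤ)) = a
      simp
    · rw [Set.mem_singleton_iff] at ha
      subst ha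
      have hpos : 0 < orderOf (x * a) := orderOf_pos (x * a)
      have : NeZero (orderOf (x * a)) := ⟨hpos.ne'⟩
      refine ⟨DihedralGroup.sr 1, ?_⟩
      change x * (x * a) ^ (((1 : ZMod (orderOf (x * a))).cast : ℤ)) = a
      have h1 : (x * a) ^ (((1 : ZMod (orderOf (x * a))).cast : ℤ)) = (x * a) ^ (1 : ℤ) := by
        rw [zpow_eq_zpow_iff_modEq, ← ZMod.intCast_eq_intCast_iff]
        simp
      rw [h1, zpow_one, ← mul_assoc, hx2, one_mul]

theorem closure_pair_equiv_dihedral [Finite G] {x y : G} (hx : orderOf x = 2) (hy : orderOf y = 2) :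
    Nonempty (↥(Subgroup.closure ({x, y} : Set G)) ≃* DihedralGroup (orderOf (x * y))) := by
  have e1 := MonoidHom.ofInjective (dihHom_injective hx hy)
  have e2 := MulEquiv.subgroupCongr (dihHom_range hx hy)
  exact ⟨(e1.trans e2).symm⟩

end DihIso

end Cfsg.Agent.Lib.Helper24
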