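import Mathlib

set_option autoImplicit false
set_option linter.style.haveILetI false

namespace Cfsg.Agent.Lib.Helper24.InvolDecomp

universe u

section
variable {F : Type*} [Field F] {V : Type u} [AddCommGroup V] [Module F V]

theorem pair_li (x : V →ₗ[F] V) (v : V) (φ : V →ₗ[F] F) (hφv : φ v = 0) (hφ1 : φ (x v) ≠ 0) :
    LinearIndependent F ![v, x v] := by
  rw [LinearIndependent.pair_iff]
  intro s t hst
  have h1 := congrArg φ hst
  simp only [map_add, map_smul, hφv, smul_zero, zero_add, map_zero, smul_eq_mul, mul_zero] at h1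
  have ht : t = 0 := (mul_eq_zero.1 h1).resolve_right hφ1
  rw [ht, zero_smul, add_zero] at hst
  have h2 := congrArg (fun y => φ (x y)) hst
  simp only [map_smul, map_zero, smul_eq_mul] at h2
  exact ⟨(mul_eq_zero.1 h2).resolve_right hφ1, ht⟩

theorem mem_U_iff (x : V →ₗ[F] V) (φ : V →ₗ[F] F) (u : V) :
    u ∈ LinearMap.ker φ ⊓ LinearMap.ker (φ.comp x) ↔ φ u = 0 ∧ φ (x u) = 0 := by
  simp [Submodule.mem_inf, LinearMap.mem_ker]

theorem U_invariant (x : V →ₗ[F] V) (z : F) (hx : ∀ v, x (x v) = z • v) (φ : V →ₗ[F] F) :
    ∀ u ∈ LinearMap.ker φ ⊓ LinearMap.ker (φ.comp x),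
      x u ∈ LinearMap.ker φ ⊓ LinearMap.ker (φ.comp x) := by
  intro u hu
  rw [mem_U_iff] at hu ⊢
  refine ⟨hu.2, ?_⟩
  rw [hx, map_smul, hu.1, smul_zero]

theorem range_pair (v w : V) : Set.range ![v, w] = {v, w} := by
  ext y
  simp only [Set.mem_range, Fin.exists_fin_two, Matrix.cons_val_zero,
    Matrix.cons_val_one, Set.mem_insert_iff, Set.mem_singleton_iff]
  tauto

theorem W_U_compl (x : V →ₗ[F] V) (z : F) (hx : ∀ v, x (x v) = z • v) (v : V)
    (φ : V →ₗ[F] F) (hφv : φ v = 0) (hφ1 : φ (x v) ≠ 0) :
    IsCompl (Submodule.span F (Set.range ![v, x v]))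
      (LinearMap.ker φ ⊓ LinearMap.ker (φ.comp x)) := by
  rw [range_pair]
  constructor
  · rw [Submodule.disjoint_def]
    intro y hyW hyU
    rw [mem_U_iff] at hyU
    obtain ⟨s, t, rfl⟩ := Submodule.mem_span_pair.1 hyW
    have h1 := hyU.1
    simp only [map_add, map_smul, hφv, smul_zero, zero_add, smul_eq_mul, mul_zero] at h1
    have ht : t = 0 := (mul_eq_zero.1 h1).resolve_right hφ1
    have h2 := hyU.2
    simp only [map_add, map_smul, hx, hφv, smul_zero, add_zero, smul_eq_mul, ht, zero_mul,
      zero_smul, map_zero, mul_zero] at h2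
    have hs : s = 0 := (mul_eq_zero.1 h2).resolve_right hφ1
    rw [hs, ht]; simp
  · rw [codisjoint_iff, eq_top_iff]
    intro y _
    have hdec : y = ((φ (x y) / φ (x v)) • v + (φ y / φ (x v)) • x v) +
        (y - ((φ (x y) / φ (x v)) • v + (φ y / φ (x v)) • x v)) := by abel
    rw [hdec]
    apply Submodule.add_mem_sup
    · exact Submodule.add_mem _ (Submodule.smul_mem _ _ (Submodule.subset_span (by simp)))
        (Submodule.smul_mem _ _ (Submodule.subset_span (by simp)))
    · rw [mem_U_iff]
      constructor
      · simp only [map_sub, map_add, map_smul, hφv, smul_zero, zero_add, smul_eq_mul]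
        field_simp
        ring
      · simp only [map_sub, map_add, map_smul, hx, hφv, smul_zero, add_zero, smul_eq_mul]
        field_simp
        ring

end

section
variable {F : Type*} [Field F]

theorem exists_monomial_basis : ∀ (d : ℕ) {V : Type u} [AddCommGroup V] [Module F V]
    [FiniteDimensional F V] (x : V →ₗ[F] V) (z : F), z ≠ 0 → (∀ v, x (x v) = z • v) →
    Module.finrank F V = d →
    ∃ (ι : Type) (_ : Fintype ι) (b : Module.Basis ι F V) (τ : ι → ι) (c : ι → F),
      (∀ i, τ (τ i) = i) ∧ (∀ i, c i ≠ 0) ∧ ∀ i, x (b i) = c i • b (τ i) := by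
  intro d
  induction d using Nat.strong_induction_on with
  | _ d ih =>
    intro V _ _ _ x z hz hx hd
    by_cases hall : ∀ v : V, ∃ μ : F, x v = μ • v
    · -- every vector is an eigenvector
      choose μ hμ using hall
      refine ⟨Fin (Module.finrank F V), inferInstance, Module.finBasis F V, id,
        fun i => μ (Module.finBasis F V i), fun _ => rfl, ?_, fun i => hμ _⟩
      intro i h0
      have h0' : μ (Module.finBasis F V i) = 0 := h0
      have h1 := hx (Module.finBasis F V i)
      rw [hμ (Module.finBasis F V i), h0', zero_smul, map_zero] at h1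
      exact hz ((smul_eq_zero.1 h1.symm).resolve_right ((Module.finBasis F V).ne_zero i))
    · push Not at hall
      obtain ⟨v, hv⟩ := hall
      have hv' : x v ∉ Submodule.span F ({v} : Set V) := by
        intro hmem
        obtain ⟨a, ha⟩ := Submodule.mem_span_singleton.1 hmem
        exact hv a ha.symm
      obtain ⟨φ, hφ1, hφ2⟩ := Submodule.exists_le_ker_of_notMem hv'
      have hφv : φ v = 0 := hφ2 (Submodule.mem_span_singleton_self v)
      have hli := pair_li x v φ hφv hφ1
      have hcompl := W_U_compl x z hx v φ hφv hφ1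
      have hUinv := U_invariant x z hx φ
      obtain ⟨U, hU⟩ : ∃ U : Submodule F V, U = LinearMap.ker φ ⊓ LinearMap.ker (φ.comp x) :=
        ⟨_, rfl⟩
      obtain ⟨W, hW⟩ : ∃ W : Submodule F V, W = Submodule.span F (Set.range ![v, x v]) :=
        ⟨_, rfl⟩
      rw [← hU] at hUinv
      rw [← hU, ← hW] at hcompl
      have hWdim : Module.finrank F ↥W = 2 := by
        rw [hW, finrank_span_eq_card hli]; simp
      have hsum := Submodule.finrank_add_eq_of_isCompl hcompl
      have hUd : Module.finrank F ↥U < d := by omega
      obtain ⟨ι', _, b', τ', c', hτ', hc', hxb'⟩ := ih _ hUd (x.restrict hUinv) z hz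
        (fun u => Subtype.ext (by simpa using hx u.1)) rfl
      obtain ⟨bW, hbW⟩ : ∃ bW : Module.Basis (Fin 2) F ↥W, ∀ i, (bW i : V) = ![v, x v] i := by
        subst hW
        exact ⟨Module.Basis.span hli, fun i => by rw [Module.Basis.span_apply hli i]⟩
      obtain ⟨b, hb⟩ : ∃ b : Module.Basis (Fin 2 ⊕ ι') F V,
          (∀ i, b (Sum.inl i) = ![v, x v] i) ∧ ∀ j, b (Sum.inr j) = (b' j : V) := by
        refine ⟨(bW.prod b').map (Submodule.prodEquivOfIsCompl W U hcompl), ?_, ?_⟩
        · intro i
          simp [hbW]
        · intro j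
          simp
      refine ⟨Fin 2 ⊕ ι', inferInstance, b,
        Sum.elim (fun i => Sum.inl (if i = 0 then 1 else 0)) (fun j => Sum.inr (τ' j)),
        Sum.elim (fun i => if i = 0 then 1 else z) c', ?_, ?_, ?_⟩
      · rintro (i | j)
        · fin_cases i <;> simp
        · simp [hτ']
      · rintro (i | j)
        · fin_cases i <;> simp [hz]
        · simpa using hc' j
      · rintro (i | j)
        · fin_cases i
          · simp [hb.1]
          · simp [hb.1, hx]
        · simp only [Sum.elim_inr, hb.2]
          have := congrArg Subtype.val (hxb' j)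
          simpa using this

end



section packing
variable {ι : Type*} [LinearOrder ι] (τ : ι → ι) (hτ : ∀ i, τ (τ i) = i)

include hτ

theorem tau_inj : Function.Injective τ := fun i j h => by
  have := congrArg τ h
  rwa [hτ, hτ] at this

/-- sizes: `|S| = |Fx| + 2 |T|` -/
theorem card_split (S : Finset ι) (hS : ∀ i ∈ S, τ i ∈ S) :
    S.card = (S.filter (fun i => τ i = i)).card + 2 * (S.filter (fun i => i < τ i)).card := by
  have h1 : S = S.filter (fun i => τ i = i) ∪ (S.filter (fun i => i < τ i) ∪
      S.filter (fun i => τ i < i)) := by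
    ext i
    simp only [Finset.mem_union, Finset.mem_filter]
    constructor
    · intro hi
      rcases lt_trichotomy i (τ i) with h | h | h
      · exact Or.inr (Or.inl ⟨hi, h⟩)
      · exact Or.inl ⟨hi, h.symm⟩
      · exact Or.inr (Or.inr ⟨hi, h⟩)
    · rintro (h | h | h) <;> exact h.1
  have h2 : (S.filter (fun i => τ i < i)) = (S.filter (fun i => i < τ i)).image τ := by
    ext i
    simp only [Finset.mem_filter, Finset.mem_image]
    constructor
    · rintro ⟨hi, hlt⟩
      exact ⟨τ i, ⟨hS i hi, by rw [hτ]; exact hlt⟩, hτ i⟩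
    · rintro ⟨j, ⟨hj, hlt⟩, rfl⟩
      exact ⟨hS j hj, by rw [hτ]; exact hlt⟩
  have h3 : (S.filter (fun i => τ i < i)).card = (S.filter (fun i => i < τ i)).card := by
    rw [h2, Finset.card_image_of_injective _ (tau_inj τ hτ)]
  have hd1 : Disjoint (S.filter (fun i => i < τ i)) (S.filter (fun i => τ i < i)) := by
    rw [Finset.disjoint_left]
    intro i h1 h2
    rw [Finset.mem_filter] at h1 h2
    exact lt_asymm h1.2 h2.2
  have hd2 : Disjoint (S.filter (fun i => τ i = i)) (S.filter (fun i => i < τ i) ∪
      S.filter (fun i => τ i < i)) := by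
    rw [Finset.disjoint_left]
    intro i h1 h2
    rw [Finset.mem_filter] at h1
    rw [Finset.mem_union, Finset.mem_filter, Finset.mem_filter] at h2
    rcases h2 with h2 | h2
    · rw [h1.2] at h2; exact lt_irrefl _ h2.2
    · rw [h1.2] at h2; exact lt_irrefl _ h2.2
  conv_lhs => rw [h1]
  rw [Finset.card_union_of_disjoint hd2, Finset.card_union_of_disjoint hd1, h3]
  ring

/-- invariant subsets of prescribed size -/
theorem exists_invariant_subset (S : Finset ι) (hS : ∀ i ∈ S, τ i ∈ S) (k : ℕ) (hk : k ≤ S.card)
    (hpar : Even k ∨ (S.filter (fun i => τ i = i)).Nonempty) :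
    ∃ A : Finset ι, A ⊆ S ∧ (∀ i ∈ A, τ i ∈ A) ∧ A.card = k := by
  have hsplit := card_split τ hτ S hS
  obtain ⟨m, hm⟩ : ∃ m, m = (S.filter (fun i => τ i = i)).card := ⟨_, rfl⟩
  obtain ⟨s, hs⟩ : ∃ s, s = (S.filter (fun i => i < τ i)).card := ⟨_, rfl⟩
  rw [← hm, ← hs] at hsplit
  -- choose f
  obtain ⟨f, hfm, hfk, hfe, hfs⟩ : ∃ f, f ≤ m ∧ f ≤ k ∧ Even (k - f) ∧ (k - f) / 2 ≤ s := by
    rcases Nat.even_or_odd k with hke | hko
    · by_cases h : k ≤ 2 * s
      · exact ⟨0, by omega, by omega, by simpa using hke, by omega⟩
      · refine ⟨k - 2 * s, by omega, by omega, ?_, by omega⟩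
        have : k - (k - 2 * s) = 2 * s := by omega
        rw [this]; exact even_two_mul s
    · have hm1 : 1 ≤ m := by
        rcases hpar with h | h
        · exact absurd h (Nat.not_even_iff_odd.2 hko)
        · rw [hm]; exact Finset.card_pos.2 h
      obtain ⟨j, rfl⟩ := hko
      by_cases h : 2 * j ≤ 2 * s
      · refine ⟨1, hm1, by omega, ?_, by omega⟩
        have : 2 * j + 1 - 1 = 2 * j := by omega
        rw [this]; exact even_two_mul j
      · refine ⟨2 * j + 1 - 2 * s, by omega, by omega, ?_, by omega⟩
        have : 2 * j + 1 - (2 * j + 1 - 2 * s) = 2 * s := by omega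
        rw [this]; exact even_two_mul s
  obtain ⟨Fx', hFx', hFxc⟩ := Finset.exists_subset_card_eq (s := S.filter (fun i => τ i = i))
    (n := f) (by rw [← hm]; exact hfm)
  obtain ⟨T₀, hT₀, hT₀c⟩ := Finset.exists_subset_card_eq (s := S.filter (fun i => i < τ i))
    (n := (k - f) / 2) (by rw [← hs]; exact hfs)
  refine ⟨Fx' ∪ (T₀ ∪ T₀.image τ), ?_, ?_, ?_⟩
  · intro i hi
    rw [Finset.mem_union, Finset.mem_union] at hi
    rcases hi with hi | hi | hi
    · exact (Finset.mem_filter.1 (hFx' hi)).1
    · exact (Finset.mem_filter.1 (hT₀ hi)).1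
    · obtain ⟨j, hj, rfl⟩ := Finset.mem_image.1 hi
      exact hS j (Finset.mem_filter.1 (hT₀ hj)).1
  · intro i hi
    rw [Finset.mem_union, Finset.mem_union] at hi ⊢
    rcases hi with hi | hi | hi
    · left
      rw [(Finset.mem_filter.1 (hFx' hi)).2]; exact hi
    · right; right
      exact Finset.mem_image_of_mem τ hi
    · obtain ⟨j, hj, rfl⟩ := Finset.mem_image.1 hi
      right; left
      rw [hτ]; exact hj
  · have hd1 : Disjoint T₀ (T₀.image τ) := by
      rw [Finset.disjoint_left]
      intro i h1 h2
      obtain ⟨j, hj, rfl⟩ := Finset.mem_image.1 h2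
      have h3 := (Finset.mem_filter.1 (hT₀ h1)).2
      have h4 := (Finset.mem_filter.1 (hT₀ hj)).2
      rw [hτ] at h3
      exact lt_asymm h3 h4
    have hd2 : Disjoint Fx' (T₀ ∪ T₀.image τ) := by
      rw [Finset.disjoint_left]
      intro i h1 h2
      have h3 := (Finset.mem_filter.1 (hFx' h1)).2
      rw [Finset.mem_union] at h2
      rcases h2 with h2 | h2
      · have h4 := (Finset.mem_filter.1 (hT₀ h2)).2
        rw [h3] at h4; exact lt_irrefl _ h4
      · obtain ⟨j, hj, rfl⟩ := Finset.mem_image.1 h2
        have h4 := (Finset.mem_filter.1 (hT₀ hj)).2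
        rw [hτ] at h3
        rw [← h3] at h4; exact lt_irrefl _ h4
    rw [Finset.card_union_of_disjoint hd2, Finset.card_union_of_disjoint hd1,
      Finset.card_image_of_injective _ (tau_inj τ hτ), hFxc, hT₀c]
    obtain ⟨j, hj⟩ := hfe
    omega

end packing

section packing2
variable {ι : Type*} [LinearOrder ι] (τ : ι → ι) (hτ : ∀ i, τ (τ i) = i)

include hτ

theorem sdiff_invariant (S A : Finset ι) (hS : ∀ i ∈ S, τ i ∈ S) (hA : ∀ i ∈ A, τ i ∈ A) :
    ∀ i ∈ S \ A, τ i ∈ S \ A := by
  intro i hi
  rw [Finset.mem_sdiff] at hi ⊢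
  refine ⟨hS i hi.1, fun h => hi.2 ?_⟩
  have := hA _ h
  rwa [hτ] at this

theorem packing (a : ℕ) (ha : 1 ≤ a) : ∀ (t : ℕ) (S : Finset ι), (∀ i ∈ S, τ i ∈ S) →
    S.card = a * t →
    ∃ (g : ι → ℕ) (σ : ℕ → ℕ), (∀ i ∈ S, g i < t) ∧
      (∀ j < t, (S.filter (fun i => g i = j)).card = a) ∧ (∀ i ∈ S, g (τ i) = σ (g i)) := by
  intro t
  induction t using Nat.strong_induction_on with
  | _ t ih =>
    intro S hS hcard
    rcases Nat.eq_zero_or_pos t with rfl | htpos
    · have hS0 : S = ∅ := Finset.card_eq_zero.1 (by rw [hcard]; simp)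
      subst hS0
      exact ⟨fun _ => 0, id, by simp, by simp, by simp⟩
    by_cases hcase : Even a ∨ (S.filter (fun i => τ i = i)).Nonempty
    · -- peel off an invariant subset of size a
      obtain ⟨A, hAS, hAinv, hAc⟩ := exists_invariant_subset τ hτ S hS a
        (by rw [hcard]; exact Nat.le_mul_of_pos_right a htpos) hcase
      have hS'inv := sdiff_invariant τ hτ S A hS hAinv
      have hS'card : (S \ A).card = a * (t - 1) := by
        rw [Finset.card_sdiff_of_subset hAS, hcard, hAc, Nat.mul_sub, mul_one]
      obtain ⟨g', σ', hg'lt, hg'fib, hg'eq⟩ := ih (t - 1) (by omega) (S \ A) hS'inv hS'card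
      refine ⟨fun i => if i ∈ A then t - 1 else g' i, fun j => if j = t - 1 then t - 1 else σ' j,
        ?_, ?_, ?_⟩
      · intro i hi
        by_cases hiA : i ∈ A
        · simp only [hiA, if_true]; omega
        · simp only [hiA, if_false]
          have := hg'lt i (Finset.mem_sdiff.2 ⟨hi, hiA⟩)
          omega
      · intro j hj
        by_cases hjt : j = t - 1
        · have : S.filter (fun i => (if i ∈ A then t - 1 else g' i) = j) = A := by
            ext i
            rw [Finset.mem_filter]
            constructor
            · rintro ⟨hi, h⟩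
              by_contra hiA
              simp only [hiA, if_false] at h
              have := hg'lt i (Finset.mem_sdiff.2 ⟨hi, hiA⟩)
              omega
            · intro hiA
              exact ⟨hAS hiA, by simp [hiA, hjt]⟩
          rw [this, hAc]
        · have : S.filter (fun i => (if i ∈ A then t - 1 else g' i) = j) =
              (S \ A).filter (fun i => g' i = j) := by
            ext i
            rw [Finset.mem_filter, Finset.mem_filter, Finset.mem_sdiff]
            constructor
            · rintro ⟨hi, h⟩
              by_cases hiA : i ∈ A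
              · simp only [hiA, if_true] at h
                exact absurd h.symm hjt
              · simp only [hiA, if_false] at h
                exact ⟨⟨hi, hiA⟩, h⟩
            · rintro ⟨⟨hi, hiA⟩, h⟩
              exact ⟨hi, by simp [hiA, h]⟩
          rw [this]
          exact hg'fib j (by omega)
      · intro i hi
        by_cases hiA : i ∈ A
        · have := hAinv i hiA
          simp [hiA, this]
        · have hτiA : τ i ∉ A := by
            intro h
            have := hAinv _ h
            rw [hτ] at this
            exact hiA this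
          have hi' : i ∈ S \ A := Finset.mem_sdiff.2 ⟨hi, hiA⟩
          have hlt := hg'lt i hi'
          have hne : g' i ≠ t - 1 := by omega
          simp only [hiA, hτiA, if_false, hne]
          exact hg'eq i hi'
    · -- a odd, no fixed points
      push Not at hcase
      obtain ⟨hodd, hfix⟩ := hcase
      rw [Nat.not_even_iff_odd] at hodd
      have hsplit := card_split τ hτ S hS
      rw [hfix, Finset.card_empty, zero_add, hcard] at hsplit
      have hteven : Even t := by
        have h1 : Even (a * t) := by rw [hsplit]; exact even_two_mul _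
        rcases Nat.even_mul.1 h1 with h | h
        · exact absurd h (Nat.not_even_iff_odd.2 hodd)
        · exact h
      have ht2 : 2 ≤ t := by
        obtain ⟨j, hj⟩ := hteven
        omega
      have hTcard : a ≤ (S.filter (fun i => i < τ i)).card := by
        obtain ⟨j, hj⟩ := hteven
        have : a * (j + j) = 2 * (a * j) := by ring
        rw [hj, this] at hsplit
        have h2 : (S.filter (fun i => i < τ i)).card = a * j := by omega
        rw [h2]
        exact Nat.le_mul_of_pos_right a (by omega)
      obtain ⟨A, hAT, hAc⟩ := Finset.exists_subset_card_eq hTcard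
      have hAS : A ⊆ S := fun i hi => (Finset.mem_filter.1 (hAT hi)).1
      have hBS : A.image τ ⊆ S := by
        intro i hi
        obtain ⟨j, hj, rfl⟩ := Finset.mem_image.1 hi
        exact hS j (hAS hj)
      have hdisj : Disjoint A (A.image τ) := by
        rw [Finset.disjoint_left]
        intro i h1 h2
        obtain ⟨j, hj, rfl⟩ := Finset.mem_image.1 h2
        have h3 := (Finset.mem_filter.1 (hAT h1)).2
        have h4 := (Finset.mem_filter.1 (hAT hj)).2
        rw [hτ] at h3
        exact lt_asymm h3 h4
      have hBc : (A.image τ).card = a := by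
        rw [Finset.card_image_of_injective _ (tau_inj τ hτ), hAc]
      have hABinv : ∀ i ∈ A ∪ A.image τ, τ i ∈ A ∪ A.image τ := by
        intro i hi
        rw [Finset.mem_union] at hi ⊢
        rcases hi with hi | hi
        · right; exact Finset.mem_image_of_mem τ hi
        · obtain ⟨j, hj, rfl⟩ := Finset.mem_image.1 hi
          left; rw [hτ]; exact hj
      have hS'inv := sdiff_invariant τ hτ S _ hS hABinv
      have hS'card : (S \ (A ∪ A.image τ)).card = a * (t - 2) := by
        rw [Finset.card_sdiff_of_subset (Finset.union_subset hAS hBS),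
          Finset.card_union_of_disjoint hdisj, hAc, hBc, hcard, Nat.mul_sub]
        omega
      obtain ⟨g', σ', hg'lt, hg'fib, hg'eq⟩ := ih (t - 2) (by omega) _ hS'inv hS'card
      have hτA : ∀ i ∈ A, τ i ∉ A := by
        intro i hi h
        exact Finset.disjoint_left.1 hdisj h (Finset.mem_image_of_mem τ hi)
      refine ⟨fun i => if i ∈ A then t - 2 else if i ∈ A.image τ then t - 1 else g' i,
        fun j => if j = t - 2 then t - 1 else if j = t - 1 then t - 2 else σ' j, ?_, ?_, ?_⟩
      · intro i hi
        by_cases hiA : i ∈ A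
        · simp only [hiA, if_true]; omega
        · by_cases hiB : i ∈ A.image τ
          · simp only [hiA, hiB, if_true, if_false]; omega
          · simp only [hiA, hiB, if_false]
            have := hg'lt i (Finset.mem_sdiff.2 ⟨hi, by
              rw [Finset.mem_union]; tauto⟩)
            omega
      · intro j hj
        by_cases hj1 : j = t - 2
        · have : S.filter (fun i => (if i ∈ A then t - 2 else if i ∈ A.image τ then t - 1
              else g' i) = j) = A := by
            ext i
            rw [Finset.mem_filter]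
            constructor
            · rintro ⟨hi, h⟩
              by_contra hiA
              by_cases hiB : i ∈ A.image τ
              · simp only [hiA, hiB, if_true, if_false] at h
                omega
              · simp only [hiA, hiB, if_false] at h
                have := hg'lt i (Finset.mem_sdiff.2 ⟨hi, by
                  rw [Finset.mem_union]; tauto⟩)
                omega
            · intro hiA
              exact ⟨hAS hiA, by simp [hiA, hj1]⟩
          rw [this, hAc]
        · by_cases hj2 : j = t - 1
          · have : S.filter (fun i => (if i ∈ A then t - 2 else if i ∈ A.image τ then t - 1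
                else g' i) = j) = A.image τ := by
              ext i
              rw [Finset.mem_filter]
              constructor
              · rintro ⟨hi, h⟩
                by_contra hiB
                by_cases hiA : i ∈ A
                · simp only [hiA, if_true] at h
                  omega
                · simp only [hiA, hiB, if_false] at h
                  have := hg'lt i (Finset.mem_sdiff.2 ⟨hi, by
                    rw [Finset.mem_union]; tauto⟩)
                  omega
              · intro hiB
                have hiA : i ∉ A := fun h => Finset.disjoint_left.1 hdisj h hiB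
                exact ⟨hBS hiB, by simp [hiA, hiB, hj2]⟩
            rw [this, hBc]
          · have : S.filter (fun i => (if i ∈ A then t - 2 else if i ∈ A.image τ then t - 1
                else g' i) = j) = (S \ (A ∪ A.image τ)).filter (fun i => g' i = j) := by
              ext i
              rw [Finset.mem_filter, Finset.mem_filter, Finset.mem_sdiff, Finset.mem_union]
              constructor
              · rintro ⟨hi, h⟩
                by_cases hiA : i ∈ A
                · simp only [hiA, if_true] at h
                  exact absurd h.symm hj1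
                · by_cases hiB : i ∈ A.image τ
                  · simp only [hiA, hiB, if_true, if_false] at h
                    exact absurd h.symm hj2
                  · simp only [hiA, hiB, if_false] at h
                    exact ⟨⟨hi, by tauto⟩, h⟩
              · rintro ⟨⟨hi, hiAB⟩, h⟩
                have hiA : i ∉ A := fun h => hiAB (Or.inl h)
                have hiB : i ∉ A.image τ := fun h => hiAB (Or.inr h)
                exact ⟨hi, by simp [hiA, hiB, h]⟩
            rw [this]
            exact hg'fib j (by omega)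
      · intro i hi
        by_cases hiA : i ∈ A
        · have h1 : τ i ∈ A.image τ := Finset.mem_image_of_mem τ hiA
          have h2 : τ i ∉ A := hτA i hiA
          simp [hiA, h1, h2]
        · by_cases hiB : i ∈ A.image τ
          · have h1 : τ i ∈ A := by
              obtain ⟨j, hj, rfl⟩ := Finset.mem_image.1 hiB
              rw [hτ]; exact hj
            have h3 : t - 1 ≠ t - 2 := by omega
            simp [hiA, hiB, h1, h3]
          · have hi' : i ∈ S \ (A ∪ A.image τ) := Finset.mem_sdiff.2 ⟨hi, by
              rw [Finset.mem_union]; tauto⟩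
            have hτi' := hS'inv i hi'
            rw [Finset.mem_sdiff, Finset.mem_union] at hτi'
            have h1 : τ i ∉ A := fun h => hτi'.2 (Or.inl h)
            have h2 : τ i ∉ A.image τ := fun h => hτi'.2 (Or.inr h)
            have hlt := hg'lt i hi'
            have hne1 : g' i ≠ t - 2 := by omega
            have hne2 : g' i ≠ t - 1 := by omega
            simp only [hiA, hiB, h1, h2, if_false, hne1, hne2]
            exact hg'eq i hi'

end packing2

theorem packing_fin {n a t : ℕ} (hn : n = a * t) (ha : 1 ≤ a) (τ : Fin n → Fin n)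
    (hτ : ∀ i, τ (τ i) = i) :
    ∃ (g : Fin n → Fin t) (σ : Equiv.Perm (Fin t)),
      (∀ j, (Finset.univ.filter (fun i => g i = j)).card = a) ∧ ∀ i, g (τ i) = σ (g i) := by
  obtain ⟨g₀, σ₀, hlt, hfib, heq⟩ := packing τ hτ a ha t Finset.univ (fun _ _ => Finset.mem_univ _)
    (by rw [Finset.card_univ, Fintype.card_fin, hn])
  have hex : ∀ j < t, ∃ i, g₀ i = j := by
    intro j hj
    have h := hfib j hj
    have hne : (Finset.univ.filter (fun i => g₀ i = j)).Nonempty := by
      rw [← Finset.card_pos, h]; exact ha
    obtain ⟨i, hi⟩ := hne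
    exact ⟨i, (Finset.mem_filter.1 hi).2⟩
  have hσlt : ∀ j < t, σ₀ j < t := by
    intro j hj
    obtain ⟨i, rfl⟩ := hex j hj
    rw [← heq i (Finset.mem_univ _)]
    exact hlt _ (Finset.mem_univ _)
  let f : Fin t → Fin t := fun j => ⟨σ₀ j, hσlt j j.2⟩
  have hfsurj : Function.Surjective f := by
    intro j
    obtain ⟨i, hi⟩ := hex j j.2
    refine ⟨⟨g₀ (τ i), hlt _ (Finset.mem_univ _)⟩, ?_⟩
    apply Fin.ext
    change σ₀ (g₀ (τ i)) = j
    rw [← heq (τ i) (Finset.mem_univ _), hτ, hi]
  have hfbij : Function.Bijective f := hfsurj.bijective_of_finite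
  refine ⟨fun i => ⟨g₀ i, hlt i (Finset.mem_univ _)⟩, Equiv.ofBijective f hfbij, ?_, ?_⟩
  · intro j
    rw [← hfib j j.2]
    congr 1
    ext i
    simp only [Finset.mem_filter, Finset.mem_univ, true_and]
    exact ⟨fun h => congrArg Fin.val h, fun h => Fin.ext h⟩
  · intro i
    apply Fin.ext
    change g₀ (τ i) = σ₀ (g₀ i)
    exact heq i (Finset.mem_univ _)



section assemble
variable {F : Type*} [Field F] {V : Type*} [AddCommGroup V] [Module F V]

/-- the block spanned by the basis vectors with label `j` -/
def blockOf {n t : ℕ} (b : Module.Basis (Fin n) F V) (g : Fin n → Fin t) (j : Fin t) :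
    Submodule F V :=
  Submodule.span F (b '' {i | g i = j})

theorem finrank_blockOf {n t a : ℕ} (b : Module.Basis (Fin n) F V) (g : Fin n → Fin t)
    (hfib : ∀ j, (Finset.univ.filter (fun i => g i = j)).card = a) (j : Fin t) :
    Module.finrank F ↥(blockOf b g j) = a := by
  classical
  have h1 : b '' {i | g i = j} = Set.range (fun i : {i : Fin n // g i = j} => b i) := by
    ext y
    simp only [Set.mem_image, Set.mem_setOf_eq, Set.mem_range, Subtype.exists, exists_prop]
  have hli : LinearIndependent F (fun i : {i : Fin n // g i = j} => b i) :=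
    b.linearIndependent.comp Subtype.val Subtype.val_injective
  rw [blockOf, h1, finrank_span_eq_card hli, Fintype.card_subtype, hfib]

theorem iSupIndep_blockOf {n t : ℕ} (b : Module.Basis (Fin n) F V) (g : Fin n → Fin t) :
    iSupIndep (blockOf b g) := by
  rw [iSupIndep_def]
  intro j
  have h1 : (⨆ (k) (_ : k ≠ j), blockOf b g k) ≤ Submodule.span F (b '' {i | g i = j}ᶜ) := by
    apply iSup₂_le
    intro k hk
    apply Submodule.span_mono
    apply Set.image_mono
    intro i hi
    simp only [Set.mem_setOf_eq] at hi
    simp only [Set.mem_compl_iff, Set.mem_setOf_eq]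
    rw [hi]; exact hk
  exact (b.linearIndependent.disjoint_span_image disjoint_compl_right).mono_right h1

theorem iSup_blockOf {n t : ℕ} (b : Module.Basis (Fin n) F V) (g : Fin n → Fin t) :
    iSup (blockOf b g) = ⊤ := by
  rw [eq_top_iff, ← b.span_eq, Submodule.span_le]
  rintro _ ⟨i, rfl⟩
  exact Submodule.mem_iSup_of_mem (g i) (Submodule.subset_span ⟨i, rfl, rfl⟩)

theorem map_blockOf [FiniteDimensional F V] {n t a : ℕ} (b : Module.Basis (Fin n) F V)
    (g : Fin n → Fin t)
    (hfib : ∀ j, (Finset.univ.filter (fun i => g i = j)).card = a)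
    (x : V →ₗ[F] V) (hinj : Function.Injective x) (τ : Fin n → Fin n) (c : Fin n → F)
    (hxb : ∀ i, x (b i) = c i • b (τ i)) (σ : Fin t → Fin t) (hgσ : ∀ i, g (τ i) = σ (g i))
    (j : Fin t) : (blockOf b g j).map x = blockOf b g (σ j) := by
  have hle : (blockOf b g j).map x ≤ blockOf b g (σ j) := by
    rw [blockOf, Submodule.map_span, Submodule.span_le]
    rintro _ ⟨_, ⟨i, hi, rfl⟩, rfl⟩
    simp only [Set.mem_setOf_eq] at hi
    rw [hxb]
    apply Submodule.smul_mem
    apply Submodule.subset_span
    exact ⟨τ i, by simp only [Set.mem_setOf_eq]; rw [hgσ, hi], rfl⟩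
  apply Submodule.eq_of_le_of_finrank_eq hle
  rw [finrank_blockOf b g hfib, ← finrank_blockOf b g hfib j]
  exact (Submodule.equivMapOfInjective x hinj (blockOf b g j)).finrank_eq.symm

end assemble


section final
variable {F : Type*} [Field F]

theorem exists_decomposition {n a t : ℕ} (hat : n = a * t) (ha : 1 ≤ a) (ht : 2 ≤ t)
    (X : Matrix (Fin n) (Fin n) F) (z : F) (hX : X * X = z • (1 : Matrix (Fin n) (Fin n) F))
    (hdet : X.det = 1) :
    ∃ D : Fin t → Submodule F (Fin n → F), (∀ j, Module.finrank F ↥(D j) = a) ∧ iSupIndep D ∧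
      iSup D = ⊤ ∧ ∃ σ : Equiv.Perm (Fin t), ∀ j, (D j).map (Matrix.toLin' X) = D (σ j) := by
  have hn : 1 ≤ n := by rw [hat]; exact Nat.mul_pos ha (by omega)
  haveI : Nonempty (Fin n) := ⟨⟨0, hn⟩⟩
  have hz : z ≠ 0 := by
    rintro rfl
    rw [zero_smul] at hX
    have := congrArg Matrix.det hX
    rw [Matrix.det_mul, hdet, Matrix.det_zero] at this
    simp at this
  have hx : ∀ v, Matrix.toLin' X (Matrix.toLin' X v) = z • v := by
    intro v
    rw [← LinearMap.comp_apply, ← Matrix.toLin'_mul, hX]
    simp
  have hinj : Function.Injective (Matrix.toLin' X) := by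
    rw [injective_iff_map_eq_zero]
    intro v hv
    have := hx v
    rw [hv, map_zero] at this
    exact (smul_eq_zero.1 this.symm).resolve_left hz
  obtain ⟨ι, _, b, τ, c, hτ, hc, hxb⟩ := exists_monomial_basis (F := F) n (Matrix.toLin' X) z hz hx
    (by simp)
  have hcard : Fintype.card ι = n := by
    have := Module.finrank_eq_card_basis b
    rw [← this]; simp
  obtain ⟨e⟩ : Nonempty (ι ≃ Fin n) := ⟨Fintype.equivFinOfCardEq hcard⟩
  obtain ⟨g, σ, hfib, hgσ⟩ := packing_fin hat ha (fun i => e (τ (e.symm i)))
    (by intro i; simp [hτ])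
  refine ⟨blockOf (b.reindex e) g, finrank_blockOf _ g hfib, iSupIndep_blockOf _ g,
    iSup_blockOf _ g, σ, ?_⟩
  intro j
  exact map_blockOf (b.reindex e) g hfib (Matrix.toLin' X) hinj (fun i => e (τ (e.symm i)))
    (fun i => c (e.symm i)) (by intro i; simp [hxb]) σ hgσ j

end final

end Cfsg.Agent.Lib.Helper24.InvolDecomp
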