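import Mathlib

/-!
# Regular unipotent classes of `SL_n(q)`

A matrix `u` with `(u-1)^n = 0`, `rank (u-1) = n-1` is `GL`-conjugate to the standard `1 + N0` (Krylov basis);
the centraliser of `N0` consists of lower triangular Toeplitz matrices, of determinant an `n`-th power; hence the
`SL_n`-classes of such `u` are in bijection with `Fˣ / (Fˣ)^n`, of order `gcd(n, q-1)`.
-/

set_option autoImplicit false
set_option linter.style.haveILetI false
open Matrix Module

namespace Cfsg.Agent.Lib.Helper24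
namespace RegUnip

variable {F : Type*} [Field F]

/-- a map with small kernel loses at most `finrank ker` dimensions on any subspace. -/
theorem finrank_le_map_add {V : Type*} [AddCommGroup V] [Module F V] [FiniteDimensional F V]
    (f : V →ₗ[F] V) (W : Submodule F V) :
    finrank F W ≤ finrank F (W.map f) + finrank F (LinearMap.ker f) := by
  have h1 := LinearMap.finrank_range_add_finrank_ker (f.domRestrict W)
  rw [LinearMap.range_domRestrict] at h1
  have h2 : finrank F (LinearMap.ker (f.domRestrict W)) ≤ finrank F (LinearMap.ker f) := by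
    have h3 : (LinearMap.ker (f.domRestrict W)).map W.subtype ≤ LinearMap.ker f := by
      rintro x ⟨y, hy, rfl⟩
      have hy' : f.domRestrict W y = 0 := hy
      exact hy' 
    calc finrank F (LinearMap.ker (f.domRestrict W))
        = finrank F ((LinearMap.ker (f.domRestrict W)).map W.subtype) :=
          (Submodule.finrank_map_subtype_eq W _).symm
      _ ≤ finrank F (LinearMap.ker f) := Submodule.finrank_mono h3
  omega

theorem rank_pow_ge {n : ℕ} (N : Matrix (Fin n) (Fin n) F) (hr : N.rank = n - 1) (k : ℕ) :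
    n - k ≤ (N ^ k).rank := by
  have hker : finrank F (LinearMap.ker N.mulVecLin) ≤ 1 := by
    have h1 := LinearMap.finrank_range_add_finrank_ker N.mulVecLin
    have h2 : finrank F (LinearMap.range N.mulVecLin) = n - 1 := hr
    rw [h2] at h1
    simp only [finrank_pi, Fintype.card_fin] at h1
    omega
  induction k with
  | zero =>
    rw [pow_zero, Matrix.rank_one, Fintype.card_fin]
    omega
  | succ k ih =>
    have h1 : (N ^ (k + 1)).rank = finrank F ((LinearMap.range (N ^ k).mulVecLin).map N.mulVecLin) := by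
      rw [pow_succ', Matrix.rank, Matrix.mulVecLin_mul, LinearMap.range_comp]
    have h2 := finrank_le_map_add N.mulVecLin (LinearMap.range (N ^ k).mulVecLin)
    have h3 : (N ^ k).rank = finrank F (LinearMap.range (N ^ k).mulVecLin) := rfl
    omega

/-- subdiagonal shift: `N0 e_j = e_{j+1}`. -/
def N0 (n : ℕ) : Matrix (Fin n) (Fin n) F :=
  Matrix.of fun i j => if i.val = j.val + 1 then 1 else 0

theorem N0_apply (n : ℕ) (i j : Fin n) :
    (N0 n : Matrix (Fin n) (Fin n) F) i j = if i.val = j.val + 1 then 1 else 0 := rfl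

/-- `(g * N0) i j = g i (j+1)`. -/
theorem mul_N0_apply {n : ℕ} (g : Matrix (Fin n) (Fin n) F) (i j : Fin n) :
    (g * N0 n : Matrix (Fin n) (Fin n) F) i j = if h : j.val + 1 < n then g i ⟨j.val + 1, h⟩ else 0 := by
  rw [Matrix.mul_apply]
  by_cases h : j.val + 1 < n
  · rw [dif_pos h, Finset.sum_eq_single (⟨j.val + 1, h⟩ : Fin n)]
    · rw [N0_apply, if_pos rfl, mul_one]
    · intro k _ hk
      rw [N0_apply, if_neg, mul_zero]
      intro hk'
      apply hk
      exact Fin.ext hk'
    · intro h'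
      exact absurd (Finset.mem_univ _) h'
  · rw [dif_neg h]
    apply Finset.sum_eq_zero
    intro k _
    rw [N0_apply, if_neg, mul_zero]
    intro hk
    have := k.isLt
    omega

/-- `(N0 * g) i j = g (i-1) j`. -/
theorem N0_mul_apply {n : ℕ} (g : Matrix (Fin n) (Fin n) F) (i j : Fin n) :
    (N0 n * g : Matrix (Fin n) (Fin n) F) i j = if h : 0 < i.val then g ⟨i.val - 1, by omega⟩ j else 0 := by
  rw [Matrix.mul_apply]
  by_cases h : 0 < i.val
  · rw [dif_pos h, Finset.sum_eq_single (⟨i.val - 1, by omega⟩ : Fin n)]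
    · rw [N0_apply, if_pos (by simp; omega), one_mul]
    · intro k _ hk
      rw [N0_apply, if_neg, zero_mul]
      intro hk'
      apply hk
      apply Fin.ext
      simp
      omega
    · intro h'
      exact absurd (Finset.mem_univ _) h'
  · rw [dif_neg h]
    apply Finset.sum_eq_zero
    intro k _
    rw [N0_apply, if_neg, zero_mul]
    omega

theorem krylov_indep {n : ℕ} (N : Matrix (Fin n) (Fin n) F) (hN : N ^ n = 0) (v : Fin n → F)
    (hv : (N ^ (n - 1)) *ᵥ v ≠ 0) :
    LinearIndependent F (fun k : Fin n => (N ^ k.val) *ᵥ v) := by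
  rw [Fintype.linearIndependent_iff]
  intro c hc
  have key : ∀ m : ℕ, ∀ k : Fin n, k.val = m → c k = 0 := by
    intro m
    induction m using Nat.strong_induction_on with
    | _ m ih =>
      intro k hk
      have h1 := congrArg (fun w => (N ^ (n - 1 - k.val)) *ᵥ w) hc
      simp only [Matrix.mulVec_sum, Matrix.mulVec_smul, Matrix.mulVec_mulVec, Matrix.mulVec_zero,
        ← pow_add] at h1
      rw [Finset.sum_eq_single k] at h1
      · have hk' : n - 1 - k.val + k.val = n - 1 := by have := k.isLt; omega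
        rw [hk'] at h1
        exact (smul_eq_zero.1 h1).resolve_right hv
      · intro i _ hik
        rcases lt_or_gt_of_ne (fun h => hik (Fin.ext h) : i.val ≠ k.val) with h | h
        · rw [ih i.val (by omega) i rfl, zero_smul]
        · have : N ^ (n - 1 - k.val + i.val) = 0 := by
            have hge : n ≤ n - 1 - k.val + i.val := by have := k.isLt; omega
            obtain ⟨d, hd⟩ := Nat.exists_eq_add_of_le hge
            rw [hd, pow_add, hN, zero_mul]
          rw [this, Matrix.zero_mulVec, smul_zero]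
      · intro h'
        exact absurd (Finset.mem_univ _) h'
  intro k
  exact key k.val k rfl


theorem exists_conj {n : ℕ} (N : Matrix (Fin n) (Fin n) F) (hN : N ^ n = 0)
    (hr : N.rank = n - 1) (hn : 1 ≤ n) :
    ∃ g : GL (Fin n) F, N * (g : Matrix (Fin n) (Fin n) F) = (g : Matrix (Fin n) (Fin n) F) * N0 n := by
  have h1 := rank_pow_ge N hr (n - 1)
  have hne : N ^ (n - 1) ≠ 0 := by
    intro h
    rw [h, Matrix.rank_zero] at h1
    omega
  obtain ⟨v, hv⟩ : ∃ v, (N ^ (n - 1)) *ᵥ v ≠ 0 := by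
    by_contra hcon
    simp only [not_exists, not_not] at hcon
    apply hne
    ext i j
    have := congrFun (hcon (Pi.single j 1)) i
    rw [Matrix.mulVec_single_one] at this
    exact this
  have hli := krylov_indep N hN v hv
  set A : Matrix (Fin n) (Fin n) F := Matrix.of fun i k => ((N ^ k.val) *ᵥ v) i with hA
  have hcols : A.col = fun k => (N ^ k.val) *ᵥ v := by
    ext k i
    rfl
  have hunit : IsUnit A := Matrix.linearIndependent_cols_iff_isUnit.1 (by rw [hcols]; exact hli)
  refine ⟨hunit.unit, ?_⟩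
  show N * A = A * N0 n
  ext i j
  rw [mul_N0_apply]
  have hNA : (N * A) i j = ((N ^ (j.val + 1)) *ᵥ v) i := by
    rw [pow_succ', ← Matrix.mulVec_mulVec]
    rfl
  rw [hNA]
  by_cases h : j.val + 1 < n
  · rw [dif_pos h]
    rfl
  · rw [dif_neg h]
    have : j.val + 1 = n := by have := j.isLt; omega
    rw [this, hN, Matrix.zero_mulVec]
    rfl

theorem N0_pow_apply (n k : ℕ) (i j : Fin n) :
    ((N0 n : Matrix (Fin n) (Fin n) F) ^ k) i j = if i.val = j.val + k then 1 else 0 := by
  induction k generalizing i j with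
  | zero =>
    rw [pow_zero, Matrix.one_apply, add_zero]
    simp only [Fin.ext_iff]
  | succ k ih =>
    rw [pow_succ', N0_mul_apply]
    by_cases h : 0 < i.val
    · rw [dif_pos h, ih]
      congr 1
      simp only [eq_iff_iff]
      constructor <;> intro h' <;> omega
    · rw [dif_neg h, if_neg]
      omega

theorem N0_pow_self (n : ℕ) : (N0 n : Matrix (Fin n) (Fin n) F) ^ n = 0 := by
  ext i j
  rw [N0_pow_apply, if_neg, Matrix.zero_apply]
  have := i.isLt
  omega

theorem rank_N0 (n : ℕ) (hn : 1 ≤ n) : (N0 n : Matrix (Fin n) (Fin n) F).rank = n - 1 := by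
  apply le_antisymm
  · have h := rank_le_card_of_support_subset (N0 n : Matrix (Fin n) (Fin n) F)
      (Finset.univ.erase (⟨0, by omega⟩ : Fin n)) (by
        intro i hi
        rw [Function.mem_support] at hi
        rw [Finset.coe_erase, Set.mem_sdiff]
        refine ⟨by simp, ?_⟩
        intro h0
        apply hi
        rw [Set.mem_singleton_iff] at h0
        subst h0
        funext j
        show (N0 n : Matrix (Fin n) (Fin n) F) _ j = 0
        rw [N0_apply, if_neg]
        simp)
    rw [Finset.card_erase_of_mem (Finset.mem_univ _), Finset.card_univ, Fintype.card_fin] at h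
    exact h
  · have h := rank_submatrix_le (N0 n : Matrix (Fin n) (Fin n) F)
      (fun i : Fin (n - 1) => (⟨i.val + 1, by have := i.isLt; omega⟩ : Fin n))
      (fun j : Fin (n - 1) => (⟨j.val, by have := j.isLt; omega⟩ : Fin n))
    have h1 : (N0 n : Matrix (Fin n) (Fin n) F).submatrix
        (fun i : Fin (n - 1) => (⟨i.val + 1, by have := i.isLt; omega⟩ : Fin n))
        (fun j : Fin (n - 1) => (⟨j.val, by have := j.isLt; omega⟩ : Fin n)) = 1 := by
      ext i j
      rw [Matrix.submatrix_apply, N0_apply, Matrix.one_apply]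
      simp only [Fin.ext_iff, add_left_inj]
    rw [h1, Matrix.rank_one, Fintype.card_fin] at h
    exact h

theorem comm_N0_entry {n : ℕ} (z : Matrix (Fin n) (Fin n) F) (hz : z * N0 n = N0 n * z)
    (i j : Fin n) (hj : j.val + 1 < n) :
    z i ⟨j.val + 1, hj⟩ = if h : 0 < i.val then z ⟨i.val - 1, by omega⟩ j else 0 := by
  have h1 := congrFun (congrFun hz i) j
  rw [mul_N0_apply, N0_mul_apply, dif_pos hj] at h1
  exact h1

theorem comm_N0_upper {n : ℕ} (z : Matrix (Fin n) (Fin n) F) (hz : z * N0 n = N0 n * z) :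
    ∀ (a : ℕ) (i j : Fin n), i.val = a → i.val < j.val → z i j = 0 := by
  intro a
  induction a with
  | zero =>
    intro i j hi hij
    have hj : (j.val - 1) + 1 < n := by have := j.isLt; omega
    have h1 := comm_N0_entry z hz i ⟨j.val - 1, by omega⟩ hj
    rw [dif_neg (by omega)] at h1
    have : (⟨j.val - 1 + 1, hj⟩ : Fin n) = j := Fin.ext (by simp; omega)
    rw [this] at h1
    exact h1
  | succ a ih =>
    intro i j hi hij
    have hj : (j.val - 1) + 1 < n := by have := j.isLt; omega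
    have h1 := comm_N0_entry z hz i ⟨j.val - 1, by omega⟩ hj
    rw [dif_pos (by omega)] at h1
    have : (⟨j.val - 1 + 1, hj⟩ : Fin n) = j := Fin.ext (by simp; omega)
    rw [this] at h1
    rw [h1]
    apply ih
    · simp; omega
    · simp; omega

theorem comm_N0_diag {n : ℕ} (hn : 1 ≤ n) (z : Matrix (Fin n) (Fin n) F)
    (hz : z * N0 n = N0 n * z) :
    ∀ (a : ℕ) (i : Fin n), i.val = a → z i i = z ⟨0, hn⟩ ⟨0, hn⟩ := by
  intro a
  induction a with
  | zero =>
    intro i hi
    have : i = ⟨0, hn⟩ := Fin.ext hi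
    rw [this]
  | succ a ih =>
    intro i hi
    have hj : (i.val - 1) + 1 < n := by have := i.isLt; omega
    have h1 := comm_N0_entry z hz i ⟨i.val - 1, by omega⟩ hj
    rw [dif_pos (by omega)] at h1
    have : (⟨i.val - 1 + 1, hj⟩ : Fin n) = i := Fin.ext (by simp; omega)
    rw [this] at h1
    rw [h1]
    apply ih
    simp; omega

theorem det_of_comm_N0 {n : ℕ} (hn : 1 ≤ n) (z : Matrix (Fin n) (Fin n) F)
    (hz : z * N0 n = N0 n * z) : z.det = (z ⟨0, hn⟩ ⟨0, hn⟩) ^ n := by
  have htri : z.BlockTriangular OrderDual.toDual := by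
    intro i j hij
    exact comm_N0_upper z hz i.val i j rfl hij
  rw [Matrix.det_of_isLowerTriangular z htri]
  rw [Finset.prod_congr rfl (fun i _ => comm_N0_diag hn z hz i.val i rfl), Finset.prod_const,
    Finset.card_univ, Fintype.card_fin]

/-- the standard regular unipotent matrix. -/
def Jm (n : ℕ) : Matrix (Fin n) (Fin n) F := 1 + N0 n

theorem det_Jm (n : ℕ) : (Jm n : Matrix (Fin n) (Fin n) F).det = 1 := by
  have htri : (Jm n : Matrix (Fin n) (Fin n) F).BlockTriangular OrderDual.toDual := by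
    intro i j hij
    have hij' : i < j := hij
    unfold Jm
    rw [Matrix.add_apply, Matrix.one_apply, N0_apply, if_neg (ne_of_lt hij'), if_neg, add_zero]
    have : i.val < j.val := hij'
    omega
  rw [Matrix.det_of_isLowerTriangular _ htri]
  apply Finset.prod_eq_one
  intro i _
  unfold Jm
  rw [Matrix.add_apply, Matrix.one_apply, N0_apply, if_pos rfl, if_neg (by omega), add_zero]

/-- the conjugate `g J g⁻¹` as an element of `SL`. -/
def U {n : ℕ} (g : GL (Fin n) F) : Matrix.SpecialLinearGroup (Fin n) F :=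
  ⟨(g : Matrix (Fin n) (Fin n) F) * Jm n * ((g⁻¹ : GL (Fin n) F) : Matrix (Fin n) (Fin n) F), by
    rw [Matrix.det_units_conj, det_Jm]⟩

theorem U_val {n : ℕ} (g : GL (Fin n) F) :
    ((U g : Matrix.SpecialLinearGroup (Fin n) F) : Matrix (Fin n) (Fin n) F) =
      (g : Matrix (Fin n) (Fin n) F) * Jm n * ((g⁻¹ : GL (Fin n) F) : Matrix (Fin n) (Fin n) F) := rfl

theorem U_sub_one {n : ℕ} (g : GL (Fin n) F) :
    ((U g : Matrix.SpecialLinearGroup (Fin n) F) : Matrix (Fin n) (Fin n) F) - 1 =
      (g : Matrix (Fin n) (Fin n) F) * N0 n * ((g⁻¹ : GL (Fin n) F) : Matrix (Fin n) (Fin n) F) := by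
  rw [U_val]
  unfold Jm
  rw [mul_add, add_mul, mul_one, Units.mul_inv, add_sub_cancel_left]

/-- regular unipotent: `(u-1)^n = 0` and `rank (u-1) = n-1`. -/
def IsReg {n : ℕ} (u : Matrix.SpecialLinearGroup (Fin n) F) : Prop :=
  ((u : Matrix (Fin n) (Fin n) F) - 1) ^ n = 0 ∧ ((u : Matrix (Fin n) (Fin n) F) - 1).rank = n - 1

theorem isReg_U {n : ℕ} (hn : 1 ≤ n) (g : GL (Fin n) F) : IsReg (U g) := by
  constructor
  · rw [U_sub_one]
    have : ∀ k : ℕ, ((g : Matrix (Fin n) (Fin n) F) * N0 n *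
        ((g⁻¹ : GL (Fin n) F) : Matrix (Fin n) (Fin n) F)) ^ k =
        (g : Matrix (Fin n) (Fin n) F) * (N0 n) ^ k *
        ((g⁻¹ : GL (Fin n) F) : Matrix (Fin n) (Fin n) F) := by
      intro k
      induction k with
      | zero => rw [pow_zero, pow_zero, mul_one, Units.mul_inv]
      | succ k ih =>
        rw [pow_succ, ih, pow_succ]
        simp only [mul_assoc]
        rw [← mul_assoc ((g⁻¹ : GL (Fin n) F) : Matrix (Fin n) (Fin n) F), Units.inv_mul, one_mul]
    rw [this, N0_pow_self, mul_zero, zero_mul]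
  · rw [U_sub_one]
    rw [Matrix.rank_mul_eq_left_of_isUnit_det _ _ (by
      rw [← Matrix.isUnit_iff_isUnit_det]; exact Units.isUnit _),
      Matrix.rank_mul_eq_right_of_isUnit_det _ _ (by
      rw [← Matrix.isUnit_iff_isUnit_det]; exact Units.isUnit _), rank_N0 n hn]

theorem exists_U_of_isReg {n : ℕ} (hn : 1 ≤ n) (u : Matrix.SpecialLinearGroup (Fin n) F)
    (hu : IsReg u) : ∃ g : GL (Fin n) F, u = U g := by
  obtain ⟨g, hg⟩ := exists_conj ((u : Matrix (Fin n) (Fin n) F) - 1) hu.1 hu.2 hn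
  refine ⟨g, ?_⟩
  apply Subtype.ext
  rw [U_val]
  unfold Jm
  rw [mul_add, mul_one, ← hg]
  have h1 : (g : Matrix (Fin n) (Fin n) F) + ((u : Matrix (Fin n) (Fin n) F) - 1) * (g : Matrix (Fin n) (Fin n) F) =
      (u : Matrix (Fin n) (Fin n) F) * (g : Matrix (Fin n) (Fin n) F) := by
    rw [sub_mul, one_mul]; abel
  rw [h1, mul_assoc, Units.mul_inv, mul_one]

theorem isConj_U_of_det {n : ℕ} (g g' : GL (Fin n) F) (a : F) (ha : a ≠ 0)
    (hdet : (g' : Matrix (Fin n) (Fin n) F).det = (g : Matrix (Fin n) (Fin n) F).det * a ^ n) :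
    IsConj (U g) (U g') := by
  have hgdet : (g : Matrix (Fin n) (Fin n) F).det ≠ 0 := Matrix.GeneralLinearGroup.det_ne_zero g
  have hdinv : ((g⁻¹ : GL (Fin n) F) : Matrix (Fin n) (Fin n) F).det *
      (g : Matrix (Fin n) (Fin n) F).det = 1 := by
    rw [← Matrix.det_mul, Units.inv_mul, Matrix.det_one]
  set sm : Matrix (Fin n) (Fin n) F := a⁻¹ • ((g' : Matrix (Fin n) (Fin n) F) *
    ((g⁻¹ : GL (Fin n) F) : Matrix (Fin n) (Fin n) F)) with hsm
  have hsdet : sm.det = 1 := by
    rw [hsm, Matrix.det_smul, Matrix.det_mul, hdet, Fintype.card_fin, inv_pow]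
    have : (a ^ n)⁻¹ * ((g : Matrix (Fin n) (Fin n) F).det * a ^ n *
        ((g⁻¹ : GL (Fin n) F) : Matrix (Fin n) (Fin n) F).det) =
        ((g⁻¹ : GL (Fin n) F) : Matrix (Fin n) (Fin n) F).det *
          (g : Matrix (Fin n) (Fin n) F).det * ((a ^ n)⁻¹ * a ^ n) := by ring
    rw [this, hdinv, inv_mul_cancel₀ (pow_ne_zero n ha), one_mul]
  let s : Matrix.SpecialLinearGroup (Fin n) F := ⟨sm, hsdet⟩
  rw [isConj_iff]
  refine ⟨s, ?_⟩
  rw [mul_inv_eq_iff_eq_mul]
  apply Subtype.ext
  rw [Matrix.SpecialLinearGroup.coe_mul, Matrix.SpecialLinearGroup.coe_mul, U_val, U_val]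
  show sm * _ = _ * sm
  rw [hsm]
  simp only [Matrix.smul_mul, Matrix.mul_smul, mul_assoc]
  congr 1
  rw [← mul_assoc ((g⁻¹ : GL (Fin n) F) : Matrix (Fin n) (Fin n) F) (g : Matrix (Fin n) (Fin n) F),
    Units.inv_mul, one_mul,
    ← mul_assoc ((g'⁻¹ : GL (Fin n) F) : Matrix (Fin n) (Fin n) F) (g' : Matrix (Fin n) (Fin n) F),
    Units.inv_mul, one_mul]

theorem det_of_isConj_U {n : ℕ} (hn : 1 ≤ n) (g g' : GL (Fin n) F) (h : IsConj (U g) (U g')) :
    ∃ a : F, a ≠ 0 ∧
      (g' : Matrix (Fin n) (Fin n) F).det = (g : Matrix (Fin n) (Fin n) F).det * a ^ n := by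
  rw [isConj_iff] at h
  obtain ⟨s, hs⟩ := h
  rw [mul_inv_eq_iff_eq_mul] at hs
  have hs' := congrArg (fun x : Matrix.SpecialLinearGroup (Fin n) F =>
    (x : Matrix (Fin n) (Fin n) F)) hs
  simp only [Matrix.SpecialLinearGroup.coe_mul, U_val] at hs'
  set z : Matrix (Fin n) (Fin n) F := ((g'⁻¹ : GL (Fin n) F) : Matrix (Fin n) (Fin n) F) *
    (s : Matrix (Fin n) (Fin n) F) * (g : Matrix (Fin n) (Fin n) F) with hz
  have hzJ : z * Jm n = Jm n * z := by
    have e1 : z * Jm n = ((g'⁻¹ : GL (Fin n) F) : Matrix (Fin n) (Fin n) F) *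
        ((s : Matrix (Fin n) (Fin n) F) * ((g : Matrix (Fin n) (Fin n) F) * Jm n *
          ((g⁻¹ : GL (Fin n) F) : Matrix (Fin n) (Fin n) F))) * (g : Matrix (Fin n) (Fin n) F) := by
      rw [hz]
      simp only [mul_assoc]
      rw [Units.inv_mul, mul_one]
    rw [e1, hs', hz]
    simp only [mul_assoc]
    rw [← mul_assoc ((g'⁻¹ : GL (Fin n) F) : Matrix (Fin n) (Fin n) F) (g' : Matrix (Fin n) (Fin n) F),
      Units.inv_mul, one_mul]
  have hzN : z * N0 n = N0 n * z := by
    unfold Jm at hzJ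
    rw [mul_add, add_mul, mul_one, one_mul] at hzJ
    exact add_left_cancel hzJ
  have hdz := det_of_comm_N0 hn z hzN
  have hdz' : z.det = ((g'⁻¹ : GL (Fin n) F) : Matrix (Fin n) (Fin n) F).det *
      (g : Matrix (Fin n) (Fin n) F).det := by
    rw [hz, Matrix.det_mul, Matrix.det_mul, s.2, mul_one]
  have hg'det : (g' : Matrix (Fin n) (Fin n) F).det ≠ 0 := Matrix.GeneralLinearGroup.det_ne_zero g'
  have hgdet : (g : Matrix (Fin n) (Fin n) F).det ≠ 0 := Matrix.GeneralLinearGroup.det_ne_zero g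
  have hdinv : (g' : Matrix (Fin n) (Fin n) F).det *
      ((g'⁻¹ : GL (Fin n) F) : Matrix (Fin n) (Fin n) F).det = 1 := by
    rw [← Matrix.det_mul, Units.mul_inv, Matrix.det_one]
  set c := z ⟨0, hn⟩ ⟨0, hn⟩ with hc
  have hcn : c ^ n ≠ 0 := by
    rw [← hdz, hdz']
    apply mul_ne_zero _ hgdet
    intro h0
    rw [h0, mul_zero] at hdinv
    exact zero_ne_one hdinv
  have hc0 : c ≠ 0 := by
    intro h0
    apply hcn
    rw [h0, zero_pow (by omega)]
  refine ⟨c⁻¹, inv_ne_zero hc0, ?_⟩
  have h1 : c ^ n = ((g'⁻¹ : GL (Fin n) F) : Matrix (Fin n) (Fin n) F).det *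
      (g : Matrix (Fin n) (Fin n) F).det := by rw [← hdz, hdz']
  have h2 : (g' : Matrix (Fin n) (Fin n) F).det * c ^ n = (g : Matrix (Fin n) (Fin n) F).det := by
    rw [h1, ← mul_assoc, hdinv, one_mul]
  rw [← h2, inv_pow, mul_assoc, mul_inv_cancel₀ hcn, mul_one]

theorem main [Fintype F] {q : ℕ} (hF : Fintype.card F = q) {n : ℕ} (hn : 2 ≤ n) :
    Nat.card {C : ConjClasses (Matrix.SpecialLinearGroup (Fin n) F) //
      ∃ u : Matrix.SpecialLinearGroup (Fin n) F, ConjClasses.mk u = C ∧
        ((u : Matrix (Fin n) (Fin n) F) - 1) ^ n = 0 ∧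
        ((u : Matrix (Fin n) (Fin n) F) - 1).rank = n - 1} = Nat.gcd n (q - 1) := by
  classical
  have hn1 : 1 ≤ n := by omega
  haveI : Nonempty (Fin n) := ⟨⟨0, by omega⟩⟩
  let H : Subgroup Fˣ := (powMonoidHom n : Fˣ →* Fˣ).range
  have hsurj := Matrix.GeneralLinearGroup.det_surjective (n := Fin n) (R := F)
  choose gd hgd using hsurj
  have hgdv : ∀ d : Fˣ, ((gd d : GL (Fin n) F) : Matrix (Fin n) (Fin n) F).det = (d : F) := by
    intro d
    have := congrArg Units.val (hgd d)
    exact this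
  let T := {C : ConjClasses (Matrix.SpecialLinearGroup (Fin n) F) //
      ∃ u : Matrix.SpecialLinearGroup (Fin n) F, ConjClasses.mk u = C ∧
        ((u : Matrix (Fin n) (Fin n) F) - 1) ^ n = 0 ∧
        ((u : Matrix (Fin n) (Fin n) F) - 1).rank = n - 1}
  let Φ₀ : Fˣ → T := fun d => ⟨ConjClasses.mk (U (gd d)), ⟨U (gd d), rfl, isReg_U hn1 (gd d)⟩⟩
  have key : ∀ d d' : Fˣ, Φ₀ d = Φ₀ d' ↔ d⁻¹ * d' ∈ H := by
    intro d d'
    rw [Subtype.ext_iff]
    show ConjClasses.mk (U (gd d)) = ConjClasses.mk (U (gd d')) ↔ _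
    rw [ConjClasses.mk_eq_mk_iff_isConj]
    constructor
    · intro h
      obtain ⟨a, ha, hdet⟩ := det_of_isConj_U hn1 _ _ h
      rw [hgdv, hgdv] at hdet
      refine ⟨Units.mk0 a ha, ?_⟩
      apply Units.ext
      simp only [powMonoidHom_apply, Units.val_pow_eq_pow_val, Units.val_mk0, Units.val_mul,
        Units.val_inv_eq_inv_val]
      rw [hdet]
      field_simp
    · rintro ⟨a, ha⟩
      apply isConj_U_of_det _ _ (a : F) (Units.ne_zero a)
      rw [hgdv, hgdv]
      have := congrArg Units.val ha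
      simp only [powMonoidHom_apply, Units.val_pow_eq_pow_val, Units.val_mul,
        Units.val_inv_eq_inv_val] at this
      rw [this]
      field_simp
  have hsurjΦ : Function.Surjective Φ₀ := by
    rintro ⟨C, u, hu, hreg⟩
    obtain ⟨g, hg⟩ := exists_U_of_isReg hn1 u hreg
    refine ⟨Matrix.GeneralLinearGroup.det g, ?_⟩
    rw [Subtype.ext_iff]
    show ConjClasses.mk (U (gd _)) = C
    rw [← hu, hg, ConjClasses.mk_eq_mk_iff_isConj]
    apply isConj_U_of_det _ _ 1 one_ne_zero
    rw [hgdv, one_pow, mul_one]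
    rfl
  let Φ : Fˣ ⧸ H → T := Quotient.lift Φ₀ (by
    intro a b hab
    rw [key]
    exact QuotientGroup.leftRel_apply.mp hab)
  have hΦbij : Function.Bijective Φ := by
    constructor
    · intro x y
      induction x using Quotient.inductionOn with | _ a => ?_
      induction y using Quotient.inductionOn with | _ b => ?_
      intro h
      have h' : Φ₀ a = Φ₀ b := h
      rw [key] at h'
      exact Quotient.sound (QuotientGroup.leftRel_apply.mpr h')
    · intro t
      obtain ⟨d, hd⟩ := hsurjΦ t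
      exact ⟨Quotient.mk _ d, hd⟩
  rw [← Nat.card_congr (Equiv.ofBijective Φ hΦbij)]
  have hidx : H.index = (Nat.card Fˣ).gcd n := IsCyclic.index_powMonoidHom_range Fˣ n
  have hcard : Nat.card Fˣ = q - 1 := by
    rw [Nat.card_eq_fintype_card, Fintype.card_units, hF]
  rw [hcard] at hidx
  rw [Nat.gcd_comm]
  exact hidx

end RegUnip
end Cfsg.Agent.Lib.Helper24
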