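import Mathlib

set_option autoImplicit false
set_option linter.style.haveILetI false
set_option linter.unusedSimpArgs false
set_option linter.unusedSectionVars false

namespace Cfsg.Agent.Lib.Helper24.NormSurj

universe u

theorem hilbert90_aux {S : Type u} [CommRing S] (σ : S →+* S) (hσ : ∀ x, σ (σ x) = x)
    (ω : S) (hω : IsUnit (ω - σ ω)) (hfld : ∀ s : S, s ≠ 0 → IsUnit s)
    (x : S) (hx : x * σ x = 1) : ∃ y : S, IsUnit y ∧ y = x * σ y := by
  by_cases h1 : 1 + x = 0
  · refine ⟨ω - σ ω, hω, ?_⟩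
    have hx' : x = -1 := by linear_combination h1
    rw [hx', map_sub, hσ]
    ring
  · refine ⟨1 + x, hfld _ h1, ?_⟩
    rw [map_add, map_one, mul_add, mul_one, hx]
    ring

theorem norm_surj_field {S : Type u} [CommRing S] [Finite S] (σ : S →+* S)
    (hσ : ∀ x, σ (σ x) = x)
    (ω : S) (hω : IsUnit (ω - σ ω)) (hfld : ∀ s : S, s ≠ 0 → IsUnit s)
    (h : S) (hh : IsUnit h) (hfix : σ h = h) : ∃ x : S, x * σ x = h := by
  classical
  obtain ⟨σu, hσu'⟩ : ∃ σu : Sˣ →* Sˣ, ∀ y : Sˣ, ((σu y : Sˣ) : S) = σ y :=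
    ⟨Units.map (σ : S →* S), fun y => rfl⟩
  have hσu : ∀ y : Sˣ, σu (σu y) = y := fun y => Units.ext (by rw [hσu', hσu', hσ])
  obtain ⟨N, hN⟩ : ∃ N : Sˣ →* Sˣ, ∀ x, N x = x * σu x :=
    ⟨{ toFun := fun x => x * σu x
       map_one' := by simp
       map_mul' := fun a b => by
        rw [map_mul]
        exact mul_mul_mul_comm a b (σu a) (σu b) }, fun x => rfl⟩
  obtain ⟨D, hD⟩ : ∃ D : Sˣ →* Sˣ, ∀ y, D y = y * (σu y)⁻¹ :=
    ⟨{ toFun := fun y => y * (σu y)⁻¹
       map_one' := by simp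
       map_mul' := fun a b => by
        rw [map_mul, mul_inv]
        exact mul_mul_mul_comm a b (σu a)⁻¹ (σu b)⁻¹ }, fun x => rfl⟩
  have h1 : N.range ≤ D.ker := by
    rintro _ ⟨x, rfl⟩
    rw [MonoidHom.mem_ker, hD, hN, map_mul, hσu, mul_comm (σu x) x, mul_inv_cancel]
  have h2 : N.ker ≤ D.range := by
    intro x hx
    rw [MonoidHom.mem_ker, hN] at hx
    have hx' : (x : S) * σ x = 1 := by
      have h3 := congrArg Units.val hx
      rw [Units.val_mul, hσu', Units.val_one] at h3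
      exact h3
    obtain ⟨y, hy, hye⟩ := hilbert90_aux σ hσ ω hω hfld x hx'
    refine ⟨hy.unit, ?_⟩
    rw [hD, mul_inv_eq_iff_eq_mul]
    apply Units.ext
    rw [Units.val_mul, hσu']
    exact hye
  have c1 : Nat.card N.ker * Nat.card N.range = Nat.card Sˣ := by
    rw [← Subgroup.index_ker, Subgroup.card_mul_index]
  have c2 : Nat.card D.ker * Nat.card D.range = Nat.card Sˣ := by
    rw [← Subgroup.index_ker, Subgroup.card_mul_index]
  have h3 : Nat.card N.ker ≤ Nat.card D.range := Subgroup.card_le_of_le h2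
  have hpos : 0 < Nat.card N.ker := Nat.card_pos
  have h4 : Nat.card D.ker ≤ Nat.card N.range := by
    by_contra hlt
    push Not at hlt
    have h5 : Nat.card N.ker * Nat.card N.range < Nat.card D.ker * Nat.card D.range := by
      calc Nat.card N.ker * Nat.card N.range < Nat.card N.ker * Nat.card D.ker :=
            Nat.mul_lt_mul_of_pos_left hlt hpos
        _ ≤ Nat.card D.range * Nat.card D.ker := Nat.mul_le_mul_right _ h3
        _ = Nat.card D.ker * Nat.card D.range := mul_comm _ _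
    rw [c1, c2] at h5
    exact lt_irrefl _ h5
  have h5 : N.range = D.ker := Subgroup.eq_of_le_of_card_ge h1 h4
  have h6 : hh.unit ∈ D.ker := by
    rw [MonoidHom.mem_ker, hD, mul_inv_eq_one]
    apply Units.ext
    rw [hσu']
    exact hfix.symm
  rw [← h5] at h6
  obtain ⟨x, hx⟩ := h6
  refine ⟨x, ?_⟩
  have h7 := congrArg Units.val hx
  rw [hN, Units.val_mul, hσu'] at h7
  exact h7

end Cfsg.Agent.Lib.Helper24.NormSurj
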