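import Mathlib
import Cfsg.Agent.Lib.Helper24.NormSurjA

set_option autoImplicit false
set_option linter.style.haveILetI false
set_option linter.unusedSimpArgs false
set_option linter.unusedSectionVars false

namespace Cfsg.Agent.Lib.Helper24.NormSurj

universe u

theorem quot_card_lt {S : Type u} [CommRing S] [Finite S] (I : Ideal S) (hI : I ≠ ⊥) :
    Nat.card (S ⧸ I) < Nat.card S := by
  classical
  haveI := Fintype.ofFinite S
  haveI := Fintype.ofFinite (S ⧸ I)
  rw [Nat.card_eq_fintype_card, Nat.card_eq_fintype_card]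
  apply Fintype.card_lt_of_surjective_not_injective (Ideal.Quotient.mk I)
    Ideal.Quotient.mk_surjective
  intro hinj
  apply hI
  rw [eq_bot_iff]
  intro a ha
  have h1 : Ideal.Quotient.mk I a = Ideal.Quotient.mk I 0 := by
    rw [map_zero]
    exact Ideal.Quotient.eq_zero_iff_mem.mpr ha
  have h2 : a = 0 := hinj h1
  rw [h2]
  exact Ideal.zero_mem _

theorem isUnit_of_reduced_noidem {S : Type u} [CommRing S] [Finite S]
    (hred : ∀ s : S, s * s = 0 → s = 0) (hid : ∀ e : S, e * e = e → e = 0 ∨ e = 1)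
    (s : S) (hs : s ≠ 0) : IsUnit s := by
  haveI : IsReduced S := by
    rw [isReduced_iff_pow_one_lt 2 (by norm_num)]
    intro x hx
    exact hred x (by rw [← pow_two]; exact hx)
  obtain ⟨i, d, hd, he⟩ : ∃ i d : ℕ, 0 < d ∧ s ^ i = s ^ (i + d) := by
    obtain ⟨i, j, hne, he⟩ := Finite.exists_ne_map_eq_of_infinite (fun k : ℕ => s ^ k)
    rcases lt_or_gt_of_ne hne with h | h
    · exact ⟨i, j - i, by omega, by rw [show i + (j - i) = j by omega]; exact he⟩
    · exact ⟨j, i - j, by omega, by rw [show j + (i - j) = i by omega]; exact he.symm⟩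
  -- s^k = s^(k+d) for k ≥ i
  have h1 : ∀ k, i ≤ k → s ^ k = s ^ (k + d) := by
    intro k hk
    obtain ⟨m, rfl⟩ := Nat.exists_eq_add_of_le hk
    rw [pow_add, he, ← pow_add]
    congr 1
    omega
  have h2 : ∀ m k, i ≤ k → s ^ k = s ^ (k + m * d) := by
    intro m
    induction m with
    | zero => intro k _; simp
    | succ m ihm =>
      intro k hk
      rw [ihm k hk, h1 (k + m * d) (by omega)]
      congr 1
      ring
  by_cases hi : i = 0
  · subst hi
    have h3 : s ^ d = 1 := by simpa using he.symm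
    exact IsUnit.of_pow_eq_one h3 (by omega)
  · have hi' : 0 < i := Nat.pos_of_ne_zero hi
    have h3 : s ^ (i * d) * s ^ (i * d) = s ^ (i * d) := by
      rw [← pow_add]
      exact (h2 i (i * d) (Nat.le_mul_of_pos_right i hd)).symm
    rcases hid _ h3 with h4 | h4
    · exfalso
      exact hs (IsNilpotent.eq_zero ⟨i * d, h4⟩)
    · exact IsUnit.of_pow_eq_one h4 (Nat.mul_ne_zero hi (by omega))

end Cfsg.Agent.Lib.Helper24.NormSurj
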