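import Mathlib
import Cfsg.Agent.Lib.Helper24.NormSurjB

set_option autoImplicit false
set_option linter.style.haveILetI false
set_option linter.unusedSimpArgs false
set_option linter.unusedSectionVars false

namespace Cfsg.Agent.Lib.Helper24.NormSurj

universe u

theorem exists_trace_one {S : Type u} [CommRing S] (σ : S →+* S) (hσ : ∀ x, σ (σ x) = x)
    (ω : S) (hω : IsUnit (ω - σ ω)) : ∃ c : S, c + σ c = 1 := by
  obtain ⟨d, hd⟩ := hω.exists_right_inv
  have h1 : (ω - σ ω) * (-σ d) = 1 := by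
    have h2 : σ ((ω - σ ω) * d) = 1 := by rw [hd, map_one]
    rw [map_mul, map_sub, hσ] at h2
    linear_combination h2
  have h3 : σ d = -d := by
    have h4 : d = d * ((ω - σ ω) * (-σ d)) := by rw [h1, mul_one]
    have h5 : d * ((ω - σ ω) * (-σ d)) = ((ω - σ ω) * d) * (-σ d) := by ring
    rw [h5, hd, one_mul] at h4
    linear_combination h4
  refine ⟨ω * d, ?_⟩
  rw [map_mul, h3]
  linear_combination hd

theorem inv_fixed {S : Type u} [CommRing S] (σ : S →+* S) {h h' : S} (hh' : h * h' = 1)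
    (hfix : σ h = h) : σ h' = h' := by
  have h1 : σ h * σ h' = 1 := by rw [← map_mul, hh', map_one]
  rw [hfix] at h1
  calc σ h' = σ h' * (h * h') := by rw [hh', mul_one]
    _ = (h * σ h') * h' := by ring
    _ = h' := by rw [h1, one_mul]

/-- square-zero lifting step -/
theorem nil_step {S : Type u} [CommRing S] (σ : S →+* S)
    {h h' c t r x₀ : S} (hh' : h * h' = 1) (hfix' : σ h' = h')
    (hc : c + σ c = 1) (ht2 : t * t = 0)
    (hr : r * t = x₀ * σ x₀ - h) (hrt : σ (r * t) = r * t) :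
    ∃ x : S, x * σ x = h := by
  refine ⟨x₀ * (1 + c * (-h' * (r * t))), ?_⟩
  rw [map_mul, map_add, map_one, map_mul, map_mul, map_neg, hfix', hrt]
  have e1 : x₀ * σ x₀ = h + r * t := by linear_combination -hr
  have e2 : x₀ * (1 + c * (-h' * (r * t))) * (σ x₀ * (1 + σ c * (-h' * (r * t))))
      = (x₀ * σ x₀) * (1 + (c + σ c) * (-h' * (r * t)) + c * σ c * h' * h' * r * r * (t * t)) := by
    ring
  rw [e2, e1, hc, ht2]
  linear_combination (-(r * t)) * hh' + (-(h' * r * r)) * ht2

/-- fixed idempotent step -/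
theorem idem_step {S : Type u} [CommRing S] (σ : S →+* S)
    {h f x₁ x₂ r₁ r₂ : S} (hf : f * f = f) (hfσ : σ f = f)
    (h1 : r₁ * f = x₁ * σ x₁ - h) (h2 : r₂ * (1 - f) = x₂ * σ x₂ - h) :
    ∃ x : S, x * σ x = h := by
  refine ⟨(1 - f) * x₁ + f * x₂, ?_⟩
  rw [map_add, map_mul, map_mul, map_sub, map_one, hfσ]
  linear_combination (1 - f) ^ 2 * (-h1) + f ^ 2 * (-h2)
    + (2 * h - r₁ * (1 - f) - r₂ * f - (x₁ * σ x₂ + x₂ * σ x₁)) * hf

theorem norm_surj_aux : ∀ (n : ℕ) (S : Type u) [CommRing S] [Finite S], Nat.card S = n →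
    ∀ (σ : S →+* S), (∀ x, σ (σ x) = x) → ∀ ω : S, IsUnit (ω - σ ω) →
    ∀ h : S, IsUnit h → σ h = h → ∃ x : S, x * σ x = h := by
  intro n
  induction n using Nat.strong_induction_on with
  | _ n ih =>
  intro S _ _ hcard σ hσ ω hω h hh hfix
  have quot : ∀ I : Ideal S, I ≠ ⊥ → (∀ a ∈ I, σ a ∈ I) → ∃ x₀ : S, x₀ * σ x₀ - h ∈ I := by
    intro I hI hIσ
    have hlt : Nat.card (S ⧸ I) < n := hcard ▸ quot_card_lt I hI
    have hle : I ≤ I.comap σ := fun a ha => hIσ a ha
    haveI : Finite (S ⧸ I) := Finite.of_surjective _ Ideal.Quotient.mk_surjective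
    have hσ' : ∀ xb : S ⧸ I, Ideal.quotientMap I σ hle (Ideal.quotientMap I σ hle xb) = xb := by
      intro xb
      obtain ⟨x, rfl⟩ := Ideal.Quotient.mk_surjective xb
      rw [Ideal.quotientMap_mk, Ideal.quotientMap_mk, hσ]
    have hω' : IsUnit (Ideal.Quotient.mk I ω
        - Ideal.quotientMap I σ hle (Ideal.Quotient.mk I ω)) := by
      rw [Ideal.quotientMap_mk, ← map_sub]
      exact hω.map _
    have hfix' : Ideal.quotientMap I σ hle (Ideal.Quotient.mk I h) = Ideal.Quotient.mk I h := by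
      rw [Ideal.quotientMap_mk, hfix]
    obtain ⟨xb, hxb⟩ := ih _ hlt (S ⧸ I) rfl (Ideal.quotientMap I σ hle) hσ'
      (Ideal.Quotient.mk I ω) hω' (Ideal.Quotient.mk I h) (hh.map _) hfix'
    obtain ⟨x₀, rfl⟩ := Ideal.Quotient.mk_surjective xb
    refine ⟨x₀, ?_⟩
    rw [Ideal.quotientMap_mk, ← map_mul, ← sub_eq_zero, ← map_sub] at hxb
    exact Ideal.Quotient.eq_zero_iff_mem.mp hxb
  obtain ⟨c, hc⟩ := exists_trace_one σ hσ ω hω
  obtain ⟨h', hh'⟩ := hh.exists_right_inv
  have hfixh' := inv_fixed σ hh' hfix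
  by_cases hA : ∃ s : S, s ≠ 0 ∧ s * s = 0
  · -- non-reduced case
    obtain ⟨t, ht0, ht2, htσ⟩ : ∃ t : S, t ≠ 0 ∧ t * t = 0 ∧ (σ t = t ∨ σ t = -t) := by
      obtain ⟨s, hs0, hs2⟩ := hA
      have hs2' : σ s * σ s = 0 := by rw [← map_mul, hs2, map_zero]
      by_cases h1 : s * σ s = 0
      · by_cases h2 : s + σ s = 0
        · exact ⟨s, hs0, hs2, Or.inr (by linear_combination h2)⟩
        · refine ⟨s + σ s, h2, ?_, Or.inl ?_⟩
          · linear_combination hs2 + 2 * h1 + hs2'
          · rw [map_add, hσ]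
            ring
      · refine ⟨s * σ s, h1, ?_, Or.inl ?_⟩
        · linear_combination (σ s * σ s) * hs2
        · rw [map_mul, hσ]
          ring
    have hI0 : Ideal.span {t} ≠ (⊥ : Ideal S) := by
      rw [Ne, Ideal.span_singleton_eq_bot]
      exact ht0
    have hIσ : ∀ a ∈ Ideal.span {t}, σ a ∈ Ideal.span {t} := by
      intro a ha
      obtain ⟨r, rfl⟩ := Ideal.mem_span_singleton'.mp ha
      rw [map_mul]
      rcases htσ with h1 | h1
      · rw [h1]
        exact Ideal.mem_span_singleton'.mpr ⟨σ r, rfl⟩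
      · rw [h1]
        exact Ideal.mem_span_singleton'.mpr ⟨-σ r, by ring⟩
    obtain ⟨x₀, hx₀⟩ := quot _ hI0 hIσ
    obtain ⟨r, hr⟩ := Ideal.mem_span_singleton'.mp hx₀
    have hrt : σ (r * t) = r * t := by
      rw [hr, map_sub, map_mul, hσ, hfix]
      ring
    exact nil_step σ hh' hfixh' hc ht2 hr hrt
  · have hred : ∀ s : S, s * s = 0 → s = 0 := by
      intro s hs
      by_contra h0
      exact hA ⟨s, h0, hs⟩
    -- step with a fixed nontrivial idempotent
    have fixed_idem : ∀ f : S, f * f = f → σ f = f → f ≠ 0 → f ≠ 1 → ∃ x : S, x * σ x = h := by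
      intro f hf hfσ hf0 hf1
      have hI1 : Ideal.span {f} ≠ (⊥ : Ideal S) := by
        rw [Ne, Ideal.span_singleton_eq_bot]
        exact hf0
      have hI2 : Ideal.span {1 - f} ≠ (⊥ : Ideal S) := by
        rw [Ne, Ideal.span_singleton_eq_bot, sub_eq_zero]
        exact fun h => hf1 h.symm
      have hI1σ : ∀ a ∈ Ideal.span {f}, σ a ∈ Ideal.span {f} := by
        intro a ha
        obtain ⟨r, rfl⟩ := Ideal.mem_span_singleton'.mp ha
        rw [map_mul, hfσ]
        exact Ideal.mem_span_singleton'.mpr ⟨σ r, rfl⟩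
      have hI2σ : ∀ a ∈ Ideal.span {1 - f}, σ a ∈ Ideal.span {1 - f} := by
        intro a ha
        obtain ⟨r, rfl⟩ := Ideal.mem_span_singleton'.mp ha
        rw [map_mul, map_sub, map_one, hfσ]
        exact Ideal.mem_span_singleton'.mpr ⟨σ r, rfl⟩
      obtain ⟨x₁, hx₁⟩ := quot _ hI1 hI1σ
      obtain ⟨x₂, hx₂⟩ := quot _ hI2 hI2σ
      obtain ⟨r₁, hr₁⟩ := Ideal.mem_span_singleton'.mp hx₁
      obtain ⟨r₂, hr₂⟩ := Ideal.mem_span_singleton'.mp hx₂
      exact idem_step σ hf hfσ hr₁ hr₂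
    by_cases hB : ∃ e : S, e * e = e ∧ e ≠ 0 ∧ e ≠ 1
    · obtain ⟨e, he, he0, he1⟩ := hB
      have heσ : σ e * σ e = σ e := by rw [← map_mul, he]
      by_cases h1 : e * σ e = 0
      · by_cases h2 : e + σ e = 1
        · -- swapped case
          refine ⟨h * e + σ e, ?_⟩
          rw [map_add, map_mul, hσ, hfix]
          linear_combination (h * h + 1) * h1 + h * he + h * heσ + h * h2
        · apply fixed_idem (e + σ e)
          · linear_combination he + heσ + 2 * h1
          · rw [map_add, hσ]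
            ring
          · intro h3
            apply he0
            have h4 : (e + σ e) * e = 0 := by rw [h3, zero_mul]
            linear_combination h4 - he - h1
          · exact h2
      · apply fixed_idem (e * σ e)
        · linear_combination (σ e * σ e) * he + e * heσ
        · rw [map_mul, hσ]
          ring
        · exact h1
        · intro h3
          apply he1
          have h4 : e * (e * σ e) = e := by rw [h3, mul_one]
          linear_combination -h4 + (σ e) * he + h3
    · have hid : ∀ e : S, e * e = e → e = 0 ∨ e = 1 := by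
        intro e he
        by_contra hcon
        push Not at hcon
        exact hB ⟨e, he, hcon.1, hcon.2⟩
      exact norm_surj_field σ hσ ω hω (isUnit_of_reduced_noidem hred hid) h hh hfix

/-- Norm surjectivity in a finite commutative ring with involution `σ` for which some
`ω - σ ω` is a unit. -/
theorem norm_surj {S : Type u} [CommRing S] [Finite S] (σ : S →+* S) (hσ : ∀ x, σ (σ x) = x)
    (ω : S) (hω : IsUnit (ω - σ ω)) (h : S) (hh : IsUnit h) (hfix : σ h = h) :
    ∃ x : S, x * σ x = h :=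
  norm_surj_aux _ S rfl σ hσ ω hω h hh hfix

end Cfsg.Agent.Lib.Helper24.NormSurj
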