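import Mathlib
import Cfsg.Prelude
import Cfsg.Agent.Lib.Helper19.PSUGraph1
import Cfsg.Agent.Lib.Helper24.NormSurjC

set_option autoImplicit false
set_option linter.style.haveILetI false
set_option linter.unusedSimpArgs false
set_option linter.unusedSectionVars false

namespace Cfsg.Agent.Lib.Helper24.GUConj

open Matrix Cfsg
open Cfsg.Agent.Lib.Helper27.Unitary
open Cfsg.Agent.Lib.Helper19.PSUGraph

variable {n : ℕ} {K : Type*} [Field K] [Fintype K] {q : ℕ}

/-- conjugate transpose with respect to `x ↦ x ^ q` -/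
def st (q : ℕ) (M : Matrix (Fin n) (Fin n) K) : Matrix (Fin n) (Fin n) K := (cjM q M)ᵀ

theorem st_apply (M : Matrix (Fin n) (Fin n) K) (i j : Fin n) : st q M i j = M j i ^ q := rfl

theorem st_mul (hK : Fintype.card K = q ^ 2) (A B : Matrix (Fin n) (Fin n) K) :
    st q (A * B) = st q B * st q A := by
  unfold st
  rw [cjM_mul hK, Matrix.transpose_mul]

theorem st_one (hK : Fintype.card K = q ^ 2) : st q (1 : Matrix (Fin n) (Fin n) K) = 1 := by
  unfold st
  rw [cjM_one hK, Matrix.transpose_one]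

theorem st_st (hK : Fintype.card K = q ^ 2) (A : Matrix (Fin n) (Fin n) K) :
    st q (st q A) = A := by
  ext i j
  rw [st_apply, st_apply]
  exact cj_cj hK _

theorem st_add (hK : Fintype.card K = q ^ 2) (A B : Matrix (Fin n) (Fin n) K) :
    st q (A + B) = st q A + st q B := by
  ext i j
  simp only [st_apply, Matrix.add_apply]
  exact cj_add hK _ _

theorem st_zero (hK : Fintype.card K = q ^ 2) : st q (0 : Matrix (Fin n) (Fin n) K) = 0 := by
  ext i j
  simp only [st_apply, Matrix.zero_apply]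
  exact cj_zero hK

theorem st_algebraMap (hK : Fintype.card K = q ^ 2) (c : K) :
    st q (algebraMap K (Matrix (Fin n) (Fin n) K) c) = algebraMap K _ (c ^ q) := by
  ext i j
  rw [st_apply, Matrix.algebraMap_matrix_apply, Matrix.algebraMap_matrix_apply]
  by_cases hij : i = j
  · subst hij
    simp
  · rw [if_neg (Ne.symm hij), if_neg hij]
    exact cj_zero hK

theorem mem_GU_iff_st (hK : Fintype.card K = q ^ 2) (g : GL (Fin n) K) :
    g ∈ GU n K q ↔ st q g.1 * g.1 = 1 := by
  rw [mat_mem_GU_iff hK]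
  constructor
  · intro h
    have h1 := congrArg Matrix.transpose h
    rw [Matrix.transpose_mul, Matrix.transpose_transpose, Matrix.transpose_one] at h1
    exact h1
  · intro h
    have h1 := congrArg Matrix.transpose h
    unfold st at h1
    rw [Matrix.transpose_mul, Matrix.transpose_transpose, Matrix.transpose_one] at h1
    exact h1

theorem exists_sqrt (hK : Fintype.card K = q ^ 2) (h : Matrix (Fin n) (Fin n) K)
    (hfix : st q h = h) (hu : IsUnit h) :
    ∃ x : Matrix (Fin n) (Fin n) K,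
      x ∈ Algebra.adjoin K ({h} : Set (Matrix (Fin n) (Fin n) K)) ∧ st q x * x = h := by
  classical
  have hcomm : ∀ a ∈ ({h} : Set (Matrix (Fin n) (Fin n) K)),
      ∀ b ∈ ({h} : Set (Matrix (Fin n) (Fin n) K)), a * b = b * a := by
    intro a ha b hb
    rw [Set.mem_singleton_iff] at ha hb
    rw [ha, hb]
  letI : CommRing ↥(Algebra.adjoin K ({h} : Set (Matrix (Fin n) (Fin n) K))) :=
    Algebra.adjoinCommRingOfComm K hcomm
  have hcl : ∀ x ∈ Algebra.adjoin K ({h} : Set (Matrix (Fin n) (Fin n) K)),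
      st q x ∈ Algebra.adjoin K ({h} : Set (Matrix (Fin n) (Fin n) K)) := by
    intro x hx
    induction hx using Algebra.adjoin_induction with
    | mem x hx =>
      rw [Set.mem_singleton_iff] at hx
      rw [hx, hfix]
      exact Algebra.subset_adjoin rfl
    | algebraMap r =>
      rw [st_algebraMap hK]
      exact Subalgebra.algebraMap_mem _ _
    | add x y _ _ hx hy =>
      rw [st_add hK]
      exact add_mem hx hy
    | mul x y _ _ hx hy =>
      rw [st_mul hK]
      exact mul_mem hy hx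
  have hc2 : ∀ x y : ↥(Algebra.adjoin K ({h} : Set (Matrix (Fin n) (Fin n) K))),
      x.1 * y.1 = y.1 * x.1 := fun x y => congrArg Subtype.val (mul_comm x y)
  obtain ⟨σ, hσdef⟩ : ∃ σ : ↥(Algebra.adjoin K ({h} : Set (Matrix (Fin n) (Fin n) K))) →+*
      ↥(Algebra.adjoin K ({h} : Set (Matrix (Fin n) (Fin n) K))),
      ∀ x, (σ x).1 = st q x.1 :=
    ⟨{ toFun := fun x => ⟨st q x.1, hcl x.1 x.2⟩
       map_one' := Subtype.ext (st_one hK)
       map_mul' := fun a b => Subtype.ext (by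
        show st q (a.1 * b.1) = st q a.1 * st q b.1
        rw [st_mul hK]
        exact hc2 ⟨st q b.1, hcl b.1 b.2⟩ ⟨st q a.1, hcl a.1 a.2⟩)
       map_zero' := Subtype.ext (st_zero hK)
       map_add' := fun a b => Subtype.ext (st_add hK a.1 b.1) }, fun x => rfl⟩
  have hσσ : ∀ x, σ (σ x) = x := fun x => Subtype.ext (by rw [hσdef, hσdef, st_st hK])
  obtain ⟨ζ, hζ⟩ := exists_not_fixed hK
  have hζ0 : ζ - ζ ^ q ≠ 0 := sub_ne_zero.mpr (Ne.symm hζ)
  obtain ⟨ω, hωdef⟩ : ∃ ω : ↥(Algebra.adjoin K ({h} : Set (Matrix (Fin n) (Fin n) K))),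
      ω.1 = algebraMap K _ ζ := ⟨⟨algebraMap K _ ζ, Subalgebra.algebraMap_mem _ ζ⟩, rfl⟩
  have hω : IsUnit (ω - σ ω) := by
    apply IsUnit.of_mul_eq_one
      (⟨algebraMap K _ (ζ - ζ ^ q)⁻¹, Subalgebra.algebraMap_mem _ _⟩ :
        ↥(Algebra.adjoin K ({h} : Set (Matrix (Fin n) (Fin n) K))))
    apply Subtype.ext
    show (ω.1 - (σ ω).1) * algebraMap K (Matrix (Fin n) (Fin n) K) (ζ - ζ ^ q)⁻¹ = 1
    rw [hσdef, hωdef, st_algebraMap hK, ← map_sub, ← map_mul, mul_inv_cancel₀ hζ0, map_one]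
  obtain ⟨h', hh'def⟩ : ∃ h' : ↥(Algebra.adjoin K ({h} : Set (Matrix (Fin n) (Fin n) K))),
      h'.1 = h := ⟨⟨h, Algebra.subset_adjoin rfl⟩, rfl⟩
  have hh' : IsUnit h' := by
    have hinj : Function.Injective (fun s : ↥(Algebra.adjoin K
        ({h} : Set (Matrix (Fin n) (Fin n) K))) => h' * s) := by
      intro s s' hss
      have h1 : h'.1 * s.1 = h'.1 * s'.1 := congrArg Subtype.val hss
      rw [hh'def] at h1
      exact Subtype.ext (hu.mul_left_cancel h1)
    obtain ⟨s, hs⟩ := (Finite.injective_iff_surjective.mp hinj) 1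
    exact IsUnit.of_mul_eq_one s hs
  have hfix' : σ h' = h' := Subtype.ext (by rw [hσdef, hh'def, hfix])
  obtain ⟨x, hx⟩ := Cfsg.Agent.Lib.Helper24.NormSurj.norm_surj σ hσσ ω hω h' hh' hfix'
  refine ⟨x.1, x.2, ?_⟩
  have h1 : x.1 * (σ x).1 = h'.1 := congrArg Subtype.val hx
  rw [hσdef, hh'def] at h1
  exact (hc2 ⟨st q x.1, hcl x.1 x.2⟩ x).trans h1

end Cfsg.Agent.Lib.Helper24.GUConj
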