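import Mathlib
import Cfsg.Prelude
import Cfsg.Agent.Lib.Helper24.GUConjA

set_option autoImplicit false
set_option linter.style.haveILetI false
set_option linter.unusedSimpArgs false
set_option linter.unusedSectionVars false

namespace Cfsg.Agent.Lib.Helper24.GUConj

open Matrix Cfsg
open Cfsg.Agent.Lib.Helper27.Unitary
open Cfsg.Agent.Lib.Helper19.PSUGraph

variable {n : ℕ} {K : Type*} [Field K] [Fintype K] {q : ℕ}

theorem gu_conj (hK : Fintype.card K = q ^ 2) (A B : ↥(GU n K q))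
    (hAB : IsConj (A : GL (Fin n) K) (B : GL (Fin n) K)) : IsConj A B := by
  rw [isConj_iff] at hAB ⊢
  obtain ⟨c, hc⟩ := hAB
  have hA := (mem_GU_iff_st hK A.1).mp A.2
  have hB := (mem_GU_iff_st hK B.1).mp B.2
  obtain ⟨a, ha⟩ : ∃ a : Matrix (Fin n) (Fin n) K, a = (A.1).1 := ⟨_, rfl⟩
  obtain ⟨b, hb⟩ : ∃ b : Matrix (Fin n) (Fin n) K, b = (B.1).1 := ⟨_, rfl⟩
  obtain ⟨c₀, hc₀⟩ : ∃ c₀ : Matrix (Fin n) (Fin n) K, c₀ = c.1 := ⟨_, rfl⟩
  obtain ⟨c₁, hc₁⟩ : ∃ c₁ : Matrix (Fin n) (Fin n) K, c₁ = (c⁻¹).1 := ⟨_, rfl⟩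
  rw [← ha] at hA
  rw [← hb] at hB
  have h01 : c₀ * c₁ = 1 := by rw [hc₀, hc₁]; exact c.mul_inv
  have h10 : c₁ * c₀ = 1 := by rw [hc₀, hc₁]; exact c.inv_mul
  have hbe : b = c₀ * a * c₁ := by
    rw [hb, ← hc, hc₀, ha, hc₁]
    rfl
  obtain ⟨h, hh⟩ : ∃ h : Matrix (Fin n) (Fin n) K, h = st q c₀ * c₀ := ⟨_, rfl⟩
  have hfix : st q h = h := by rw [hh, st_mul hK, st_st hK]
  have hst01 : st q c₀ * st q c₁ = 1 := by rw [← st_mul hK, h10, st_one hK]
  have hst10 : st q c₁ * st q c₀ = 1 := by rw [← st_mul hK, h01, st_one hK]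
  have hu : IsUnit h := by
    rw [hh]
    have u1 : IsUnit (st q c₀) := ⟨⟨st q c₀, st q c₁, hst01, hst10⟩, rfl⟩
    have u2 : IsUnit c₀ := ⟨⟨c₀, c₁, h01, h10⟩, rfl⟩
    exact u1.mul u2
  have haa : a * st q a = 1 := mul_eq_one_comm.mp hA
  have e1 : st q b = st q c₁ * st q a * st q c₀ := by
    rw [hbe, st_mul hK, st_mul hK, Matrix.mul_assoc]
  have e2 : st q c₁ * st q a * st q c₀ * (c₀ * a * c₁) = 1 := by
    rw [← e1, ← hbe]
    exact hB
  have e3 : st q a * h * a = h := by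
    have e4 : st q c₀ * (st q c₁ * st q a * st q c₀ * (c₀ * a * c₁)) * c₀
        = st q c₀ * 1 * c₀ := by rw [e2]
    rw [Matrix.mul_one] at e4
    have e5 : st q c₀ * (st q c₁ * st q a * st q c₀ * (c₀ * a * c₁)) * c₀
        = (st q c₀ * st q c₁) * st q a * (st q c₀ * c₀) * a * (c₁ * c₀) := by
      simp only [Matrix.mul_assoc]
    rw [e5, hst01, h10, Matrix.one_mul, Matrix.mul_one, ← hh] at e4
    exact e4
  have hcomm : h * a = a * h := by
    calc h * a = (a * st q a) * (h * a) := by rw [haa, Matrix.one_mul]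
      _ = a * (st q a * h * a) := by simp only [Matrix.mul_assoc]
      _ = a * h := by rw [e3]
  obtain ⟨x, hxS, hx⟩ := exists_sqrt hK h hfix hu
  have hxa : x * a = a * x := by
    have hle : Algebra.adjoin K ({h} : Set (Matrix (Fin n) (Fin n) K))
        ≤ Subalgebra.centralizer K {a} := by
      apply Algebra.adjoin_le
      intro y hy
      rw [Set.mem_singleton_iff] at hy
      rw [hy, SetLike.mem_coe, Subalgebra.mem_centralizer_iff]
      intro z hz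
      rw [Set.mem_singleton_iff] at hz
      rw [hz]
      exact hcomm.symm
    have h1 := (Subalgebra.mem_centralizer_iff K).mp (hle hxS) a rfl
    exact h1.symm
  obtain ⟨hi, hhi⟩ := hu.exists_left_inv
  obtain ⟨y, hy⟩ : ∃ y : Matrix (Fin n) (Fin n) K, y = hi * st q x := ⟨_, rfl⟩
  have hyx : y * x = 1 := by rw [hy, Matrix.mul_assoc, hx, hhi]
  have hxy : x * y = 1 := mul_eq_one_comm.mp hyx
  have hu1 : (c₀ * y) * (x * c₁) = 1 := by
    calc (c₀ * y) * (x * c₁) = c₀ * (y * x) * c₁ := by simp only [Matrix.mul_assoc]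
      _ = 1 := by rw [hyx, Matrix.mul_one, h01]
  have hu2 : (x * c₁) * (c₀ * y) = 1 := by
    calc (x * c₁) * (c₀ * y) = x * (c₁ * c₀) * y := by simp only [Matrix.mul_assoc]
      _ = 1 := by rw [h10, Matrix.mul_one, hxy]
  obtain ⟨u, huv, hui⟩ : ∃ u : GL (Fin n) K, u.1 = c₀ * y ∧ (u⁻¹).1 = x * c₁ :=
    ⟨⟨c₀ * y, x * c₁, hu1, hu2⟩, rfl, rfl⟩
  have huG : u ∈ GU n K q := by
    rw [mem_GU_iff_st hK, huv, st_mul hK]
    calc st q y * st q c₀ * (c₀ * y) = st q y * (st q c₀ * c₀) * y := by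
          simp only [Matrix.mul_assoc]
      _ = st q y * (st q x * x) * y := by rw [← hh, hx]
      _ = (st q y * st q x) * (x * y) := by simp only [Matrix.mul_assoc]
      _ = 1 := by rw [← st_mul hK, hxy, st_one hK, Matrix.one_mul]
  refine ⟨⟨u, huG⟩, ?_⟩
  apply Subtype.ext
  apply Units.ext
  show u.1 * (A.1).1 * (u⁻¹).1 = (B.1).1
  rw [huv, hui, ← ha, ← hb, hbe]
  calc c₀ * y * a * (x * c₁) = c₀ * (y * (a * x)) * c₁ := by simp only [Matrix.mul_assoc]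
    _ = c₀ * (y * (x * a)) * c₁ := by rw [hxa]
    _ = c₀ * ((y * x) * a) * c₁ := by simp only [Matrix.mul_assoc]
    _ = c₀ * a * c₁ := by rw [hyx, Matrix.one_mul]

end Cfsg.Agent.Lib.Helper24.GUConj
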