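import Mathlib
import Cfsg.Agent.Lib.Helper24.NormSurjC

set_option autoImplicit false
set_option linter.style.haveILetI false
set_option linter.unusedSimpArgs false
set_option linter.unusedSectionVars false

namespace Cfsg.Agent.Lib.Helper24.NormSurj

universe u

/-- Hilbert 90 in a finite commutative ring with involution (via the Herbrand quotient). -/
theorem hilbert90 {S : Type u} [CommRing S] [Finite S] (σ : S →+* S)
    (hσ : ∀ x, σ (σ x) = x) (ω : S) (hω : IsUnit (ω - σ ω)) (w : S) (hw : w * σ w = 1) :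
    ∃ z : S, IsUnit z ∧ z = w * σ z := by
  classical
  obtain ⟨σu, hσu'⟩ : ∃ σu : Sˣ →* Sˣ, ∀ y : Sˣ, ((σu y : Sˣ) : S) = σ y :=
    ⟨Units.map (σ : S →* S), fun y => rfl⟩
  have hσu : ∀ y : Sˣ, σu (σu y) = y := fun y => Units.ext (by rw [hσu', hσu', hσ])
  obtain ⟨N, hN⟩ : ∃ N : Sˣ →* Sˣ, ∀ x, N x = x * σu x :=
    ⟨{ toFun := fun x => x * σu x
       map_one' := by simp
       map_mul' := fun a b => by
        rw [map_mul]
        exact mul_mul_mul_comm a b (σu a) (σu b) }, fun x => rfl⟩
  obtain ⟨D, hD⟩ : ∃ D : Sˣ →* Sˣ, ∀ y, D y = y * (σu y)⁻¹ :=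
    ⟨{ toFun := fun y => y * (σu y)⁻¹
       map_one' := by simp
       map_mul' := fun a b => by
        rw [map_mul, mul_inv]
        exact mul_mul_mul_comm a b (σu a)⁻¹ (σu b)⁻¹ }, fun x => rfl⟩
  have h1 : D.range ≤ N.ker := by
    rintro _ ⟨y, rfl⟩
    rw [MonoidHom.mem_ker, hN, hD, map_mul, map_inv, hσu]
    rw [mul_assoc, inv_mul_cancel_left, mul_inv_cancel]
  have h2 : D.ker ≤ N.range := by
    intro x hx
    rw [MonoidHom.mem_ker, hD, mul_inv_eq_one] at hx
    have hx' : σ (x : S) = x := by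
      have h3 := congrArg Units.val hx
      rw [hσu'] at h3
      exact h3.symm
    obtain ⟨y, hy⟩ := norm_surj σ hσ ω hω (x : S) x.isUnit hx'
    have hyu : IsUnit y := IsUnit.of_mul_eq_one ((σ y) * ((x⁻¹ : Sˣ) : S)) (by
      rw [← mul_assoc, hy]
      exact x.mul_inv)
    refine ⟨hyu.unit, ?_⟩
    rw [hN]
    apply Units.ext
    rw [Units.val_mul, hσu']
    exact hy
  have c1 : Nat.card N.ker * Nat.card N.range = Nat.card Sˣ := by
    rw [← Subgroup.index_ker, Subgroup.card_mul_index]
  have c2 : Nat.card D.ker * Nat.card D.range = Nat.card Sˣ := by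
    rw [← Subgroup.index_ker, Subgroup.card_mul_index]
  have h3 : Nat.card D.ker ≤ Nat.card N.range := Subgroup.card_le_of_le h2
  have hpos : 0 < Nat.card D.range := Nat.card_pos
  have h4 : Nat.card N.ker ≤ Nat.card D.range := by
    by_contra hlt
    push Not at hlt
    have h5 : Nat.card D.ker * Nat.card D.range < Nat.card N.ker * Nat.card N.range := by
      calc Nat.card D.ker * Nat.card D.range ≤ Nat.card N.range * Nat.card D.range :=
            Nat.mul_le_mul_right _ h3
        _ < Nat.card N.range * Nat.card N.ker := by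
            apply Nat.mul_lt_mul_of_pos_left hlt
            exact Nat.card_pos
        _ = Nat.card N.ker * Nat.card N.range := mul_comm _ _
    rw [c1, c2] at h5
    exact lt_irrefl _ h5
  have h5 : D.range = N.ker := Subgroup.eq_of_le_of_card_ge h1 h4
  have hwu : IsUnit w := IsUnit.of_mul_eq_one _ hw
  have h6 : hwu.unit ∈ N.ker := by
    rw [MonoidHom.mem_ker, hN]
    apply Units.ext
    rw [Units.val_mul, hσu']
    exact hw
  rw [← h5] at h6
  obtain ⟨z, hz⟩ := h6
  refine ⟨z, z.isUnit, ?_⟩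
  rw [hD, mul_inv_eq_iff_eq_mul] at hz
  have h7 := congrArg Units.val hz
  rw [Units.val_mul, hσu'] at h7
  exact h7

end Cfsg.Agent.Lib.Helper24.NormSurj
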