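import Mathlib
import Cfsg.Prelude
import Cfsg.Agent.Lib.Helper24.GUConjB
import Cfsg.Agent.Lib.Helper24.NormSurjD

set_option autoImplicit false
set_option linter.style.haveILetI false
set_option linter.unusedSimpArgs false
set_option linter.unusedSectionVars false

namespace Cfsg.Agent.Lib.Helper24.GUConj

open Matrix Cfsg
open Cfsg.Agent.Lib.Helper27.Unitary
open Cfsg.Agent.Lib.Helper19.PSUGraph

variable {n : ℕ} {K : Type*} [Field K] [Fintype K] {q : ℕ}

/-- `st` on units -/
def stU (hK : Fintype.card K = q ^ 2) (u : GL (Fin n) K) : GL (Fin n) K :=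
  ⟨st q u.1, st q (u⁻¹).1,
    by rw [← st_mul hK, Units.inv_mul, st_one hK],
    by rw [← st_mul hK, Units.mul_inv, st_one hK]⟩

theorem stU_val (hK : Fintype.card K = q ^ 2) (u : GL (Fin n) K) : (stU hK u).1 = st q u.1 := rfl

theorem stU_mul (hK : Fintype.card K = q ^ 2) (u v : GL (Fin n) K) :
    stU hK (u * v) = stU hK v * stU hK u := by
  apply Units.ext
  rw [Units.val_mul, stU_val, stU_val, stU_val, Units.val_mul, st_mul hK]

theorem stU_stU (hK : Fintype.card K = q ^ 2) (u : GL (Fin n) K) : stU hK (stU hK u) = u := by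
  apply Units.ext
  rw [stU_val, stU_val, st_st hK]

theorem stU_one (hK : Fintype.card K = q ^ 2) : stU hK (1 : GL (Fin n) K) = 1 := by
  apply Units.ext
  rw [stU_val, Units.val_one, st_one hK]

theorem stU_inv (hK : Fintype.card K = q ^ 2) (u : GL (Fin n) K) :
    stU hK u⁻¹ = (stU hK u)⁻¹ := by
  rw [eq_inv_iff_mul_eq_one, ← stU_mul, mul_inv_cancel, stU_one]

theorem mem_GU_iff_stU (hK : Fintype.card K = q ^ 2) (g : GL (Fin n) K) :
    g ∈ GU n K q ↔ stU hK g * g = 1 := by
  rw [mem_GU_iff_st hK]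
  constructor
  · intro h
    apply Units.ext
    rw [Units.val_mul, stU_val, h, Units.val_one]
  · intro h
    have h1 := congrArg Units.val h
    rw [Units.val_mul, stU_val, Units.val_one] at h1
    exact h1

/-- a Hermitian unit is `st x * x` with `x` a unit -/
theorem exists_sqrtU (hK : Fintype.card K = q ^ 2) (X : GL (Fin n) K) (hX : stU hK X = X) :
    ∃ x : GL (Fin n) K, stU hK x * x = X := by
  have hfix : st q X.1 = X.1 := by
    have h1 := congrArg Units.val hX
    rwa [stU_val] at h1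
  obtain ⟨x, _, hx⟩ := exists_sqrt hK X.1 hfix X.isUnit
  have hyx : ((X⁻¹ : GL (Fin n) K).1 * st q x) * x = 1 := by
    rw [Matrix.mul_assoc, hx]
    exact X.inv_mul
  have hxy : x * ((X⁻¹ : GL (Fin n) K).1 * st q x) = 1 := mul_eq_one_comm.mp hyx
  refine ⟨⟨x, (X⁻¹ : GL (Fin n) K).1 * st q x, hxy, hyx⟩, ?_⟩
  apply Units.ext
  rw [Units.val_mul, stU_val]
  exact hx

end Cfsg.Agent.Lib.Helper24.GUConj
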