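import Mathlib
import Cfsg.Prelude
import Cfsg.Agent.Lib.Helper24.GUConjC

set_option autoImplicit false
set_option linter.style.haveILetI false
set_option linter.unusedSimpArgs false
set_option linter.unusedSectionVars false

namespace Cfsg.Agent.Lib.Helper24.GUConj

open Matrix Cfsg
open Cfsg.Agent.Lib.Helper27.Unitary
open Cfsg.Agent.Lib.Helper19.PSUGraph

variable {n : ℕ} {K : Type*} [Field K] [Fintype K] {q : ℕ}

theorem exists_hermitianU (hK : Fintype.card K = q ^ 2) (A c : GL (Fin n) K)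
    (hAc : stU hK A * c * A = c) :
    ∃ X : GL (Fin n) K, stU hK X = X ∧ stU hK A * X * A = X := by
  classical
  obtain ⟨w, hw⟩ : ∃ w : GL (Fin n) K, w = c⁻¹ * stU hK c := ⟨_, rfl⟩
  have hAc' : stU hK A * stU hK c * A = stU hK c := by
    have h1 := congrArg (stU hK) hAc
    rw [stU_mul, stU_mul, stU_stU, ← mul_assoc] at h1
    exact h1
  have e2 : A * c⁻¹ * stU hK A = c⁻¹ := by
    apply mul_right_cancel (b := c * A)
    rw [inv_mul_cancel_left]
    calc A * c⁻¹ * stU hK A * (c * A) = A * c⁻¹ * (stU hK A * c * A) := by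
          simp only [mul_assoc]
      _ = A := by rw [hAc, inv_mul_cancel_right]
  have e1 : stU hK c * A = (stU hK A)⁻¹ * stU hK c := by
    rw [eq_inv_mul_iff_mul_eq, ← mul_assoc]
    exact hAc'
  have hwA : w * A = A * w := by
    rw [hw]
    calc c⁻¹ * stU hK c * A = c⁻¹ * (stU hK c * A) := mul_assoc _ _ _
      _ = c⁻¹ * ((stU hK A)⁻¹ * stU hK c) := by rw [e1]
      _ = (A * c⁻¹ * stU hK A) * ((stU hK A)⁻¹ * stU hK c) := by rw [e2]
      _ = A * (c⁻¹ * stU hK c) := by simp only [mul_assoc, mul_inv_cancel_left]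
  have hwinv : w⁻¹ = stU hK c⁻¹ * c := by
    rw [hw, _root_.mul_inv_rev, inv_inv, stU_inv]
  have hιw : c⁻¹ * stU hK w * c = w⁻¹ := by
    rw [hwinv, hw, stU_mul, stU_stU, stU_inv]
    simp only [mul_assoc, inv_mul_cancel_left]
  -- values
  have hwv : w.1 = (c⁻¹).1 * st q c.1 := by rw [hw]; rfl
  have hwiv : (w⁻¹).1 = st q (c⁻¹).1 * c.1 := by rw [hwinv]; rfl
  have hιwv : (c⁻¹).1 * st q w.1 * c.1 = (w⁻¹).1 := by
    rw [← hιw]; rfl
  have hcc : (c⁻¹).1 * c.1 = 1 := c.inv_mul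
  have hcc' : c.1 * (c⁻¹).1 = 1 := c.mul_inv
  have hconjalg : ∀ r : K, (c⁻¹).1 * algebraMap K (Matrix (Fin n) (Fin n) K) r * c.1
      = algebraMap K (Matrix (Fin n) (Fin n) K) r := by
    intro r
    rw [← Algebra.commutes, Matrix.mul_assoc, hcc, mul_one]
  -- the commutative ring R = K[w]
  have hcomm : ∀ a ∈ ({w.1} : Set (Matrix (Fin n) (Fin n) K)),
      ∀ b ∈ ({w.1} : Set (Matrix (Fin n) (Fin n) K)), a * b = b * a := by
    intro a ha b hb
    rw [Set.mem_singleton_iff] at ha hb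
    rw [ha, hb]
  letI : CommRing ↥(Algebra.adjoin K ({w.1} : Set (Matrix (Fin n) (Fin n) K))) :=
    Algebra.adjoinCommRingOfComm K hcomm
  have hc2 : ∀ x y : ↥(Algebra.adjoin K ({w.1} : Set (Matrix (Fin n) (Fin n) K))),
      x.1 * y.1 = y.1 * x.1 := fun x y => congrArg Subtype.val (mul_comm x y)
  have hwR : w.1 ∈ Algebra.adjoin K ({w.1} : Set (Matrix (Fin n) (Fin n) K)) :=
    Algebra.subset_adjoin rfl
  -- w⁻¹ ∈ R
  have hwiR : (w⁻¹).1 ∈ Algebra.adjoin K ({w.1} : Set (Matrix (Fin n) (Fin n) K)) := by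
    have hinj : Function.Injective (fun s : ↥(Algebra.adjoin K
        ({w.1} : Set (Matrix (Fin n) (Fin n) K))) => (⟨w.1, hwR⟩ : ↥(Algebra.adjoin K
        ({w.1} : Set (Matrix (Fin n) (Fin n) K)))) * s) := by
      intro s s' hss
      have h1 : w.1 * s.1 = w.1 * s'.1 := congrArg Subtype.val hss
      exact Subtype.ext (w.isUnit.mul_left_cancel h1)
    obtain ⟨s, hs⟩ := (Finite.injective_iff_surjective.mp hinj) 1
    have h1 : w.1 * s.1 = 1 := congrArg Subtype.val hs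
    have h2 : s.1 = (w⁻¹).1 := by
      calc s.1 = ((w⁻¹).1 * w.1) * s.1 := by rw [w.inv_mul, one_mul]
        _ = (w⁻¹).1 * (w.1 * s.1) := Matrix.mul_assoc _ _ _
        _ = (w⁻¹).1 := by rw [h1, mul_one]
    rw [← h2]
    exact s.2
  -- closure of R under ι
  have hcl : ∀ z ∈ Algebra.adjoin K ({w.1} : Set (Matrix (Fin n) (Fin n) K)),
      (c⁻¹).1 * st q z * c.1 ∈ Algebra.adjoin K ({w.1} : Set (Matrix (Fin n) (Fin n) K)) := by
    intro z hz
    induction hz using Algebra.adjoin_induction with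
    | mem x hx =>
      rw [Set.mem_singleton_iff] at hx
      rw [hx, hιwv]
      exact hwiR
    | algebraMap r =>
      rw [st_algebraMap hK, hconjalg]
      exact Subalgebra.algebraMap_mem _ _
    | add x y _ _ hx hy =>
      rw [st_add hK, Matrix.mul_add, Matrix.add_mul]
      exact add_mem hx hy
    | mul x y _ _ hx hy =>
      have h1 : (c⁻¹).1 * st q (x * y) * c.1
          = ((c⁻¹).1 * st q y * c.1) * ((c⁻¹).1 * st q x * c.1) := by
        rw [st_mul hK]
        calc (c⁻¹).1 * (st q y * st q x) * c.1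
            = (c⁻¹).1 * st q y * 1 * st q x * c.1 := by
              simp only [Matrix.mul_assoc, Matrix.one_mul]
          _ = (c⁻¹).1 * st q y * (c.1 * (c⁻¹).1) * st q x * c.1 := by rw [hcc']
          _ = ((c⁻¹).1 * st q y * c.1) * ((c⁻¹).1 * st q x * c.1) := by
              simp only [Matrix.mul_assoc]
      rw [h1]
      exact mul_mem hy hx
  obtain ⟨σ, hσdef⟩ : ∃ σ : ↥(Algebra.adjoin K ({w.1} : Set (Matrix (Fin n) (Fin n) K))) →+*
      ↥(Algebra.adjoin K ({w.1} : Set (Matrix (Fin n) (Fin n) K))),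
      ∀ x, (σ x).1 = (c⁻¹).1 * st q x.1 * c.1 :=
    ⟨{ toFun := fun x => ⟨(c⁻¹).1 * st q x.1 * c.1, hcl x.1 x.2⟩
       map_one' := Subtype.ext (by
        show (c⁻¹).1 * st q (1 : Matrix (Fin n) (Fin n) K) * c.1 = 1
        rw [st_one hK, mul_one, hcc])
       map_mul' := fun a b => Subtype.ext (by
        show (c⁻¹).1 * st q (a.1 * b.1) * c.1
          = ((c⁻¹).1 * st q a.1 * c.1) * ((c⁻¹).1 * st q b.1 * c.1)
        have h1 : (c⁻¹).1 * st q (a.1 * b.1) * c.1
            = ((c⁻¹).1 * st q b.1 * c.1) * ((c⁻¹).1 * st q a.1 * c.1) := by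
          rw [st_mul hK]
          calc (c⁻¹).1 * (st q b.1 * st q a.1) * c.1
              = (c⁻¹).1 * st q b.1 * 1 * st q a.1 * c.1 := by
                simp only [Matrix.mul_assoc, Matrix.one_mul]
            _ = (c⁻¹).1 * st q b.1 * (c.1 * (c⁻¹).1) * st q a.1 * c.1 := by rw [hcc']
            _ = ((c⁻¹).1 * st q b.1 * c.1) * ((c⁻¹).1 * st q a.1 * c.1) := by
                simp only [Matrix.mul_assoc]
        rw [h1]
        exact hc2 ⟨_, hcl b.1 b.2⟩ ⟨_, hcl a.1 a.2⟩)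
       map_zero' := Subtype.ext (by
        show (c⁻¹).1 * st q (0 : Matrix (Fin n) (Fin n) K) * c.1 = 0
        rw [st_zero hK, mul_zero, zero_mul])
       map_add' := fun a b => Subtype.ext (by
        show (c⁻¹).1 * st q (a.1 + b.1) * c.1
          = (c⁻¹).1 * st q a.1 * c.1 + (c⁻¹).1 * st q b.1 * c.1
        rw [st_add hK, Matrix.mul_add, Matrix.add_mul]) }, fun x => rfl⟩
  have hσσ : ∀ x, σ (σ x) = x := by
    intro x
    apply Subtype.ext
    rw [hσdef, hσdef, st_mul hK, st_mul hK, st_st hK]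
    have hxw : x.1 * w.1 = w.1 * x.1 := hc2 x ⟨w.1, hwR⟩
    calc (c⁻¹).1 * (st q c.1 * (x.1 * st q (c⁻¹).1)) * c.1
        = ((c⁻¹).1 * st q c.1) * x.1 * (st q (c⁻¹).1 * c.1) := by
          simp only [Matrix.mul_assoc]
      _ = w.1 * x.1 * (w⁻¹).1 := by rw [← hwv, ← hwiv]
      _ = x.1 * (w.1 * (w⁻¹).1) := by rw [← hxw, Matrix.mul_assoc]
      _ = x.1 := by rw [w.mul_inv, mul_one]
  obtain ⟨ζ, hζ⟩ := exists_not_fixed hK
  have hζ0 : ζ - ζ ^ q ≠ 0 := sub_ne_zero.mpr (Ne.symm hζ)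
  obtain ⟨ω, hωdef⟩ : ∃ ω : ↥(Algebra.adjoin K ({w.1} : Set (Matrix (Fin n) (Fin n) K))),
      ω.1 = algebraMap K _ ζ := ⟨⟨algebraMap K _ ζ, Subalgebra.algebraMap_mem _ ζ⟩, rfl⟩
  have hω : IsUnit (ω - σ ω) := by
    apply IsUnit.of_mul_eq_one
      (⟨algebraMap K _ (ζ - ζ ^ q)⁻¹, Subalgebra.algebraMap_mem _ _⟩ :
        ↥(Algebra.adjoin K ({w.1} : Set (Matrix (Fin n) (Fin n) K))))
    apply Subtype.ext
    show (ω.1 - (σ ω).1) * algebraMap K (Matrix (Fin n) (Fin n) K) (ζ - ζ ^ q)⁻¹ = 1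
    rw [hσdef, hωdef, st_algebraMap hK, hconjalg,
      ← map_sub, ← map_mul, mul_inv_cancel₀ hζ0, map_one]
  obtain ⟨w', hw'def⟩ : ∃ w' : ↥(Algebra.adjoin K ({w.1} : Set (Matrix (Fin n) (Fin n) K))),
      w'.1 = w.1 := ⟨⟨w.1, hwR⟩, rfl⟩
  have hw' : w' * σ w' = 1 := by
    apply Subtype.ext
    show w'.1 * (σ w').1 = 1
    rw [hσdef, hw'def, hιwv]
    exact w.mul_inv
  obtain ⟨z, hzu, hz⟩ := Cfsg.Agent.Lib.Helper24.NormSurj.hilbert90 σ hσσ ω hω w' hw'
  -- z as a unit matrix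
  obtain ⟨z', hz'⟩ := hzu.exists_right_inv
  have hzz' : z.1 * z'.1 = 1 := congrArg Subtype.val hz'
  have hz'z : z'.1 * z.1 = 1 := by rw [← hc2 z z']; exact hzz'
  obtain ⟨zU, hzU⟩ : ∃ zU : GL (Fin n) K, zU.1 = z.1 := ⟨⟨z.1, z'.1, hzz', hz'z⟩, rfl⟩
  -- z = ι z * w
  have hz1 : z.1 = (c⁻¹).1 * st q z.1 * st q c.1 := by
    have h1 : z = σ z * w' := by rw [mul_comm]; exact hz
    have h2 : z.1 = (σ z).1 * w'.1 := congrArg Subtype.val h1
    have h3 : w'.1 = (c⁻¹).1 * st q c.1 := hw'def.trans hwv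
    rw [hσdef, h3] at h2
    calc z.1 = (c⁻¹).1 * st q z.1 * c.1 * ((c⁻¹).1 * st q c.1) := h2
      _ = (c⁻¹).1 * st q z.1 * (c.1 * (c⁻¹).1) * st q c.1 := by simp only [Matrix.mul_assoc]
      _ = (c⁻¹).1 * st q z.1 * st q c.1 := by rw [hcc', mul_one]
  -- z commutes with A
  have hzA : zU * A = A * zU := by
    apply Units.ext
    rw [Units.val_mul, Units.val_mul, hzU]
    have hle : Algebra.adjoin K ({w.1} : Set (Matrix (Fin n) (Fin n) K))
        ≤ Subalgebra.centralizer K {A.1} := by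
      apply Algebra.adjoin_le
      intro y hy
      rw [Set.mem_singleton_iff] at hy
      rw [hy, SetLike.mem_coe, Subalgebra.mem_centralizer_iff]
      intro x hx
      rw [Set.mem_singleton_iff] at hx
      rw [hx]
      have h1 := congrArg Units.val hwA
      rw [Units.val_mul, Units.val_mul] at h1
      exact h1.symm
    have h1 := (Subalgebra.mem_centralizer_iff K).mp (hle z.2) A.1 rfl
    exact h1.symm
  refine ⟨c * zU, ?_, ?_⟩
  · apply Units.ext
    rw [stU_val, Units.val_mul, hzU, st_mul hK]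
    calc st q z.1 * st q c.1 = (c.1 * (c⁻¹).1) * (st q z.1 * st q c.1) := by
          rw [hcc', one_mul]
      _ = c.1 * ((c⁻¹).1 * st q z.1 * st q c.1) := by simp only [Matrix.mul_assoc]
      _ = c.1 * z.1 := by rw [← hz1]
  · calc stU hK A * (c * zU) * A = stU hK A * c * (zU * A) := by simp only [mul_assoc]
      _ = (stU hK A * c * A) * zU := by rw [hzA]; simp only [mul_assoc]
      _ = c * zU := by rw [hAc]

end Cfsg.Agent.Lib.Helper24.GUConj
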