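import Mathlib
import Cfsg.Prelude
import Cfsg.Agent.Lib.Helper24.GUConjD

set_option autoImplicit false
set_option linter.style.haveILetI false
set_option linter.unusedSimpArgs false
set_option linter.unusedSectionVars false

namespace Cfsg.Agent.Lib.Helper24.GUConj

open Matrix Cfsg
open Cfsg.Agent.Lib.Helper27.Unitary
open Cfsg.Agent.Lib.Helper19.PSUGraph

variable {n : ℕ} {K : Type*} [Field K] [Fintype K] {q : ℕ}

theorem st_inv_val (hK : Fintype.card K = q ^ 2) (A : GL (Fin n) K) :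
    (st q A.1)⁻¹ = ((stU hK A)⁻¹ : GL (Fin n) K).1 := by
  apply Matrix.inv_eq_right_inv
  have h1 := congrArg Units.val (mul_inv_cancel (stU hK A))
  rw [Units.val_mul, stU_val, Units.val_one] at h1
  exact h1

/-- from a conjugating matrix to a unitary conjugate -/
theorem unitary_conj_of (hK : Fintype.card K = q ^ 2) (A c : GL (Fin n) K)
    (hAc : stU hK A * c * A = c) : ∃ B : ↥(GU n K q), IsConj A (B : GL (Fin n) K) := by
  obtain ⟨X, hX, hXA⟩ := exists_hermitianU hK A c hAc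
  obtain ⟨x, hx⟩ := exists_sqrtU hK X hX
  have hB : x * A * x⁻¹ ∈ GU n K q := by
    rw [mem_GU_iff_stU hK, stU_mul, stU_mul, stU_inv]
    calc (stU hK x)⁻¹ * (stU hK A * stU hK x) * (x * A * x⁻¹)
        = (stU hK x)⁻¹ * (stU hK A * (stU hK x * x) * A) * x⁻¹ := by simp only [mul_assoc]
      _ = (stU hK x)⁻¹ * (stU hK x * x) * x⁻¹ := by rw [hx, hXA]
      _ = 1 := by simp only [mul_assoc, inv_mul_cancel_left, mul_inv_cancel]
  refine ⟨⟨x * A * x⁻¹, hB⟩, ?_⟩
  rw [isConj_iff]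
  exact ⟨x, rfl⟩

theorem conj_of_unitary (hK : Fintype.card K = q ^ 2) (A : GL (Fin n) K) (B : ↥(GU n K q))
    (hAB : IsConj A (B : GL (Fin n) K)) :
    ∃ c : GL (Fin n) K, stU hK A * c * A = c := by
  rw [isConj_iff] at hAB
  obtain ⟨g, hg⟩ := hAB
  have hB := (mem_GU_iff_stU hK B.1).mp B.2
  rw [← hg, stU_mul, stU_mul, stU_inv] at hB
  refine ⟨stU hK g * g, ?_⟩
  have h1 : stU hK g * ((stU hK g)⁻¹ * (stU hK A * stU hK g) * (g * A * g⁻¹)) * g
      = stU hK g * 1 * g := by rw [hB]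
  rw [mul_one] at h1
  calc stU hK A * (stU hK g * g) * A
      = stU hK g * ((stU hK g)⁻¹ * (stU hK A * stU hK g) * (g * A * g⁻¹)) * g := by
        simp only [mul_assoc, mul_inv_cancel_left, inv_mul_cancel, mul_one]
    _ = stU hK g * g := h1

theorem main88 (hK : Fintype.card K = q ^ 2) (A : GL (Fin n) K) :
    (∃ B : ↥(GU n K q), IsConj A (B : GL (Fin n) K)) ↔
      IsConj (A : Matrix (Fin n) (Fin n) K)
        (((A : Matrix (Fin n) (Fin n) K).map (fun x : K => x ^ q)).transpose)⁻¹ := by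
  have hinv : (((A : Matrix (Fin n) (Fin n) K).map (fun x : K => x ^ q)).transpose)⁻¹
      = ((stU hK A)⁻¹ : GL (Fin n) K).1 := st_inv_val hK A
  rw [hinv]
  constructor
  · rintro ⟨B, hAB⟩
    obtain ⟨c, hc⟩ := conj_of_unitary hK A B hAB
    refine ⟨c, ?_⟩
    show c.1 * A.1 = ((stU hK A)⁻¹ : GL (Fin n) K).1 * c.1
    have h1 : c * A = (stU hK A)⁻¹ * c := by
      rw [eq_inv_mul_iff_mul_eq, ← mul_assoc]
      exact hc
    have h2 := congrArg Units.val h1
    rw [Units.val_mul, Units.val_mul] at h2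
    exact h2
  · rintro ⟨c, hc⟩
    have h1 : c.1 * A.1 = ((stU hK A)⁻¹ : GL (Fin n) K).1 * c.1 := hc
    apply unitary_conj_of hK A c
    have h2 : c * A = (stU hK A)⁻¹ * c := by
      apply Units.ext
      rw [Units.val_mul, Units.val_mul]
      exact h1
    rw [mul_assoc, h2, mul_inv_cancel_left]

end Cfsg.Agent.Lib.Helper24.GUConj
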