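import Mathlib

set_option autoImplicit false

namespace Cfsg.Agent.Lib.Helper24

section SylowTools
variable {G : Type*} [Group G] {p : ℕ} [Fact p.Prime]

omit [Fact p.Prime] in
/-- conjugation by `c` maps a Sylow subgroup `Q` into `c • Q` -/
theorem conj_mem_smul_sylow (Q : Sylow p G) (c y : G) (hy : y ∈ (Q : Subgroup G)) :
    c * y * c⁻¹ ∈ ((c • Q : Sylow p G) : Subgroup G) := by
  rw [Sylow.coe_subgroup_smul]
  have : c * y * c⁻¹ = MulAut.conj c • y := by simp [MulAut.smul_def]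
  rw [this]
  exact Subgroup.smul_mem_pointwise_smul _ _ _ hy

omit [Fact p.Prime] in
theorem mem_smul_sylow_iff (R : Sylow p G) (n x : G) :
    x ∈ ((n • R : Sylow p G) : Subgroup G) ↔ n⁻¹ * x * n ∈ (R : Subgroup G) := by
  rw [Sylow.coe_subgroup_smul, Subgroup.mem_pointwise_smul_iff_inv_smul_mem, MulAut.smul_def,
    MulAut.conj_inv_apply]

omit [Fact p.Prime] in
/-- A `p`-subgroup `T` of `G` contained in `K` and containing (the image of) a Sylow
`p`-subgroup of `K` is equal to it. -/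
theorem le_sylow_map_of_isPGroup (K : Subgroup G) (Q₀ : Sylow p K) (T : Subgroup G)
    (hT : IsPGroup p T) (hTK : T ≤ K) (hQT : (Q₀ : Subgroup K).map K.subtype ≤ T) :
    T ≤ (Q₀ : Subgroup K).map K.subtype := by
  have hp : IsPGroup p (T.subgroupOf K) := hT.comap_subtype
  have hle : (Q₀ : Subgroup K) ≤ T.subgroupOf K := by
    intro s hs
    rw [Subgroup.mem_subgroupOf]
    exact hQT ⟨s, hs, rfl⟩
  have heq := Q₀.is_maximal' hp hle
  intro g hg
  have : (⟨g, hTK hg⟩ : K) ∈ T.subgroupOf K := by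
    rw [Subgroup.mem_subgroupOf]; exact hg
  rw [heq] at this
  exact ⟨⟨g, hTK hg⟩, this, rfl⟩

/-- If every `p`-subgroup of `N_G(Q)` containing `Q` equals `Q`, then `Q` is a Sylow
`p`-subgroup of `G`. -/
theorem sylow_eq_of_normalizer_max [Finite G] (Q : Subgroup G)
    (hmax : ∀ T : Subgroup G, IsPGroup p T → Q ≤ T → T ≤ Subgroup.normalizer (Q : Set G) → T ≤ Q)
    (R : Sylow p G) (hQR : Q ≤ R) : (R : Subgroup G) = Q := by
  apply le_antisymm _ hQR
  by_contra hne
  have hQtop : Q.subgroupOf (R : Subgroup G) < ⊤ := by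
    rw [lt_top_iff_ne_top]
    intro h
    apply hne
    intro g hg
    have : (⟨g, hg⟩ : (R : Subgroup G)) ∈ Q.subgroupOf (R : Subgroup G) := by rw [h]; trivial
    exact this
  have hnil : Group.IsNilpotent (R : Subgroup G) := R.2.isNilpotent
  have hnc := Group.normalizerCondition_of_isNilpotent (G := (R : Subgroup G)) _ hQtop
  obtain ⟨g, hgN, hgQ⟩ := Set.exists_of_ssubset hnc
  apply hgQ
  -- T = R ⊓ N_G(Q)
  have hT := hmax ((R : Subgroup G) ⊓ Subgroup.normalizer (Q : Set G))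
    (R.2.to_le inf_le_left) (le_inf hQR Subgroup.le_normalizer) inf_le_right
  have hgoal : (g : G) ∈ Subgroup.normalizer (Q : Set G) := by
    rw [Subgroup.mem_normalizer_iff]
    intro h
    constructor
    · intro hh
      have hhR : h ∈ (R : Subgroup G) := hQR hh
      have := (Subgroup.mem_normalizer_iff.mp hgN ⟨h, hhR⟩).mp hh
      exact this
    · intro hh
      have hhR : h ∈ (R : Subgroup G) := by
        have h1 : (g : G) * h * (g : G)⁻¹ ∈ (R : Subgroup G) := hQR hh
        have h2 := (R : Subgroup G).mul_mem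
          ((R : Subgroup G).mul_mem ((R : Subgroup G).inv_mem g.2) h1) g.2
        have e : (g : G)⁻¹ * ((g : G) * h * (g : G)⁻¹) * (g : G) = h := by group
        rwa [e] at h2
      have := (Subgroup.mem_normalizer_iff.mp hgN ⟨h, hhR⟩).mpr hh
      exact this
  exact hT ⟨g.2, hgoal⟩

/-- A `p`-subgroup of `G` inside `H` is conjugate by an element of `H` into a given Sylow
`p`-subgroup of `H`. -/
theorem exists_conj_le_sylow_of_subgroup [Finite G] (H : Subgroup G) (P : Sylow p H)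
    (Y : Subgroup G) (hY : IsPGroup p Y) (hYH : Y ≤ H) :
    ∃ h ∈ H, ∀ y ∈ Y, h * y * h⁻¹ ∈ (P : Subgroup H).map H.subtype := by
  have hp : IsPGroup p (Y.subgroupOf H) := hY.comap_subtype
  obtain ⟨Q₁, hQ₁⟩ := hp.exists_le_sylow
  obtain ⟨h, hh⟩ := MulAction.exists_smul_eq H Q₁ P
  refine ⟨h, h.2, ?_⟩
  intro y hy
  have h1 : (⟨y, hYH hy⟩ : H) ∈ (Q₁ : Subgroup H) := hQ₁ (by rw [Subgroup.mem_subgroupOf]; exact hy)
  have h2 := conj_mem_smul_sylow Q₁ h _ h1
  rw [hh] at h2
  exact ⟨_, h2, rfl⟩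

end SylowTools

end Cfsg.Agent.Lib.Helper24
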