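import Mathlib

set_option autoImplicit false

namespace Cfsg.Agent.Lib.Helper24

section OddAct
variable {G : Type*} [Group G]

/-- iterated conjugation -/
theorem conj_pow_eq (g x : G) (k : ℕ) :
    g ^ k * x * (g ^ k)⁻¹ = (fun y => g * y * g⁻¹)^[k] x := by
  induction k generalizing x with
  | zero => simp
  | succ k ih =>
    rw [Function.iterate_succ_apply', ← ih, pow_succ']
    group

/-- An element of odd order which swaps `x` and `y` by conjugation has `x = y`. -/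
theorem eq_of_odd_swap {g x y : G} (hodd : Odd (orderOf g)) (h1 : g * x * g⁻¹ = y)
    (h2 : g * y * g⁻¹ = x) : x = y := by
  have key : ∀ i : ℕ, g ^ (2 * i) * x * (g ^ (2 * i))⁻¹ = x := by
    intro i
    induction i with
    | zero => simp
    | succ i ih =>
      have e : g ^ (2 * (i + 1)) * x * (g ^ (2 * (i + 1)))⁻¹ =
          g * (g * (g ^ (2 * i) * x * (g ^ (2 * i))⁻¹) * g⁻¹) * g⁻¹ := by
        rw [show 2 * (i + 1) = 2 * i + 1 + 1 by ring, pow_succ', pow_succ']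
        group
      rw [e, ih, h1, h2]
  obtain ⟨i, hi⟩ := hodd
  have h3 : g ^ (2 * i + 1) = 1 := by rw [← hi]; exact pow_orderOf_eq_one g
  have h4 : g ^ (2 * i + 1) * x * (g ^ (2 * i + 1))⁻¹ = y := by
    have e : g ^ (2 * i + 1) * x * (g ^ (2 * i + 1))⁻¹ =
        g * (g ^ (2 * i) * x * (g ^ (2 * i))⁻¹) * g⁻¹ := by
      rw [pow_succ']
      group
    rw [e, key i, h1]
  rw [h3] at h4
  simpa using h4

/-- If `g * x * g⁻¹ = x * c` with `g` commuting with `c`, then `g ^ k * x * g ^ (-k) = x * c ^ k`. -/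
theorem conj_pow_of_comm {g x c : G} (h1 : g * x * g⁻¹ = x * c) (h2 : g * c * g⁻¹ = c) (k : ℕ) :
    g ^ k * x * (g ^ k)⁻¹ = x * c ^ k := by
  induction k with
  | zero => simp
  | succ k ih =>
    have e : g ^ (k + 1) * x * (g ^ (k + 1))⁻¹ = g * (g ^ k * x * (g ^ k)⁻¹) * g⁻¹ := by
      rw [pow_succ']
      group
    have hck : g * c ^ k * g⁻¹ = c ^ k := by
      have : g * c ^ k * g⁻¹ = (g * c * g⁻¹) ^ k := by rw [conj_pow]
      rw [this, h2]
    rw [e, ih]
    calc g * (x * c ^ k) * g⁻¹ = (g * x * g⁻¹) * (g * c ^ k * g⁻¹) := by group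
      _ = x * c * c ^ k := by rw [h1, hck]
      _ = x * c ^ (k + 1) := by rw [pow_succ', mul_assoc]

/-- Stability: if `g` of odd order satisfies `g x g⁻¹ = x c` with `c` a `2`-element commuting
with `g`, then `c = 1`. -/
theorem eq_one_of_odd_stab {g x c : G} (hodd : Odd (orderOf g)) (h1 : g * x * g⁻¹ = x * c)
    (h2 : g * c * g⁻¹ = c) (hc : ∃ j : ℕ, c ^ (2 ^ j) = 1) : c = 1 := by
  have h3 := conj_pow_of_comm h1 h2 (orderOf g)
  rw [pow_orderOf_eq_one] at h3
  have h4 : c ^ orderOf g = 1 := by simpa using h3.symm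
  obtain ⟨j, hj⟩ := hc
  have hcop : Nat.Coprime (orderOf g) (2 ^ j) :=
    Nat.Coprime.pow_right j (Nat.Coprime.symm (Nat.coprime_two_left.2 hodd))
  have d1 : orderOf c ∣ orderOf g := orderOf_dvd_of_pow_eq_one h4
  have d2 : orderOf c ∣ 2 ^ j := orderOf_dvd_of_pow_eq_one hj
  have : orderOf c = 1 := Nat.eq_one_of_dvd_coprimes hcop d1 d2
  exact orderOf_eq_one_iff.1 this

/-- An odd-order element normalizing an abelian `2`-subgroup and commuting with all its
involutions centralizes it. -/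
theorem odd_centralizes_abelian_two_group {g : G} (hodd : Odd (orderOf g)) (Q : Subgroup G)
    (hQ : IsPGroup 2 Q) (hab : ∀ x ∈ Q, ∀ y ∈ Q, x * y = y * x)
    (hnorm : ∀ x ∈ Q, g * x * g⁻¹ ∈ Q)
    (hinv : ∀ x ∈ Q, orderOf x = 2 → g * x * g⁻¹ = x) :
    ∀ x ∈ Q, g * x * g⁻¹ = x := by
  have key : ∀ j : ℕ, ∀ x ∈ Q, x ^ (2 ^ j) = 1 → g * x * g⁻¹ = x := by
    intro j
    induction j with
    | zero =>
      intro x _ hx
      simp only [pow_zero, pow_one] at hx
      rw [hx]; group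
    | succ j ih =>
      intro x hxQ hx
      have hx2 : (x ^ 2) ^ (2 ^ j) = 1 := by rw [← pow_mul, ← pow_succ']; exact hx
      have h2 : g * x ^ 2 * g⁻¹ = x ^ 2 := ih _ (Q.pow_mem hxQ 2) hx2
      obtain ⟨x', hx'⟩ : ∃ x', x' = g * x * g⁻¹ := ⟨_, rfl⟩
      have hx'Q : x' ∈ Q := by rw [hx']; exact hnorm x hxQ
      obtain ⟨w, hw⟩ : ∃ w, w = x⁻¹ * x' := ⟨_, rfl⟩
      have hwQ : w ∈ Q := by rw [hw]; exact Q.mul_mem (Q.inv_mem hxQ) hx'Q
      have hcomm : x' * x⁻¹ = x⁻¹ * x' := hab _ hx'Q _ (Q.inv_mem hxQ)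
      have hx'2 : x' ^ 2 = x ^ 2 := by
        rw [hx', conj_pow, h2]
      have hw2 : w ^ 2 = 1 := by
        have : w ^ 2 = x⁻¹ * x' * (x⁻¹ * x') := by rw [hw, pow_two]
        rw [this]
        calc x⁻¹ * x' * (x⁻¹ * x') = x⁻¹ * (x' * x⁻¹) * x' := by group
          _ = x⁻¹ * (x⁻¹ * x') * x' := by rw [hcomm]
          _ = (x ^ 2)⁻¹ * x' ^ 2 := by rw [pow_two, pow_two]; group
          _ = 1 := by rw [hx'2]; group
      have hgw : g * w * g⁻¹ = w := by
        by_cases hw1 : w = 1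
        · rw [hw1]; group
        · apply hinv w hwQ
          exact orderOf_eq_prime hw2 hw1
      have hxw : g * x * g⁻¹ = x * w := by rw [hw, ← hx']; group
      have hw1 : w = 1 := eq_one_of_odd_stab hodd hxw hgw ⟨1, by simpa using hw2⟩
      rw [hxw, hw1, mul_one]
  intro x hxQ
  obtain ⟨j, hj⟩ := (IsPGroup.iff_orderOf.1 hQ) ⟨x, hxQ⟩
  have hxj : x ^ (2 ^ j) = 1 := by
    have : orderOf x = 2 ^ j := by rw [← hj]; exact (Subgroup.orderOf_mk x hxQ).symm
    rw [← this]; exact pow_orderOf_eq_one x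
  exact key j x hxQ hxj

end OddAct

end Cfsg.Agent.Lib.Helper24
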