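import Mathlib
import Cfsg.Agent.Lib.Helper24.OddAct

set_option autoImplicit false

namespace Cfsg.Agent.Lib.Helper24

section OmegaTwo
variable {G : Type*} [Group G]

/-- conjugation-invariance passes to the generated subgroup -/
theorem conj_mem_closure {T : Set G} {h : G} (hT : ∀ t ∈ T, h * t * h⁻¹ ∈ T) :
    ∀ y ∈ Subgroup.closure T, h * y * h⁻¹ ∈ Subgroup.closure T := by
  intro y hy
  induction hy using Subgroup.closure_induction with
  | mem t ht => exact Subgroup.subset_closure (hT t ht)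
  | one => simp
  | mul a b _ _ ha hb =>
    have : h * (a * b) * h⁻¹ = (h * a * h⁻¹) * (h * b * h⁻¹) := by group
    rw [this]; exact mul_mem ha hb
  | inv a _ ha =>
    have : h * a⁻¹ * h⁻¹ = (h * a * h⁻¹)⁻¹ := by group
    rw [this]; exact inv_mem ha

/-- Stability with a coprimality hypothesis: if `g x g⁻¹ = x c`, `g` commutes with `c` and the
orders of `g` and `c` are coprime, then `c = 1`. -/
theorem eq_one_of_coprime_stab {g x c : G} (h1 : g * x * g⁻¹ = x * c)
    (h2 : g * c * g⁻¹ = c)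
    (hcop : Nat.Coprime (orderOf g) (orderOf c)) : c = 1 := by
  have h3 := conj_pow_of_comm h1 h2 (orderOf g)
  rw [pow_orderOf_eq_one] at h3
  have h4 : c ^ orderOf g = 1 := by simpa using h3.symm
  have d1 : orderOf c ∣ orderOf g := orderOf_dvd_of_pow_eq_one h4
  have : orderOf c = 1 := Nat.eq_one_of_dvd_coprimes hcop d1 dvd_rfl
  exact orderOf_eq_one_iff.1 this

/-- the subgroup generated by the squares of a nontrivial finite `2`-subgroup is smaller -/
theorem card_closure_sq_lt [Finite G] (D : Subgroup G) (hD : IsPGroup 2 D) (hne : D ≠ ⊥) :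
    Nat.card (Subgroup.closure {y : G | ∃ x ∈ D, y = x ^ 2}) < Nat.card D := by
  haveI : Fact (Nat.Prime 2) := ⟨Nat.prime_two⟩
  obtain ⟨m, hm⟩ := hD.exists_card_eq
  have hm0 : m ≠ 0 := by
    rintro rfl
    rw [pow_zero] at hm
    exact hne (Subgroup.card_eq_one.1 hm)
  obtain ⟨m', rfl⟩ := Nat.exists_eq_succ_of_ne_zero hm0
  obtain ⟨K, hK⟩ := Sylow.exists_subgroup_card_pow_prime (G := D) 2 (n := m')
    (by rw [hm]; exact pow_dvd_pow 2 (Nat.le_succ m'))
  have hidx : K.index = 2 := by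
    have := Subgroup.card_mul_index K
    rw [hK, hm, pow_succ] at this
    exact Nat.eq_of_mul_eq_mul_left (by positivity) this
  have hle : Subgroup.closure {y : G | ∃ x ∈ D, y = x ^ 2} ≤ K.map D.subtype := by
    rw [Subgroup.closure_le]
    rintro y ⟨x, hx, rfl⟩
    have := Subgroup.sq_mem_of_index_two hidx (⟨x, hx⟩ : D)
    exact ⟨_, this, rfl⟩
  have hcard : Nat.card (K.map D.subtype) = 2 ^ m' := by
    rw [← hK]
    exact Nat.card_congr (K.equivMapOfInjective D.subtype D.subtype_injective).symm.toEquiv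
  calc Nat.card (Subgroup.closure {y : G | ∃ x ∈ D, y = x ^ 2})
      ≤ Nat.card (K.map D.subtype) := Subgroup.card_le_of_le hle
    _ = 2 ^ m' := hcard
    _ < 2 ^ (m' + 1) := Nat.pow_lt_pow_right (by norm_num) (Nat.lt_succ_self m')
    _ = Nat.card D := hm.symm

/-- An odd-order element normalizing a finite `2`-subgroup `D` and commuting with every
`x ∈ D` with `x ^ 4 = 1` centralizes `D`. -/
theorem odd_centralizes_of_omega_two [Finite G] {g : G} (hodd : Odd (orderOf g)) :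
    ∀ (n : ℕ) (D : Subgroup G), Nat.card D = n → IsPGroup 2 D →
      (∀ x ∈ D, g * x * g⁻¹ ∈ D) → (∀ x ∈ D, x ^ 4 = 1 → g * x * g⁻¹ = x) →
      ∀ x ∈ D, g * x * g⁻¹ = x := by
  intro n
  induction n using Nat.strong_induction_on with
  | _ n ih =>
    intro D hn hD hnorm hfix
    by_cases hne : D = ⊥
    · intro x hx
      rw [hne, Subgroup.mem_bot] at hx
      rw [hx]; group
    -- two-power orders in `D`
    have hord : ∀ x ∈ D, ∃ j : ℕ, x ^ (2 ^ j) = 1 := by
      intro x hx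
      obtain ⟨j, hj⟩ := (IsPGroup.iff_orderOf.1 hD) ⟨x, hx⟩
      refine ⟨j, ?_⟩
      have : orderOf x = 2 ^ j := by rw [← hj]; exact (Subgroup.orderOf_mk x hx).symm
      rw [← this]; exact pow_orderOf_eq_one x
    set T : Set G := {y : G | ∃ x ∈ D, y = x ^ 2} with hT
    set E : Subgroup G := Subgroup.closure T with hE
    have hED : E ≤ D := by
      rw [hE, Subgroup.closure_le]
      rintro y ⟨x, hx, rfl⟩
      exact D.pow_mem hx 2
    have hEcard : Nat.card E < n := by rw [← hn]; exact card_closure_sq_lt D hD hne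
    have hTg : ∀ t ∈ T, g * t * g⁻¹ ∈ T := by
      rintro t ⟨x, hx, rfl⟩
      exact ⟨g * x * g⁻¹, hnorm x hx, by rw [conj_pow]⟩
    have hEg : ∀ y ∈ E, g * y * g⁻¹ ∈ E := conj_mem_closure hTg
    have hED' : ∀ d ∈ D, ∀ y ∈ E, d * y * d⁻¹ ∈ E := by
      intro d hd
      apply conj_mem_closure
      rintro t ⟨x, hx, rfl⟩
      exact ⟨d * x * d⁻¹, D.mul_mem (D.mul_mem hd hx) (D.inv_mem hd), by rw [conj_pow]⟩
    -- `g` centralizes `E`
    have hEfix : ∀ y ∈ E, g * y * g⁻¹ = y :=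
      ih _ hEcard E rfl (hD.to_le hED) hEg (fun x hx hx4 => hfix x (hED hx) hx4)
    -- `c(x)` commutes with `E`
    have hc_comm : ∀ x ∈ D, ∀ e ∈ E, (x⁻¹ * (g * x * g⁻¹)) * e = e * (x⁻¹ * (g * x * g⁻¹)) := by
      intro x hx e he
      have h1 : g⁻¹ * e * g = e := by
        have := hEfix e he
        calc g⁻¹ * e * g = g⁻¹ * (g * e * g⁻¹) * g := by rw [this]
          _ = e := by group
      have h2 : g * (x * e * x⁻¹) * g⁻¹ = x * e * x⁻¹ := hEfix _ (hED' x hx e he)
      have h3 : (g * x * g⁻¹) * e * (g * x * g⁻¹)⁻¹ = x * e * x⁻¹ := by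
        calc (g * x * g⁻¹) * e * (g * x * g⁻¹)⁻¹ = g * (x * (g⁻¹ * e * g) * x⁻¹) * g⁻¹ := by group
          _ = g * (x * e * x⁻¹) * g⁻¹ := by rw [h1]
          _ = x * e * x⁻¹ := h2
      calc (x⁻¹ * (g * x * g⁻¹)) * e
          = x⁻¹ * ((g * x * g⁻¹) * e * (g * x * g⁻¹)⁻¹) * (g * x * g⁻¹) := by group
        _ = x⁻¹ * (x * e * x⁻¹) * (g * x * g⁻¹) := by rw [h3]
        _ = e * (x⁻¹ * (g * x * g⁻¹)) := by group
    set L : Subgroup G := D ⊓ Subgroup.centralizer (E : Set G) with hL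
    have hLmem : ∀ y, y ∈ L ↔ y ∈ D ∧ ∀ e ∈ E, y * e = e * y := by
      intro y
      rw [hL, Subgroup.mem_inf, Subgroup.mem_centralizer_iff]
      constructor
      · rintro ⟨h1, h2⟩
        exact ⟨h1, fun e he => (h2 e he).symm⟩
      · rintro ⟨h1, h2⟩
        exact ⟨h1, fun e he => (h2 e he).symm⟩
    have hLg : ∀ y ∈ L, g * y * g⁻¹ ∈ L := by
      intro y hy
      obtain ⟨hyD, hyE⟩ := (hLmem y).1 hy
      refine (hLmem _).2 ⟨hnorm y hyD, fun e he => ?_⟩
      have h1 : g⁻¹ * e * g = e := by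
        have := hEfix e he
        calc g⁻¹ * e * g = g⁻¹ * (g * e * g⁻¹) * g := by rw [this]
          _ = e := by group
      calc g * y * g⁻¹ * e = g * (y * (g⁻¹ * e * g)) * g⁻¹ := by group
        _ = g * (y * e) * g⁻¹ := by rw [h1]
        _ = g * (e * y) * g⁻¹ := by rw [hyE e he]
        _ = (g * e * g⁻¹) * (g * y * g⁻¹) := by group
        _ = e * (g * y * g⁻¹) := by rw [hEfix e he]
    have hcL : ∀ x ∈ D, x⁻¹ * (g * x * g⁻¹) ∈ L := fun x hx =>
      (hLmem _).2 ⟨D.mul_mem (D.inv_mem hx) (hnorm x hx), hc_comm x hx⟩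
    have hLD : L ≤ D := inf_le_left
    by_cases hLeq : L = D
    · -- squares are central in `D`
      intro x hx
      obtain ⟨x', hx'⟩ : ∃ x', x' = g * x * g⁻¹ := ⟨_, rfl⟩
      have hx'D : x' ∈ D := by rw [hx']; exact hnorm x hx
      have hsq : x' * x' = x * x := by
        have h1 : g * x ^ 2 * g⁻¹ = x ^ 2 :=
          hEfix _ (Subgroup.subset_closure ⟨x, hx, rfl⟩)
        have : x' ^ 2 = x ^ 2 := by rw [hx', conj_pow, h1]
        rwa [pow_two, pow_two] at this
      obtain ⟨u, hu⟩ : ∃ u, u = x⁻¹ * x' := ⟨_, rfl⟩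
      have huD : u ∈ D := by rw [hu]; exact D.mul_mem (D.inv_mem hx) hx'D
      have hinv : x * u * x⁻¹ = u⁻¹ := by
        rw [hu]
        have e1 : x * (x⁻¹ * x') * x⁻¹ = x' * x⁻¹ := by group
        have e2 : (x⁻¹ * x')⁻¹ = x'⁻¹ * x := by group
        rw [e1, e2]
        calc x' * x⁻¹ = x'⁻¹ * (x' * x') * x⁻¹ := by group
          _ = x'⁻¹ * (x * x) * x⁻¹ := by rw [hsq]
          _ = x'⁻¹ * x := by group
      -- `x` commutes with `u ^ 2`
      have hu2E : u ^ 2 ∈ E := Subgroup.subset_closure ⟨u, huD, rfl⟩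
      have hxL : x ∈ L := by rw [hLeq]; exact hx
      have hcomm : x * u ^ 2 = u ^ 2 * x := ((hLmem x).1 hxL).2 _ hu2E
      have hu4 : u ^ 4 = 1 := by
        have h1 : x * u ^ 2 * x⁻¹ = (u ^ 2)⁻¹ := by
          rw [← conj_pow, hinv, inv_pow]
        have h2 : x * u ^ 2 * x⁻¹ = u ^ 2 := by rw [hcomm]; group
        have h3 : u ^ 2 = (u ^ 2)⁻¹ := h2.symm.trans h1
        calc u ^ 4 = u ^ 2 * u ^ 2 := by rw [← pow_add]
          _ = u ^ 2 * (u ^ 2)⁻¹ := by rw [← h3]
          _ = 1 := mul_inv_cancel _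
      have hgu : g * u * g⁻¹ = u := hfix u huD hu4
      have hxu : g * x * g⁻¹ = x * u := by rw [hu, ← hx']; group
      have hu1 : u = 1 := eq_one_of_odd_stab hodd hxu hgu (hord u huD)
      rw [hxu, hu1, mul_one]
    · -- `L < D`: induction
      have hLcard : Nat.card L < n := by
        rw [← hn]
        apply lt_of_le_of_ne (Subgroup.card_le_of_le hLD)
        intro hcard
        exact hLeq (Subgroup.eq_of_le_of_card_ge hLD hcard.ge)
      have hLfix : ∀ y ∈ L, g * y * g⁻¹ = y :=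
        ih _ hLcard L rfl (hD.to_le hLD) hLg (fun x hx hx4 => hfix x (hLD hx) hx4)
      intro x hx
      have hcl := hcL x hx
      have hgc := hLfix _ hcl
      have hxu : g * x * g⁻¹ = x * (x⁻¹ * (g * x * g⁻¹)) := by group
      have hu1 := eq_one_of_odd_stab hodd hxu hgc (hord _ (hLD hcl))
      rw [hxu, hu1, mul_one]

end OmegaTwo

end Cfsg.Agent.Lib.Helper24
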