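import Mathlib
import Cfsg.Agent.Lib.Helper24.OmegaTwo
import Cfsg.Agent.Lib.Helper1.OmegaOne

set_option autoImplicit false

namespace Cfsg.Agent.Lib.Helper24

section OmegaAll
variable {G : Type*} [Group G]

/-- iterated conjugation stays in an invariant subgroup -/
theorem conj_pow_mem {g : G} (D : Subgroup G) (hnorm : ∀ x ∈ D, g * x * g⁻¹ ∈ D) (k : ℕ) :
    ∀ x ∈ D, g ^ k * x * (g ^ k)⁻¹ ∈ D := by
  induction k with
  | zero => intro x hx; simpa using hx
  | succ k ih =>
    intro x hx
    have e : g ^ (k + 1) * x * (g ^ (k + 1))⁻¹ = g * (g ^ k * x * (g ^ k)⁻¹) * g⁻¹ := by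
      rw [pow_succ']; group
    rw [e]
    exact hnorm _ (ih x hx)

/-- an element of finite order mapping `D` into itself by conjugation normalizes `D` -/
theorem mem_normalizer_of_conj_mem [Finite G] {g : G} (D : Subgroup G)
    (hnorm : ∀ x ∈ D, g * x * g⁻¹ ∈ D) : g ∈ Subgroup.normalizer (D : Set G) := by
  rw [Subgroup.mem_normalizer_iff]
  intro x
  refine ⟨hnorm x, fun hx => ?_⟩
  have hpos : 0 < orderOf g := orderOf_pos g
  have h1 := conj_pow_mem D hnorm (orderOf g - 1) _ hx
  have hginv : g ^ (orderOf g - 1) = g⁻¹ := by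
    have : g ^ (orderOf g - 1) * g = 1 := by
      rw [← pow_succ, Nat.sub_add_cancel hpos, pow_orderOf_eq_one]
    exact eq_inv_of_mul_eq_one_left this
  rw [hginv] at h1
  have e : g⁻¹ * (g * x * g⁻¹) * g⁻¹⁻¹ = x := by group
  rwa [e] at h1

/-- **Omega lemma**, all primes: a `p'`-element normalizing a finite `p`-subgroup `D` and
fixing every `x ∈ D` with `x ^ p = 1` (or `x ^ 4 = 1` when `p = 2`) centralizes `D`. -/
theorem coprime_centralizes_of_omega [Finite G] {p : ℕ} [Fact p.Prime] {g : G}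
    (hcop : Nat.Coprime (orderOf g) p) (D : Subgroup G) (hD : IsPGroup p D)
    (hnorm : ∀ x ∈ D, g * x * g⁻¹ ∈ D)
    (hsmall : ∀ x ∈ D, (x ^ p = 1 ∨ (p = 2 ∧ x ^ 4 = 1)) → g * x * g⁻¹ = x) :
    ∀ x ∈ D, g * x * g⁻¹ = x := by
  by_cases hp2 : p = 2
  · subst hp2
    have hodd : Odd (orderOf g) := Nat.coprime_two_right.1 hcop
    exact odd_centralizes_of_omega_two hodd _ D rfl hD hnorm
      (fun x hx hx4 => hsmall x hx (Or.inr ⟨rfl, hx4⟩))
  · have hg : g ∈ Subgroup.normalizer (D : Set G) := mem_normalizer_of_conj_mem D hnorm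
    have hAcop : (Nat.card (Subgroup.zpowers g)).Coprime p := by
      rw [Nat.card_zpowers]; exact hcop
    have hAN : Subgroup.zpowers g ≤ Subgroup.normalizer (D : Set G) := by
      rw [Subgroup.zpowers_le]; exact hg
    have hAfix : ∀ x ∈ D, x ^ p = 1 →
        Subgroup.zpowers g ≤ Subgroup.centralizer ({x} : Set G) := by
      intro x hx hxp
      rw [Subgroup.zpowers_le, Subgroup.mem_centralizer_iff]
      intro y hy
      rw [Set.mem_singleton_iff] at hy
      rw [hy]
      have := hsmall x hx (Or.inl hxp)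
      calc x * g = (g * x * g⁻¹) * g := by rw [this]
        _ = g * x := by group
    have hres := Cfsg.Agent.Lib.Helper1.centralizes_of_centralizes_omega_one p hp2
      (Subgroup.zpowers g) hAcop _ D rfl hD hAN hAfix
    have hgC : g ∈ Subgroup.centralizer (D : Set G) := hres (Subgroup.mem_zpowers g)
    intro x hx
    have := Subgroup.mem_centralizer_iff.1 hgC x hx
    rw [← this]; group

end OmegaAll

end Cfsg.Agent.Lib.Helper24
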