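import Mathlib
import Cfsg.Agent.Lib.Helper24.OmegaAll

set_option autoImplicit false

namespace Cfsg.Agent.Lib.Helper24

open Subgroup MulAction

section ExtOne

variable {G : Type*} [Group G] {H : Subgroup G} {A : Type*} [CommGroup A]

/-- Extension of a hom on `H` to a function on `G` by the value `1` outside `H`. -/
noncomputable def extOne (φ : H →* A) (g : G) : A :=
  open Classical in if h : g ∈ H then φ ⟨g, h⟩ else 1

theorem extOne_of_mem (φ : H →* A) {g : G} (h : g ∈ H) : extOne φ g = φ ⟨g, h⟩ := by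
  unfold extOne; rw [dif_pos h]

theorem extOne_mul (φ : H →* A) {a b : G} (ha : a ∈ H) (hb : b ∈ H) :
    extOne φ (a * b) = extOne φ a * extOne φ b := by
  rw [extOne_of_mem φ ha, extOne_of_mem φ hb, extOne_of_mem φ (mul_mem ha hb), ← map_mul]; rfl

theorem extOne_one (φ : H →* A) : extOne φ 1 = 1 := by
  rw [extOne_of_mem φ (one_mem H)]; exact map_one φ

theorem extOne_pow (φ : H →* A) {a : G} (ha : a ∈ H) (n : ℕ) :
    extOne φ (a ^ n) = extOne φ a ^ n := by
  induction n with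
  | zero => simp [extOne_one]
  | succ n ih => rw [pow_succ, extOne_mul φ (pow_mem ha n) ha, ih, pow_succ]

theorem extOne_conj (φ : H →* A) {a b : G} (ha : a ∈ H) (hb : b ∈ H) :
    extOne φ (b⁻¹ * a * b) = extOne φ a := by
  rw [extOne_mul φ (mul_mem (inv_mem hb) ha) hb, extOne_mul φ (inv_mem hb) ha]
  have h1 : extOne φ b⁻¹ * extOne φ b = 1 := by
    rw [← extOne_mul φ (inv_mem hb) hb, inv_mul_cancel, extOne_one]
  rw [mul_comm (extOne φ b⁻¹), mul_assoc, h1, mul_one]

end ExtOne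


section Partition

theorem prod_eq_pow_card_of_fiberwise {ι κ M : Type*} [CommMonoid M] [DecidableEq κ]
    (s : Finset ι) (g : ι → κ) (f : ι → M) (c : M)
    (h : ∀ j, ∏ i ∈ s with g i = j, f i = c ^ (s.filter (fun i => g i = j)).card) :
    ∏ i ∈ s, f i = c ^ s.card := by
  classical
  rw [← Finset.prod_fiberwise_of_maps_to (t := s.image g) (fun i hi => Finset.mem_image_of_mem g hi) f,
    Finset.card_eq_sum_card_image g s, ← Finset.prod_pow_eq_pow_sum]
  exact Finset.prod_congr rfl (fun j _ => h j)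

end Partition

section Core

variable {G : Type*} [Group G]

theorem smul_coset_eq_iff (N : Subgroup G) (y g : G) :
    y • (g : G ⧸ N) = (g : G ⧸ N) ↔ g⁻¹ * y * g ∈ N := by
  rw [MulAction.Quotient.smul_mk, QuotientGroup.eq, smul_eq_mul, mul_inv_rev]
  rw [← N.inv_mem_iff]
  have : (g⁻¹ * y⁻¹ * g)⁻¹ = g⁻¹ * y * g := by group
  rw [this]

end Core

theorem card_fixed_in_orbit_modEq {G : Type*} [Group G] {p : ℕ} [Fact p.Prime]
    (H : Subgroup G) (hH : IsPGroup p H) {X : Type*} [MulAction G X] [Finite X]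
    (u : G) (hu : u ∈ H) (x₀ : X) :
    Nat.card {x : X // u • x = x ∧ x ∈ MulAction.orbit H x₀} ≡
      Nat.card (MulAction.orbit H x₀) [MOD p] := by
  set Z : Subgroup H := Subgroup.zpowers (⟨u, hu⟩ : H) with hZdef
  have hZ : IsPGroup p Z := hH.to_subgroup Z
  have hmod := hZ.card_modEq_card_fixedPoints (MulAction.orbit H x₀)
  have hfix : ∀ (i : ℤ) (x : X), u • x = x → ((⟨u, hu⟩ : H) ^ i) • x = x := by
    intro i x hx
    have hmem : (⟨u, hu⟩ : H) ∈ MulAction.stabilizer H x := by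
      rw [MulAction.mem_stabilizer_iff]; exact hx
    exact MulAction.mem_stabilizer_iff.mp (zpow_mem hmem i)
  let e : MulAction.fixedPoints Z (MulAction.orbit H x₀) ≃
      {x : X // u • x = x ∧ x ∈ MulAction.orbit H x₀} :=
  { toFun := fun y => ⟨y.1.1, by
        have h := y.2 ⟨⟨u, hu⟩, Subgroup.mem_zpowers _⟩
        have h' := congrArg Subtype.val h
        exact h', y.1.2⟩
    invFun := fun x => ⟨⟨x.1, x.2.2⟩, by
        rintro ⟨z, hz⟩
        obtain ⟨i, rfl⟩ := Subgroup.mem_zpowers_iff.mp hz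
        apply Subtype.ext
        exact hfix i x.1 x.2.1⟩
    left_inv := fun y => Subtype.ext (Subtype.ext rfl)
    right_inv := fun x => Subtype.ext rfl }
  rw [Nat.card_congr e.symm]
  exact hmod.symm

theorem inv_conj_pow {G : Type*} [Group G] (k u : G) (m : ℕ) :
    (k⁻¹ * u * k) ^ m = k⁻¹ * u ^ m * k := by
  have := conj_pow (a := k⁻¹) (b := u) (i := m)
  simpa using this

section Core2

variable {G : Type*} [Group G] {H : Subgroup G} {A : Type*} [CommGroup A] (φ : H →* A)

theorem extOne_conj_smul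
    (h2 : ∀ a ∈ ⁅H, H⁆, ∀ z : G, z⁻¹ * a * z ∈ H → extOne φ (z⁻¹ * a * z) = 1)
    {u k y : G} (hu : u ∈ H) (hy : y ∈ H) (hk : k⁻¹ * u * k ∈ H)
    (hyk : (y * k)⁻¹ * u * (y * k) ∈ H) :
    extOne φ ((y * k)⁻¹ * u * (y * k)) = extOne φ (k⁻¹ * u * k) := by
  have ha : y⁻¹ * u * y * u⁻¹ ∈ ⁅H, H⁆ := by
    have := Subgroup.commutator_mem_commutator (inv_mem hy) hu
    rwa [commutatorElement_def, inv_inv] at this
  have e : (y * k)⁻¹ * u * (y * k) = (k⁻¹ * (y⁻¹ * u * y * u⁻¹) * k) * (k⁻¹ * u * k) := by group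
  have hmem : k⁻¹ * (y⁻¹ * u * y * u⁻¹) * k ∈ H := by
    have e2 : k⁻¹ * (y⁻¹ * u * y * u⁻¹) * k = ((y * k)⁻¹ * u * (y * k)) * (k⁻¹ * u * k)⁻¹ := by
      group
    rw [e2]; exact mul_mem hyk (inv_mem hk)
  rw [e, extOne_mul φ hmem hk, h2 _ ha k hmem, one_mul]

end Core2

section Core3

variable {G : Type*} [Group G] [Finite G] {p : ℕ} [Fact p.Prime] (P : Sylow p G)
  {A : Type*} [CommGroup A] (φ : (P : Subgroup G) →* A)

/-- fixed points of `u` on `G ⧸ P`, product of the local terms. -/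
theorem prod_fixed_eq_pow
    (h1 : ∀ u ∈ (P : Subgroup G), ∀ k ∈ Subgroup.normalizer ((P : Subgroup G) : Set G),
      extOne φ (k⁻¹ * u * k) = extOne φ u)
    (h2 : ∀ a ∈ ⁅(P : Subgroup G), (P : Subgroup G)⁆, ∀ z : G,
      z⁻¹ * a * z ∈ (P : Subgroup G) → extOne φ (z⁻¹ * a * z) = 1)
    {u : G} (hu : u ∈ (P : Subgroup G))
    (K1 : ∀ m : ℕ, p ∣ m → ∀ k : G, k⁻¹ * u ^ m * k ∈ (P : Subgroup G) →
      extOne φ (k⁻¹ * u ^ m * k) = extOne φ u ^ m)
    [Fintype (G ⧸ (P : Subgroup G))] [DecidableEq (G ⧸ (P : Subgroup G))] :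
    ∏ x ∈ (Finset.univ.filter (fun x : G ⧸ (P : Subgroup G) => u • x = x)),
      extOne φ (x.out⁻¹ * u * x.out) =
    extOne φ u ^ (Finset.univ.filter (fun x : G ⧸ (P : Subgroup G) => u • x = x)).card := by
  classical
  apply prod_eq_pow_card_of_fiberwise _
    (fun x => (Quotient.mk'' x : MulAction.orbitRel.Quotient (P : Subgroup G) (G ⧸ (P : Subgroup G))))
  intro ω
  set S := (Finset.univ.filter (fun x : G ⧸ (P : Subgroup G) => u • x = x)).filter
    (fun x => (Quotient.mk'' x : MulAction.orbitRel.Quotient (P : Subgroup G) (G ⧸ (P : Subgroup G))) = ω) with hS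
  rcases S.eq_empty_or_nonempty with hemp | ⟨x₀, hx₀⟩
  · rw [hemp]; simp
  have hx₀' := hx₀
  rw [hS, Finset.mem_filter, Finset.mem_filter] at hx₀'
  obtain ⟨⟨-, hx₀F⟩, hx₀ω⟩ := hx₀'
  have hmemS : ∀ x : G ⧸ (P : Subgroup G), x ∈ S ↔
      (u • x = x ∧ x ∈ MulAction.orbit (P : Subgroup G) x₀) := by
    intro x
    rw [hS, Finset.mem_filter, Finset.mem_filter, ← hx₀ω]
    simp only [Finset.mem_univ, true_and]
    refine and_congr_right (fun _ => ?_)
    rw [Quotient.eq'']
    exact MulAction.orbitRel_apply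
  have hcard : S.card = Nat.card {x : G ⧸ (P : Subgroup G) //
      u • x = x ∧ x ∈ MulAction.orbit (P : Subgroup G) x₀} := by
    rw [Nat.card_eq_fintype_card, Fintype.card_subtype]
    congr 1
    ext x
    simp only [Finset.mem_filter, Finset.mem_univ, true_and]
    exact hmemS x
  obtain ⟨k, hk⟩ : ∃ k : G, k = x₀.out := ⟨_, rfl⟩
  have hk0 : (k : G ⧸ (P : Subgroup G)) = x₀ := by rw [hk]; exact QuotientGroup.out_eq' x₀
  have hkP : k⁻¹ * u * k ∈ (P : Subgroup G) := by
    rw [← smul_coset_eq_iff, hk0]; exact hx₀F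
  -- constancy
  have hconst : ∀ x ∈ S, extOne φ (x.out⁻¹ * u * x.out) = extOne φ (k⁻¹ * u * k) := by
    intro x hx
    obtain ⟨hxF, hxO⟩ := (hmemS x).mp hx
    obtain ⟨⟨y, hy⟩, hyx⟩ := hxO
    have hyx' : ((y * k : G) : G ⧸ (P : Subgroup G)) = x := by
      rw [← hyx, ← hk0]; rfl
    have hout : ((x.out : G) : G ⧸ (P : Subgroup G)) = x := QuotientGroup.out_eq' x
    have hb : (y * k)⁻¹ * x.out ∈ (P : Subgroup G) := by
      rw [← QuotientGroup.eq, hyx', hout]
    have hykP : (y * k)⁻¹ * u * (y * k) ∈ (P : Subgroup G) := by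
      rw [← smul_coset_eq_iff, hyx']; exact hxF
    have e : x.out⁻¹ * u * x.out =
        ((y * k)⁻¹ * x.out)⁻¹ * ((y * k)⁻¹ * u * (y * k)) * ((y * k)⁻¹ * x.out) := by group
    rw [e, extOne_conj φ hykP hb]
    exact extOne_conj_smul φ h2 hu hy hkP hykP
  rw [Finset.prod_eq_pow_card hconst]
  obtain ⟨t, ht⟩ := P.2.card_orbit (x₀ : G ⧸ (P : Subgroup G))
  have hmod := card_fixed_in_orbit_modEq (P : Subgroup G) P.2 u hu x₀
  have hmod' : S.card ≡ Nat.card (MulAction.orbit (P : Subgroup G) x₀) [MOD p] := by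
    rw [hcard]; exact hmod
  rcases Nat.eq_zero_or_pos t with ht0 | htpos
  · -- singleton orbit
    rw [ht0, pow_zero] at ht
    have hsub : Subsingleton (MulAction.orbit (P : Subgroup G) x₀) :=
      (Nat.card_eq_one_iff_unique.mp ht).1
    have hfixall : ∀ y ∈ (P : Subgroup G), k⁻¹ * y * k⁻¹⁻¹ ∈ (P : Subgroup G) := by
      intro y hy
      have h := Subsingleton.elim
        (⟨(⟨y, hy⟩ : (P : Subgroup G)) • x₀, MulAction.mem_orbit _ _⟩ :
          MulAction.orbit (P : Subgroup G) x₀) ⟨x₀, MulAction.mem_orbit_self _⟩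
      have h' : y • x₀ = x₀ := Subtype.ext_iff.mp h
      rw [inv_inv, ← smul_coset_eq_iff, hk0]; exact h'
    have hkN : k⁻¹ ∈ Subgroup.normalizer ((P : Subgroup G) : Set G) :=
      mem_normalizer_of_conj_mem (P : Subgroup G) hfixall
    have hkN' : k ∈ Subgroup.normalizer ((P : Subgroup G) : Set G) := by
      have := inv_mem hkN; rwa [inv_inv] at this
    rw [h1 u hu k hkN']
  · have hdvd : p ∣ S.card := by
      have h0 : p ^ t ≡ 0 [MOD p] := (Nat.modEq_zero_iff_dvd).mpr (dvd_pow_self p htpos.ne')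
      rw [ht] at hmod'
      exact (Nat.modEq_zero_iff_dvd).mp (hmod'.trans h0)
    rw [← extOne_pow φ hkP, inv_conj_pow]
    apply K1 _ hdvd
    rw [← inv_conj_pow]; exact pow_mem hkP _


theorem transfer_eq_pow_of_IH
    (h1 : ∀ u ∈ (P : Subgroup G), ∀ k ∈ Subgroup.normalizer ((P : Subgroup G) : Set G),
      extOne φ (k⁻¹ * u * k) = extOne φ u)
    (h2 : ∀ a ∈ ⁅(P : Subgroup G), (P : Subgroup G)⁆, ∀ z : G,
      z⁻¹ * a * z ∈ (P : Subgroup G) → extOne φ (z⁻¹ * a * z) = 1)
    {u : G} (hu : u ∈ (P : Subgroup G))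
    (IH : ∀ v ∈ (P : Subgroup G), orderOf v < orderOf u → ∀ k : G,
      k⁻¹ * v * k ∈ (P : Subgroup G) → extOne φ (k⁻¹ * v * k) = extOne φ v) :
    MonoidHom.transfer φ u = extOne φ u ^ (P : Subgroup G).index := by
  by_cases hne : u = 1
  · subst hne; rw [map_one, extOne_one, one_pow]
  classical
  haveI : Fintype (G ⧸ (P : Subgroup G)) := Fintype.ofFinite _
  haveI : Fintype (Quotient (MulAction.orbitRel (Subgroup.zpowers u) (G ⧸ (P : Subgroup G)))) :=
    Fintype.ofFinite _
  have hp : p.Prime := Fact.out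
  obtain ⟨e, he⟩ : ∃ e, orderOf u = p ^ e := by
    obtain ⟨j, hj⟩ := P.2 ⟨u, hu⟩
    have hj' : u ^ (p ^ j) = 1 := by
      have := congrArg Subtype.val hj; simpa using this
    obtain ⟨e, -, he⟩ := (Nat.dvd_prime_pow hp).mp (orderOf_dvd_of_pow_eq_one hj')
    exact ⟨e, he⟩
  have hepos : 0 < e := by
    rcases Nat.eq_zero_or_pos e with h0 | h0
    · rw [h0, pow_zero, orderOf_eq_one_iff] at he; exact absurd he hne
    · exact h0
  have K1 : ∀ m : ℕ, p ∣ m → ∀ k : G, k⁻¹ * u ^ m * k ∈ (P : Subgroup G) →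
      extOne φ (k⁻¹ * u ^ m * k) = extOne φ u ^ m := by
    intro m hm k hk
    have hlt : orderOf (u ^ m) < orderOf u := by
      obtain ⟨m', rfl⟩ := hm
      have h1' : (u ^ (p * m')) ^ (p ^ (e - 1)) = 1 := by
        have e3 : p * m' * p ^ (e - 1) = p ^ e * m' := by
          have : p ^ e = p ^ (e - 1) * p := by rw [← pow_succ, Nat.sub_add_cancel hepos]
          rw [this]; ring
        rw [← pow_mul, e3, pow_mul, ← he, pow_orderOf_eq_one, one_pow]
      have := Nat.le_of_dvd (pow_pos hp.pos _) (orderOf_dvd_of_pow_eq_one h1')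
      rw [he]
      exact lt_of_le_of_lt this (Nat.pow_lt_pow_right hp.one_lt (Nat.sub_lt hepos one_pos))
    rw [IH (u ^ m) (pow_mem hu m) hlt k hk, extOne_pow φ hu]
  have K2 : ∀ x : G ⧸ (P : Subgroup G), Function.minimalPeriod (u • ·) x = 1 ∨
      p ∣ Function.minimalPeriod (u • ·) x := by
    intro x
    have hd : Function.minimalPeriod (u • ·) x ∣ orderOf u := by
      rw [← MulAction.pow_smul_eq_iff_minimalPeriod_dvd, pow_orderOf_eq_one, one_smul]
    rw [he] at hd
    obtain ⟨j, -, hj⟩ := (Nat.dvd_prime_pow hp).mp hd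
    rcases Nat.eq_zero_or_pos j with h0 | h0
    · left; rw [hj, h0, pow_zero]
    · right; rw [hj]; exact dvd_pow_self p h0.ne'
  rw [MonoidHom.transfer_eq_prod_quotient_orbitRel_zpowers_quot,
    Subgroup.index_eq_sum_minimalPeriod (P : Subgroup G) u, ← Finset.prod_pow_eq_pow_sum]
  have hterm : ∀ q : Quotient (MulAction.orbitRel (Subgroup.zpowers u) (G ⧸ (P : Subgroup G))),
      φ ⟨q.out.out⁻¹ * u ^ Function.minimalPeriod (u • ·) q.out * q.out.out,
        QuotientGroup.out_conj_pow_minimalPeriod_mem (P : Subgroup G) u q.out⟩ =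
      extOne φ (q.out.out⁻¹ * u ^ Function.minimalPeriod (u • ·) q.out * q.out.out) :=
    fun q => (extOne_of_mem φ _).symm
  rw [Finset.prod_congr rfl (fun q _ => hterm q)]
  rw [← Finset.prod_filter_mul_prod_filter_not Finset.univ
      (fun q : Quotient (MulAction.orbitRel (Subgroup.zpowers u) (G ⧸ (P : Subgroup G))) =>
        Function.minimalPeriod (u • ·) q.out = 1)
      (fun q => extOne φ (q.out.out⁻¹ * u ^ Function.minimalPeriod (u • ·) q.out * q.out.out)),
    ← Finset.prod_filter_mul_prod_filter_not Finset.univ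
      (fun q : Quotient (MulAction.orbitRel (Subgroup.zpowers u) (G ⧸ (P : Subgroup G))) =>
        Function.minimalPeriod (u • ·) q.out = 1)
      (fun q => extOne φ u ^ Function.minimalPeriod (u • ·) q.out)]
  congr 1
  · set F := Finset.univ.filter (fun x : G ⧸ (P : Subgroup G) => u • x = x) with hF
    have hout : ∀ x : G ⧸ (P : Subgroup G), u • x = x →
        (Quotient.mk'' x : Quotient (MulAction.orbitRel (Subgroup.zpowers u)
          (G ⧸ (P : Subgroup G)))).out = x := by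
      intro x hx
      have h := Quotient.out_eq' (Quotient.mk'' x : Quotient (MulAction.orbitRel
        (Subgroup.zpowers u) (G ⧸ (P : Subgroup G))))
      have h' := Quotient.exact' h
      rw [MulAction.orbitRel_apply] at h'
      obtain ⟨⟨z, hz⟩, hzx⟩ := h'
      obtain ⟨i, rfl⟩ := Subgroup.mem_zpowers_iff.mp hz
      rw [← hzx]
      have hmem : u ∈ MulAction.stabilizer G x := MulAction.mem_stabilizer_iff.mpr hx
      exact MulAction.mem_stabilizer_iff.mp (zpow_mem hmem i)
    have hfix : ∀ q : Quotient (MulAction.orbitRel (Subgroup.zpowers u) (G ⧸ (P : Subgroup G))),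
        Function.minimalPeriod (u • ·) q.out = 1 ↔ u • q.out = q.out :=
      fun q => Function.minimalPeriod_eq_one_iff_isFixedPt
    have e1 : ∏ q ∈ Finset.univ.filter (fun q : Quotient (MulAction.orbitRel (Subgroup.zpowers u)
          (G ⧸ (P : Subgroup G))) => Function.minimalPeriod (u • ·) q.out = 1),
          extOne φ (q.out.out⁻¹ * u ^ Function.minimalPeriod (u • ·) q.out * q.out.out) =
        ∏ x ∈ F, extOne φ (x.out⁻¹ * u * x.out) := by
      apply Finset.prod_nbij' (fun q => q.out) (fun x => Quotient.mk'' x)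
      · intro q hq
        rw [Finset.mem_filter] at hq
        rw [hF, Finset.mem_filter]
        exact ⟨Finset.mem_univ _, (hfix q).mp hq.2⟩
      · intro x hx
        rw [hF, Finset.mem_filter] at hx
        rw [Finset.mem_filter]
        refine ⟨Finset.mem_univ _, ?_⟩
        rw [hfix, hout x hx.2]; exact hx.2
      · intro q _; exact Quotient.out_eq' q
      · intro x hx
        rw [hF, Finset.mem_filter] at hx
        exact hout x hx.2
      · intro q hq
        rw [Finset.mem_filter] at hq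
        rw [hq.2, pow_one]
    have e2 : ∏ q ∈ Finset.univ.filter (fun q : Quotient (MulAction.orbitRel (Subgroup.zpowers u)
          (G ⧸ (P : Subgroup G))) => Function.minimalPeriod (u • ·) q.out = 1),
          extOne φ u ^ Function.minimalPeriod (u • ·) q.out =
        ∏ x ∈ F, extOne φ u := by
      apply Finset.prod_nbij' (fun q => q.out) (fun x => Quotient.mk'' x)
      · intro q hq
        rw [Finset.mem_filter] at hq
        rw [hF, Finset.mem_filter]
        exact ⟨Finset.mem_univ _, (hfix q).mp hq.2⟩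
      · intro x hx
        rw [hF, Finset.mem_filter] at hx
        rw [Finset.mem_filter]
        refine ⟨Finset.mem_univ _, ?_⟩
        rw [hfix, hout x hx.2]; exact hx.2
      · intro q _; exact Quotient.out_eq' q
      · intro x hx
        rw [hF, Finset.mem_filter] at hx
        exact hout x hx.2
      · intro q hq
        rw [Finset.mem_filter] at hq
        rw [hq.2, pow_one]
    rw [e1, e2, Finset.prod_const]
    exact prod_fixed_eq_pow P φ h1 h2 hu K1
  · apply Finset.prod_congr rfl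
    intro q hq
    rw [Finset.mem_filter] at hq
    have hpd := (K2 q.out).resolve_left hq.2
    exact K1 _ hpd _ (QuotientGroup.out_conj_pow_minimalPeriod_mem (P : Subgroup G) u q.out)

end Core3


section Core4

variable {G : Type*} [Group G] [Finite G] {p : ℕ} [Fact p.Prime] (P : Sylow p G)
  {A : Type*} [CommGroup A] (φ : (P : Subgroup G) →* A)

theorem extOne_pow_prime_pow_eq_one {u : G} (hu : u ∈ (P : Subgroup G)) :
    ∃ j : ℕ, extOne φ u ^ (p ^ j) = 1 := by
  obtain ⟨j, hj⟩ := P.2 ⟨u, hu⟩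
  refine ⟨j, ?_⟩
  rw [extOne_of_mem φ hu, ← map_pow, hj, map_one]

theorem eq_one_of_pow_index_eq_one {a : A} (ha : ∃ j : ℕ, a ^ (p ^ j) = 1)
    (h : a ^ (P : Subgroup G).index = 1) : a = 1 := by
  obtain ⟨j, hj⟩ := ha
  have hcop : Nat.Coprime (p ^ j) (P : Subgroup G).index :=
    Nat.Coprime.pow_left j ((Nat.Prime.coprime_iff_not_dvd Fact.out).mpr P.not_dvd_index)
  have := (pow_gcd_eq_one (a := a) (m := p ^ j) (n := (P : Subgroup G).index)).mpr ⟨hj, h⟩
  rwa [hcop.gcd_eq_one, pow_one] at this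

/-- Conjugation invariance of `φ` (the inductive heart of Grün's first theorem). -/
theorem extOne_conj_invariant
    (h1 : ∀ u ∈ (P : Subgroup G), ∀ k ∈ Subgroup.normalizer ((P : Subgroup G) : Set G),
      extOne φ (k⁻¹ * u * k) = extOne φ u)
    (h2 : ∀ a ∈ ⁅(P : Subgroup G), (P : Subgroup G)⁆, ∀ z : G,
      z⁻¹ * a * z ∈ (P : Subgroup G) → extOne φ (z⁻¹ * a * z) = 1) :
    ∀ u ∈ (P : Subgroup G), ∀ k : G, k⁻¹ * u * k ∈ (P : Subgroup G) →
      extOne φ (k⁻¹ * u * k) = extOne φ u := by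
  suffices H : ∀ n : ℕ, ∀ u ∈ (P : Subgroup G), orderOf u = n → ∀ k : G,
      k⁻¹ * u * k ∈ (P : Subgroup G) → extOne φ (k⁻¹ * u * k) = extOne φ u from
    fun u hu => H _ u hu rfl
  intro n
  induction n using Nat.strong_induction_on with
  | _ n ih =>
    intro u hu hn k hk
    have hord : orderOf (k⁻¹ * u * k) = orderOf u := by
      have hs : SemiconjBy k⁻¹ u (k⁻¹ * u * k) := by
        unfold SemiconjBy; group
      exact (hs.orderOf_eq).symm
    have IHu : ∀ v ∈ (P : Subgroup G), orderOf v < orderOf u → ∀ k : G,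
        k⁻¹ * v * k ∈ (P : Subgroup G) → extOne φ (k⁻¹ * v * k) = extOne φ v :=
      fun v hv hlt => ih (orderOf v) (hn ▸ hlt) v hv rfl
    have IHu' : ∀ v ∈ (P : Subgroup G), orderOf v < orderOf (k⁻¹ * u * k) → ∀ k : G,
        k⁻¹ * v * k ∈ (P : Subgroup G) → extOne φ (k⁻¹ * v * k) = extOne φ v := by
      rw [hord]; exact IHu
    have t1 := transfer_eq_pow_of_IH P φ h1 h2 hu IHu
    have t2 := transfer_eq_pow_of_IH P φ h1 h2 hk IHu'
    have teq : MonoidHom.transfer φ (k⁻¹ * u * k) = MonoidHom.transfer φ u := by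
      rw [map_mul, map_mul, map_inv, mul_comm, ← mul_assoc, mul_inv_cancel, one_mul]
    rw [t1, t2] at teq
    have hquot : (extOne φ (k⁻¹ * u * k) * (extOne φ u)⁻¹) ^ (P : Subgroup G).index = 1 := by
      rw [mul_pow, inv_pow, teq, mul_inv_cancel]
    obtain ⟨j1, hj1⟩ := extOne_pow_prime_pow_eq_one P φ hk
    obtain ⟨j2, hj2⟩ := extOne_pow_prime_pow_eq_one P φ hu
    have hpp : ∃ j : ℕ, (extOne φ (k⁻¹ * u * k) * (extOne φ u)⁻¹) ^ (p ^ j) = 1 := by
      refine ⟨j1 + j2, ?_⟩
      rw [mul_pow, inv_pow, pow_add, pow_mul, hj1, one_pow, mul_comm (p ^ j1), pow_mul, hj2,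
        one_pow, inv_one, mul_one]
    have := eq_one_of_pow_index_eq_one P hpp hquot
    exact mul_inv_eq_one.mp this

/-- **Grün's first theorem**, abstract form: a homomorphism `φ` from a Sylow `p`-subgroup `P`
to an abelian group which is invariant under `N_G(P)`-conjugation and kills `P ∩ (P')^z` for
all `z` also kills `P ∩ G'`. -/
theorem gruen_core
    (h1 : ∀ u ∈ (P : Subgroup G), ∀ k ∈ Subgroup.normalizer ((P : Subgroup G) : Set G),
      extOne φ (k⁻¹ * u * k) = extOne φ u)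
    (h2 : ∀ a ∈ ⁅(P : Subgroup G), (P : Subgroup G)⁆, ∀ z : G,
      z⁻¹ * a * z ∈ (P : Subgroup G) → extOne φ (z⁻¹ * a * z) = 1)
    {u : G} (hu : u ∈ (P : Subgroup G)) (hc : u ∈ commutator G) : φ ⟨u, hu⟩ = 1 := by
  have hinv := extOne_conj_invariant P φ h1 h2
  have t1 := transfer_eq_pow_of_IH P φ h1 h2 hu (fun v hv _ => hinv v hv)
  have hker : MonoidHom.transfer φ u = 1 :=
    MonoidHom.mem_ker.mp (Abelianization.commutator_subset_ker (MonoidHom.transfer φ) hc)
  rw [hker] at t1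
  have := eq_one_of_pow_index_eq_one P (extOne_pow_prime_pow_eq_one P φ hu) t1.symm
  rwa [extOne_of_mem φ hu] at this

end Core4

end Cfsg.Agent.Lib.Helper24
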