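import Mathlib
import Cfsg.Prelude.Def_Transfer
import Cfsg.Agent.Lib.Helper17.NormalHall
import Cfsg.Agent.Lib.Helper29.GroupFusion

/-!
Tate's theorem: if `N ⊴ G` meets a Sylow `p`-subgroup `P` inside `Φ(P)` then `N` has a normal
`p`-complement.  Proof: pull back the central extension `P/[R,P] → P/R` (`R = P ∩ O^p(N)`) to `G`,
split it with the transfer, and use that `R ≤ Φ(P)` consists of non-generators.
-/
set_option autoImplicit false
namespace Cfsg.Agent.Lib.Helper24
open Subgroup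

/-- In a finite `p`-group a nontrivial normal subgroup properly contains its commutator with
the whole group. -/
theorem commutator_top_lt_of_ne_bot {Q : Type*} [Group Q] [Finite Q] {p : ℕ} [Fact p.Prime]
    (hQ : IsPGroup p Q) (R : Subgroup Q) [R.Normal] (hR : R ≠ ⊥) : ⁅R, (⊤ : Subgroup Q)⁆ < R := by
  have hle : ⁅R, (⊤ : Subgroup Q)⁆ ≤ R := Subgroup.commutator_le_left R ⊤
  refine lt_of_le_of_ne hle fun heq => hR ?_
  have hnil : Group.IsNilpotent Q := hQ.isNilpotent
  obtain ⟨n, hn⟩ := Subgroup.nilpotent_iff_lowerCentralSeries.mp hnil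
  have key : ∀ k : ℕ, R ≤ (⊤ : Subgroup Q).lowerCentralSeries k := by
    intro k
    induction k with
    | zero => exact le_top
    | succ k ih =>
      rw [Subgroup.lowerCentralSeries_succ]
      calc R = ⁅R, (⊤ : Subgroup Q)⁆ := heq.symm
        _ ≤ _ := Subgroup.commutator_mono ih le_rfl
  exact le_bot_iff.mp (hn ▸ key n)

section TateCore

variable {G : Type*} [Group G] (P L : Subgroup G) [hLn : L.Normal]

/-- `[L ∩ P, P]` as a subgroup of `P`. -/
def tateR1 : Subgroup P := ⁅L.subgroupOf P, (⊤ : Subgroup P)⁆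

instance tateR1_normal : (tateR1 P L).Normal := by
  unfold tateR1; infer_instance

/-- The quotient `P / [L ∩ P, P]`. -/
abbrev TateQ : Type _ := P ⧸ tateR1 P L

/-- The projection `P → P / [L ∩ P, P]`. -/
def tateMk : P →* TateQ P L := QuotientGroup.mk' (tateR1 P L)

theorem tateMk_surjective : Function.Surjective (tateMk P L) :=
  QuotientGroup.mk'_surjective _

/-- The image of `L ∩ P` is central in the quotient. -/
theorem tateMk_central (r : P) (hr : r ∈ L.subgroupOf P) (y : TateQ P L) :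
    tateMk P L r * y = y * tateMk P L r := by
  obtain ⟨t, rfl⟩ := tateMk_surjective P L y
  rw [← map_mul, ← map_mul]
  unfold tateMk
  rw [QuotientGroup.mk'_apply, QuotientGroup.mk'_apply, QuotientGroup.eq]
  have h1 := Subgroup.commutator_mem_commutator (H₁ := ⊤) (H₂ := L.subgroupOf P)
    (Subgroup.mem_top t⁻¹) (inv_mem hr)
  rw [commutatorElement_def, Subgroup.commutator_comm] at h1
  have e : (r * t)⁻¹ * (t * r) = t⁻¹ * r⁻¹ * t⁻¹⁻¹ * r⁻¹⁻¹ := by group
  rw [e]
  exact h1

/-- The pullback extension: pairs `(g, y)` with `g ∈ sL` for a representative `s` of `y`. -/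
def tateE : Subgroup (G × TateQ P L) where
  carrier := {x | ∃ s : P, tateMk P L s = x.2 ∧ (s : G)⁻¹ * x.1 ∈ L}
  one_mem' := ⟨1, by simp, by simp⟩
  mul_mem' := by
    rintro ⟨g, y⟩ ⟨g', y'⟩ ⟨s, hs, hsl⟩ ⟨s', hs', hsl'⟩
    refine ⟨s * s', by simp only [map_mul, hs, hs', Prod.snd_mul], ?_⟩
    have e : ((s * s' : P) : G)⁻¹ * ((g, y) * (g', y')).1 =
        ((s' : G)⁻¹ * ((s : G)⁻¹ * g) * (s' : G)⁻¹⁻¹) * ((s' : G)⁻¹ * g') := by
      simp only [Subgroup.coe_mul, Prod.fst_mul]; group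
    rw [e]
    exact mul_mem (hLn.conj_mem _ hsl _) hsl'
  inv_mem' := by
    rintro ⟨g, y⟩ ⟨s, hs, hsl⟩
    refine ⟨s⁻¹, by simp only [map_inv, hs, Prod.snd_inv], ?_⟩
    have e : ((s⁻¹ : P) : G)⁻¹ * ((g, y)⁻¹).1 = (s : G) * ((s : G)⁻¹ * g)⁻¹ * (s : G)⁻¹ := by
      simp only [Subgroup.coe_inv, Prod.fst_inv]; group
    rw [e]
    exact hLn.conj_mem _ (inv_mem hsl) _

theorem mem_tateE {x : G × TateQ P L} :
    x ∈ tateE P L ↔ ∃ s : P, tateMk P L s = x.2 ∧ (s : G)⁻¹ * x.1 ∈ L := Iff.rfl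

/-- The subgroup `{(g,y) ∈ E : g ∈ P}` of `E`. -/
def tateH : Subgroup (tateE P L) := (P.prod ⊤).subgroupOf (tateE P L)

theorem mem_tateH {x : tateE P L} : x ∈ tateH P L ↔ (x : G × TateQ P L).1 ∈ P := by
  unfold tateH
  rw [Subgroup.mem_subgroupOf, Subgroup.mem_prod]
  simp

/-- For `x ∈ H`, `mk(g)⁻¹ y` is the image of an element of `L ∩ P`. -/
theorem tateH_key (x : tateE P L) (hx : (x : G × TateQ P L).1 ∈ P) :
    ∃ r : P, r ∈ L.subgroupOf P ∧
      (tateMk P L ⟨(x : G × TateQ P L).1, hx⟩)⁻¹ * (x : G × TateQ P L).2 = tateMk P L r := by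
  obtain ⟨s, hs, hsl⟩ := x.2
  refine ⟨(⟨(x : G × TateQ P L).1, hx⟩ : P)⁻¹ * s, ?_, ?_⟩
  · rw [Subgroup.mem_subgroupOf]
    have e : (((⟨(x : G × TateQ P L).1, hx⟩ : P)⁻¹ * s : P) : G) =
        ((s : G)⁻¹ * (x : G × TateQ P L).1)⁻¹ := by
      simp only [Subgroup.coe_mul, Subgroup.coe_inv]; group
    rw [e]
    exact inv_mem hsl
  · rw [map_mul, map_inv, hs]

theorem tateH_central (x : tateE P L) (hx : (x : G × TateQ P L).1 ∈ P) (w : TateQ P L) :
    ((tateMk P L ⟨(x : G × TateQ P L).1, hx⟩)⁻¹ * (x : G × TateQ P L).2) * w =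
      w * ((tateMk P L ⟨(x : G × TateQ P L).1, hx⟩)⁻¹ * (x : G × TateQ P L).2) := by
  obtain ⟨r, hr, e⟩ := tateH_key P L x hx
  rw [e]
  exact tateMk_central P L r hr w

/-- The homomorphism `H → Z(P/R₁)`, `(g, y) ↦ mk(g)⁻¹ y`. -/
def tatePhi : tateH P L →* Subgroup.center (TateQ P L) :=
  MonoidHom.mk'
    (fun x => ⟨(tateMk P L ⟨((x : tateE P L) : G × TateQ P L).1, (mem_tateH P L).mp x.2⟩)⁻¹ *
        ((x : tateE P L) : G × TateQ P L).2,
      Subgroup.mem_center_iff.mpr fun w =>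
        (tateH_central P L (x : tateE P L) ((mem_tateH P L).mp x.2) w).symm⟩)
    (by
      intro x x'
      apply Subtype.ext
      have hz := tateH_central P L (x : tateE P L) ((mem_tateH P L).mp x.2)
      have e1 : (⟨(((x * x' : tateH P L) : tateE P L) : G × TateQ P L).1,
          (mem_tateH P L).mp (x * x').2⟩ : P) =
          ⟨((x : tateE P L) : G × TateQ P L).1, (mem_tateH P L).mp x.2⟩ *
          ⟨((x' : tateE P L) : G × TateQ P L).1, (mem_tateH P L).mp x'.2⟩ := Subtype.ext rfl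
      show (tateMk P L ⟨(((x * x' : tateH P L) : tateE P L) : G × TateQ P L).1, _⟩)⁻¹ *
          (((x * x' : tateH P L) : tateE P L) : G × TateQ P L).2 = _
      rw [e1, map_mul, mul_inv_rev]
      show _ * (((x : tateE P L) : G × TateQ P L).2 * ((x' : tateE P L) : G × TateQ P L).2) =
        ((tateMk P L ⟨((x : tateE P L) : G × TateQ P L).1, _⟩)⁻¹ *
          ((x : tateE P L) : G × TateQ P L).2) *
        ((tateMk P L ⟨((x' : tateE P L) : G × TateQ P L).1, _⟩)⁻¹ *
          ((x' : tateE P L) : G × TateQ P L).2)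
      have h2 := hz (tateMk P L ⟨((x' : tateE P L) : G × TateQ P L).1, (mem_tateH P L).mp x'.2⟩)⁻¹
      calc _ = (tateMk P L ⟨((x' : tateE P L) : G × TateQ P L).1, (mem_tateH P L).mp x'.2⟩)⁻¹ *
            ((tateMk P L ⟨((x : tateE P L) : G × TateQ P L).1, (mem_tateH P L).mp x.2⟩)⁻¹ *
              ((x : tateE P L) : G × TateQ P L).2) *
            ((x' : tateE P L) : G × TateQ P L).2 := by simp only [mul_assoc]
        _ = _ := by rw [← h2]; simp only [mul_assoc])

theorem tatePhi_coe (x : tateH P L) :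
    ((tatePhi P L x : Subgroup.center (TateQ P L)) : TateQ P L) =
      (tateMk P L ⟨((x : tateE P L) : G × TateQ P L).1, (mem_tateH P L).mp x.2⟩)⁻¹ *
        ((x : tateE P L) : G × TateQ P L).2 := rfl

end TateCore



section TateMain

open scoped IsMulCommutative

variable {G : Type*} [Group G] [Finite G] (P L : Subgroup G) [hLn : L.Normal]
  {p : ℕ} [Fact p.Prime]

/-- the embedding `l ↦ (l, 1)` of `L` in `E` -/
def tateJ : L →* tateE P L :=
  MonoidHom.mk' (fun l => ⟨((l : G), 1), ⟨1, by simp, by simp⟩⟩)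
    (by intro a b; apply Subtype.ext; simp)

/-- the embedding `s ↦ (s, mk s)` of `P` in `E` -/
def tateI : P →* tateE P L :=
  MonoidHom.mk' (fun s => ⟨((s : G), tateMk P L s), ⟨s, rfl, by simp⟩⟩)
    (by intro a b; apply Subtype.ext; simp)

/-- the central element `(1, mk r)` of `E` -/
def tateZ (r : P) (hr : r ∈ L.subgroupOf P) : tateE P L :=
  ⟨(1, tateMk P L r), ⟨r, rfl, by
    simp only [mul_one]
    exact inv_mem (Subgroup.mem_subgroupOf.mp hr)⟩⟩

theorem tateI_eq (r : P) (hr : r ∈ L.subgroupOf P) :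
    tateI P L r = tateJ P L ⟨r, Subgroup.mem_subgroupOf.mp hr⟩ * tateZ P L r hr := by
  apply Subtype.ext
  simp [tateI, tateJ, tateZ]

theorem tateZ_central (r : P) (hr : r ∈ L.subgroupOf P) (e : tateE P L) :
    e * tateZ P L r hr = tateZ P L r hr * e := by
  apply Subtype.ext
  apply Prod.ext
  · simp [tateZ]
  · simp only [tateZ, Subgroup.coe_mul, Prod.snd_mul]
    exact (tateMk_central P L r hr _).symm

theorem tate_core (hP : IsPGroup p P) (hidx : ¬ p ∣ P.index)
    (hL : L ≤ closure {g | g ∈ L ∧ (orderOf g).Coprime p})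
    (hΦ : L.subgroupOf P ≤ frattini P) : L.subgroupOf P = ⊥ := by
  have hp : p.Prime := Fact.out
  by_contra hne
  have hlt : tateR1 P L < L.subgroupOf P := commutator_top_lt_of_ne_bot hP _ hne
  -- the transfer
  have hfinQ : Finite (TateQ P L) := inferInstance
  have hfinE : Finite (tateE P L) := inferInstance
  have hfi : (tateH P L).FiniteIndex := inferInstance
  obtain ⟨T, hT⟩ : ∃ T : (↥(tateE P L) →* ↥(tatePhi P L).range),
      T = MonoidHom.transfer (H := tateH P L) (A := ↥(tatePhi P L).range) (tatePhi P L).rangeRestrict :=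
    ⟨MonoidHom.transfer (H := tateH P L) (A := ↥(tatePhi P L).range) (tatePhi P L).rangeRestrict, rfl⟩
  have hQ : IsPGroup p (TateQ P L) := hP.to_quotient _
  have hA : IsPGroup p (tatePhi P L).range := (hQ.to_subgroup _).to_subgroup _
  -- `T` kills `p'`-elements
  have hkill : ∀ e : tateE P L, (orderOf e).Coprime p → T e = 1 := by
    intro e he
    obtain ⟨k, hk⟩ := hA.exists_orderOf_eq_pow (T e)
    have h1 : orderOf (T e) ∣ orderOf e := orderOf_map_dvd T e
    have h2 : (orderOf (T e)).Coprime p := Nat.Coprime.coprime_dvd_left h1 he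
    rw [hk] at h2
    rcases Nat.eq_zero_or_pos k with rfl | hk0
    · rwa [pow_zero, orderOf_eq_one_iff] at hk
    · exfalso
      have h3 : Nat.Coprime p p := Nat.Coprime.coprime_dvd_left (dvd_pow_self p hk0.ne') h2
      rw [Nat.coprime_self] at h3
      exact hp.one_lt.ne' h3
  -- `T` kills `L`
  have hTL : ∀ l : L, T (tateJ P L l) = 1 := by
    have hle : L ≤ ((T.comp (tateJ P L)).ker).map L.subtype := by
      refine le_trans hL ?_
      rw [closure_le]
      rintro g ⟨hgL, hg⟩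
      refine ⟨⟨g, hgL⟩, ?_, rfl⟩
      rw [SetLike.mem_coe, MonoidHom.mem_ker, MonoidHom.comp_apply]
      apply hkill
      have h1 : orderOf (tateJ P L ⟨g, hgL⟩) ∣ orderOf (⟨g, hgL⟩ : L) := orderOf_map_dvd _ _
      have h3 : orderOf (⟨g, hgL⟩ : L) = orderOf g := Subgroup.orderOf_mk g hgL
      rw [h3] at h1
      exact Nat.Coprime.coprime_dvd_left h1 hg
    intro l
    obtain ⟨l', hl', hll⟩ := hle l.2
    have : l' = l := Subtype.ext hll
    rw [← this]
    exact hl'
  -- the index of `H` in `E` is prime to `p`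
  have hn : ¬ p ∣ (tateH P L).index := by
    obtain ⟨π₁, hπ₁⟩ : ∃ π₁ : tateE P L →* G,
        π₁ = (MonoidHom.fst G (TateQ P L)).comp (tateE P L).subtype := ⟨_, rfl⟩
    have h1 : tateH P L = P.comap π₁ := by
      ext x
      rw [mem_tateH, Subgroup.mem_comap, hπ₁]
      rfl
    have h2 : P ≤ π₁.range := by
      intro s hs
      refine ⟨tateI P L ⟨s, hs⟩, ?_⟩
      rw [hπ₁]; rfl
    rw [h1, Subgroup.index_comap]
    intro h3
    exact hidx (dvd_trans h3 (Subgroup.relIndex_dvd_index_of_le h2))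
  -- the value of `T` on the central elements
  have hTZ : ∀ (r : P) (hr : r ∈ L.subgroupOf P),
      (((T (tateZ P L r hr) : (tatePhi P L).range) : Subgroup.center (TateQ P L)) : TateQ P L) =
        (tateMk P L r) ^ (tateH P L).index := by
    intro r hr
    have key : ∀ (k : ℕ) (g₀ : tateE P L),
        g₀⁻¹ * tateZ P L r hr ^ k * g₀ ∈ tateH P L →
        g₀⁻¹ * tateZ P L r hr ^ k * g₀ = tateZ P L r hr ^ k := by
      intro k g₀ _
      have hc : Commute g₀ (tateZ P L r hr ^ k) :=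
        Commute.pow_right (tateZ_central P L r hr g₀) k
      calc g₀⁻¹ * tateZ P L r hr ^ k * g₀ = g₀⁻¹ * (tateZ P L r hr ^ k * g₀) := mul_assoc _ _ _
        _ = g₀⁻¹ * (g₀ * tateZ P L r hr ^ k) := by rw [hc.eq]
        _ = tateZ P L r hr ^ k := inv_mul_cancel_left _ _
    have h1 := MonoidHom.transfer_eq_pow (H := tateH P L) (A := ↥(tatePhi P L).range)
      (tatePhi P L).rangeRestrict (tateZ P L r hr) key
    rw [hT, h1]
    show (tateMk P L ⟨((tateZ P L r hr ^ (tateH P L).index : tateE P L) : G × TateQ P L).1, _⟩)⁻¹ *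
      ((tateZ P L r hr ^ (tateH P L).index : tateE P L) : G × TateQ P L).2 = _
    have e1 : ((tateZ P L r hr ^ (tateH P L).index : tateE P L) : G × TateQ P L) =
        (1, (tateMk P L r) ^ (tateH P L).index) := by
      rw [Subgroup.coe_pow]
      show ((1 : G), tateMk P L r) ^ (tateH P L).index = _
      rw [Prod.pow_mk, one_pow]
    have e2 : ∀ (h : ((tateZ P L r hr ^ (tateH P L).index : tateE P L) : G × TateQ P L).1 ∈ P),
        (⟨((tateZ P L r hr ^ (tateH P L).index : tateE P L) : G × TateQ P L).1, h⟩ : P) = 1 := by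
      intro h
      apply Subtype.ext
      show ((tateZ P L r hr ^ (tateH P L).index : tateE P L) : G × TateQ P L).1 = 1
      rw [e1]
    rw [e2, map_one, inv_one, one_mul, e1]
  -- the homomorphism `δ : P → A`
  obtain ⟨δ, hδ⟩ : ∃ δ : P →* (tatePhi P L).range, δ = T.comp (tateI P L) := ⟨_, rfl⟩
  have hδR : ∀ (r : P) (hr : r ∈ L.subgroupOf P),
      (((δ r : (tatePhi P L).range) : Subgroup.center (TateQ P L)) : TateQ P L) =
        (tateMk P L r) ^ (tateH P L).index := by
    intro r hr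
    rw [hδ, MonoidHom.comp_apply, tateI_eq P L r hr, map_mul, hTL, one_mul]
    exact hTZ r hr
  have hcop : ∀ y : TateQ P L, Nat.Coprime (tateH P L).index (orderOf y) := by
    intro y
    obtain ⟨k, hk⟩ := hQ.exists_orderOf_eq_pow y
    rw [hk]
    exact Nat.Coprime.pow_right k ((Nat.Prime.coprime_iff_not_dvd hp).mpr hn).symm
  -- every value of `δ` is attained on `L ∩ P`
  have ha : ∀ s : P, ∃ r : P, r ∈ L.subgroupOf P ∧ δ s = δ r := by
    intro s
    obtain ⟨x, hx⟩ := (δ s).2
    obtain ⟨r₀, hr₀, e⟩ := tateH_key P L (x : tateE P L) ((mem_tateH P L).mp x.2)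
    obtain ⟨m, hm⟩ := exists_pow_eq_self_of_coprime (hcop (tateMk P L r₀))
    refine ⟨r₀ ^ m, pow_mem hr₀ m, ?_⟩
    apply Subtype.ext
    apply Subtype.ext
    rw [hδR (r₀ ^ m) (pow_mem hr₀ m), map_pow, ← pow_mul, mul_comm, pow_mul, hm, ← e,
      ← tatePhi_coe P L x, hx]
  -- hence `ker δ` together with `L ∩ P` generates `P`
  have hb : δ.ker ⊔ L.subgroupOf P = ⊤ := by
    rw [eq_top_iff]
    intro s _
    obtain ⟨r, hr, hsr⟩ := ha s
    have h1 : s * r⁻¹ ∈ δ.ker := by
      rw [MonoidHom.mem_ker, map_mul, map_inv, hsr, mul_inv_cancel]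
    have e : s = (s * r⁻¹) * r := by group
    rw [e]
    exact mul_mem (Subgroup.mem_sup_left h1) (Subgroup.mem_sup_right hr)
  have hc : δ.ker = ⊤ := by
    apply frattini_nongenerating
    rw [eq_top_iff, ← hb]
    exact sup_le_sup_left hΦ _
  -- so `L ∩ P ≤ R₁`
  apply not_le_of_gt hlt
  intro r hr
  have h1 : δ r = 1 := by
    have : r ∈ δ.ker := hc ▸ Subgroup.mem_top r
    exact this
  have h2 := hδR r hr
  rw [h1] at h2
  have h3 : (tateMk P L r) ^ (tateH P L).index = 1 := h2.symm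
  have h4 : tateMk P L r = 1 := by
    have h5 : orderOf (tateMk P L r) ∣ (tateH P L).index := orderOf_dvd_of_pow_eq_one h3
    have h6 := Nat.Coprime.eq_one_of_dvd (hcop (tateMk P L r)).symm h5
    exact orderOf_eq_one_iff.mp h6
  unfold tateMk at h4
  rwa [QuotientGroup.mk'_apply, QuotientGroup.eq_one_iff] at h4

end TateMain


section TateFinal

variable {G : Type*} [Group G] [Finite G] {p : ℕ} [Fact p.Prime]

/-- **Tate's theorem.** -/
theorem tate_hasNormalPComplement (P : Sylow p G) (N : Subgroup G) [hN : N.Normal]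
    (h : N ⊓ (P : Subgroup G) ≤ (frattini P).map (P : Subgroup G).subtype) :
    Cfsg.HasNormalPComplement p N := by
  have hp : p.Prime := Fact.out
  obtain ⟨L, hLdef⟩ : ∃ L : Subgroup G,
      L = closure {g : G | g ∈ N ∧ (orderOf g).Coprime p} := ⟨_, rfl⟩
  have hLN : L ≤ N := by
    rw [hLdef, closure_le]; exact fun g hg => hg.1
  have hLn : L.Normal := by
    refine ⟨fun n hn g => ?_⟩
    have hmap : L.map (MulAut.conj g).toMonoidHom ≤ L := by
      rw [hLdef, MonoidHom.map_closure, closure_le]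
      rintro _ ⟨x, ⟨hxN, hx⟩, rfl⟩
      apply Subgroup.subset_closure
      refine ⟨hN.conj_mem x hxN g, ?_⟩
      show Nat.Coprime (orderOf (MulAut.conj g x)) p
      rw [MulEquiv.orderOf_eq]
      exact hx
    exact hmap ⟨n, hn, rfl⟩
  have hL : L ≤ closure {g | g ∈ L ∧ (orderOf g).Coprime p} := by
    conv_lhs => rw [hLdef]
    apply Subgroup.closure_mono
    rintro g ⟨hgN, hg⟩
    exact ⟨hLdef ▸ Subgroup.subset_closure ⟨hgN, hg⟩, hg⟩
  have hΦ : L.subgroupOf (P : Subgroup G) ≤ frattini (P : Subgroup G) := by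
    intro x hx
    have hx' : (x : G) ∈ N ⊓ (P : Subgroup G) :=
      Subgroup.mem_inf.mpr ⟨hLN (Subgroup.mem_subgroupOf.mp hx), x.2⟩
    obtain ⟨y, hy, hyx⟩ := h hx'
    have : y = x := Subtype.ext hyx
    rw [← this]; exact hy
  have hcore := tate_core (P : Subgroup G) L P.isPGroup' P.not_dvd_index hL hΦ
  -- `L` has order prime to `p`
  have hcop : (Nat.card L).Coprime p := by
    rw [Nat.coprime_comm, Nat.Prime.coprime_iff_not_dvd hp]
    intro hdvd
    obtain ⟨x, hx⟩ := exists_prime_orderOf_dvd_card' (G := L) p hdvd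
    have hxo : orderOf (x : G) = p := by rw [Subgroup.orderOf_coe]; exact hx
    have hz : IsPGroup p (zpowers (x : G)) := by
      apply IsPGroup.of_card (n := 1)
      rw [Nat.card_zpowers, hxo, pow_one]
    obtain ⟨g, hg⟩ := Cfsg.Agent.Lib.Helper29.exists_cj_le_sylow P hz
    have h1 : g * (x : G) * g⁻¹ ∈ (P : Subgroup G) :=
      hg (Cfsg.Agent.Lib.Helper29.conj_mem_cj (Subgroup.mem_zpowers _))
    have h2 : g * (x : G) * g⁻¹ ∈ L := hLn.conj_mem _ x.2 g
    have h3 : (⟨g * (x : G) * g⁻¹, h1⟩ : (P : Subgroup G)) ∈ L.subgroupOf (P : Subgroup G) :=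
      Subgroup.mem_subgroupOf.mpr h2
    rw [hcore, Subgroup.mem_bot] at h3
    have h4 : g * (x : G) * g⁻¹ = 1 := congrArg Subtype.val h3
    have h5 : (x : G) = 1 := by
      have : (x : G) = g⁻¹ * (g * (x : G) * g⁻¹) * g := by group
      rw [this, h4]; group
    rw [h5, orderOf_one] at hxo
    exact hp.one_lt.ne hxo
  -- `N / L` is a `p`-group
  have hKn : (L.subgroupOf N).Normal := inferInstance
  have hq : IsPGroup p (N ⧸ L.subgroupOf N) := by
    apply Cfsg.Agent.Lib.Helper17.isPGroup_quotient_of_forall_coprime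
    intro g hg
    rw [Subgroup.mem_subgroupOf, hLdef]
    apply Subgroup.subset_closure
    refine ⟨g.2, ?_⟩
    rw [Subgroup.orderOf_coe]; exact hg
  obtain ⟨a, ha⟩ := IsPGroup.iff_card.mp hq
  apply Cfsg.Agent.Lib.Helper17.hasNormalPComplement_of_normal_coprime_ppow_index
    (L.subgroupOf N)
  · have : Nat.card (L.subgroupOf N) = Nat.card L := by
      rw [← Subgroup.card_map_of_injective N.subtype_injective,
        Subgroup.map_subgroupOf_eq_of_le hLN]
    rw [this]; exact hcop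
  · exact ⟨a, by rw [Subgroup.index_eq_card, ha]⟩

end TateFinal

end Cfsg.Agent.Lib.Helper24
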