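import Mathlib

/-!
# `PSL₂(7) ≅ PSL₃(2)`

`SL₂(7)` acts on the eight points of the projective line; a suitable labelling of the points by `𝔽₂³` makes
every element act as an affine map, whose linear part gives a homomorphism `SL₂(7) → GL₃(2)` (`phi`, checked
multiplicative against transvections by the kernel).  Simplicity of `PSL₂(7)` (Mathlib) and `168 = 168`
finish.
-/

set_option autoImplicit false
set_option linter.style.haveILetI false

namespace Cfsg.Agent.Lib.Helper24
namespace PSL27
open Matrix

/-- label (a vector of `𝔽₂³` coded as a number `< 8`) to a representative vector of the projective point. -/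
def lamInv (x : ℕ) : ZMod 7 × ZMod 7 :=
  (![(1, 0), (0, 1), (1, 1), (3, 1), (2, 1), (6, 1), (4, 1), (5, 1)] : Fin 8 → ZMod 7 × ZMod 7)
    (Fin.ofNat 8 x)

/-- vector to the label of its projective point. -/
def lam (v : ZMod 7 × ZMod 7) : ℕ :=
  if v.2 = 0 then 0 else
    (![1, 2, 4, 3, 6, 7, 5] : Fin 7 → ℕ) (v.1 * v.2 ^ 5)

def piM (M : Matrix (Fin 2) (Fin 2) (ZMod 7)) (x : ℕ) : ℕ :=
  lam (M 0 0 * (lamInv x).1 + M 0 1 * (lamInv x).2, M 1 0 * (lamInv x).1 + M 1 1 * (lamInv x).2)

def phi (M : Matrix (Fin 2) (Fin 2) (ZMod 7)) : Matrix (Fin 3) (Fin 3) (ZMod 2) :=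
  Matrix.of fun i j => if Nat.testBit (Nat.xor (piM M (2 ^ j.val)) (piM M 0)) i.val then 1 else 0

set_option maxRecDepth 100000 in
theorem phi_one : phi 1 = 1 := by decide +kernel

set_option maxRecDepth 100000 in
theorem phi_neg_one : phi (-1) = 1 := by decide +kernel

set_option maxRecDepth 100000 in
theorem phi_ne_one : phi (1 + Matrix.single 0 1 1) ≠ 1 := by decide +kernel

set_option maxRecDepth 1000000 in
theorem phi_mul_transvection : ∀ (i j : Fin 2), i ≠ j → ∀ (a : ZMod 7)
    (M : Matrix (Fin 2) (Fin 2) (ZMod 7)), M.det = 1 →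
    phi (M * (1 + Matrix.single i j a)) = phi M * phi (1 + Matrix.single i j a) := by
  decide +kernel

attribute [irreducible] phi

end PSL27
end Cfsg.Agent.Lib.Helper24
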