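import Mathlib
import Cfsg.Agent.S0243
import Cfsg.Agent.Lib.Helper24.PSL27Phi

/-!
# `PSL₂(7) ≅ PSL₃(2)` : assembly (see `PSL27Phi` for the kernel-checked map `phi`).
-/

set_option autoImplicit false
set_option linter.style.haveILetI false

namespace Cfsg.Agent.Lib.Helper24
namespace PSL27
open Matrix

instance factPrimeSeven : Fact (Nat.Prime 7) := ⟨by norm_num⟩

/-- `phi` as a monoid homomorphism on `SL₂(7)`. -/
def phiHom : Matrix.SpecialLinearGroup (Fin 2) (ZMod 7) →* Matrix (Fin 3) (Fin 3) (ZMod 2) where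
  toFun A := phi A.1
  map_one' := phi_one
  map_mul' A B := by
    revert A
    refine Matrix.SL2.transvection_induction
      (fun B => ∀ A : Matrix.SpecialLinearGroup (Fin 2) (ZMod 7),
        phi (A * B).1 = phi A.1 * phi B.1) ?_ ?_ B
    · intro i j h c A
      have e1 : ((A * Matrix.SpecialLinearGroup.transvection h c :
          Matrix.SpecialLinearGroup (Fin 2) (ZMod 7)) : Matrix (Fin 2) (Fin 2) (ZMod 7)) =
          A.1 * (1 + Matrix.single i j c) := rfl
      have e2 : ((Matrix.SpecialLinearGroup.transvection h c :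
          Matrix.SpecialLinearGroup (Fin 2) (ZMod 7)) : Matrix (Fin 2) (Fin 2) (ZMod 7)) =
          1 + Matrix.single i j c := rfl
      rw [e1, e2]
      exact phi_mul_transvection i j h c A.1 A.2
    · intro B C hB hC A
      rw [← mul_assoc, hC (A * B), hB A, hC B, mul_assoc]

theorem phiHom_apply (A : Matrix.SpecialLinearGroup (Fin 2) (ZMod 7)) : phiHom A = phi A.1 := rfl

def phiGL : Matrix.SpecialLinearGroup (Fin 2) (ZMod 7) →* GL (Fin 3) (ZMod 2) := phiHom.toHomUnits

theorem phiGL_val (A : Matrix.SpecialLinearGroup (Fin 2) (ZMod 7)) :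
    ((phiGL A : GL (Fin 3) (ZMod 2)) : Matrix (Fin 3) (Fin 3) (ZMod 2)) = phi A.1 := rfl

theorem phiGL_center (A : Matrix.SpecialLinearGroup (Fin 2) (ZMod 7))
    (hA : A ∈ Subgroup.center (Matrix.SpecialLinearGroup (Fin 2) (ZMod 7))) : phiGL A = 1 := by
  rw [Matrix.SpecialLinearGroup.mem_center_iff] at hA
  obtain ⟨r, hr, hrA⟩ := hA
  rw [Fintype.card_fin] at hr
  have h1 : r = 1 ∨ r = -1 := by
    have h0 : ∀ r : ZMod 7, r ^ 2 = 1 → r = 1 ∨ r = -1 := by decide
    exact h0 r hr
  apply Units.ext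
  rw [phiGL_val, ← hrA]
  rcases h1 with rfl | rfl
  · rw [map_one]; exact phi_one
  · have : (Matrix.scalar (Fin 2)) (-1 : ZMod 7) = -1 := by
      rw [map_neg, map_one]
    rw [this]; exact phi_neg_one

theorem phiGL_ne_one :
    phiGL (Matrix.SpecialLinearGroup.transvection (zero_ne_one : (0 : Fin 2) ≠ 1) (1 : ZMod 7)) ≠ 1 := by
  intro h
  have h2 := congrArg Units.val h
  rw [phiGL_val, Matrix.SpecialLinearGroup.transvection_coe] at h2
  exact phi_ne_one h2

/-- over `ZMod 2` every invertible matrix has determinant one. -/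
def toSL : GL (Fin 3) (ZMod 2) →* Matrix.SpecialLinearGroup (Fin 3) (ZMod 2) where
  toFun g := ⟨g.1, by
    have h := Matrix.GeneralLinearGroup.det_ne_zero g
    revert h
    generalize (g : Matrix (Fin 3) (Fin 3) (ZMod 2)).det = x
    revert x; decide⟩
  map_one' := Subtype.ext rfl
  map_mul' g h := Subtype.ext rfl

theorem toSL_injective : Function.Injective toSL := by
  intro g h hgh
  apply Units.ext
  exact congrArg Subtype.val hgh

/-- `SL_n` of isomorphic rings. -/
def slRingEquiv {n : Type*} [DecidableEq n] [Fintype n] {R S : Type*} [CommRing R] [CommRing S]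
    (ρ : R ≃+* S) : Matrix.SpecialLinearGroup n R ≃* Matrix.SpecialLinearGroup n S where
  toFun := Matrix.SpecialLinearGroup.map ρ.toRingHom
  invFun := Matrix.SpecialLinearGroup.map ρ.symm.toRingHom
  left_inv A := by
    apply Subtype.ext
    ext i j
    show ρ.symm (ρ ((A : Matrix n n R) i j)) = _
    exact ρ.symm_apply_apply _
  right_inv A := by
    apply Subtype.ext
    ext i j
    show ρ (ρ.symm ((A : Matrix n n S) i j)) = _
    exact ρ.apply_symm_apply _
  map_mul' := map_mul _

theorem mulEquiv_mem_center {G H : Type*} [Group G] [Group H] (e : G ≃* H) (x : G)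
    (hx : x ∈ Subgroup.center G) : e x ∈ Subgroup.center H := by
  rw [Subgroup.mem_center_iff] at hx ⊢
  intro y
  obtain ⟨y', rfl⟩ := e.surjective y
  rw [← map_mul, ← map_mul, hx y']

theorem main {F K : Type*} [Field F] [Fintype F] [Field K] [Fintype K]
    (hF : Fintype.card F = 7) (hK : Fintype.card K = 2) :
    Nonempty (Matrix.ProjectiveSpecialLinearGroup (Fin 2) F ≃*
      Matrix.ProjectiveSpecialLinearGroup (Fin 3) K) := by
  classical
  let ρF : F ≃+* ZMod 7 := (ZMod.ringEquivOfPrime F (by norm_num) hF).symm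
  let ρK : ZMod 2 ≃+* K := ZMod.ringEquivOfPrime K Nat.prime_two hK
  let eF := slRingEquiv (n := Fin 2) ρF
  let eK := slRingEquiv (n := Fin 3) ρK
  let Ψ₁ : Matrix.SpecialLinearGroup (Fin 2) F →* Matrix.SpecialLinearGroup (Fin 3) K :=
    eK.toMonoidHom.comp (toSL.comp (phiGL.comp eF.toMonoidHom))
  have hΨ₁ : ∀ x, Ψ₁ x = eK (toSL (phiGL (eF x))) := fun x => rfl
  have hΨ₁inj : ∀ x, Ψ₁ x = 1 → phiGL (eF x) = 1 := by
    intro x hx
    rw [hΨ₁] at hx
    have h1 : toSL (phiGL (eF x)) = 1 := eK.injective (hx.trans (map_one eK).symm)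
    exact toSL_injective (h1.trans (map_one toSL).symm)
  let Ψ₀ : Matrix.SpecialLinearGroup (Fin 2) F →* Matrix.ProjectiveSpecialLinearGroup (Fin 3) K :=
    (QuotientGroup.mk' (Subgroup.center (Matrix.SpecialLinearGroup (Fin 3) K))).comp Ψ₁
  have hcen : Subgroup.center (Matrix.SpecialLinearGroup (Fin 2) F) ≤ Ψ₀.ker := by
    intro x hx
    rw [MonoidHom.mem_ker]
    show QuotientGroup.mk' _ (Ψ₁ x) = 1
    have h1 : phiGL (eF x) = 1 := phiGL_center _ (mulEquiv_mem_center eF x hx)
    rw [hΨ₁, h1, map_one, map_one, map_one]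
  let Ψ : Matrix.ProjectiveSpecialLinearGroup (Fin 2) F →*
      Matrix.ProjectiveSpecialLinearGroup (Fin 3) K :=
    QuotientGroup.lift (Subgroup.center (Matrix.SpecialLinearGroup (Fin 2) F)) Ψ₀ hcen
  haveI : IsSimpleGroup (Matrix.ProjectiveSpecialLinearGroup (Fin 2) F) :=
    Matrix.ProjectiveSpecialLinearGroup.rank_two_simple
      (by rw [Nat.card_eq_fintype_card, hF]; norm_num)
  have hcenterK : Subgroup.center (Matrix.SpecialLinearGroup (Fin 3) K) = ⊥ := by
    have h := Cfsg.Agent.S0243.card_center_SL (F := K) 3 (by norm_num)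
    rw [hK] at h
    simp at h
    rw [← Nat.card_eq_fintype_card] at h
    exact Subgroup.card_eq_one.mp h
  have hker : Ψ.ker = ⊥ := by
    rcases Ψ.normal_ker.eq_bot_or_eq_top with h | h
    · exact h
    · exfalso
      let g₀ : Matrix.SpecialLinearGroup (Fin 2) F :=
        eF.symm (Matrix.SpecialLinearGroup.transvection (zero_ne_one : (0 : Fin 2) ≠ 1) (1 : ZMod 7))
      have h1 : (QuotientGroup.mk g₀ : Matrix.ProjectiveSpecialLinearGroup (Fin 2) F) ∈ Ψ.ker := by
        rw [h]; trivial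
      rw [MonoidHom.mem_ker] at h1
      have h2 : QuotientGroup.mk' (Subgroup.center (Matrix.SpecialLinearGroup (Fin 3) K))
          (Ψ₁ g₀) = 1 := h1
      rw [QuotientGroup.mk'_apply, QuotientGroup.eq_one_iff, hcenterK, Subgroup.mem_bot] at h2
      have h3 := hΨ₁inj g₀ h2
      rw [MulEquiv.apply_symm_apply] at h3
      exact phiGL_ne_one h3
  have hinj : Function.Injective Ψ := (MonoidHom.ker_eq_bot_iff Ψ).mp hker
  have hcard1 : Nat.card (Matrix.ProjectiveSpecialLinearGroup (Fin 2) F) = 168 := by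
    have h := Cfsg.Agent.S0243.result hF 2 le_rfl
    simp [Fin.prod_univ_two] at h
    rw [Nat.card_eq_fintype_card]
    omega
  have hcard2 : Nat.card (Matrix.ProjectiveSpecialLinearGroup (Fin 3) K) = 168 := by
    have h := Cfsg.Agent.S0243.result hK 3 (by norm_num)
    simp [Fin.prod_univ_three] at h
    rw [Nat.card_eq_fintype_card]
    omega
  have hbij : Function.Bijective Ψ :=
    hinj.bijective_of_nat_card_le (by rw [hcard1, hcard2])
  exact ⟨MulEquiv.ofBijective Ψ hbij⟩

end PSL27
end Cfsg.Agent.Lib.Helper24
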