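import Mathlib

set_option autoImplicit false

namespace Cfsg.Agent.Lib.Helper24

/-- A finite group of even order with a cyclic Sylow 2-subgroup has a subgroup of index 2. -/
theorem exists_index_two_of_cyclic_sylow {G : Type*} [Group G] [Finite G]
    (heven : Even (Nat.card G)) (T : Sylow 2 G) (hT : IsCyclic (T : Subgroup G)) :
    ∃ H : Subgroup G, H.index = 2 := by
  have h2 : 2 ∣ Nat.card G := even_iff_two_dvd.mp heven
  have hp : (Nat.card G).minFac = 2 := (Nat.minFac_eq_two_iff _).mpr h2
  have hcompl := IsCyclic.isComplement' hp hT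
  set f := MonoidHom.transferSylow T (hT.normalizer_le_centralizer hp) with hf
  -- f is surjective
  have hcard1 : Nat.card f.ker * Nat.card (T : Subgroup G) = Nat.card G := hcompl.card_mul_card
  have hcard2 : Nat.card f.ker * f.ker.index = Nat.card G := Subgroup.card_mul_index _
  have hkpos : 0 < Nat.card f.ker := Nat.card_pos
  have hrange : Nat.card f.range = Nat.card (T : Subgroup G) := by
    rw [← Subgroup.index_ker]
    have := hcard1.trans hcard2.symm
    exact (Nat.eq_of_mul_eq_mul_left hkpos this).symm
  have hsurj : Function.Surjective f := by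
    rw [← MonoidHom.range_eq_top]
    exact (Subgroup.card_eq_iff_eq_top _).mp hrange
  -- T has a subgroup of index 2
  obtain ⟨k, hk⟩ := T.2.exists_card_eq
  have hk0 : k ≠ 0 := by
    intro h0
    rw [h0, pow_zero] at hk
    have hTdvd : 2 ∣ Nat.card (T : Subgroup G) := by
      have := T.dvd_card_of_dvd_card h2
      exact this
    rw [hk] at hTdvd
    omega
  obtain ⟨k', rfl⟩ := Nat.exists_eq_succ_of_ne_zero hk0
  obtain ⟨T', hT'⟩ := Sylow.exists_subgroup_card_pow_prime (G := (T : Subgroup G)) 2 (n := k')
    (by rw [hk]; exact pow_dvd_pow 2 (Nat.le_succ k'))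
  have hidx : T'.index = 2 := by
    have h := Subgroup.card_mul_index T'
    rw [hT', hk, pow_succ] at h
    exact Nat.eq_of_mul_eq_mul_left (by positivity) h
  exact ⟨T'.comap f, by rw [Subgroup.index_comap_of_surjective _ hsurj, hidx]⟩

end Cfsg.Agent.Lib.Helper24

namespace Cfsg.Agent.Lib.Helper24

/-- A finite cyclic group has at most one involution. -/
theorem involution_unique_of_isCyclic {C : Type*} [Group C] [Finite C] [IsCyclic C]
    {a b : C} (ha : orderOf a = 2) (hb : orderOf b = 2) : a = b := by
  classical
  have := Fintype.ofFinite C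
  by_contra hab
  have h := IsCyclic.card_pow_eq_one_le (α := C) (n := 2) (by norm_num)
  have ha2 : a ^ 2 = 1 := by rw [← ha]; exact pow_orderOf_eq_one a
  have hb2 : b ^ 2 = 1 := by rw [← hb]; exact pow_orderOf_eq_one b
  have ha1 : a ≠ 1 := by intro h1; rw [h1, orderOf_one] at ha; omega
  have hb1 : b ≠ 1 := by intro h1; rw [h1, orderOf_one] at hb; omega
  have hsub : ({1, a, b} : Finset C) ⊆ Finset.univ.filter (fun g : C => g ^ 2 = 1) := by
    intro g hg
    simp only [Finset.mem_insert, Finset.mem_singleton] at hg
    simp only [Finset.mem_filter, Finset.mem_univ, true_and]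
    rcases hg with rfl | rfl | rfl
    · simp
    · exact ha2
    · exact hb2
  have hcard : ({1, a, b} : Finset C).card = 3 := by
    rw [Finset.card_insert_of_notMem, Finset.card_insert_of_notMem, Finset.card_singleton]
    · simpa using hab
    · simp only [Finset.mem_insert, Finset.mem_singleton, not_or]
      exact ⟨ha1.symm, hb1.symm⟩
  have := Finset.card_le_card hsub
  omega

end Cfsg.Agent.Lib.Helper24
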