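import Mathlib

set_option autoImplicit false

namespace Cfsg.Agent.Lib.Helper24

section StrEmb
variable {G : Type*} [Group G]

/-- A finite subgroup of even order contains an involution. -/
theorem exists_involution_of_even_card [Finite G] (K : Subgroup G) (hK : Even (Nat.card K)) :
    ∃ s ∈ K, orderOf s = 2 := by
  have : Fact (Nat.Prime 2) := ⟨Nat.prime_two⟩
  obtain ⟨s, hs⟩ := exists_prime_orderOf_dvd_card' (G := K) 2 (even_iff_two_dvd.mp hK)
  exact ⟨s, s.2, by rw [Subgroup.orderOf_coe]; exact hs⟩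

/-- A finite subgroup containing an involution does not have odd order. -/
theorem not_odd_card_of_involution_mem [Finite G] (K : Subgroup G) {t : G} (ht : t ∈ K)
    (h2 : orderOf t = 2) : ¬ Odd (Nat.card K) := by
  intro hodd
  have h1 : orderOf (⟨t, ht⟩ : K) = 2 := (Subgroup.orderOf_mk t ht).trans h2
  have hdvd : 2 ∣ Nat.card K := h1 ▸ orderOf_dvd_natCard (⟨t, ht⟩ : K)
  rcases hodd with ⟨k, hk⟩
  omega

theorem mem_conj_map_iff (H : Subgroup G) (g s : G) :
    s ∈ H.map (MulAut.conj g).toMonoidHom ↔ ∃ h ∈ H, g * h * g⁻¹ = s := by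
  rw [Subgroup.mem_map]
  simp [MulAut.conj_apply]

theorem orderOf_conj' (g x : G) : orderOf (g * x * g⁻¹) = orderOf x := by
  have := (MulAut.conj g).orderOf_eq x
  rwa [MulAut.conj_apply] at this

end StrEmb

end Cfsg.Agent.Lib.Helper24
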