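import Mathlib

set_option autoImplicit false

namespace Cfsg.Agent.Lib.Helper24

section Dih
variable {G : Type*} [Group G]

theorem sq_one_of_orderOf_two {x : G} (hx : orderOf x = 2) : x * x = 1 := by
  have := pow_orderOf_eq_one x
  rw [hx, pow_two] at this
  exact this

theorem inv_eq_self_of_orderOf_two {x : G} (hx : orderOf x = 2) : x⁻¹ = x := by
  have h := sq_one_of_orderOf_two hx
  exact inv_eq_of_mul_eq_one_left h

theorem ne_one_of_orderOf_two {x : G} (hx : orderOf x = 2) : x ≠ 1 := by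
  intro h
  rw [h, orderOf_one] at hx
  omega

/-- conjugating `u = x*y` by `x` inverts it -/
theorem conj_mul_inv {x y : G} (hx : x * x = 1) (hy : y * y = 1) :
    x * (x * y) * x = (x * y)⁻¹ := by
  have hxi : x⁻¹ = x := inv_eq_of_mul_eq_one_left hx
  have hyi : y⁻¹ = y := inv_eq_of_mul_eq_one_left hy
  rw [mul_inv_rev, hxi, hyi, ← mul_assoc, hx, one_mul]

theorem conj_zpow_inv {x y : G} (hx : x * x = 1) (hy : y * y = 1) (i : ℤ) :
    x * (x * y) ^ i * x = (x * y) ^ (-i) := by
  have hxi : x⁻¹ = x := inv_eq_of_mul_eq_one_left hx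
  have h1 : x * (x * y) ^ i * x⁻¹ = (x * (x * y) * x⁻¹) ^ i := by
    rw [conj_zpow]
  rw [hxi, conj_mul_inv hx hy] at h1
  rw [h1, inv_zpow, zpow_neg]

theorem zpow_mul_left_swap {x y : G} (hx : x * x = 1) (hy : y * y = 1) (i : ℤ) :
    (x * y) ^ i * x = x * (x * y) ^ (-i) := by
  have h := conj_zpow_inv hx hy i
  calc (x * y) ^ i * x = x * x * ((x * y) ^ i * x) := by rw [hx, one_mul]
    _ = x * (x * (x * y) ^ i * x) := by simp only [mul_assoc]
    _ = x * (x * y) ^ (-i) := by rw [h]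

/-- Every element of `⟨x, y⟩` is `u^i` or `x u^i`. -/
theorem closure_pair_forms {x y : G} (hx : x * x = 1) (hy : y * y = 1) (d : G)
    (hd : d ∈ Subgroup.closure ({x, y} : Set G)) :
    ∃ i : ℤ, d = (x * y) ^ i ∨ d = x * (x * y) ^ i := by
  induction hd using Subgroup.closure_induction with
  | mem a ha =>
    rcases ha with rfl | ha
    · exact ⟨0, Or.inr (by simp)⟩
    · rw [Set.mem_singleton_iff] at ha
      subst ha
      exact ⟨1, Or.inr (by rw [zpow_one, ← mul_assoc, hx, one_mul])⟩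
  | one => exact ⟨0, Or.inl (by simp)⟩
  | mul a b _ _ iha ihb =>
    obtain ⟨i, hi | hi⟩ := iha <;> obtain ⟨j, hj | hj⟩ := ihb
    · exact ⟨i + j, Or.inl (by rw [hi, hj, zpow_add])⟩
    · refine ⟨-i + j, Or.inr ?_⟩
      rw [hi, hj, ← mul_assoc, zpow_mul_left_swap hx hy, mul_assoc, ← zpow_add]
    · exact ⟨i + j, Or.inr (by rw [hi, hj, mul_assoc, zpow_add])⟩
    · refine ⟨-i + j, Or.inl ?_⟩
      rw [hi, hj]
      calc x * (x * y) ^ i * (x * (x * y) ^ j) = (x * (x * y) ^ i * x) * (x * y) ^ j := by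
            simp only [mul_assoc]
        _ = (x * y) ^ (-i + j) := by rw [conj_zpow_inv hx hy, zpow_add]
  | inv a _ iha =>
    obtain ⟨i, hi | hi⟩ := iha
    · exact ⟨-i, Or.inl (by rw [hi, zpow_neg])⟩
    · refine ⟨i, Or.inr ?_⟩
      have hxi : x⁻¹ = x := inv_eq_of_mul_eq_one_left hx
      rw [hi, mul_inv_rev, hxi, ← zpow_neg, zpow_mul_left_swap hx hy, neg_neg]

theorem x_mem_closure_pair (x y : G) : x ∈ Subgroup.closure ({x, y} : Set G) :=
  Subgroup.subset_closure (by simp)

theorem y_mem_closure_pair (x y : G) : y ∈ Subgroup.closure ({x, y} : Set G) :=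
  Subgroup.subset_closure (by simp)

theorem u_zpow_mem_closure_pair (x y : G) (i : ℤ) :
    (x * y) ^ i ∈ Subgroup.closure ({x, y} : Set G) :=
  Subgroup.zpow_mem _ (Subgroup.mul_mem _ (x_mem_closure_pair x y) (y_mem_closure_pair x y)) i

/-- `x ∉ ⟨xy⟩` for involutions `x`, `y`. -/
theorem x_not_mem_zpowers {x y : G} (hx : orderOf x = 2) (hy : orderOf y = 2) :
    x ∉ Subgroup.zpowers (x * y) := by
  have hx2 := sq_one_of_orderOf_two hx
  have hy2 := sq_one_of_orderOf_two hy
  intro hmem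
  obtain ⟨k, hk⟩ := Subgroup.mem_zpowers_iff.mp hmem
  -- x commutes with u
  have hcomm : x * (x * y) = (x * y) * x := by
    have hc : Commute ((x * y) ^ k) (x * y) := (Commute.refl _).zpow_left k
    rw [hk] at hc
    exact hc.eq
  -- so y = x * y * x, hence y * x = x * y
  have h1 : y = x * y * x := by rw [← mul_assoc, hx2, one_mul] at hcomm; exact hcomm
  have h2 : y * x = x * y := by
    have : x * y = x * (x * y * x) := by rw [← h1]
    rw [this]; simp only [← mul_assoc]; rw [hx2, one_mul]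
  -- u^2 = 1
  have hu2 : (x * y) * (x * y) = 1 := by
    calc (x * y) * (x * y) = x * (y * x) * y := by simp only [mul_assoc]
      _ = x * (x * y) * y := by rw [h2]
      _ = (x * x) * (y * y) := by simp only [mul_assoc]
      _ = 1 := by rw [hx2, hy2, one_mul]
  -- u^k ∈ {1, u}
  have hk' : x = 1 ∨ x = x * y := by
    rcases Int.even_or_odd k with ⟨m, hm⟩ | ⟨m, hm⟩
    · left
      have h3 : (x * y) ^ k = 1 := by
        rw [hm, ← two_mul, zpow_mul, zpow_two, hu2, one_zpow]
      rw [hk] at h3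
      exact h3
    · right
      have h3 : (x * y) ^ k = x * y := by
        rw [hm, zpow_add_one, zpow_mul, zpow_two, hu2, one_zpow, one_mul]
      rw [hk] at h3
      exact h3
  rcases hk' with h | h
  · exact ne_one_of_orderOf_two hx h
  · have : y = 1 := by
      have := congrArg (fun t => x * t) h
      simp only [← mul_assoc, hx2, one_mul] at this
      exact this.symm
    exact ne_one_of_orderOf_two hy this

/-- `u^i x u^{-i} = x u^{-2i}` -/
theorem conj_x_by_upow {x y : G} (hx : x * x = 1) (hy : y * y = 1) (i : ℤ) :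
    (x * y) ^ i * x * ((x * y) ^ i)⁻¹ = x * (x * y) ^ (-(2 * i)) := by
  rw [zpow_mul_left_swap hx hy, mul_assoc, ← zpow_neg, ← zpow_add]
  congr 2
  ring

/-- `(x u^i) x (x u^i)⁻¹ = x u^{2i}` -/
theorem conj_x_by_xupow {x y : G} (hx : x * x = 1) (hy : y * y = 1) (i : ℤ) :
    (x * (x * y) ^ i) * x * (x * (x * y) ^ i)⁻¹ = x * (x * y) ^ (2 * i) := by
  have hxi : x⁻¹ = x := inv_eq_of_mul_eq_one_left hx
  rw [mul_inv_rev, hxi]
  calc x * (x * y) ^ i * x * (((x * y) ^ i)⁻¹ * x)
      = x * ((x * y) ^ i * x * ((x * y) ^ i)⁻¹) * x := by simp only [mul_assoc]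
    _ = x * (x * (x * y) ^ (-(2 * i))) * x := by rw [conj_x_by_upow hx hy]
    _ = (x * x) * ((x * y) ^ (-(2 * i)) * x) := by simp only [mul_assoc]
    _ = x * (x * y) ^ (2 * i) := by rw [hx, one_mul, zpow_mul_left_swap hx hy, neg_neg]

end Dih

end Cfsg.Agent.Lib.Helper24
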