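import Mathlib

set_option autoImplicit false

namespace Cfsg.Agent.Lib.Helper24

section Extraspecial

universe u

variable {E : Type u} [Group E]

/-- The commutator map `g ↦ [w, g]` as a homomorphism into the centre, when all commutators are
central. -/
def commHom (hc : ∀ a b : E, a * b * a⁻¹ * b⁻¹ ∈ Subgroup.center E) (w : E) :
    E →* Subgroup.center E where
  toFun g := ⟨w * g * w⁻¹ * g⁻¹, hc w g⟩
  map_one' := by
    apply Subtype.ext
    simp
  map_mul' g h := by
    apply Subtype.ext
    simp only [Subgroup.coe_mul]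
    have hcen := hc w h
    rw [Subgroup.mem_center_iff] at hcen
    have h1 := hcen g⁻¹
    -- g⁻¹ * [w,h] = [w,h] * g⁻¹
    calc w * (g * h) * w⁻¹ * (g * h)⁻¹
        = w * g * w⁻¹ * ((w * h * w⁻¹ * h⁻¹) * g⁻¹) := by group
      _ = w * g * w⁻¹ * (g⁻¹ * (w * h * w⁻¹ * h⁻¹)) := by rw [h1]
      _ = w * g * w⁻¹ * g⁻¹ * (w * h * w⁻¹ * h⁻¹) := by group

theorem commHom_apply (hc : ∀ a b : E, a * b * a⁻¹ * b⁻¹ ∈ Subgroup.center E) (w g : E) :
    ((commHom hc w g : Subgroup.center E) : E) = w * g * w⁻¹ * g⁻¹ := rfl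

theorem mem_ker_commHom (hc : ∀ a b : E, a * b * a⁻¹ * b⁻¹ ∈ Subgroup.center E) (w g : E) :
    g ∈ (commHom hc w).ker ↔ w * g = g * w := by
  rw [MonoidHom.mem_ker]
  constructor
  · intro h
    have h1 : w * g * w⁻¹ * g⁻¹ = 1 := congrArg Subtype.val h
    calc w * g = (w * g * w⁻¹ * g⁻¹) * g * w := by group
      _ = g * w := by rw [h1, one_mul]
  · intro h
    apply Subtype.ext
    rw [commHom_apply, h]
    simp

/-- range of a commutator hom is everything as soon as it is nontrivial (centre of prime order) -/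
theorem commHom_range_eq_top {p : ℕ} [Fact p.Prime]
    (hc : ∀ a b : E, a * b * a⁻¹ * b⁻¹ ∈ Subgroup.center E)
    (hZ : Nat.card (Subgroup.center E) = p) {w g : E} (hwg : w * g ≠ g * w) :
    (commHom hc w).range = ⊤ := by
  haveI : Fact (Nat.card (Subgroup.center E)).Prime := by rw [hZ]; infer_instance
  rcases Subgroup.eq_bot_or_eq_top_of_prime_card (commHom hc w).range with h | h
  · exfalso
    have h1 : commHom hc w g ∈ (commHom hc w).range := ⟨g, rfl⟩
    rw [h, Subgroup.mem_bot] at h1
    exact hwg ((mem_ker_commHom hc w g).mp h1)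
  · exact h

theorem index_ker_commHom {p : ℕ} [Fact p.Prime]
    (hc : ∀ a b : E, a * b * a⁻¹ * b⁻¹ ∈ Subgroup.center E)
    (hZ : Nat.card (Subgroup.center E) = p) {w g : E} (hwg : w * g ≠ g * w) :
    (commHom hc w).ker.index = p := by
  rw [Subgroup.index_ker, commHom_range_eq_top hc hZ hwg, Subgroup.card_top, hZ]

/-- every element of the centre is a power of a nontrivial commutator -/
theorem exists_zpow_eq_of_center_prime {p : ℕ} [Fact p.Prime]
    (hZ : Nat.card (Subgroup.center E) = p) (z₀ z : Subgroup.center E) (h0 : z₀ ≠ 1) :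
    ∃ k : ℤ, z₀ ^ k = z := by
  haveI : Fact (Nat.card (Subgroup.center E)).Prime := by rw [hZ]; infer_instance
  have h1 : Subgroup.zpowers z₀ = ⊤ := by
    rcases Subgroup.eq_bot_or_eq_top_of_prime_card (Subgroup.zpowers z₀) with h | h
    · exfalso
      apply h0
      have := Subgroup.mem_zpowers z₀
      rwa [h, Subgroup.mem_bot] at this
    · exact h
  have h2 : z ∈ Subgroup.zpowers z₀ := by rw [h1]; exact Subgroup.mem_top z
  exact Subgroup.mem_zpowers_iff.mp h2

theorem index_ker_of_ne_one {A : Type*} [Group A] {p : ℕ} [Fact p.Prime]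
    (hZ : Nat.card (Subgroup.center E) = p) (f : A →* Subgroup.center E) {a : A}
    (ha : f a ≠ 1) : f.ker.index = p := by
  haveI : Fact (Nat.card (Subgroup.center E)).Prime := by rw [hZ]; infer_instance
  have hr : f.range = ⊤ := by
    rcases Subgroup.eq_bot_or_eq_top_of_prime_card f.range with h | h
    · exfalso
      have h1 : f a ∈ f.range := ⟨a, rfl⟩
      rw [h, Subgroup.mem_bot] at h1
      exact ha h1
    · exact h
  rw [Subgroup.index_ker, hr, Subgroup.card_top, hZ]

/-- The subgroup `C = C_E(x) ∩ C_E(y)` (as intersection of kernels). -/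
def commKer (hc : ∀ a b : E, a * b * a⁻¹ * b⁻¹ ∈ Subgroup.center E) (x y : E) : Subgroup E :=
  (commHom hc x).ker ⊓ (commHom hc y).ker

theorem mem_commKer (hc : ∀ a b : E, a * b * a⁻¹ * b⁻¹ ∈ Subgroup.center E) (x y g : E) :
    g ∈ commKer hc x y ↔ x * g = g * x ∧ y * g = g * y := by
  rw [commKer, Subgroup.mem_inf, mem_ker_commHom, mem_ker_commHom]

theorem index_commKer {p : ℕ} [Fact p.Prime]
    (hc : ∀ a b : E, a * b * a⁻¹ * b⁻¹ ∈ Subgroup.center E)
    (hZ : Nat.card (Subgroup.center E) = p) {x y : E} (hxy : x * y ≠ y * x) :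
    (commKer hc x y).index = p * p := by
  have hA : (commHom hc x).ker.index = p := index_ker_commHom hc hZ hxy
  have hle : commKer hc x y ≤ (commHom hc x).ker := inf_le_left
  rw [← Subgroup.relIndex_mul_index hle, hA]
  congr 1
  -- relindex = index of kernel of restriction of φ_y to A
  have hxA : x ∈ (commHom hc x).ker := (mem_ker_commHom hc x x).mpr rfl
  have hne : ((commHom hc y).comp (commHom hc x).ker.subtype) ⟨x, hxA⟩ ≠ 1 := by
    intro h0
    have : x ∈ (commHom hc y).ker := h0
    exact hxy ((mem_ker_commHom hc y x).mp this).symm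
  have hk : (commKer hc x y).subgroupOf (commHom hc x).ker =
      ((commHom hc y).comp (commHom hc x).ker.subtype).ker := by
    ext g
    rw [Subgroup.mem_subgroupOf, commKer, Subgroup.mem_inf, MonoidHom.mem_ker]
    constructor
    · intro h; exact h.2
    · intro h; exact ⟨g.2, h⟩
  rw [Subgroup.relIndex, hk]
  exact index_ker_of_ne_one hZ _ hne

/-- `E = C ⟨x⟩ ⟨y⟩`. -/
theorem exists_decomp {p : ℕ} [Fact p.Prime]
    (hc : ∀ a b : E, a * b * a⁻¹ * b⁻¹ ∈ Subgroup.center E)
    (hZ : Nat.card (Subgroup.center E) = p) {x y : E} (hxy : x * y ≠ y * x) (g : E) :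
    ∃ c ∈ commKer hc x y, ∃ l k : ℤ, g = c * x ^ l * y ^ k := by
  have h0 : commHom hc x y ≠ 1 := by
    intro h
    exact hxy ((mem_ker_commHom hc x y).mp h)
  have h1 : commHom hc y x ≠ 1 := by
    intro h
    exact hxy ((mem_ker_commHom hc y x).mp h).symm
  obtain ⟨k, hk⟩ := exists_zpow_eq_of_center_prime hZ (commHom hc x y) (commHom hc x g) h0
  have hg₁x : commHom hc x (g * (y ^ k)⁻¹) = 1 := by
    rw [map_mul, map_inv, map_zpow, hk, mul_inv_cancel]
  obtain ⟨l, hl⟩ := exists_zpow_eq_of_center_prime hZ (commHom hc y x)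
    (commHom hc y (g * (y ^ k)⁻¹)) h1
  have hxx : commHom hc x x = 1 := (mem_ker_commHom hc x x).mpr rfl
  refine ⟨g * (y ^ k)⁻¹ * (x ^ l)⁻¹, ?_, l, k, by group⟩
  rw [commKer, Subgroup.mem_inf, MonoidHom.mem_ker, MonoidHom.mem_ker]
  constructor
  · rw [map_mul, hg₁x, map_inv, map_zpow, hxx, one_zpow, inv_one, mul_one]
  · rw [map_mul, map_inv, map_zpow, hl, mul_inv_cancel]

theorem mem_center_of_commKer {p : ℕ} [Fact p.Prime]
    (hc : ∀ a b : E, a * b * a⁻¹ * b⁻¹ ∈ Subgroup.center E)
    (hZ : Nat.card (Subgroup.center E) = p) {x y : E} (hxy : x * y ≠ y * x) {c : E}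
    (h1 : x * c = c * x) (h2 : y * c = c * y) (h3 : ∀ d ∈ commKer hc x y, d * c = c * d) :
    c ∈ Subgroup.center E := by
  rw [Subgroup.mem_center_iff]
  intro g
  obtain ⟨d, hd, l, k, rfl⟩ := exists_decomp hc hZ hxy g
  have c1 : Commute c d := (h3 d hd).symm
  have c2 : Commute c x := h1.symm
  have c3 : Commute c y := h2.symm
  exact (((c1.mul_right (c2.zpow_right l)).mul_right (c3.zpow_right k))).symm.eq

/-- A finite group whose centre has prime order `p` and contains all commutators has order
`p ^ (2 n + 1)`. -/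
theorem card_eq_prime_pow_odd (p : ℕ) [Fact p.Prime] :
    ∀ (m : ℕ) (E : Type u) [Group E] [Finite E], Nat.card E = m →
      Nat.card (Subgroup.center E) = p →
      (∀ a b : E, a * b * a⁻¹ * b⁻¹ ∈ Subgroup.center E) →
      ∃ n : ℕ, Nat.card E = p ^ (2 * n + 1) := by
  intro m
  induction m using Nat.strong_induction_on with
  | _ m ih =>
    intro E _ _ hm hZ hc
    by_cases hall : ∀ x : E, x ∈ Subgroup.center E
    · refine ⟨0, ?_⟩
      have : Subgroup.center E = ⊤ := (Subgroup.eq_top_iff' _).mpr hall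
      rw [this, Subgroup.card_top] at hZ
      rw [hZ]; simp
    · push Not at hall
      obtain ⟨x, hx⟩ := hall
      rw [Subgroup.mem_center_iff] at hx
      push Not at hx
      obtain ⟨y, hyx⟩ := hx
      have hxy : x * y ≠ y * x := fun h => hyx h.symm
      have hidx := index_commKer hc hZ hxy
      have hcard : Nat.card (commKer hc x y) * (p * p) = Nat.card E := by
        rw [← hidx]; exact Subgroup.card_mul_index _
      have hcen : ∀ c : commKer hc x y,
          c ∈ Subgroup.center (commKer hc x y) ↔ (c : E) ∈ Subgroup.center E := by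
        intro c
        constructor
        · intro h
          have hcC := (mem_commKer hc x y c).mp c.2
          apply mem_center_of_commKer hc hZ hxy hcC.1 hcC.2
          intro d hd
          have := (Subgroup.mem_center_iff.mp h) ⟨d, hd⟩
          exact congrArg Subtype.val this
        · intro h
          rw [Subgroup.mem_center_iff]
          intro d
          apply Subtype.ext
          exact (Subgroup.mem_center_iff.mp h) d
      have hZC : Nat.card (Subgroup.center (commKer hc x y)) = p := by
        rw [← hZ]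
        refine Nat.card_congr ?_
        refine
          { toFun := fun c => ⟨c.1.1, (hcen c.1).mp c.2⟩
            invFun := fun z => ⟨⟨z.1, ?_⟩, ?_⟩
            left_inv := fun c => rfl
            right_inv := fun z => rfl }
        · rw [mem_commKer]
          exact ⟨((Subgroup.mem_center_iff.mp z.2) x), ((Subgroup.mem_center_iff.mp z.2) y)⟩
        · exact (hcen _).mpr z.2
      have hcC : ∀ a b : commKer hc x y,
          a * b * a⁻¹ * b⁻¹ ∈ Subgroup.center (commKer hc x y) := by
        intro a b
        rw [hcen]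
        exact hc a b
      have hp : 2 ≤ p := (Fact.out : p.Prime).two_le
      have hlt : Nat.card (commKer hc x y) < m := by
        have hpos : 0 < Nat.card (commKer hc x y) := Nat.card_pos
        rw [← hm, ← hcard]
        have h4 : 4 ≤ p * p := Nat.mul_le_mul hp hp
        calc Nat.card (commKer hc x y) < Nat.card (commKer hc x y) * 4 := by omega
          _ ≤ Nat.card (commKer hc x y) * (p * p) := Nat.mul_le_mul_left _ h4
      obtain ⟨n, hn⟩ := ih (Nat.card (commKer hc x y)) hlt (commKer hc x y) rfl hZC hcC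
      refine ⟨n + 1, ?_⟩
      rw [← hcard, hn]
      ring

end Extraspecial

end Cfsg.Agent.Lib.Helper24
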