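import Cfsg.Agent.Lib.Helper24.BSW

set_option autoImplicit false

namespace Cfsg.Agent.Lib.Helper24

section BSW2
variable {G : Type*} [Group G] [Finite G] {T : Sylow 2 G} {u : G}

/-- There is an involution outside `H = N_G(T)`. -/
theorem bsw_exists_u (h : BSWHyp T) : ∃ u : G, orderOf u = 2 ∧ u ∉ bswH T := by
  obtain ⟨s, hs, ho⟩ := bsw_exists_inv h
  have hne : bswH T ≠ ⊤ := (bsw_se h).1
  obtain ⟨g, hg⟩ : ∃ g : G, g ∉ bswH T := by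
    by_contra hall
    push Not at hall
    exact hne ((Subgroup.eq_top_iff' _).mpr hall)
  refine ⟨g * s * g⁻¹, by rw [orderOf_conj']; exact ho, ?_⟩
  intro hmem
  exact hg (se_key (bsw_se h) (bsw_T_le T hs) ho hmem)

/-- `T` acts freely on the points other than `x`. -/
theorem bsw_T_free (h : BSWHyp T) {t : G} {b : G ⧸ bswH T} (ht : t ∈ (T : Subgroup G))
    (hb : b ≠ bswX T) (htb : t • b = b) : t = 1 := by
  by_contra h1
  have ho := bsw_orderOf h ht h1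
  have hx : t • bswX T = bswX T := (bsw_smul_X_eq_iff T t).mpr (bsw_T_le T ht)
  exact hb (se_fix_unique (bsw_se h) ho htb hx)

/-- The `H`-orbit of a point `v • x` is its `T`-orbit. -/
theorem bsw_H_smul (h : BSWHyp T) {v : G} (hv : orderOf v = 2) (hvH : v ∉ bswH T) {g : G}
    (hg : g ∈ bswH T) : ∃ t ∈ (T : Subgroup G), g • (v • bswX T) = t • (v • bswX T) := by
  obtain ⟨d, hd, t, ht, hgdt⟩ := bsw_H_eq h hv hvH hg
  refine ⟨d * t * d⁻¹, bsw_conj_mem (bsw_D_le T v hd) ht, ?_⟩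
  have : g = (d * t * d⁻¹) * d := by rw [hgdt]; group
  rw [this, mul_smul, ((bsw_mem_D_iff T v d).mp hd).2]

theorem bsw_ne_X_of_smul (T : Sylow 2 G) {g : G} {b : G ⧸ bswH T} (hg : g ∈ bswH T)
    (hb : b ≠ bswX T) : g • b ≠ bswX T := by
  intro h0
  apply hb
  have : b = g⁻¹ • (g • b) := by rw [← mul_smul, inv_mul_cancel, one_smul]
  rw [this, h0]
  exact (bsw_smul_X_eq_iff T g⁻¹).mpr ((bswH T).inv_mem hg)

/-- `T` is transitive on the points other than `x`. -/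
theorem bsw_T_trans (h : BSWHyp T) (hu : orderOf u = 2) (huH : u ∉ bswH T) {b : G ⧸ bswH T}
    (hb : b ≠ bswX T) : ∃ t ∈ (T : Subgroup G), t • (u • bswX T) = b := by
  obtain ⟨v, hvo, hvH, hvb⟩ := bsw_exists_inv_smul h hb
  obtain ⟨e, he, he1⟩ := bsw_D_ne_bot h hu huH
  have heH : e ∈ bswH T := bsw_D_le T u he
  -- e • b = t'' • b
  obtain ⟨t'', ht'', het⟩ := bsw_H_smul h hvo hvH heH
  rw [hvb] at het
  -- ψ t = t⁻¹ * (e t e⁻¹) is injective on T hence surjective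
  let ψ : ↥(T : Subgroup G) → ↥(T : Subgroup G) := fun t =>
    ⟨t.1⁻¹ * (e * t.1 * e⁻¹), (T : Subgroup G).mul_mem ((T : Subgroup G).inv_mem t.2)
      (bsw_conj_mem heH t.2)⟩
  have hψinj : Function.Injective ψ := by
    intro t₁ t₂ h12
    have h1 : t₁.1⁻¹ * (e * t₁.1 * e⁻¹) = t₂.1⁻¹ * (e * t₂.1 * e⁻¹) := congrArg Subtype.val h12
    -- s = t₂ t₁⁻¹ commutes with e
    have hs : t₂.1 * t₁.1⁻¹ ∈ (T : Subgroup G) :=
      (T : Subgroup G).mul_mem t₂.2 ((T : Subgroup G).inv_mem t₁.2)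
    have hc : e * (t₂.1 * t₁.1⁻¹) = (t₂.1 * t₁.1⁻¹) * e := by
      have h2 : e * t₂.1 * e⁻¹ = t₂.1 * (t₁.1⁻¹ * (e * t₁.1 * e⁻¹)) := by rw [h1]; group
      have h3 : e * (t₂.1 * t₁.1⁻¹) * e⁻¹ = (e * t₂.1 * e⁻¹) * (e * t₁.1 * e⁻¹)⁻¹ := by group
      have h4 : e * (t₂.1 * t₁.1⁻¹) * e⁻¹ = t₂.1 * t₁.1⁻¹ := by
        rw [h3, h2]; group
      calc e * (t₂.1 * t₁.1⁻¹) = (e * (t₂.1 * t₁.1⁻¹) * e⁻¹) * e := by group
        _ = (t₂.1 * t₁.1⁻¹) * e := by rw [h4]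
    by_contra hne
    have hs1 : t₂.1 * t₁.1⁻¹ ≠ 1 := by
      intro h0
      apply hne
      apply Subtype.ext
      have : t₂.1 = (t₂.1 * t₁.1⁻¹) * t₁.1 := by group
      rw [this, h0, one_mul]
    exact he1 (bsw_D_inf_T h huH he (bsw_mem_of_commute h hs hs1 hc))
  have hψsurj : Function.Surjective ψ := Finite.surjective_of_injective hψinj
  obtain ⟨t, ht⟩ := hψsurj ⟨t''⁻¹, (T : Subgroup G).inv_mem ht''⟩
  have ht' : t.1⁻¹ * (e * t.1 * e⁻¹) = t''⁻¹ := congrArg Subtype.val ht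
  -- e fixes b₁ = t • b
  have hb₁ : t.1 • b ≠ bswX T := bsw_ne_X_of_smul T (bsw_T_le T t.2) hb
  have heb₁ : e • (t.1 • b) = t.1 • b := by
    have h1 : e * t.1 = (e * t.1 * e⁻¹) * e := by group
    rw [← mul_smul, h1, mul_smul, het, ← mul_smul]
    have h2 : e * t.1 * e⁻¹ * t'' = t.1 := by
      have : e * t.1 * e⁻¹ = t.1 * t''⁻¹ := by rw [← ht']; group
      rw [this]; group
    rw [h2]
  -- every e' ∈ D fixes b₁
  have hfix : ∀ e' ∈ bswD T u, e' • (t.1 • b) = t.1 • b := by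
    intro e' he'
    have he'H : e' * t.1 ∈ bswH T := (bswH T).mul_mem (bsw_D_le T u he') (bsw_T_le T t.2)
    obtain ⟨t₄, ht₄, h4⟩ := bsw_H_smul h hvo hvH he'H
    rw [hvb] at h4
    -- e' • b₁ = s • b₁ with s = t₄ t⁻¹
    have hs : t₄ * t.1⁻¹ ∈ (T : Subgroup G) :=
      (T : Subgroup G).mul_mem ht₄ ((T : Subgroup G).inv_mem t.2)
    have h5 : e' • (t.1 • b) = (t₄ * t.1⁻¹) • (t.1 • b) := by
      rw [← mul_smul, h4, ← mul_smul]
      congr 1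
      group
    -- e fixes e' • b₁
    have h6 : e • ((t₄ * t.1⁻¹) • (t.1 • b)) = (t₄ * t.1⁻¹) • (t.1 • b) := by
      rw [← h5, ← mul_smul, bsw_D_comm h hu huH he he', mul_smul, heb₁]
    -- so s⁻¹ e s e⁻¹ fixes b₁
    have h7 : ((t₄ * t.1⁻¹)⁻¹ * (e * (t₄ * t.1⁻¹) * e⁻¹)) • (t.1 • b) = t.1 • b := by
      have e1 : (t₄ * t.1⁻¹)⁻¹ * (e * (t₄ * t.1⁻¹) * e⁻¹) =
          (t₄ * t.1⁻¹)⁻¹ * e * (t₄ * t.1⁻¹) * e⁻¹ := by group
      have e2 : e⁻¹ • (t.1 • b) = t.1 • b := by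
        rw [inv_smul_eq_iff, heb₁]
      rw [e1, mul_smul, e2, mul_smul, mul_smul, h6, ← mul_smul, inv_mul_cancel, one_smul]
    have h8 : (t₄ * t.1⁻¹)⁻¹ * (e * (t₄ * t.1⁻¹) * e⁻¹) ∈ (T : Subgroup G) :=
      (T : Subgroup G).mul_mem ((T : Subgroup G).inv_mem hs) (bsw_conj_mem heH hs)
    have h9 := bsw_T_free h h8 hb₁ h7
    have hc : e * (t₄ * t.1⁻¹) = (t₄ * t.1⁻¹) * e := by
      calc e * (t₄ * t.1⁻¹) = (t₄ * t.1⁻¹) * ((t₄ * t.1⁻¹)⁻¹ * (e * (t₄ * t.1⁻¹) * e⁻¹)) * e := by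
            group
        _ = (t₄ * t.1⁻¹) * e := by rw [h9, mul_one]
    have hs1 : t₄ * t.1⁻¹ = 1 := by
      by_contra hs1
      exact he1 (bsw_D_inf_T h huH he (bsw_mem_of_commute h hs hs1 hc))
    rw [h5, hs1, one_smul]
  rcases bsw_fix_D h hu huH hfix with h1 | h1
  · exact absurd h1 hb₁
  · refine ⟨t.1⁻¹, (T : Subgroup G).inv_mem t.2, ?_⟩
    rw [← h1, ← mul_smul, inv_mul_cancel, one_smul]

/-- `T` acts regularly on the points other than `x`. -/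
theorem bsw_T_regular (h : BSWHyp T) {a b : G ⧸ bswH T} (ha : a ≠ bswX T) (hb : b ≠ bswX T) :
    ∃! t : G, t ∈ (T : Subgroup G) ∧ t • a = b := by
  obtain ⟨u, hu, huH⟩ := bsw_exists_u h
  obtain ⟨t₁, ht₁, h1⟩ := bsw_T_trans h hu huH ha
  obtain ⟨t₂, ht₂, h2⟩ := bsw_T_trans h hu huH hb
  have h0 : (t₂ * t₁⁻¹) • a = b := by
    rw [← h1, ← mul_smul]
    have : t₂ * t₁⁻¹ * t₁ = t₂ := by group
    rw [this, h2]
  have h0T : t₂ * t₁⁻¹ ∈ (T : Subgroup G) :=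
    (T : Subgroup G).mul_mem ht₂ ((T : Subgroup G).inv_mem ht₁)
  refine ⟨t₂ * t₁⁻¹, ⟨h0T, h0⟩, ?_⟩
  rintro t ⟨ht, hta⟩
  have h3 : ((t₂ * t₁⁻¹)⁻¹ * t) • a = a := by
    rw [mul_smul, hta, inv_smul_eq_iff, h0]
  have h4 := bsw_T_free h ((T : Subgroup G).mul_mem ((T : Subgroup G).inv_mem h0T) ht) ha h3
  calc t = (t₂ * t₁⁻¹) * ((t₂ * t₁⁻¹)⁻¹ * t) := by group
    _ = t₂ * t₁⁻¹ := by rw [h4, mul_one]


/-- `D` is transitive on the points other than `x`, `y`. -/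
theorem bsw_D_trans_pts (h : BSWHyp T) (hu : orderOf u = 2) (huH : u ∉ bswH T)
    {a b : G ⧸ bswH T} (ha : a ≠ bswX T) (ha' : a ≠ u • bswX T) (hb : b ≠ bswX T)
    (hb' : b ≠ u • bswX T) : ∃ d ∈ bswD T u, d • a = b := by
  obtain ⟨t₁, ht₁, h1⟩ := bsw_T_trans h hu huH ha
  obtain ⟨t₂, ht₂, h2⟩ := bsw_T_trans h hu huH hb
  have ht₁1 : t₁ ≠ 1 := by
    rintro rfl
    rw [one_smul] at h1
    exact ha' h1.symm
  have ht₂1 : t₂ ≠ 1 := by
    rintro rfl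
    rw [one_smul] at h2
    exact hb' h2.symm
  obtain ⟨d, hd, hdc⟩ := bsw_D_trans h hu huH ht₁ ht₁1 ht₂ ht₂1
  refine ⟨d, hd, ?_⟩
  rw [← h1, ← mul_smul]
  have : d * t₁ = (d * t₁ * d⁻¹) * d := by group
  rw [this, hdc, mul_smul, ((bsw_mem_D_iff T u d).mp hd).2, h2]

theorem bsw_move_pair (h : BSWHyp T) (hu : orderOf u = 2) (huH : u ∉ bswH T)
    {a₁ a₂ : G ⧸ bswH T} (h12 : a₁ ≠ a₂) :
    ∃ g : G, g • a₁ = bswX T ∧ g • a₂ = u • bswX T := by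
  induction a₁ using QuotientGroup.induction_on with
  | H k =>
    have h1 : k⁻¹ • ((k : G) : G ⧸ bswH T) = bswX T := by
      rw [MulAction.Quotient.smul_mk, smul_eq_mul, inv_mul_cancel]
    have h2 : k⁻¹ • a₂ ≠ bswX T := by
      intro h0
      apply h12
      rw [← h1] at h0
      exact (smul_left_cancel _ h0).symm
    obtain ⟨t, ht, htb⟩ := bsw_T_trans h hu huH h2
    refine ⟨t⁻¹ * k⁻¹, ?_, ?_⟩
    · rw [mul_smul, h1]
      exact (bsw_smul_X_eq_iff T t⁻¹).mpr (bsw_T_le T ((T : Subgroup G).inv_mem ht))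
    · rw [mul_smul, ← htb, ← mul_smul, inv_mul_cancel, one_smul]

/-- `G` is triply transitive on `G ⧸ H`. -/
theorem bsw_three_trans (h : BSWHyp T) {x₁ x₂ x₃ y₁ y₂ y₃ : G ⧸ bswH T} (hx12 : x₁ ≠ x₂)
    (hx13 : x₁ ≠ x₃) (hx23 : x₂ ≠ x₃) (hy12 : y₁ ≠ y₂) (hy13 : y₁ ≠ y₃) (hy23 : y₂ ≠ y₃) :
    ∃ g : G, g • x₁ = y₁ ∧ g • x₂ = y₂ ∧ g • x₃ = y₃ := by
  obtain ⟨u, hu, huH⟩ := bsw_exists_u h
  obtain ⟨gA, hA1, hA2⟩ := bsw_move_pair h hu huH hx12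
  obtain ⟨gB, hB1, hB2⟩ := bsw_move_pair h hu huH hy12
  have ha3x : gA • x₃ ≠ bswX T := by
    rw [← hA1]; intro h0; exact hx13 (smul_left_cancel _ h0).symm
  have ha3y : gA • x₃ ≠ u • bswX T := by
    rw [← hA2]; intro h0; exact hx23 (smul_left_cancel _ h0).symm
  have hb3x : gB • y₃ ≠ bswX T := by
    rw [← hB1]; intro h0; exact hy13 (smul_left_cancel _ h0).symm
  have hb3y : gB • y₃ ≠ u • bswX T := by
    rw [← hB2]; intro h0; exact hy23 (smul_left_cancel _ h0).symm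
  obtain ⟨d, hd, hdab⟩ := bsw_D_trans_pts h hu huH ha3x ha3y hb3x hb3y
  have hdD := (bsw_mem_D_iff T u d).mp hd
  refine ⟨gB⁻¹ * d * gA, ?_, ?_, ?_⟩
  · rw [mul_smul, mul_smul, hA1, hdD.1, inv_smul_eq_iff, hB1]
  · rw [mul_smul, mul_smul, hA2, hdD.2, inv_smul_eq_iff, hB2]
  · rw [mul_smul, mul_smul, hdab, inv_smul_smul]

/-- An element fixing three distinct points is trivial. -/
theorem bsw_fix_three (h : BSWHyp T) {g : G} {x₁ x₂ x₃ : G ⧸ bswH T} (h12 : x₁ ≠ x₂)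
    (h13 : x₁ ≠ x₃) (h23 : x₂ ≠ x₃) (hg1 : g • x₁ = x₁) (hg2 : g • x₂ = x₂)
    (hg3 : g • x₃ = x₃) : g = 1 := by
  obtain ⟨u, hu, huH⟩ := bsw_exists_u h
  obtain ⟨k, hk1, hk2⟩ := bsw_move_pair h hu huH h12
  have hconj : ∀ z : G ⧸ bswH T, g • z = z → (k * g * k⁻¹) • (k • z) = k • z := by
    intro z hz
    rw [← mul_smul]
    have : k * g * k⁻¹ * k = k * g := by group
    rw [this, mul_smul, hz]
  have hg'x : (k * g * k⁻¹) • bswX T = bswX T := by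
    have := hconj x₁ hg1
    rwa [hk1] at this
  have hg'y : (k * g * k⁻¹) • (u • bswX T) = u • bswX T := by
    have := hconj x₂ hg2
    rwa [hk2] at this
  have hg'a := hconj x₃ hg3
  have hD : k * g * k⁻¹ ∈ bswD T u := (bsw_mem_D_iff T u _).mpr ⟨hg'x, hg'y⟩
  have hax : k • x₃ ≠ bswX T := by
    rw [← hk1]; intro h0; exact h13 (smul_left_cancel _ h0).symm
  have hay : k • x₃ ≠ u • bswX T := by
    rw [← hk2]; intro h0; exact h23 (smul_left_cancel _ h0).symm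
  obtain ⟨t, ht, hta⟩ := bsw_T_trans h hu huH hax
  have ht1 : t ≠ 1 := by
    rintro rfl
    rw [one_smul] at hta
    exact hay hta.symm
  have h5 : ((k * g * k⁻¹) * t * (k * g * k⁻¹)⁻¹) • (u • bswX T) = t • (u • bswX T) := by
    have : (k * g * k⁻¹)⁻¹ • (u • bswX T) = u • bswX T := by rw [inv_smul_eq_iff, hg'y]
    rw [mul_smul, mul_smul, this, hta, hg'a]
  have hyx : u • bswX T ≠ bswX T := by
    intro h0
    exact huH ((bsw_smul_X_eq_iff T u).mp h0)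
  have h6 : (t⁻¹ * ((k * g * k⁻¹) * t * (k * g * k⁻¹)⁻¹)) • (u • bswX T) = u • bswX T := by
    rw [mul_smul, h5, inv_smul_smul]
  have h7 := bsw_T_free h ((T : Subgroup G).mul_mem ((T : Subgroup G).inv_mem ht)
    (bsw_conj_mem (bsw_D_le T u hD) ht)) hyx h6
  have hc : (k * g * k⁻¹) * t = t * (k * g * k⁻¹) := by
    calc (k * g * k⁻¹) * t
        = t * (t⁻¹ * ((k * g * k⁻¹) * t * (k * g * k⁻¹)⁻¹)) * (k * g * k⁻¹) := by group
      _ = t * (k * g * k⁻¹) := by rw [h7, mul_one]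
  have hg'T := bsw_mem_of_commute h ht ht1 hc
  have hg'1 := bsw_D_inf_T h huH hD hg'T
  calc g = k⁻¹ * (k * g * k⁻¹) * k := by group
    _ = 1 := by rw [hg'1]; group

end BSW2

end Cfsg.Agent.Lib.Helper24
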