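import Mathlib
import Cfsg.Agent.Lib.Helper28.SLn

/-!
# Generation of `SL_{n+1}(F_p)`, `p ≤ 3`, by a transvection and a signed cyclic monomial matrix

`eq_top_of_transvections`: a subgroup of `SL_n(F)` containing all elementary transvections is `⊤`.
`wMat n`: the signed cycle; `transvection_mul_wMat`: conjugation by `w` shifts indices cyclically.
`main`: `closure {x, w} = ⊤` for `x = 1 + E₀₁`, over a field with at most three elements.
-/

set_option autoImplicit false
set_option linter.style.haveILetI false

namespace Cfsg.Agent.Lib.Helper24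
namespace SLGen
open Matrix Matrix.SpecialLinearGroup
open scoped commutatorElement

variable {F : Type*} [Field F]

/-- a subgroup of `SL_n(F)` containing all elementary transvections is everything -/
theorem eq_top_of_transvections {ι : Type*} [Fintype ι] [DecidableEq ι] [Nontrivial ι]
    (H : Subgroup (Matrix.SpecialLinearGroup ι F))
    (h : ∀ (i j : ι) (hij : i ≠ j) (a : F), SpecialLinearGroup.transvection hij a ∈ H) : H = ⊤ := by
  refine le_antisymm le_top (fun A _ => ?_)
  refine diagonal_transvection_induction' (fun A => A ∈ H) A (fun i j hij c hc => ?_) h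
    (fun _ _ => mul_mem)
  rw [Cfsg.Agent.Lib.Helper28.diag2n_decompose hij c hc]
  exact mul_mem (mul_mem (mul_mem (mul_mem (mul_mem (h _ _ _ _) (h _ _ _ _)) (h _ _ _ _))
    (h _ _ _ _)) (h _ _ _ _)) (h _ _ _ _)

variable (n : ℕ)

/-- the sign attached to a row of `w` -/
def sgn (k : Fin (n + 1)) : F := if k.val = n then (-1) ^ n else 1

theorem sgn_mul_self (k : Fin (n + 1)) : sgn (F := F) n k * sgn n k = 1 := by
  unfold sgn
  split_ifs
  · rw [← mul_pow]; simp
  · simp

/-- the signed cyclic monomial matrix -/
def wMat : Matrix (Fin (n + 1)) (Fin (n + 1)) F :=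
  Matrix.of (fun i j => if j.val = i.val + 1 then 1 else if i.val = n ∧ j.val = 0 then (-1) ^ n else 0)

theorem wMat_apply (k l : Fin (n + 1)) :
    wMat (F := F) n k l = if l = k + 1 then sgn n k else 0 := by
  unfold wMat sgn
  rw [Matrix.of_apply]
  by_cases hk : k = Fin.last n
  · subst hk
    have h1 : ¬ (l.val = (Fin.last n).val + 1) := by
      have := l.isLt
      simp only [Fin.val_last]; omega
    rw [if_neg h1, Fin.last_add_one]
    simp only [Fin.val_last, true_and, if_true]
    by_cases hl : l = 0
    · subst hl; simp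
    · have : l.val ≠ 0 := fun h => hl (Fin.ext h)
      simp [hl, this]
  · have hlt : k < Fin.last n := lt_of_le_of_ne (Fin.le_last k) hk
    have hv : (k + 1).val = k.val + 1 := Fin.val_add_one_of_lt hlt
    have hkn : k.val ≠ n := fun h => hk (Fin.ext (by simpa using h))
    by_cases hl : l = k + 1
    · subst hl
      simp [hv, hkn]
    · have : l.val ≠ k.val + 1 := fun h => hl (Fin.ext (by rw [hv]; exact h))
      simp [hl, this, hkn]

theorem single_mul_wMat (i j : Fin (n + 1)) (a : F) :
    Matrix.single i j a * wMat n = wMat n * Matrix.single (i + 1) (j + 1) (sgn n i * sgn n j * a) := by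
  ext k l
  by_cases hk : k = i
  · subst hk
    rw [Matrix.single_mul_apply_same]
    by_cases hl : l = j + 1
    · subst hl
      rw [Matrix.mul_single_apply_same, wMat_apply, wMat_apply, if_pos rfl, if_pos rfl]
      have := sgn_mul_self (F := F) n k
      calc a * sgn n j = (sgn n k * sgn n k) * (a * sgn n j) := by rw [this, one_mul]
        _ = sgn n k * (sgn n k * sgn n j * a) := by ring
    · rw [Matrix.mul_single_apply_of_ne (hbj := hl), wMat_apply, if_neg hl, mul_zero]
  · rw [Matrix.single_mul_apply_of_ne (h := hk)]
    by_cases hl : l = j + 1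
    · subst hl
      rw [Matrix.mul_single_apply_same, wMat_apply, if_neg, zero_mul]
      intro h
      exact hk (add_right_cancel h).symm
    · rw [Matrix.mul_single_apply_of_ne (hbj := hl)]

theorem transvection_mul_wMat (i j : Fin (n + 1)) (a : F) :
    Matrix.transvection i j a * wMat n =
      wMat n * Matrix.transvection (i + 1) (j + 1) (sgn n i * sgn n j * a) := by
  unfold Matrix.transvection
  rw [add_mul, mul_add, one_mul, mul_one, single_mul_wMat]


/-- in a field with at most three elements every element is `0`, `1` or `-1` -/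
theorem eq_zero_or_one_or_neg_one [Fintype F] (hF : Fintype.card F ≤ 3) (a : F) :
    a = 0 ∨ a = 1 ∨ a = -1 := by
  classical
  by_contra hcon
  simp only [not_or] at hcon
  obtain ⟨h0, h1, h2⟩ := hcon
  -- four distinct elements 0, 1, -1, a unless -1 = 1
  by_cases hm : (-1 : F) = 1
  · -- characteristic two: then card is even, so 2 and {0,1,a} has three elements
    have hsub : ({0, 1, a} : Finset F).card ≤ Fintype.card F := Finset.card_le_univ _
    have h3 : ({0, 1, a} : Finset F).card = 3 := by
      rw [Finset.card_insert_of_notMem, Finset.card_insert_of_notMem, Finset.card_singleton]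
      · simpa using (Ne.symm h1)
      · simp only [Finset.mem_insert, Finset.mem_singleton, not_or]
        exact ⟨zero_ne_one, Ne.symm h0⟩
    have hc : Fintype.card F = 3 := by omega
    have h30 : ((3 : ℕ) : F) = 0 := by rw [← hc]; exact Nat.cast_card_eq_zero F
    have h20 : (2 : F) = 0 := by
      have : (1 : F) + 1 = 0 := by linear_combination (-1 : F) * hm
      rw [← this]; norm_num
    have : (1 : F) = 0 := by
      have e : (1 : F) = ((3 : ℕ) : F) - 2 := by push_cast; ring
      rw [e, h30, h20]; ring
    exact one_ne_zero this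
  · have hsub : ({0, 1, -1, a} : Finset F).card ≤ Fintype.card F := Finset.card_le_univ _
    have h4 : ({0, 1, -1, a} : Finset F).card = 4 := by
      rw [Finset.card_insert_of_notMem, Finset.card_insert_of_notMem, Finset.card_insert_of_notMem,
        Finset.card_singleton]
      · simpa using (Ne.symm h2)
      · simp only [Finset.mem_insert, Finset.mem_singleton, not_or]
        exact ⟨Ne.symm hm, Ne.symm h1⟩
      · simp only [Finset.mem_insert, Finset.mem_singleton, not_or]
        refine ⟨zero_ne_one, ?_, Ne.symm h0⟩
        intro h; exact one_ne_zero (neg_eq_zero.mp h.symm)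
    omega

section gen
variable {n}
variable (H : Subgroup (Matrix.SpecialLinearGroup (Fin (n + 1)) F))

/-- all transvections `t_{ij}(a)` lie in `H` -/
def T (i j : Fin (n + 1)) : Prop :=
  ∀ (hij : i ≠ j) (a : F), SpecialLinearGroup.transvection hij a ∈ H

variable {H}

theorem T_shift {w : Matrix.SpecialLinearGroup (Fin (n + 1)) F}
    (hw : (w : Matrix (Fin (n + 1)) (Fin (n + 1)) F) = wMat n) (hwH : w ∈ H)
    {i j : Fin (n + 1)} (h : T H i j) : T H (i + 1) (j + 1) := by
  intro hij' b
  have hij : i ≠ j := fun e => hij' (by rw [e])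
  have key : SpecialLinearGroup.transvection hij (sgn n i * sgn n j * b) * w =
      w * SpecialLinearGroup.transvection hij' b := by
    apply Subtype.ext
    show Matrix.transvection i j (sgn n i * sgn n j * b) * (w : Matrix _ _ F) =
      (w : Matrix _ _ F) * Matrix.transvection (i + 1) (j + 1) b
    rw [hw, transvection_mul_wMat]
    congr 2
    have h1 := sgn_mul_self (F := F) n i
    have h2 := sgn_mul_self (F := F) n j
    calc sgn n i * sgn n j * (sgn n i * sgn n j * b)
        = (sgn n i * sgn n i) * (sgn n j * sgn n j) * b := by ring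
      _ = b := by rw [h1, h2, one_mul, one_mul]
  have : SpecialLinearGroup.transvection hij' b =
      w⁻¹ * SpecialLinearGroup.transvection hij (sgn n i * sgn n j * b) * w := by
    rw [mul_assoc, key, inv_mul_cancel_left]
  rw [this]
  exact mul_mem (mul_mem (inv_mem hwH) (h hij _)) hwH

theorem T_trans {i k j : Fin (n + 1)} (hij : i ≠ j) (h1 : T H i k) (h2 : T H k j) : T H i j := by
  intro _ a
  by_cases hik : i = k
  · subst hik; exact h2 _ a
  by_cases hkj : k = j
  · subst hkj; exact h1 _ a
  rw [Cfsg.Agent.Lib.Helper28.transvection_eq_commutator hij hik hkj a]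
  rw [commutatorElement_def]
  exact mul_mem (mul_mem (mul_mem (h1 _ _) (h2 _ _)) (inv_mem (h1 _ _))) (inv_mem (h2 _ _))

open Fin.NatCast in
theorem T_all {w : Matrix.SpecialLinearGroup (Fin (n + 1)) F}
    (hw : (w : Matrix (Fin (n + 1)) (Fin (n + 1)) F) = wMat n) (hwH : w ∈ H)
    (h01 : T H 0 1) : ∀ i j : Fin (n + 1), T H i j := by
  -- consecutive pairs
  have hcons : ∀ m : ℕ, T H ((m : ℕ) : Fin (n + 1)) (((m : ℕ) : Fin (n + 1)) + 1) := by
    intro m
    induction m with
    | zero => simpa using h01
    | succ m ih =>
      have := T_shift hw hwH ih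
      simpa [Nat.cast_succ] using this
  have hcons' : ∀ i : Fin (n + 1), T H i (i + 1) := by
    intro i
    have := hcons i.val
    rwa [Fin.cast_val_eq_self] at this
  -- chains
  have hchain : ∀ d : ℕ, 1 ≤ d → d ≤ n → ∀ i : Fin (n + 1), T H i (i + ((d : ℕ) : Fin (n + 1))) := by
    intro d hd1
    induction d, hd1 using Nat.le_induction with
    | base => intro _ i; simpa using hcons' i
    | succ d hd1 ih =>
      intro hdn i
      have h1 := ih (by omega) i
      have h2 := hcons' (i + ((d : ℕ) : Fin (n + 1)))
      have hne : i ≠ i + (((d + 1 : ℕ)) : Fin (n + 1)) := by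
        intro h
        have h0 : (((d + 1 : ℕ)) : Fin (n + 1)) = 0 := by
          have := h.symm
          rwa [add_eq_left] at this
        have hv := congrArg Fin.val h0
        rw [Fin.val_natCast, Nat.mod_eq_of_lt (by omega)] at hv
        simp at hv
      have e : i + (((d + 1 : ℕ)) : Fin (n + 1)) = i + ((d : ℕ) : Fin (n + 1)) + 1 := by
        rw [Nat.cast_succ, add_assoc]
      rw [e] at hne ⊢
      exact T_trans hne h1 h2
  intro i j hij a
  have hd : j = i + (((j - i).val : ℕ) : Fin (n + 1)) := by
    rw [Fin.cast_val_eq_self]; abel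
  have hne : j - i ≠ 0 := fun h => hij (sub_eq_zero.mp h).symm
  have h1 : 1 ≤ (j - i).val := by
    rcases Nat.eq_zero_or_pos (j - i).val with h | h
    · exact absurd (Fin.ext h) hne
    · exact h
  have h2 : (j - i).val ≤ n := by have := (j - i).isLt; omega
  have := hchain (j - i).val h1 h2 i
  rw [← hd] at this
  exact this hij a

end gen

theorem main [Fintype F] (hF : Fintype.card F ≤ 3) (n : ℕ) (hn : 1 ≤ n)
    (x w : Matrix.SpecialLinearGroup (Fin (n + 1)) F)
    (hx : (x : Matrix (Fin (n + 1)) (Fin (n + 1)) F) =
      Matrix.transvection (0 : Fin (n + 1)) (1 : Fin (n + 1)) 1)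
    (hw : (w : Matrix (Fin (n + 1)) (Fin (n + 1)) F) = wMat n) :
    Subgroup.closure ({x, w} : Set (Matrix.SpecialLinearGroup (Fin (n + 1)) F)) = ⊤ := by
  haveI : Nontrivial (Fin (n + 1)) := Fin.nontrivial_iff_two_le.mpr (by omega)
  set H := Subgroup.closure ({x, w} : Set (Matrix.SpecialLinearGroup (Fin (n + 1)) F)) with hH
  have hxH : x ∈ H := Subgroup.subset_closure (by simp)
  have hwH : w ∈ H := Subgroup.subset_closure (by simp)
  have h01 : T H (0 : Fin (n + 1)) 1 := by
    intro hij a
    have hx' : x = SpecialLinearGroup.transvection hij 1 := Subtype.ext hx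
    rcases eq_zero_or_one_or_neg_one hF a with rfl | rfl | rfl
    · rw [SpecialLinearGroup.transvection_coeff_zero]; exact one_mem _
    · rw [← hx']; exact hxH
    · rw [← SpecialLinearGroup.transvection_inv, ← hx']; exact inv_mem hxH
  apply eq_top_of_transvections
  intro i j hij a
  exact T_all hw hwH h01 i j hij a

end SLGen
end Cfsg.Agent.Lib.Helper24
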