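import Mathlib

/-! Conjugating transvections of the form `1 + v e₀ᵀ` in `SL_n` (helper24). -/

open Matrix
set_option autoImplicit false

namespace Cfsg.Agent.Lib.Helper24

variable {F : Type*} [Field F]

/-- determinant of a rank-one perturbation -/
theorem det_one_add_vecMulVec {N : ℕ} (x y : Fin N → F) :
    (1 + Matrix.vecMulVec x y).det = 1 + y ⬝ᵥ x := by
  rw [Matrix.vecMulVec_eq Unit, Matrix.det_one_add_replicateCol_mul_replicateRow]

/-- one conjugation step inside the stabiliser of the row `e₀ᵀ` -/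
theorem isConj_step {N : ℕ} [NeZero N] (s₁ s₂ : Matrix.SpecialLinearGroup (Fin N) F)
    (v x y : Fin N → F) (hyx : y ⬝ᵥ x = 0) (hx0 : x 0 = 0)
    (h1 : (s₁ : Matrix (Fin N) (Fin N) F) = 1 + Matrix.vecMulVec v (Pi.single 0 1))
    (h2 : (s₂ : Matrix (Fin N) (Fin N) F) = 1 + Matrix.vecMulVec (v + (y ⬝ᵥ v) • x) (Pi.single 0 1)) :
    IsConj s₁ s₂ := by
  classical
  obtain ⟨h, hh⟩ : ∃ h : Matrix.SpecialLinearGroup (Fin N) F, h = ⟨1 + Matrix.vecMulVec x y, by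
      rw [det_one_add_vecMulVec, hyx, add_zero]⟩ := ⟨_, rfl⟩
  have hcoe : (h : Matrix (Fin N) (Fin N) F) = 1 + Matrix.vecMulVec x y := by rw [hh]
  have hrow : (Pi.single 0 1 : Fin N → F) ᵥ* (h : Matrix (Fin N) (Fin N) F) = Pi.single 0 1 := by
    rw [hcoe, Matrix.vecMul_add, Matrix.vecMul_one, Matrix.vecMul_vecMulVec]
    have : (Pi.single 0 1 : Fin N → F) ⬝ᵥ x = 0 := by
      rw [single_one_dotProduct]; exact hx0
    rw [this, zero_smul, add_zero]
  have hrowinv : (Pi.single 0 1 : Fin N → F) ᵥ* ((h⁻¹ : Matrix.SpecialLinearGroup (Fin N) F) : Matrix (Fin N) (Fin N) F) = Pi.single 0 1 := by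
    have h3 : ((Pi.single 0 1 : Fin N → F) ᵥ* (h : Matrix (Fin N) (Fin N) F)) ᵥ* ((h⁻¹ : Matrix.SpecialLinearGroup (Fin N) F) : Matrix (Fin N) (Fin N) F) = Pi.single 0 1 := by
      rw [Matrix.vecMul_vecMul, ← Matrix.SpecialLinearGroup.coe_mul, mul_inv_cancel,
        Matrix.SpecialLinearGroup.coe_one, Matrix.vecMul_one]
    rw [hrow] at h3
    exact h3
  have hmul : (h : Matrix (Fin N) (Fin N) F) *ᵥ v = v + (y ⬝ᵥ v) • x := by
    rw [hcoe, Matrix.add_mulVec, Matrix.one_mulVec, Matrix.vecMulVec_mulVec, op_smul_eq_smul]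
  rw [isConj_iff]
  refine ⟨h, ?_⟩
  apply Subtype.ext
  rw [Matrix.SpecialLinearGroup.coe_mul, Matrix.SpecialLinearGroup.coe_mul, h1, h2, mul_add,
    add_mul, mul_one, ← Matrix.SpecialLinearGroup.coe_mul, mul_inv_cancel,
    Matrix.SpecialLinearGroup.coe_one, Matrix.mul_vecMulVec, Matrix.vecMulVec_mul, hrowinv, hmul]

/-- the standard transvection `1 + e₁ e₀ᵀ` -/
theorem exists_std {m : ℕ} : ∃ T₀ : Matrix.SpecialLinearGroup (Fin (m + 3)) F,
    (T₀ : Matrix (Fin (m + 3)) (Fin (m + 3)) F) = 1 + Matrix.vecMulVec (Pi.single 1 1) (Pi.single 0 1) := by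
  refine ⟨⟨1 + Matrix.vecMulVec (Pi.single 1 1) (Pi.single 0 1), ?_⟩, rfl⟩
  rw [det_one_add_vecMulVec, single_one_dotProduct]
  simp

theorem exists_sl_of_col {m : ℕ} (v : Fin (m + 3) → F) (hv0 : v 0 = 0) :
    ∃ s : Matrix.SpecialLinearGroup (Fin (m + 3)) F,
      (s : Matrix (Fin (m + 3)) (Fin (m + 3)) F) = 1 + Matrix.vecMulVec v (Pi.single 0 1) := by
  refine ⟨⟨1 + Matrix.vecMulVec v (Pi.single 0 1), ?_⟩, rfl⟩
  rw [det_one_add_vecMulVec, single_one_dotProduct, hv0, add_zero]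

/-- all `1 + v e₀ᵀ` (`v ≠ 0`, `v₀ = 0`) are conjugate to the standard transvection -/
theorem isConj_std {m : ℕ} (s T₀ : Matrix.SpecialLinearGroup (Fin (m + 3)) F) (v : Fin (m + 3) → F)
    (hv0 : v 0 = 0) (hv : v ≠ 0)
    (hs : (s : Matrix (Fin (m + 3)) (Fin (m + 3)) F) = 1 + Matrix.vecMulVec v (Pi.single 0 1))
    (hT : (T₀ : Matrix (Fin (m + 3)) (Fin (m + 3)) F) = 1 + Matrix.vecMulVec (Pi.single 1 1) (Pi.single 0 1)) :
    IsConj s T₀ := by
  classical
  have h01 : (0 : Fin (m + 3)) ≠ 1 := by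
    intro h; exact absurd (congrArg Fin.val h) (by simp)
  have h2v : ((2 : Fin (m + 3)) : ℕ) = 2 := by
    rw [Fin.coe_ofNat_eq_mod]; exact Nat.mod_eq_of_lt (by omega)
  have h02 : (0 : Fin (m + 3)) ≠ 2 := by
    intro h; have h' := congrArg Fin.val h; rw [h2v] at h'; simp at h'
  have h12 : (1 : Fin (m + 3)) ≠ 2 := by
    intro h; have h' := congrArg Fin.val h; rw [h2v] at h'; simp at h'
  -- case 1: some entry j ∉ {0,1} is nonzero
  have case1 : ∀ (s' : Matrix.SpecialLinearGroup (Fin (m + 3)) F) (w : Fin (m + 3) → F),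
      w 0 = 0 → (∃ j : Fin (m + 3), j ≠ 0 ∧ j ≠ 1 ∧ w j ≠ 0) →
      (s' : Matrix (Fin (m + 3)) (Fin (m + 3)) F) = 1 + Matrix.vecMulVec w (Pi.single 0 1) →
      IsConj s' T₀ := by
    intro s' w hw0 ⟨j, hj0, hj1, hwj⟩ hs'
    obtain ⟨y, hy⟩ : ∃ y : Fin (m + 3) → F, y = Pi.single 1 1 + ((1 - w 1) / w j) • Pi.single j 1 := ⟨_, rfl⟩
    have hyw : y ⬝ᵥ w = 1 := by
      rw [hy, add_dotProduct, smul_dotProduct, single_one_dotProduct, single_one_dotProduct, smul_eq_mul]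
      field_simp
      ring
    have hye : y ⬝ᵥ (Pi.single 1 1 : Fin (m + 3) → F) = 1 := by
      rw [hy, add_dotProduct, smul_dotProduct, single_one_dotProduct, single_one_dotProduct,
        Pi.single_eq_same, Pi.single_eq_of_ne hj1, smul_zero, add_zero]
    refine isConj_step s' T₀ w (Pi.single 1 1 - w) y ?_ ?_ hs' ?_
    · rw [dotProduct_sub, hye, hyw, sub_self]
    · rw [Pi.sub_apply, hw0, Pi.single_eq_of_ne h01, sub_zero]
    · rw [hT, hyw, one_smul]
      congr 2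
      abel
  by_cases hex : ∃ j : Fin (m + 3), j ≠ 0 ∧ j ≠ 1 ∧ v j ≠ 0
  · exact case1 s v hv0 hex hs
  · -- v = v₁ e₁
    have hv1 : v 1 ≠ 0 := by
      intro h1
      apply hv
      funext j
      by_cases hj0 : j = 0
      · rw [hj0, hv0]; rfl
      · by_cases hj1 : j = 1
        · rw [hj1, h1]; rfl
        · by_contra hne
          exact hex ⟨j, hj0, hj1, hne⟩
    -- step: add e₂
    obtain ⟨w, hw⟩ : ∃ w : Fin (m + 3) → F, w = v + ((Pi.single 1 1 : Fin (m + 3) → F) ⬝ᵥ v) • ((v 1)⁻¹ • (Pi.single 2 1 : Fin (m + 3) → F)) := ⟨_, rfl⟩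
    have hw0 : w 0 = 0 := by
      rw [hw, Pi.add_apply, hv0, Pi.smul_apply, Pi.smul_apply, Pi.single_eq_of_ne h02]
      simp
    have hw2 : w 2 ≠ 0 := by
      rw [hw, Pi.add_apply, Pi.smul_apply, Pi.smul_apply, Pi.single_eq_same, single_one_dotProduct]
      have hv2 : v 2 = 0 := by
        by_contra hne
        exact hex ⟨2, h02.symm, h12.symm, hne⟩
      rw [hv2, zero_add, smul_eq_mul, smul_eq_mul, mul_one, mul_inv_cancel₀ hv1]
      exact one_ne_zero
    obtain ⟨s', hs'⟩ := exists_sl_of_col w hw0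
    have hstep : IsConj s s' := by
      refine isConj_step s s' v ((v 1)⁻¹ • (Pi.single 2 1 : Fin (m + 3) → F)) (Pi.single 1 1) ?_ ?_ hs ?_
      · rw [single_one_dotProduct, Pi.smul_apply, Pi.single_eq_of_ne h12, smul_zero]
      · rw [Pi.smul_apply, Pi.single_eq_of_ne h02, smul_zero]
      · rw [hs', hw]
    exact hstep.trans (case1 s' w hw0 ⟨2, h02.symm, h12.symm, hw2⟩ hs')

end Cfsg.Agent.Lib.Helper24
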