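import Mathlib
import Cfsg.Prelude.Def_RootSubgroups
import Cfsg.Agent.Lib.Helper24.TransvConj
import Cfsg.Agent.Lib.Helper24.SLGen

/-!
# Transvections of `SL_n(F)`, `char F = 2`, as root involutions

`IsTv t` : `t = 1 + u φᵀ` with `φ u = 0`, `u, φ ≠ 0`.  All such are conjugate in `SL_{m+3}` (`IsTv.isConj`),
they generate, have order two in characteristic two, and products of two of them commute, have odd order
(semisimple: killed by the squarefree `X (X² - τ X - τ)`), or have order four with square a transvection.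
-/

set_option autoImplicit false
set_option linter.style.haveILetI false

namespace Cfsg.Agent.Lib.Helper24
namespace Transv2
open Matrix Polynomial

variable {F : Type*} [Field F]

theorem vmv_mul {N : ℕ} (u φ v ψ : Fin N → F) :
    vecMulVec u φ * vecMulVec v ψ = (φ ⬝ᵥ v) • vecMulVec u ψ := by
  rw [vecMulVec_mul_vecMulVec, vecMulVec_smul]

theorem vecMul_one_add_single {N : ℕ} (φ : Fin N → F) (i j : Fin N) (c : F) (k : Fin N) :
    (φ ᵥ* (1 + Matrix.single i j c)) k = φ k + (if k = j then φ i * c else 0) := by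
  rw [Matrix.vecMul_add, Matrix.vecMul_one, Pi.add_apply]
  congr 1
  simp only [Matrix.vecMul, dotProduct, Matrix.single_apply]
  by_cases hk : k = j
  · subst hk
    simp
  · simp [hk, Ne.symm hk]

/-- `t` is a transvection `1 + u φᵀ` with `φ u = 0`. -/
def IsTv {N : ℕ} (t : Matrix.SpecialLinearGroup (Fin N) F) : Prop :=
  ∃ u φ : Fin N → F, u ≠ 0 ∧ φ ≠ 0 ∧ φ ⬝ᵥ u = 0 ∧
    (t : Matrix (Fin N) (Fin N) F) = 1 + vecMulVec u φ

/-- row vector with `φ 0 = 1` moved to `e₀`. -/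
theorem exists_row_of_zero_eq_one {m : ℕ} (φ : Fin (m + 2) → F) (h0 : φ 0 = 1) :
    ∃ h : Matrix.SpecialLinearGroup (Fin (m + 2)) F,
      φ ᵥ* (h : Matrix (Fin (m + 2)) (Fin (m + 2)) F) = Pi.single 0 1 := by
  refine ⟨⟨1 - vecMulVec (Pi.single 0 1) (φ - Pi.single 0 1), ?_⟩, ?_⟩
  · have : (1 : Matrix (Fin (m + 2)) (Fin (m + 2)) F) - vecMulVec (Pi.single 0 1) (φ - Pi.single 0 1)
        = 1 + vecMulVec (Pi.single 0 1) (-(φ - Pi.single 0 1)) := by
      rw [vecMulVec_neg, sub_eq_add_neg]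
    rw [this, det_one_add_vecMulVec, neg_dotProduct, sub_dotProduct, dotProduct_single_one,
      dotProduct_single_one, h0, Pi.single_eq_same, sub_self, neg_zero, add_zero]
  · show φ ᵥ* (1 - vecMulVec (Pi.single 0 1) (φ - Pi.single 0 1)) = _
    rw [Matrix.vecMul_sub, Matrix.vecMul_one, vecMul_vecMulVec, dotProduct_single_one, h0, one_smul]
    abel

theorem exists_row_step {m : ℕ} (φ : Fin (m + 2) → F) (j : Fin (m + 2)) (hj : j ≠ 0)
    (hφj : φ j ≠ 0) :
    ∃ h : Matrix.SpecialLinearGroup (Fin (m + 2)) F,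
      φ ᵥ* (h : Matrix (Fin (m + 2)) (Fin (m + 2)) F) = Pi.single 0 1 := by
  set c : F := (1 - φ 0) / φ j with hc
  set h₁ : Matrix.SpecialLinearGroup (Fin (m + 2)) F :=
    Matrix.SpecialLinearGroup.transvection hj c with hh₁
  have h₁v : (h₁ : Matrix (Fin (m + 2)) (Fin (m + 2)) F) = 1 + Matrix.single j 0 c := rfl
  set φ' := φ ᵥ* (h₁ : Matrix (Fin (m + 2)) (Fin (m + 2)) F) with hφ'
  have h0 : φ' 0 = 1 := by
    rw [hφ', h₁v, vecMul_one_add_single, if_pos rfl, hc]
    field_simp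
    ring
  obtain ⟨h₂, hh₂⟩ := exists_row_of_zero_eq_one φ' h0
  refine ⟨h₁ * h₂, ?_⟩
  rw [Matrix.SpecialLinearGroup.coe_mul, ← Matrix.vecMul_vecMul]
  exact hh₂

theorem exists_row {m : ℕ} (φ : Fin (m + 2) → F) (hφ : φ ≠ 0) :
    ∃ h : Matrix.SpecialLinearGroup (Fin (m + 2)) F,
      φ ᵥ* (h : Matrix (Fin (m + 2)) (Fin (m + 2)) F) = Pi.single 0 1 := by
  by_cases hex : ∃ j : Fin (m + 2), j ≠ 0 ∧ φ j ≠ 0
  · obtain ⟨j, hj, hφj⟩ := hex
    exact exists_row_step φ j hj hφj
  · have h0 : φ 0 ≠ 0 := by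
      intro h0
      apply hφ
      funext j
      by_cases hj : j = 0
      · rw [hj, h0]; rfl
      · by_contra hne
        exact hex ⟨j, hj, hne⟩
    have h01 : (0 : Fin (m + 2)) ≠ 1 := by
      intro h; exact absurd (congrArg Fin.val h) (by simp)
    set h₁ : Matrix.SpecialLinearGroup (Fin (m + 2)) F :=
      Matrix.SpecialLinearGroup.transvection h01 1 with hh₁
    have h₁v : (h₁ : Matrix (Fin (m + 2)) (Fin (m + 2)) F) = 1 + Matrix.single 0 1 1 := rfl
    set φ' := φ ᵥ* (h₁ : Matrix (Fin (m + 2)) (Fin (m + 2)) F) with hφ'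
    have h1 : φ' 1 ≠ 0 := by
      rw [hφ', h₁v, vecMul_one_add_single, if_pos rfl, mul_one]
      have : φ 1 = 0 := by
        by_contra hne
        exact hex ⟨1, h01.symm, hne⟩
      rw [this, zero_add]
      exact h0
    obtain ⟨h₂, hh₂⟩ := exists_row_step φ' 1 h01.symm h1
    refine ⟨h₁ * h₂, ?_⟩
    rw [Matrix.SpecialLinearGroup.coe_mul, ← Matrix.vecMul_vecMul]
    exact hh₂

theorem sl_inv_mul_val {N : ℕ} (g : Matrix.SpecialLinearGroup (Fin N) F) :
    ((g⁻¹ : Matrix.SpecialLinearGroup (Fin N) F) : Matrix (Fin N) (Fin N) F) *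
      (g : Matrix (Fin N) (Fin N) F) = 1 := by
  rw [← Matrix.SpecialLinearGroup.coe_mul, inv_mul_cancel, Matrix.SpecialLinearGroup.coe_one]

theorem sl_mul_inv_val {N : ℕ} (g : Matrix.SpecialLinearGroup (Fin N) F) :
    (g : Matrix (Fin N) (Fin N) F) *
      ((g⁻¹ : Matrix.SpecialLinearGroup (Fin N) F) : Matrix (Fin N) (Fin N) F) = 1 := by
  rw [← Matrix.SpecialLinearGroup.coe_mul, mul_inv_cancel, Matrix.SpecialLinearGroup.coe_one]

theorem IsTv.conj {N : ℕ} {t : Matrix.SpecialLinearGroup (Fin N) F} (ht : IsTv t)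
    (g : Matrix.SpecialLinearGroup (Fin N) F) : IsTv (g * t * g⁻¹) := by
  obtain ⟨u, φ, hu, hφ, hφu, ht⟩ := ht
  refine ⟨(g : Matrix (Fin N) (Fin N) F) *ᵥ u,
    φ ᵥ* ((g⁻¹ : Matrix.SpecialLinearGroup (Fin N) F) : Matrix (Fin N) (Fin N) F), ?_, ?_, ?_, ?_⟩
  · intro h
    apply hu
    have := congrArg (fun w => ((g⁻¹ : Matrix.SpecialLinearGroup (Fin N) F) :
      Matrix (Fin N) (Fin N) F) *ᵥ w) h
    simp only [Matrix.mulVec_mulVec, sl_inv_mul_val, Matrix.one_mulVec, Matrix.mulVec_zero] at this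
    exact this
  · intro h
    apply hφ
    have := congrArg (fun w => w ᵥ* (g : Matrix (Fin N) (Fin N) F)) h
    simp only [Matrix.vecMul_vecMul, sl_inv_mul_val, Matrix.vecMul_one, Matrix.zero_vecMul] at this
    exact this
  · rw [← Matrix.dotProduct_mulVec, Matrix.mulVec_mulVec, sl_inv_mul_val, Matrix.one_mulVec, hφu]
  · rw [Matrix.SpecialLinearGroup.coe_mul, Matrix.SpecialLinearGroup.coe_mul, ht, mul_add, add_mul,
      mul_one, sl_mul_inv_val, Matrix.mul_vecMulVec, Matrix.vecMulVec_mul]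

/-- elementary transvections are transvections. -/
theorem isTv_transvection {N : ℕ} {i j : Fin N} (hij : i ≠ j) (c : F) (hc : c ≠ 0) :
    IsTv (Matrix.SpecialLinearGroup.transvection hij c) := by
  refine ⟨c • Pi.single i 1, Pi.single j 1, ?_, ?_, ?_, ?_⟩
  · intro h
    have := congrFun h i
    simp at this
    exact hc this
  · intro h
    have := congrFun h j
    simp at this
  · rw [dotProduct_smul, single_one_dotProduct, Pi.single_eq_of_ne hij.symm, smul_zero]
  · show (1 : Matrix (Fin N) (Fin N) F) + Matrix.single i j c = _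
    congr 1
    ext k l
    simp only [Matrix.single_apply, Matrix.vecMulVec_apply, Pi.smul_apply, Pi.single_apply,
      smul_eq_mul]
    by_cases hk : i = k <;> by_cases hl : j = l <;> simp [hk, hl, eq_comm]

theorem isTv_of_val_transvection {N : ℕ} {i j : Fin N} (hij : i ≠ j) (c : F) (hc : c ≠ 0)
    (t : Matrix.SpecialLinearGroup (Fin N) F)
    (ht : (t : Matrix (Fin N) (Fin N) F) = Matrix.transvection i j c) : IsTv t := by
  have : t = Matrix.SpecialLinearGroup.transvection hij c := Subtype.ext ht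
  rw [this]
  exact isTv_transvection hij c hc

theorem IsTv.isConj_T0 {m : ℕ} {t T₀ : Matrix.SpecialLinearGroup (Fin (m + 3)) F} (ht : IsTv t)
    (hT : (T₀ : Matrix (Fin (m + 3)) (Fin (m + 3)) F) =
      1 + Matrix.vecMulVec (Pi.single 1 1) (Pi.single 0 1)) : IsConj t T₀ := by
  obtain ⟨u, φ, hu, hφ, hφu, ht⟩ := ht
  obtain ⟨h, hh⟩ := exists_row (m := m + 1) φ hφ
  set s : Matrix.SpecialLinearGroup (Fin (m + 3)) F := h⁻¹ * t * h with hs
  set v : Fin (m + 3) → F :=
    ((h⁻¹ : Matrix.SpecialLinearGroup (Fin (m + 3)) F) : Matrix (Fin (m + 3)) (Fin (m + 3)) F) *ᵥ u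
    with hv
  have hsv : (s : Matrix (Fin (m + 3)) (Fin (m + 3)) F) = 1 + vecMulVec v (Pi.single 0 1) := by
    rw [hs, Matrix.SpecialLinearGroup.coe_mul, Matrix.SpecialLinearGroup.coe_mul, ht, mul_add,
      add_mul, mul_one, sl_inv_mul_val, Matrix.mul_vecMulVec, Matrix.vecMulVec_mul, hh]
  have hv0 : v 0 = 0 := by
    have : v 0 = (Pi.single 0 1 : Fin (m + 3) → F) ⬝ᵥ v := by
      rw [single_one_dotProduct]
    rw [this, ← hh, hv, ← Matrix.dotProduct_mulVec, Matrix.mulVec_mulVec, sl_mul_inv_val,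
      Matrix.one_mulVec, hφu]
  have hvne : v ≠ 0 := by
    intro h0
    apply hu
    have := congrArg (fun w => (h : Matrix (Fin (m + 3)) (Fin (m + 3)) F) *ᵥ w) h0
    simp only [hv, Matrix.mulVec_mulVec, sl_mul_inv_val, Matrix.one_mulVec,
      Matrix.mulVec_zero] at this
    exact this
  have h1 : IsConj s T₀ := isConj_std s T₀ v hv0 hvne hsv hT
  have h2 : IsConj t s := by
    rw [isConj_iff]
    exact ⟨h⁻¹, by rw [hs, inv_inv]⟩
  exact h2.trans h1

theorem IsTv.isConj {m : ℕ} {t t' : Matrix.SpecialLinearGroup (Fin (m + 3)) F} (ht : IsTv t)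
    (ht' : IsTv t') : IsConj t t' := by
  obtain ⟨T₀, hT⟩ := exists_std (F := F) (m := m)
  exact (ht.isConj_T0 hT).trans (ht'.isConj_T0 hT).symm

section pair
variable {N : ℕ} (u φ v ψ : Fin N → F)

/-- `a b - 1` for `a = 1 + u φᵀ`, `b = 1 + v ψᵀ`. -/
def Mm : Matrix (Fin N) (Fin N) F :=
  vecMulVec u φ + vecMulVec v ψ + (φ ⬝ᵥ v) • vecMulVec u ψ

def Kk : Matrix (Fin N) (Fin N) F :=
  (φ ⬝ᵥ v) • vecMulVec u ψ + (ψ ⬝ᵥ u) • vecMulVec v φ

theorem one_add_mul_one_add :
    (1 + vecMulVec u φ) * (1 + vecMulVec v ψ) = 1 + Mm u φ v ψ := by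
  unfold Mm
  rw [add_mul, mul_add, mul_add, one_mul, mul_one, one_mul, vmv_mul]
  abel

theorem Mm_sq (hφu : φ ⬝ᵥ u = 0) (hψv : ψ ⬝ᵥ v = 0) :
    Mm u φ v ψ * Mm u φ v ψ = Kk u φ v ψ + ((φ ⬝ᵥ v) * (ψ ⬝ᵥ u)) • Mm u φ v ψ := by
  unfold Mm Kk
  simp only [mul_add, add_mul, smul_mul_assoc, mul_smul_comm, vmv_mul, hφu, hψv, zero_smul,
    smul_zero, add_zero, zero_add, smul_smul, smul_add]
  module

theorem Mm_mul_Kk (hφu : φ ⬝ᵥ u = 0) (hψv : ψ ⬝ᵥ v = 0) :
    Mm u φ v ψ * Kk u φ v ψ = ((φ ⬝ᵥ v) * (ψ ⬝ᵥ u)) • Mm u φ v ψ := by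
  unfold Mm Kk
  simp only [mul_add, add_mul, smul_mul_assoc, mul_smul_comm, vmv_mul, hφu, hψv, zero_smul,
    smul_zero, add_zero, zero_add, smul_smul, smul_add]
  module

end pair

theorem squarefree_P [CharP F 2] (τ : F) (hτ : τ ≠ 0) :
    Squarefree (X * (X ^ 2 - C τ * X - C τ) : F[X]) := by
  apply Polynomial.Separable.squarefree
  have hR : (X ^ 2 - C τ * X - C τ : F[X]).Separable := by
    rw [Polynomial.separable_def]
    have hd : Polynomial.derivative (X ^ 2 - C τ * X - C τ : F[X]) = - C τ := by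
      have h2 : (2 : F[X]) = 0 := CharTwo.two_eq_zero
      simp only [derivative_sub, derivative_X_pow, derivative_mul, derivative_C, derivative_X,
        zero_mul, mul_one, zero_add, Nat.cast_ofNat, map_ofNat, sub_zero]
      rw [h2, zero_mul, zero_sub]
    rw [hd]
    refine ⟨0, - C τ⁻¹, ?_⟩
    rw [zero_mul, zero_add, neg_mul_neg, ← C_mul, inv_mul_cancel₀ hτ, C_1]
  refine Polynomial.Separable.mul Polynomial.separable_X hR ?_
  refine ⟨C τ⁻¹ * (X - C τ), - C τ⁻¹, ?_⟩
  have : C τ⁻¹ * C τ = (1 : F[X]) := by rw [← C_mul, inv_mul_cancel₀ hτ, C_1]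
  linear_combination this

theorem odd_orderOf_of_squarefree [CharP F 2] {N : ℕ} (x : Matrix.SpecialLinearGroup (Fin N) F)
    (hfin : IsOfFinOrder x) (M : Matrix (Fin N) (Fin N) F)
    (hx : (x : Matrix (Fin N) (Fin N) F) = 1 + M) (P : F[X]) (hP : Squarefree P)
    (hMP : aeval M P = 0) : Odd (orderOf x) := by
  rw [← Nat.not_even_iff_odd]
  intro heven
  obtain ⟨k, hk⟩ := heven
  have hpos : 0 < orderOf x := hfin.orderOf_pos
  have hk0 : 0 < k := by omega
  have hklt : k < orderOf x := by omega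
  have hy1 : x ^ k ≠ 1 := pow_ne_one_of_lt_orderOf hk0.ne' hklt
  have hy2 : x ^ k * x ^ k = 1 := by
    rw [← pow_add, ← hk, pow_orderOf_eq_one]
  -- pass to endomorphisms
  let e : Matrix (Fin N) (Fin N) F ≃ₐ[F] Module.End F (Fin N → F) := Matrix.toLinAlgEquiv'
  have hfP : aeval (e M) P = 0 := by
    rw [show e M = e.toAlgHom M from rfl, Polynomial.aeval_algHom_apply, hMP, map_zero]
  have hss : Module.End.IsSemisimple (e M) := Module.End.isSemisimple_of_squarefree_aeval_eq_zero hP hfP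
  -- Y = (1 + f)^k - 1 is semisimple
  have hY : Module.End.IsSemisimple (aeval (e M) ((1 + X) ^ k - 1 : F[X])) := hss.aeval _
  have hYval : aeval (e M) ((1 + X) ^ k - 1 : F[X]) =
      e ((x ^ k : Matrix.SpecialLinearGroup (Fin N) F) : Matrix (Fin N) (Fin N) F) - 1 := by
    rw [Matrix.SpecialLinearGroup.coe_pow, hx, map_pow, map_add, map_one]
    simp
  have hnil : IsNilpotent (aeval (e M) ((1 + X) ^ k - 1 : F[X])) := by
    refine ⟨2, ?_⟩
    rw [hYval, pow_two, sub_mul, mul_sub, mul_one, one_mul, ← map_mul,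
      ← Matrix.SpecialLinearGroup.coe_mul, hy2, Matrix.SpecialLinearGroup.coe_one, map_one]
    have h2 : ∀ Z : Module.End F (Fin N → F), Z + Z = 0 := by
      intro Z
      rw [← two_smul F Z, CharTwo.two_eq_zero, zero_smul]
    have := h2 (e ((x ^ k : Matrix.SpecialLinearGroup (Fin N) F) : Matrix (Fin N) (Fin N) F))
    have h3 := h2 (1 : Module.End F (Fin N → F))
    set Z := e ((x ^ k : Matrix.SpecialLinearGroup (Fin N) F) : Matrix (Fin N) (Fin N) F)
    have h4 : 1 - Z - (Z - 1) = (1 + 1) - (Z + Z) := by abel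
    rw [h4, h3, this, sub_zero]
  have hzero := Module.End.eq_zero_of_isNilpotent_isSemisimple hnil hY
  rw [hYval, sub_eq_zero] at hzero
  apply hy1
  apply Subtype.ext
  rw [Matrix.SpecialLinearGroup.coe_one]
  apply e.injective
  rw [hzero, map_one]

section char2
variable [CharP F 2]

theorem mat_add_self {N : ℕ} (X : Matrix (Fin N) (Fin N) F) : X + X = 0 := by
  rw [← two_smul F X, CharTwo.two_eq_zero, zero_smul]

theorem one_add_sq {N : ℕ} (M : Matrix (Fin N) (Fin N) F) :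
    (1 + M) * (1 + M) = 1 + M * M := by
  simp only [add_mul, mul_add, one_mul, mul_one]
  have : (1 : Matrix (Fin N) (Fin N) F) + M + (M + M * M) = 1 + (M + M) + M * M := by abel
  rw [this, mat_add_self, add_zero]

theorem IsTv.mul_self {N : ℕ} {t : Matrix.SpecialLinearGroup (Fin N) F} (ht : IsTv t) :
    t * t = 1 := by
  obtain ⟨u, φ, hu, hφ, hφu, ht⟩ := ht
  apply Subtype.ext
  rw [Matrix.SpecialLinearGroup.coe_mul, ht, one_add_sq, vmv_mul, hφu, zero_smul, add_zero,
    Matrix.SpecialLinearGroup.coe_one]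

omit [CharP F 2] in
theorem IsTv.ne_one {N : ℕ} {t : Matrix.SpecialLinearGroup (Fin N) F} (ht : IsTv t) :
    t ≠ 1 := by
  obtain ⟨u, φ, hu, hφ, hφu, ht⟩ := ht
  intro h
  rw [h, Matrix.SpecialLinearGroup.coe_one] at ht
  have h0 : vecMulVec u φ = 0 := by
    have := ht
    rw [left_eq_add] at this
    exact this
  rw [vecMulVec_eq_zero] at h0
  rcases h0 with h0 | h0
  · exact hu h0
  · exact hφ h0

theorem IsTv.orderOf_eq {N : ℕ} {t : Matrix.SpecialLinearGroup (Fin N) F} (ht : IsTv t) :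
    orderOf t = 2 := by
  haveI : Fact (Nat.Prime 2) := ⟨Nat.prime_two⟩
  apply orderOf_eq_prime
  · rw [pow_two]; exact ht.mul_self
  · exact ht.ne_one

end char2

theorem closure_isTv (m : ℕ) :
    Subgroup.closure {t : Matrix.SpecialLinearGroup (Fin (m + 2)) F | IsTv t} = ⊤ := by
  apply SLGen.eq_top_of_transvections
  intro i j hij a
  by_cases ha : a = 0
  · rw [ha, Matrix.SpecialLinearGroup.transvection_coeff_zero]
    exact one_mem _
  · exact Subgroup.subset_closure (isTv_transvection hij a ha)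

theorem aeval_of {N : ℕ} (M K : Matrix (Fin N) (Fin N) F) (τ : F) (h1 : M * M = K + τ • M)
    (h2 : M * K = τ • M) : aeval M (X * (X ^ 2 - C τ * X - C τ) : F[X]) = 0 := by
  simp only [map_mul, map_sub, map_pow, aeval_X, aeval_C, Algebra.algebraMap_eq_smul_one]
  rw [pow_two, h1, smul_mul_assoc, one_mul, add_sub_cancel_right, mul_sub,
    h2, mul_smul_comm, mul_one, sub_self]

theorem aeval_Mm {N : ℕ} (u φ v ψ : Fin N → F) (hφu : φ ⬝ᵥ u = 0) (hψv : ψ ⬝ᵥ v = 0) :
    aeval (Mm u φ v ψ) (X * (X ^ 2 - C ((φ ⬝ᵥ v) * (ψ ⬝ᵥ u)) * X - C ((φ ⬝ᵥ v) * (ψ ⬝ᵥ u))) : F[X])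
      = 0 :=
  aeval_of _ _ _ (Mm_sq u φ v ψ hφu hψv) (Mm_mul_Kk u φ v ψ hφu hψv)

theorem pair_full [Fintype F] [CharP F 2] {N : ℕ} (a b : Matrix.SpecialLinearGroup (Fin N) F)
    (ha : IsTv a) (hb : IsTv b) :
    a * b = b * a ∨
    (Odd (orderOf (a * b)) ∧ (Fintype.card F = 2 → (a * b) ^ 3 = 1)) ∨
    (orderOf (a * b) = 4 ∧ IsTv ((a * b) ^ 2)) := by
  classical
  obtain ⟨u, φ, hu, hφ, hφu, ha⟩ := ha
  obtain ⟨v, ψ, hv, hψ, hψv, hb⟩ := hb
  have hab : ((a * b : Matrix.SpecialLinearGroup (Fin N) F) : Matrix (Fin N) (Fin N) F) =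
      1 + Mm u φ v ψ := by
    rw [Matrix.SpecialLinearGroup.coe_mul, ha, hb, one_add_mul_one_add]
  have hba : ((b * a : Matrix.SpecialLinearGroup (Fin N) F) : Matrix (Fin N) (Fin N) F) =
      1 + Mm v ψ u φ := by
    rw [Matrix.SpecialLinearGroup.coe_mul, ha, hb, one_add_mul_one_add]
  have hsq : (((a * b) ^ 2 : Matrix.SpecialLinearGroup (Fin N) F) : Matrix (Fin N) (Fin N) F) =
      1 + (Kk u φ v ψ + ((φ ⬝ᵥ v) * (ψ ⬝ᵥ u)) • Mm u φ v ψ) := by
    rw [pow_two, Matrix.SpecialLinearGroup.coe_mul, hab, one_add_sq, Mm_sq u φ v ψ hφu hψv]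
  -- order 4 from a transvection square
  have horder4 : IsTv ((a * b) ^ 2) → orderOf (a * b) = 4 := by
    intro h
    haveI : Fact (Nat.Prime 2) := ⟨Nat.prime_two⟩
    have h1 : ¬ (a * b) ^ 2 ^ 1 = 1 := by
      rw [pow_one]; exact h.ne_one
    have h2 : (a * b) ^ 2 ^ (1 + 1) = 1 := by
      have := h.mul_self
      rw [← pow_two, ← pow_mul] at this
      exact this
    exact orderOf_eq_prime_pow h1 h2
  by_cases hα : φ ⬝ᵥ v = 0
  · by_cases hβ : ψ ⬝ᵥ u = 0
    · left
      apply Subtype.ext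
      rw [hab, hba]
      unfold Mm
      rw [hα, hβ, zero_smul, zero_smul]
      abel
    · right; right
      have hT : IsTv ((a * b) ^ 2) := by
        refine ⟨(ψ ⬝ᵥ u) • v, φ, smul_ne_zero hβ hv, hφ, ?_, ?_⟩
        · rw [dotProduct_smul, hα, smul_zero]
        · rw [hsq]
          unfold Kk
          rw [hα, zero_mul, zero_smul, zero_smul, add_zero, zero_add, smul_vecMulVec]
      exact ⟨horder4 hT, hT⟩
  · by_cases hβ : ψ ⬝ᵥ u = 0
    · right; right
      have hT : IsTv ((a * b) ^ 2) := by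
        refine ⟨(φ ⬝ᵥ v) • u, ψ, smul_ne_zero hα hu, hψ, ?_, ?_⟩
        · rw [dotProduct_smul, hβ, smul_zero]
        · rw [hsq]
          unfold Kk
          rw [hβ, mul_zero, zero_smul, zero_smul, add_zero, add_zero, smul_vecMulVec]
      exact ⟨horder4 hT, hT⟩
    · right; left
      have hτ : (φ ⬝ᵥ v) * (ψ ⬝ᵥ u) ≠ 0 := mul_ne_zero hα hβ
      refine ⟨odd_orderOf_of_squarefree (a * b) (isOfFinOrder_of_finite _) (Mm u φ v ψ) hab _
        (squarefree_P _ hτ) (aeval_Mm u φ v ψ hφu hψv), ?_⟩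
      intro hF
      have h01 : ∀ x : F, x ≠ 0 → x = 1 := by
        intro x hx
        let e : ZMod 2 ≃+* F := ZMod.ringEquivOfPrime F Nat.prime_two hF
        have hx' : x = e (e.symm x) := (e.apply_symm_apply x).symm
        have h2 : ∀ y : ZMod 2, y = 0 ∨ y = 1 := by decide
        rcases h2 (e.symm x) with h | h
        · rw [h, map_zero] at hx'; exact absurd hx' hx
        · rw [h, map_one] at hx'; exact hx'
      have hα1 := h01 _ hα
      have hβ1 := h01 _ hβ
      apply Subtype.ext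
      have hM2 : Mm u φ v ψ * Mm u φ v ψ = Kk u φ v ψ + Mm u φ v ψ := by
        rw [Mm_sq u φ v ψ hφu hψv, hα1, hβ1, one_mul, one_smul]
      have hMK : Mm u φ v ψ * Kk u φ v ψ = Mm u φ v ψ := by
        rw [Mm_mul_Kk u φ v ψ hφu hψv, hα1, hβ1, one_mul, one_smul]
      rw [pow_succ', Matrix.SpecialLinearGroup.coe_mul, hsq, hab, hα1, hβ1, one_mul, one_smul,
        Matrix.SpecialLinearGroup.coe_one]
      set M := Mm u φ v ψ
      set K := Kk u φ v ψ
      simp only [add_mul, mul_add, one_mul, mul_one, hMK, hM2]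
      have : (1 : Matrix (Fin N) (Fin N) F) + M + (K + M + (M + (K + M))) =
          1 + (K + K) + (M + M) + (M + M) := by abel
      rw [this, mat_add_self, mat_add_self, add_zero, add_zero, add_zero]


theorem mem_D_iff (n : ℕ) (t : Matrix.SpecialLinearGroup (Fin (n + 3)) F) :
    (∃ c : F, c ≠ 0 ∧ ∃ g : Matrix.SpecialLinearGroup (Fin (n + 3)) F,
      ((g⁻¹ * t * g : Matrix.SpecialLinearGroup (Fin (n + 3)) F) :
        Matrix (Fin (n + 3)) (Fin (n + 3)) F) = Matrix.transvection 0 1 c) ↔ IsTv t := by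
  have h01 : (0 : Fin (n + 3)) ≠ 1 := by
    intro h; exact absurd (congrArg Fin.val h) (by simp)
  constructor
  · rintro ⟨c, hc, g, hg⟩
    have h1 := isTv_of_val_transvection h01 c hc _ hg
    have h2 := h1.conj g
    have h3 : g * (g⁻¹ * t * g) * g⁻¹ = t := by group
    rw [h3] at h2
    exact h2
  · intro ht
    have hc : IsConj t (Matrix.SpecialLinearGroup.transvection h01 (1 : F)) :=
      ht.isConj (isTv_transvection h01 1 one_ne_zero)
    rw [isConj_iff] at hc
    obtain ⟨k, hk⟩ := hc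
    refine ⟨1, one_ne_zero, k⁻¹, ?_⟩
    rw [inv_inv, hk]
    rfl

theorem rootInvolutionSet [Fintype F] [CharP F 2] (n : ℕ) :
    Cfsg.IsRootInvolutionSet {t : Matrix.SpecialLinearGroup (Fin (n + 3)) F | IsTv t} where
  orderOf_eq := fun d hd => IsTv.orderOf_eq hd
  generates := closure_isTv (n + 1)
  conj_mem := fun d hd g => IsTv.conj hd g
  pair := by
    intro a ha b hb
    rcases pair_full a b ha hb with h | h | h
    · exact Or.inl h
    · exact Or.inr (Or.inl h.1)
    · exact Or.inr (Or.inr h)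

theorem main [Fintype F] [CharP F 2] (n : ℕ) :
    Cfsg.IsRootInvolutionClass {t : Matrix.SpecialLinearGroup (Fin (n + 3)) F | IsTv t} ∧
    (Fintype.card F = 2 → Cfsg.IsThreeFourPlusTranspositionSet
      {t : Matrix.SpecialLinearGroup (Fin (n + 3)) F | IsTv t}) := by
  have h01 : (0 : Fin (n + 3)) ≠ 1 := by
    intro h; exact absurd (congrArg Fin.val h) (by simp)
  refine ⟨⟨rootInvolutionSet n, ⟨Matrix.SpecialLinearGroup.transvection h01 (1 : F),
    isTv_transvection h01 1 one_ne_zero⟩, ?_⟩, ?_⟩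
  · intro a ha b hb
    have hc : IsConj a b := IsTv.isConj ha hb
    rw [isConj_iff] at hc
    obtain ⟨g, hg⟩ := hc
    exact ⟨g, hg.symm⟩
  · intro hF
    refine ⟨rootInvolutionSet n, ?_⟩
    intro a ha b hb hodd
    rcases pair_full a b ha hb with h | h | h
    · left
      have h2 : (a * b) ^ 2 = 1 := by
        rw [pow_two]
        calc a * b * (a * b) = a * (b * a) * b := by group
          _ = a * (a * b) * b := by rw [h]
          _ = (a * a) * (b * b) := by group
          _ = 1 := by rw [IsTv.mul_self ha, IsTv.mul_self hb, one_mul]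
      have hdvd := orderOf_dvd_of_pow_eq_one h2
      rcases (Nat.dvd_prime Nat.prime_two).1 hdvd with h1 | h1
      · exact h1
      · rw [h1] at hodd
        exact absurd hodd (by decide)
    · have h3 := h.2 hF
      have hdvd := orderOf_dvd_of_pow_eq_one h3
      rcases (Nat.dvd_prime Nat.prime_three).1 hdvd with h1 | h1
      · exact Or.inl h1
      · exact Or.inr h1
    · rw [h.1] at hodd
      exact absurd hodd (by decide)

end Transv2
end Cfsg.Agent.Lib.Helper24
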