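import Mathlib

set_option autoImplicit false
set_option linter.style.haveILetI false

namespace Cfsg.Agent.Lib.Helper24.PolarPair

universe u

section
variable {F : Type*} [Field F] {V : Type u} [AddCommGroup V] [Module F V]

theorem skew (B : V →ₗ[F] V →ₗ[F] F) (halt : ∀ v, B v v = 0) (a b : V) : B a b = - B b a := by
  have h := halt (a + b)
  simp only [map_add, LinearMap.add_apply, halt, zero_add, add_zero] at h
  exact eq_neg_of_add_eq_zero_left (by rw [add_comm]; exact h)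

/-- vectors with `B u v ≠ 0`: coordinates of the projection along the perp -/
theorem decomp_exists (B : V →ₗ[F] V →ₗ[F] F) (halt : ∀ v, B v v = 0) (u v : V) (huv : B u v ≠ 0)
    (y : V) : ∃ a b : F, ∃ n : V, B u n = 0 ∧ B v n = 0 ∧ y = a • u + b • v + n := by
  refine ⟨- B v y / B u v, B u y / B u v, y - ((- B v y / B u v) • u + (B u y / B u v) • v),
    ?_, ?_, by abel⟩
  · simp only [map_sub, map_add, map_smul, halt, smul_eq_mul, mul_zero, zero_add]
    field_simp
    ring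
  · simp only [map_sub, map_add, map_smul, halt, smul_eq_mul, mul_zero, add_zero,
      skew B halt v u]
    field_simp
    ring

theorem decomp_unique (B : V →ₗ[F] V →ₗ[F] F) (halt : ∀ v, B v v = 0) (u v : V) (huv : B u v ≠ 0)
    (a b : F) (h1 : B u (a • u + b • v) = 0) (h2 : B v (a • u + b • v) = 0) : a = 0 ∧ b = 0 := by
  simp only [map_add, map_smul, halt, smul_eq_mul, mul_zero, zero_add, add_zero] at h1 h2
  rw [skew B halt v u] at h2
  constructor
  · have : a * B u v = 0 := by linear_combination -h2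
    exact (mul_eq_zero.1 this).resolve_right huv
  · exact (mul_eq_zero.1 h1).resolve_right huv

theorem pick_fixed (B : V →ₗ[F] V →ₗ[F] F) (h2 : (2 : F) ≠ 0)
    (hnd : ∀ u, (∀ v, B u v = 0) → u = 0) (x : V →ₗ[F] V)
    (hinv : ∀ u v, B (x u) (x v) = B u v) (hx : ∀ v, x (x v) = v) (hV : ∃ v : V, v ≠ 0) :
    ∃ (ε : F) (u v : V), (ε = 1 ∨ ε = -1) ∧ x u = ε • u ∧ x v = ε • v ∧ B u v ≠ 0 := by
  obtain ⟨v₀, hv₀⟩ := hV
  -- an eigenvector
  obtain ⟨ε, u, hε, hxu, hu0⟩ : ∃ (ε : F) (u : V), (ε = 1 ∨ ε = -1) ∧ x u = ε • u ∧ u ≠ 0 := by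
    by_cases h : v₀ + x v₀ = 0
    · refine ⟨-1, v₀, Or.inr rfl, ?_, hv₀⟩
      rw [neg_smul, one_smul]
      exact (eq_neg_of_add_eq_zero_right h)
    · refine ⟨1, v₀ + x v₀, Or.inl rfl, ?_, h⟩
      rw [map_add, hx, one_smul, add_comm]
  obtain ⟨w, hw⟩ : ∃ w, B u w ≠ 0 := by
    by_contra hcon
    push Not at hcon
    exact hu0 (hnd u hcon)
  have hεε : ε * ε = 1 := by rcases hε with rfl | rfl <;> ring
  -- the ε-component of w
  refine ⟨ε, u, w + ε • x w, hε, hxu, ?_, ?_⟩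
  · rw [map_add, map_smul, hx, smul_add, smul_smul, hεε, one_smul, add_comm]
  · have h3 : B u (x w) = ε * B u w := by
      have := hinv u w
      rw [hxu, map_smul, LinearMap.smul_apply, smul_eq_mul] at this
      have h4 : ε * (ε * B u (x w)) = ε * B u w := by rw [this]
      rw [← mul_assoc, hεε, one_mul] at h4
      exact h4
    rw [map_add, map_smul, h3, smul_eq_mul, ← mul_assoc, hεε, one_mul]
    intro h
    have : (2 : F) * B u w = 0 := by linear_combination h
    exact hw ((mul_eq_zero.1 this).resolve_left h2)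

theorem pick_swapped (B : V →ₗ[F] V →ₗ[F] F) (halt : ∀ v, B v v = 0) (h2 : (2 : F) ≠ 0)
    (hnd : ∀ u, (∀ v, B u v = 0) → u = 0) (x : V →ₗ[F] V)
    (hinv : ∀ u v, B (x u) (x v) = B u v) (hx : ∀ v, x (x v) = -v) (hV : ∃ v : V, v ≠ 0) :
    ∃ v : V, B v (x v) ≠ 0 := by
  by_contra hcon
  push Not at hcon
  obtain ⟨v₀, hv₀⟩ := hV
  apply hv₀
  apply hnd
  intro w
  -- h(a,b) = B a (x b) symmetric
  have hsymm : ∀ a b, B a (x b) = B b (x a) := by
    intro a b
    have h1 := hinv b (x a)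
    rw [hx, map_neg] at h1
    rw [skew B halt a (x b), h1]
  have hzero : ∀ a b, B a (x b) = 0 := by
    intro a b
    have h1 := hcon (a + b)
    simp only [map_add, LinearMap.add_apply, hcon, zero_add, add_zero] at h1
    rw [hsymm b a] at h1
    have : (2 : F) * B a (x b) = 0 := by linear_combination h1
    exact (mul_eq_zero.1 this).resolve_left h2
  have := hzero v₀ (- x w)
  rwa [map_neg, hx, neg_neg] at this

end

section step
variable {F : Type*} [Field F] {V : Type u} [AddCommGroup V] [Module F V]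

/-- the perp of the pair `u, v` -/
def perp2 (B : V →ₗ[F] V →ₗ[F] F) (u v : V) : Submodule F V :=
  LinearMap.ker (B u) ⊓ LinearMap.ker (B v)

theorem mem_perp2 (B : V →ₗ[F] V →ₗ[F] F) (u v n : V) :
    n ∈ perp2 B u v ↔ B u n = 0 ∧ B v n = 0 := by
  simp [perp2, Submodule.mem_inf, LinearMap.mem_ker]

theorem perp2_invariant (B : V →ₗ[F] V →ₗ[F] F) (u v : V) (x : V →ₗ[F] V) (z : F) (hz : z ≠ 0)
    (hinv : ∀ a b, B (x a) (x b) = B a b) (hx : ∀ a, x (x a) = z • a)
    (α β γ δ : F) (hxu : x u = α • u + β • v) (hxv : x v = γ • u + δ • v) :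
    ∀ n ∈ perp2 B u v, x n ∈ perp2 B u v := by
  intro n hn
  rw [mem_perp2] at hn ⊢
  have key : ∀ p : V, B (x p) n = 0 → B p (x n) = 0 := by
    intro p hp
    have h1 := hinv (x p) n
    rw [hx, map_smul, LinearMap.smul_apply, smul_eq_mul, hp] at h1
    exact (mul_eq_zero.1 h1).resolve_left hz
  constructor
  · apply key
    rw [hxu, map_add, map_smul, map_smul, LinearMap.add_apply, LinearMap.smul_apply,
      LinearMap.smul_apply, hn.1, hn.2]
    simp
  · apply key
    rw [hxv, map_add, map_smul, map_smul, LinearMap.add_apply, LinearMap.smul_apply,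
      LinearMap.smul_apply, hn.1, hn.2]
    simp

theorem perp2_nondeg (B : V →ₗ[F] V →ₗ[F] F) (halt : ∀ v, B v v = 0) (u v : V) (huv : B u v ≠ 0)
    (hnd : ∀ a, (∀ b, B a b = 0) → a = 0) :
    ∀ a ∈ perp2 B u v, (∀ b ∈ perp2 B u v, B a b = 0) → a = 0 := by
  intro a ha hab
  apply hnd
  intro y
  obtain ⟨s, t, n, hn1, hn2, rfl⟩ := decomp_exists B halt u v huv y
  rw [mem_perp2] at ha
  rw [map_add, map_add, map_smul, map_smul, hab n ((mem_perp2 B u v n).2 ⟨hn1, hn2⟩),
    skew B halt a u, skew B halt a v, ha.1, ha.2]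
  simp

theorem perp2_lt [FiniteDimensional F V] (B : V →ₗ[F] V →ₗ[F] F) (u v : V) (huv : B u v ≠ 0) :
    Module.finrank F ↥(perp2 B u v) < Module.finrank F V := by
  apply Submodule.finrank_lt
  intro h
  have : v ∈ perp2 B u v := by rw [h]; exact Submodule.mem_top
  rw [mem_perp2] at this
  exact huv this.1

theorem mem_glue (N : Submodule F V) (u : V) (U' : Submodule F ↥N) (y : V) :
    y ∈ Submodule.span F {u} ⊔ U'.map N.subtype ↔
      ∃ (a : F) (n : V) (hn : n ∈ N), (⟨n, hn⟩ : ↥N) ∈ U' ∧ y = a • u + n := by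
  rw [Submodule.mem_sup]
  constructor
  · rintro ⟨y1, hy1, y2, hy2, rfl⟩
    obtain ⟨a, rfl⟩ := Submodule.mem_span_singleton.1 hy1
    obtain ⟨n, hn, rfl⟩ := Submodule.mem_map.1 hy2
    exact ⟨a, n.1, n.2, hn, rfl⟩
  · rintro ⟨a, n, hn, hnU, rfl⟩
    exact ⟨a • u, Submodule.mem_span_singleton.2 ⟨a, rfl⟩, n,
      Submodule.mem_map.2 ⟨⟨n, hn⟩, hnU, rfl⟩, rfl⟩

/-- gluing a hyperbolic pair with a polar pair of its perp -/
theorem glue (B : V →ₗ[F] V →ₗ[F] F) (halt : ∀ v, B v v = 0) (u v : V) (huv : B u v ≠ 0)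
    (U' W' : Submodule F ↥(perp2 B u v)) (hc : IsCompl U' W')
    (hU' : ∀ a ∈ U', ∀ b ∈ U', B (a : V) (b : V) = 0)
    (hW' : ∀ a ∈ W', ∀ b ∈ W', B (a : V) (b : V) = 0) :
    IsCompl (Submodule.span F {u} ⊔ U'.map (perp2 B u v).subtype)
      (Submodule.span F {v} ⊔ W'.map (perp2 B u v).subtype) ∧
    (∀ a ∈ Submodule.span F {u} ⊔ U'.map (perp2 B u v).subtype,
      ∀ b ∈ Submodule.span F {u} ⊔ U'.map (perp2 B u v).subtype, B a b = 0) ∧
    (∀ a ∈ Submodule.span F {v} ⊔ W'.map (perp2 B u v).subtype,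
      ∀ b ∈ Submodule.span F {v} ⊔ W'.map (perp2 B u v).subtype, B a b = 0) := by
  refine ⟨⟨?_, ?_⟩, ?_, ?_⟩
  · rw [Submodule.disjoint_def]
    intro y hyU hyW
    obtain ⟨a, n, hn, hnU, rfl⟩ := (mem_glue _ u U' y).1 hyU
    obtain ⟨b, n', hn', hnW, hy⟩ := (mem_glue _ v W' _).1 hyW
    have hdiff : a • u + (-b) • v = n' - n := by
      rw [neg_smul]
      have : a • u + n - n = b • v + n' - n := by rw [hy]
      rw [add_sub_cancel_right] at this
      rw [this]; abel
    have hmem : n' - n ∈ perp2 B u v := Submodule.sub_mem _ hn' hn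
    rw [← hdiff, mem_perp2] at hmem
    obtain ⟨ha, hb⟩ := decomp_unique B halt u v huv a (-b) hmem.1 hmem.2
    have hb' : b = 0 := neg_eq_zero.1 hb
    rw [ha, hb', zero_smul, zero_smul, zero_add, zero_add] at hy
    have hnn : (⟨n, hn⟩ : ↥(perp2 B u v)) = ⟨n', hn'⟩ := Subtype.ext hy
    have h0 : (⟨n, hn⟩ : ↥(perp2 B u v)) ∈ U' ⊓ W' := ⟨hnU, hnn ▸ hnW⟩
    rw [hc.inf_eq_bot, Submodule.mem_bot] at h0
    have : n = 0 := congrArg Subtype.val h0
    rw [ha, this]; simp
  · rw [codisjoint_iff, eq_top_iff]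
    intro y _
    obtain ⟨s, t, n, hn1, hn2, rfl⟩ := decomp_exists B halt u v huv y
    have hn : n ∈ perp2 B u v := (mem_perp2 B u v n).2 ⟨hn1, hn2⟩
    have htop : (⟨n, hn⟩ : ↥(perp2 B u v)) ∈ U' ⊔ W' := by
      rw [hc.sup_eq_top]; exact Submodule.mem_top
    obtain ⟨n1, hn1U, n2, hn2W, h12⟩ := Submodule.mem_sup.1 htop
    have h12' : (n1 : V) + (n2 : V) = n := congrArg Subtype.val h12
    have : s • u + t • v + n = (s • u + (n1 : V)) + (t • v + (n2 : V)) := by
      rw [← h12']; abel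
    rw [this]
    apply Submodule.add_mem_sup
    · exact (mem_glue _ u U' _).2 ⟨s, n1.1, n1.2, hn1U, rfl⟩
    · exact (mem_glue _ v W' _).2 ⟨t, n2.1, n2.2, hn2W, rfl⟩
  · intro a ha b hb
    obtain ⟨s, n, hn, hnU, rfl⟩ := (mem_glue _ u U' a).1 ha
    obtain ⟨s', n', hn', hnU', rfl⟩ := (mem_glue _ u U' b).1 hb
    have h1 := (mem_perp2 B u v n).1 hn
    have h2 := (mem_perp2 B u v n').1 hn'
    simp only [map_add, map_smul, LinearMap.add_apply, LinearMap.smul_apply, halt, h2.1,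
      skew B halt n u, h1.1, hU' ⟨n, hn⟩ hnU ⟨n', hn'⟩ hnU', smul_eq_mul]
    simp
  · intro a ha b hb
    obtain ⟨s, n, hn, hnU, rfl⟩ := (mem_glue _ v W' a).1 ha
    obtain ⟨s', n', hn', hnU', rfl⟩ := (mem_glue _ v W' b).1 hb
    have h1 := (mem_perp2 B u v n).1 hn
    have h2 := (mem_perp2 B u v n').1 hn'
    simp only [map_add, map_smul, LinearMap.add_apply, LinearMap.smul_apply, halt, h2.2,
      skew B halt n v, h1.2, hW' ⟨n, hn⟩ hnU ⟨n', hn'⟩ hnU', smul_eq_mul]
    simp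

end step

section main
variable {F : Type*} [Field F]

theorem polar_pair : ∀ (k : ℕ) {V : Type u} [AddCommGroup V] [Module F V] [FiniteDimensional F V]
    (B : V →ₗ[F] V →ₗ[F] F) (x : V →ₗ[F] V) (z : F), (2 : F) ≠ 0 → (∀ v, B v v = 0) →
    (∀ a, (∀ b, B a b = 0) → a = 0) → (∀ a b, B (x a) (x b) = B a b) → (∀ a, x (x a) = z • a) →
    (z = 1 ∨ z = -1) → Module.finrank F V = k →
    ∃ U W : Submodule F V, IsCompl U W ∧ (∀ a ∈ U, ∀ b ∈ U, B a b = 0) ∧
      (∀ a ∈ W, ∀ b ∈ W, B a b = 0) ∧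
      ((z = 1 ∧ (∀ a ∈ U, x a ∈ U) ∧ (∀ a ∈ W, x a ∈ W)) ∨
        (z = -1 ∧ (∀ a ∈ U, x a ∈ W) ∧ (∀ a ∈ W, x a ∈ U))) := by
  intro k
  induction k using Nat.strong_induction_on with
  | _ k ih =>
    intro V _ _ _ B x z h2 halt hnd hinv hx hz hk
    have h1ne : (1 : F) ≠ -1 := by
      intro h
      apply h2
      have : (2 : F) = 1 + 1 := by norm_num
      rw [this]
      nth_rewrite 2 [h]
      ring
    by_cases hV : ∃ v : V, v ≠ 0
    swap
    · push Not at hV
      refine ⟨⊥, ⊤, isCompl_bot_top, ?_, ?_, ?_⟩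
      · intro a _ b _; rw [hV a]; simp
      · intro a _ b _; rw [hV a]; simp
      · rcases hz with hz | hz
        · exact Or.inl ⟨hz, fun a _ => by rw [hV (x a)]; exact Submodule.zero_mem _,
            fun a _ => Submodule.mem_top⟩
        · exact Or.inr ⟨hz, fun a _ => Submodule.mem_top,
            fun a _ => by rw [hV (x a)]; exact Submodule.zero_mem _⟩
    have hz0 : z ≠ 0 := by
      rcases hz with rfl | rfl
      · exact one_ne_zero
      · exact neg_ne_zero.2 one_ne_zero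
    rcases hz with hz1 | hz1
    · -- fixed mode
      have hx' : ∀ v, x (x v) = v := by intro v; rw [hx, hz1, one_smul]
      obtain ⟨ε, u, v, hε, hxu, hxv, huv⟩ := pick_fixed B h2 hnd x hinv hx' hV
      have hNinv := perp2_invariant B u v x z hz0 hinv hx ε 0 0 ε (by rw [hxu]; simp)
        (by rw [hxv]; simp)
      have hNnd := perp2_nondeg B halt u v huv hnd
      have hNlt := perp2_lt B u v huv
      obtain ⟨U', W', hc, hU', hW', hmode⟩ := ih _ (hk ▸ hNlt)
        (B.domRestrict₁₂ (perp2 B u v) (perp2 B u v)) (x.restrict hNinv) z h2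
        (fun a => halt _)
        (fun a ha => Subtype.ext (hNnd a.1 a.2 (fun b hb => ha ⟨b, hb⟩)))
        (fun a b => hinv _ _)
        (fun a => Subtype.ext (by simp [hx]))
        (Or.inl hz1) rfl
      obtain ⟨hcompl, hUti, hWti⟩ := glue B halt u v huv U' W' hc
        (fun a ha b hb => hU' a ha b hb)
        (fun a ha b hb => hW' a ha b hb)
      refine ⟨_, _, hcompl, hUti, hWti, Or.inl ⟨hz1, ?_, ?_⟩⟩
      · rcases hmode with ⟨-, hmU, -⟩ | ⟨hzz, -, -⟩
        · intro a ha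
          obtain ⟨s, n, hn, hnU, rfl⟩ := (mem_glue _ u U' a).1 ha
          rw [map_add, map_smul, hxu, smul_smul]
          exact (mem_glue _ u U' _).2 ⟨s * ε, x n, hNinv n hn, hmU ⟨n, hn⟩ hnU, rfl⟩
        · exact absurd (hz1.symm.trans hzz) h1ne
      · rcases hmode with ⟨-, -, hmW⟩ | ⟨hzz, -, -⟩
        · intro a ha
          obtain ⟨s, n, hn, hnW, rfl⟩ := (mem_glue _ v W' a).1 ha
          rw [map_add, map_smul, hxv, smul_smul]
          exact (mem_glue _ v W' _).2 ⟨s * ε, x n, hNinv n hn, hmW ⟨n, hn⟩ hnW, rfl⟩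
        · exact absurd (hz1.symm.trans hzz) h1ne
    · -- swapped mode
      have hx' : ∀ v, x (x v) = -v := by intro v; rw [hx, hz1, neg_smul, one_smul]
      obtain ⟨u, huv⟩ := pick_swapped B halt h2 hnd x hinv hx' hV
      have hNinv := perp2_invariant B u (x u) x z hz0 hinv hx 0 1 (-1) 0 (by simp)
        (by rw [hx']; simp)
      have hNnd := perp2_nondeg B halt u (x u) huv hnd
      have hNlt := perp2_lt B u (x u) huv
      obtain ⟨U', W', hc, hU', hW', hmode⟩ := ih _ (hk ▸ hNlt)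
        (B.domRestrict₁₂ (perp2 B u (x u)) (perp2 B u (x u))) (x.restrict hNinv) z h2
        (fun a => halt _)
        (fun a ha => Subtype.ext (hNnd a.1 a.2 (fun b hb => ha ⟨b, hb⟩)))
        (fun a b => hinv _ _)
        (fun a => Subtype.ext (by simp [hx]))
        (Or.inr hz1) rfl
      obtain ⟨hcompl, hUti, hWti⟩ := glue B halt u (x u) huv U' W' hc
        (fun a ha b hb => hU' a ha b hb)
        (fun a ha b hb => hW' a ha b hb)
      refine ⟨_, _, hcompl, hUti, hWti, Or.inr ⟨hz1, ?_, ?_⟩⟩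
      · rcases hmode with ⟨hzz, -, -⟩ | ⟨-, hmU, -⟩
        · exact absurd (hzz.symm.trans hz1) h1ne
        · intro a ha
          obtain ⟨s, n, hn, hnU, rfl⟩ := (mem_glue _ u U' a).1 ha
          rw [map_add, map_smul]
          exact (mem_glue _ (x u) W' _).2 ⟨s, x n, hNinv n hn, hmU ⟨n, hn⟩ hnU, rfl⟩
      · rcases hmode with ⟨hzz, -, -⟩ | ⟨-, -, hmW⟩
        · exact absurd (hzz.symm.trans hz1) h1ne
        · intro a ha
          obtain ⟨s, n, hn, hnW, rfl⟩ := (mem_glue _ (x u) W' a).1 ha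
          rw [map_add, map_smul, hx', smul_neg, ← neg_smul]
          exact (mem_glue _ u U' _).2 ⟨-s, x n, hNinv n hn, hmW ⟨n, hn⟩ hnW, rfl⟩

end main

end Cfsg.Agent.Lib.Helper24.PolarPair
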