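import Mathlib
import Cfsg.Agent.Lib.Helper24.PolarPair
import Cfsg.Agent.Lib.Helper24.InvolDecomp

set_option autoImplicit false
set_option linter.style.haveILetI false

namespace Cfsg.Agent.Lib.Helper24.OrthDecomp

open Cfsg.Agent.Lib.Helper24.PolarPair Cfsg.Agent.Lib.Helper24.InvolDecomp

universe u

section pick
variable {F : Type*} [Field F] {V : Type u} [AddCommGroup V] [Module F V]

theorem exists_sep (B : V →ₗ[F] V →ₗ[F] F) (hnd : ∀ a, (∀ b, B a b = 0) → a = 0) (a c : V)
    (hc : ∀ μ : F, a ≠ μ • c) : ∃ b, B a b ≠ 0 ∧ B c b = 0 := by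
  by_contra hcon
  push Not at hcon
  have hcon' : ∀ b, B c b = 0 → B a b = 0 := fun b hb => by
    by_contra h; exact hcon b h hb
  by_cases hc0 : ∀ b, B c b = 0
  · have : a = 0 := hnd a (fun b => hcon' b (hc0 b))
    exact hc 0 (by rw [this, zero_smul])
  · push Not at hc0
    obtain ⟨c', hc'⟩ := hc0
    apply hc (B a c' / B c c')
    have : a - (B a c' / B c c') • c = 0 := by
      apply hnd
      intro b
      have h1 : B c (b - (B c b / B c c') • c') = 0 := by
        simp only [map_sub, map_smul, smul_eq_mul]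
        field_simp
        ring
      have h2 := hcon' _ h1
      simp only [map_sub, map_smul, smul_eq_mul, LinearMap.sub_apply, LinearMap.smul_apply] at h2 ⊢
      have h3 : B a b = B c b / B c c' * B a c' := by linear_combination h2
      rw [h3]; field_simp; ring
    exact sub_eq_zero.1 this

theorem pick_step (B : V →ₗ[F] V →ₗ[F] F) (halt : ∀ v, B v v = 0)
    (hnd : ∀ a, (∀ b, B a b = 0) → a = 0) (x : V →ₗ[F] V) (z : F) (hz : z ≠ 0)
    (hinv : ∀ a b, B (x a) (x b) = B a b) (hx : ∀ a, x (x a) = z • a) (hV : ∃ v : V, v ≠ 0) :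
    (∃ u w : V, B u w ≠ 0 ∧ ∃ α β γ δ : F, x u = α • u + β • w ∧ x w = γ • u + δ • w) ∨
    (∃ a b : V, B a b ≠ 0 ∧ B a (x a) = 0 ∧ B a (x b) = 0 ∧ B b (x a) = 0 ∧ B b (x b) = 0) := by
  by_cases h1 : ∃ v, B v (x v) ≠ 0
  · obtain ⟨v, hv⟩ := h1
    left
    exact ⟨v, x v, hv, 0, 1, z, 0, by simp, by simp [hx]⟩
  · push Not at h1
    by_cases h2 : ∃ a : V, ∀ μ : F, a ≠ μ • x a
    · obtain ⟨a, ha⟩ := h2
      obtain ⟨b, hb1, hb2⟩ := exists_sep B hnd a (x a) ha
      right
      refine ⟨a, b, hb1, h1 a, ?_, ?_, h1 b⟩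
      · have h3 := hinv (x a) b
        rw [hx, map_smul, LinearMap.smul_apply, smul_eq_mul, hb2] at h3
        exact (mul_eq_zero.1 h3).resolve_left hz
      · rw [skew B halt b (x a), hb2, neg_zero]
    · push Not at h2
      obtain ⟨v, hv⟩ := hV
      obtain ⟨w, hw⟩ : ∃ w, B v w ≠ 0 := by
        by_contra hcon
        push Not at hcon
        exact hv (hnd v hcon)
      have heig : ∀ a : V, ∃ μ : F, x a = μ • a := by
        intro a
        obtain ⟨μ, hμ⟩ := h2 a
        refine ⟨μ * z, ?_⟩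
        have h3 : x a = x (μ • x a) := by rw [← hμ]
        rw [h3, map_smul, hx, smul_smul]
      obtain ⟨α, hα⟩ := heig v
      obtain ⟨δ, hδ⟩ := heig w
      left
      exact ⟨v, w, hw, α, 0, 0, δ, by rw [hα]; simp, by rw [hδ]; simp⟩

end pick

section family
variable {F : Type*} [Field F] {V : Type u} [AddCommGroup V] [Module F V]

structure HypFam (B : V →ₗ[F] V →ₗ[F] F) (N : Submodule F V) {ι : Type} (e f : ι → V) : Prop where
  mem_e : ∀ i, e i ∈ N
  mem_f : ∀ i, f i ∈ N
  pair : ∀ i, B (e i) (f i) ≠ 0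
  orth : ∀ i j, i ≠ j →
    B (e i) (e j) = 0 ∧ B (e i) (f j) = 0 ∧ B (f i) (e j) = 0 ∧ B (f i) (f j) = 0
  span : N ≤ Submodule.span F (Set.range e ∪ Set.range f)

theorem HypFam.option (B : V →ₗ[F] V →ₗ[F] F) (halt : ∀ v, B v v = 0) (N : Submodule F V)
    (u w : V) (hu : u ∈ N) (hw : w ∈ N) (huw : B u w ≠ 0) {ι : Type} (e f : ι → V)
    (h : HypFam B (N ⊓ perp2 B u w) e f) :
    HypFam B N (fun o : Option ι => o.elim u e) (fun o : Option ι => o.elim w f) := by
  refine ⟨?_, ?_, ?_, ?_, ?_⟩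
  · rintro (_ | i)
    · exact hu
    · exact (h.mem_e i).1
  · rintro (_ | i)
    · exact hw
    · exact (h.mem_f i).1
  · rintro (_ | i)
    · exact huw
    · exact h.pair i
  · rintro (_ | i) (_ | j) hij
    · exact absurd rfl hij
    · have h1 := (mem_perp2 B u w _).1 (h.mem_e j).2
      have h2 := (mem_perp2 B u w _).1 (h.mem_f j).2
      exact ⟨h1.1, h2.1, h1.2, h2.2⟩
    · have h1 := (mem_perp2 B u w _).1 (h.mem_e i).2
      have h2 := (mem_perp2 B u w _).1 (h.mem_f i).2
      refine ⟨?_, ?_, ?_, ?_⟩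
      · change B (e i) u = 0
        rw [skew B halt (e i) u, h1.1, neg_zero]
      · change B (e i) w = 0
        rw [skew B halt (e i) w, h1.2, neg_zero]
      · change B (f i) u = 0
        rw [skew B halt (f i) u, h2.1, neg_zero]
      · change B (f i) w = 0
        rw [skew B halt (f i) w, h2.2, neg_zero]
    · exact h.orth i j (fun hh => hij (congrArg some hh))
  · intro y hy
    obtain ⟨s, t, n, hn1, hn2, rfl⟩ := decomp_exists B halt u w huw y
    have hsum : s • u + t • w ∈ N := N.add_mem (N.smul_mem _ hu) (N.smul_mem _ hw)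
    have hnN : n ∈ N := (Submodule.add_mem_iff_right N hsum).1 hy
    have hn : n ∈ N ⊓ perp2 B u w := ⟨hnN, (mem_perp2 B u w n).2 ⟨hn1, hn2⟩⟩
    have hle : Submodule.span F (Set.range e ∪ Set.range f) ≤
        Submodule.span F (Set.range (fun o : Option ι => o.elim u e) ∪
          Set.range (fun o : Option ι => o.elim w f)) := by
      apply Submodule.span_mono
      apply Set.union_subset_union
      · rintro _ ⟨i, rfl⟩; exact ⟨some i, rfl⟩
      · rintro _ ⟨i, rfl⟩; exact ⟨some i, rfl⟩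
    refine Submodule.add_mem _ (Submodule.add_mem _ (Submodule.smul_mem _ _ ?_)
      (Submodule.smul_mem _ _ ?_)) (hle (h.span hn))
    · exact Submodule.subset_span (Or.inl ⟨none, rfl⟩)
    · exact Submodule.subset_span (Or.inr ⟨none, rfl⟩)

/-- relative nondegeneracy of the perp of a hyperbolic pair inside `N` -/
theorem perpN_nondeg (B : V →ₗ[F] V →ₗ[F] F) (halt : ∀ v, B v v = 0) (N : Submodule F V)
    (u w : V) (hu : u ∈ N) (hw : w ∈ N) (huw : B u w ≠ 0)
    (hnd : ∀ a ∈ N, (∀ b ∈ N, B a b = 0) → a = 0) :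
    ∀ a ∈ N ⊓ perp2 B u w, (∀ b ∈ N ⊓ perp2 B u w, B a b = 0) → a = 0 := by
  intro a ha hab
  apply hnd a ha.1
  intro y hy
  obtain ⟨s, t, n, hn1, hn2, rfl⟩ := decomp_exists B halt u w huw y
  have hsum : s • u + t • w ∈ N := N.add_mem (N.smul_mem _ hu) (N.smul_mem _ hw)
  have hnN : n ∈ N := (Submodule.add_mem_iff_right N hsum).1 hy
  have ha2 := (mem_perp2 B u w a).1 ha.2
  rw [map_add, map_add, map_smul, map_smul, hab n ⟨hnN, (mem_perp2 B u w n).2 ⟨hn1, hn2⟩⟩,
    skew B halt a u, skew B halt a w, ha2.1, ha2.2]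
  simp

theorem perpN_lt [FiniteDimensional F V] (B : V →ₗ[F] V →ₗ[F] F) (N : Submodule F V)
    (u w : V) (hw : w ∈ N) (huw : B u w ≠ 0) :
    Module.finrank F ↥(N ⊓ perp2 B u w) < Module.finrank F ↥N := by
  apply Submodule.finrank_lt_finrank_of_lt
  refine lt_of_le_of_ne inf_le_left ?_
  intro h
  have : w ∈ N ⊓ perp2 B u w := by rw [h]; exact hw
  exact huw ((mem_perp2 B u w w).1 this.2).1

def XCompat (x : V →ₗ[F] V) {ι : Type} (e f : ι → V) (τ : ι → ι) : Prop :=
  (∀ i, τ (τ i) = i) ∧ ∀ i, x (e i) ∈ Submodule.span F {e (τ i), f (τ i)} ∧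
    x (f i) ∈ Submodule.span F {e (τ i), f (τ i)}

end family



section main
variable {F : Type*} [Field F] {V : Type u} [AddCommGroup V] [Module F V]

theorem plane_family [FiniteDimensional F V] (B : V →ₗ[F] V →ₗ[F] F) (halt : ∀ v, B v v = 0)
    (x : V →ₗ[F] V) (z : F) (hz : z ≠ 0)
    (hinv : ∀ a b, B (x a) (x b) = B a b) (hx : ∀ a, x (x a) = z • a) :
    ∀ (k : ℕ) (N : Submodule F V), (∀ a ∈ N, x a ∈ N) →
      (∀ a ∈ N, (∀ b ∈ N, B a b = 0) → a = 0) → Module.finrank F ↥N = k →
      ∃ (ι : Type) (_ : Fintype ι) (e f : ι → V) (τ : ι → ι),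
        HypFam B N e f ∧ XCompat x e f τ := by
  intro k
  induction k using Nat.strong_induction_on with
  | _ k ih =>
    intro N hNinv hNnd hk
    by_cases hN0 : ∀ a ∈ N, a = 0
    · refine ⟨Empty, inferInstance, Empty.elim, Empty.elim, id, ⟨?_, ?_, ?_, ?_, ?_⟩, ?_, ?_⟩
      · intro i; exact i.elim
      · intro i; exact i.elim
      · intro i; exact i.elim
      · intro i; exact i.elim
      · intro y hy; rw [hN0 y hy]; exact Submodule.zero_mem _
      · intro i; exact i.elim
      · intro i; exact i.elim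
    push Not at hN0
    obtain ⟨a₀, ha₀N, ha₀⟩ := hN0
    have hstep := pick_step (B.domRestrict₁₂ N N) (fun a => halt _)
      (fun a ha => Subtype.ext (hNnd a.1 a.2 (fun b hb => ha ⟨b, hb⟩)))
      (x.restrict hNinv) z hz (fun a b => hinv _ _)
      (fun a => Subtype.ext (by simp [hx]))
      ⟨⟨a₀, ha₀N⟩, fun h => ha₀ (congrArg Subtype.val h)⟩
    rcases hstep with ⟨u, w, huw, α, β, γ, δ, hxu, hxw⟩ | ⟨a, b, hab, h1, h2, h3, h4⟩
    · -- one invariant plane
      have huw' : B u.1 w.1 ≠ 0 := huw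
      have hxu' : x u.1 = α • u.1 + β • w.1 := congrArg Subtype.val hxu
      have hxw' : x w.1 = γ • u.1 + δ • w.1 := congrArg Subtype.val hxw
      have hPinv := perp2_invariant B u.1 w.1 x z hz hinv hx α β γ δ hxu' hxw'
      have hN'inv : ∀ n ∈ N ⊓ perp2 B u.1 w.1, x n ∈ N ⊓ perp2 B u.1 w.1 :=
        fun n hn => ⟨hNinv n hn.1, hPinv n hn.2⟩
      have hN'nd := perpN_nondeg B halt N u.1 w.1 u.2 w.2 huw' hNnd
      have hN'lt := perpN_lt B N u.1 w.1 w.2 huw'
      obtain ⟨ι, _, e, f, τ, hfam, hτ, hcompat⟩ := ih _ (hk ▸ hN'lt) _ hN'inv hN'nd rfl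
      refine ⟨Option ι, inferInstance, fun o => o.elim u.1 e, fun o => o.elim w.1 f,
        fun o => o.map τ, HypFam.option B halt N u.1 w.1 u.2 w.2 huw' e f hfam, ?_, ?_⟩
      · rintro (_ | i)
        · rfl
        · simp [hτ i]
      · rintro (_ | i)
        · constructor
          · change x u.1 ∈ Submodule.span F {u.1, w.1}
            rw [hxu']
            exact Submodule.add_mem _
              (Submodule.smul_mem _ _ (Submodule.subset_span (by simp)))
              (Submodule.smul_mem _ _ (Submodule.subset_span (by simp)))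
          · change x w.1 ∈ Submodule.span F {u.1, w.1}
            rw [hxw']
            exact Submodule.add_mem _
              (Submodule.smul_mem _ _ (Submodule.subset_span (by simp)))
              (Submodule.smul_mem _ _ (Submodule.subset_span (by simp)))
        · exact hcompat i
    · -- two swapped planes
      have hab' : B a.1 b.1 ≠ 0 := hab
      have h1' : B a.1 (x a.1) = 0 := h1
      have h2' : B a.1 (x b.1) = 0 := h2
      have h3' : B b.1 (x a.1) = 0 := h3
      have h4' : B b.1 (x b.1) = 0 := h4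
      have hab1 : B (x a.1) (x b.1) ≠ 0 := by rw [hinv]; exact hab'
      have hxaN : x a.1 ∈ N := hNinv _ a.2
      have hxbN : x b.1 ∈ N := hNinv _ b.2
      have hxaN1 : x a.1 ∈ N ⊓ perp2 B a.1 b.1 := ⟨hxaN, (mem_perp2 B _ _ _).2 ⟨h1', h3'⟩⟩
      have hxbN1 : x b.1 ∈ N ⊓ perp2 B a.1 b.1 := ⟨hxbN, (mem_perp2 B _ _ _).2 ⟨h2', h4'⟩⟩
      have hN1nd := perpN_nondeg B halt N a.1 b.1 a.2 b.2 hab' hNnd
      have hN2nd := perpN_nondeg B halt (N ⊓ perp2 B a.1 b.1) (x a.1) (x b.1) hxaN1 hxbN1 hab1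
        hN1nd
      have hN1lt := perpN_lt B N a.1 b.1 b.2 hab'
      have hN2lt := perpN_lt B (N ⊓ perp2 B a.1 b.1) (x a.1) (x b.1) hxbN1 hab1
      have key : ∀ p n : V, B (x p) n = 0 → B p (x n) = 0 := by
        intro p n hp
        have h5 := hinv (x p) n
        rw [hx, map_smul, LinearMap.smul_apply, smul_eq_mul, hp] at h5
        exact (mul_eq_zero.1 h5).resolve_left hz
      have hN2inv : ∀ n ∈ (N ⊓ perp2 B a.1 b.1) ⊓ perp2 B (x a.1) (x b.1),
          x n ∈ (N ⊓ perp2 B a.1 b.1) ⊓ perp2 B (x a.1) (x b.1) := by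
        intro n hn
        have hn1 := (mem_perp2 B _ _ _).1 hn.1.2
        have hn2 := (mem_perp2 B _ _ _).1 hn.2
        refine ⟨⟨hNinv n hn.1.1, (mem_perp2 B _ _ _).2 ⟨key _ _ hn2.1, key _ _ hn2.2⟩⟩,
          (mem_perp2 B _ _ _).2 ⟨?_, ?_⟩⟩
        · rw [hinv]; exact hn1.1
        · rw [hinv]; exact hn1.2
      obtain ⟨ι, _, e, f, τ, hfam, hτ, hcompat⟩ :=
        ih _ (hk ▸ (hN2lt.trans hN1lt)) _ hN2inv hN2nd rfl
      have hfam1 := HypFam.option B halt (N ⊓ perp2 B a.1 b.1) (x a.1) (x b.1) hxaN1 hxbN1 hab1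
        e f hfam
      have hfam2 := HypFam.option B halt N a.1 b.1 a.2 b.2 hab' _ _ hfam1
      refine ⟨Option (Option ι), inferInstance, _, _,
        fun o => o.elim (some none) (fun o' => o'.elim none (fun i => some (some (τ i)))),
        hfam2, ?_, ?_⟩
      · rintro (_ | _ | i)
        · rfl
        · rfl
        · simp [hτ i]
      · rintro (_ | _ | i)
        · constructor
          · change x a.1 ∈ Submodule.span F {x a.1, x b.1}
            exact Submodule.subset_span (by simp)
          · change x b.1 ∈ Submodule.span F {x a.1, x b.1}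
            exact Submodule.subset_span (by simp)
        · constructor
          · change x (x a.1) ∈ Submodule.span F {a.1, b.1}
            rw [hx]
            exact Submodule.smul_mem _ _ (Submodule.subset_span (by simp))
          · change x (x b.1) ∈ Submodule.span F {a.1, b.1}
            rw [hx]
            exact Submodule.smul_mem _ _ (Submodule.subset_span (by simp))
        · exact hcompat i

end main



section blocks
variable {F : Type*} [Field F] {V : Type u} [AddCommGroup V] [Module F V]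
variable {κ : Type*} [Fintype κ] [DecidableEq κ]

theorem li_of_gram (B : V →ₗ[F] V →ₗ[F] F) (v : κ → V) (π : κ → κ)
    (hgram0 : ∀ m k, m ≠ k → B (v m) (v (π k)) = 0) (hgram1 : ∀ k, B (v k) (v (π k)) ≠ 0) :
    LinearIndependent F v := by
  rw [Fintype.linearIndependent_iff]
  intro c hc k
  have h1 := congrArg (fun y => B y (v (π k))) hc
  simp only [map_sum, map_smul, LinearMap.sum_apply, LinearMap.smul_apply, smul_eq_mul,
    map_zero, LinearMap.zero_apply] at h1
  rw [Finset.sum_eq_single k (fun m _ hm => by rw [hgram0 m k hm, mul_zero])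
    (fun h => absurd (Finset.mem_univ k) h)] at h1
  exact (mul_eq_zero.1 h1).resolve_right (hgram1 k)

def blockK {t : ℕ} (b : Module.Basis κ F V) (g : κ → Fin t) (j : Fin t) : Submodule F V :=
  Submodule.span F (b '' {i | g i = j})

theorem finrank_blockK {t a : ℕ} (b : Module.Basis κ F V) (g : κ → Fin t)
    (hfib : ∀ j, (Finset.univ.filter (fun i => g i = j)).card = a) (j : Fin t) :
    Module.finrank F ↥(blockK b g j) = a := by
  have h1 : b '' {i | g i = j} = Set.range (fun i : {i : κ // g i = j} => b i) := by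
    ext y
    simp only [Set.mem_image, Set.mem_setOf_eq, Set.mem_range, Subtype.exists, exists_prop]
  have hli : LinearIndependent F (fun i : {i : κ // g i = j} => b i) :=
    b.linearIndependent.comp Subtype.val Subtype.val_injective
  rw [blockK, h1, finrank_span_eq_card hli, Fintype.card_subtype, hfib]

theorem iSupIndep_blockK {t : ℕ} (b : Module.Basis κ F V) (g : κ → Fin t) :
    iSupIndep (blockK b g) := by
  rw [iSupIndep_def]
  intro j
  have h1 : (⨆ (k) (_ : k ≠ j), blockK b g k) ≤ Submodule.span F (b '' {i | g i = j}ᶜ) := by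
    apply iSup₂_le
    intro k hk
    apply Submodule.span_mono
    apply Set.image_mono
    intro i hi
    simp only [Set.mem_setOf_eq] at hi
    simp only [Set.mem_compl_iff, Set.mem_setOf_eq]
    rw [hi]; exact hk
  exact (b.linearIndependent.disjoint_span_image disjoint_compl_right).mono_right h1

theorem iSup_blockK {t : ℕ} (b : Module.Basis κ F V) (g : κ → Fin t) :
    iSup (blockK b g) = ⊤ := by
  rw [eq_top_iff, ← b.span_eq, Submodule.span_le]
  rintro _ ⟨i, rfl⟩
  exact Submodule.mem_iSup_of_mem (g i) (Submodule.subset_span ⟨i, rfl, rfl⟩)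

theorem map_blockK [FiniteDimensional F V] {t a : ℕ} (b : Module.Basis κ F V)
    (g : κ → Fin t)
    (hfib : ∀ j, (Finset.univ.filter (fun i => g i = j)).card = a)
    (x : V →ₗ[F] V) (hinj : Function.Injective x) (σ : Fin t → Fin t)
    (hxb : ∀ i, x (b i) ∈ blockK b g (σ (g i)))
    (j : Fin t) : (blockK b g j).map x = blockK b g (σ j) := by
  have hle : (blockK b g j).map x ≤ blockK b g (σ j) := by
    rw [blockK, Submodule.map_span, Submodule.span_le]
    rintro _ ⟨_, ⟨i, hi, rfl⟩, rfl⟩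
    simp only [Set.mem_setOf_eq] at hi
    have := hxb i
    rw [hi] at this
    exact this
  apply Submodule.eq_of_le_of_finrank_eq hle
  rw [finrank_blockK b g hfib, ← finrank_blockK b g hfib j]
  exact (Submodule.equivMapOfInjective x hinj (blockK b g j)).finrank_eq.symm

theorem nondeg_blockK {t : ℕ} (B : V →ₗ[F] V →ₗ[F] F) (b : Module.Basis κ F V) (g : κ → Fin t)
    (π : κ → κ) (hg : ∀ k, g (π k) = g k)
    (hgram0 : ∀ m k, m ≠ k → B (b m) (b (π k)) = 0) (hgram1 : ∀ k, B (b k) (b (π k)) ≠ 0)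
    (j : Fin t) : ∀ u ∈ blockK b g j, u ≠ 0 → ∃ v ∈ blockK b g j, B u v ≠ 0 := by
  intro u hu hu0
  have hrepr : b.repr u ≠ 0 := fun h => hu0 (by simpa using h)
  obtain ⟨k, hk⟩ : ∃ k, b.repr u k ≠ 0 := by
    by_contra hcon
    push Not at hcon
    exact hrepr (Finsupp.ext hcon)
  have hsupp := (b.mem_span_image).1 hu
  have hkj : g k = j := hsupp (Finsupp.mem_support_iff.2 hk)
  refine ⟨b (π k), Submodule.subset_span ⟨π k, by simp only [Set.mem_setOf_eq]; rw [hg, hkj], rfl⟩,
    ?_⟩
  have hsum : u = ∑ m, b.repr u m • b m := (b.sum_repr u).symm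
  rw [hsum]
  simp only [map_sum, map_smul, LinearMap.sum_apply, LinearMap.smul_apply, smul_eq_mul]
  rw [Finset.sum_eq_single k (fun m _ hm => by rw [hgram0 m k hm, mul_zero])
    (fun h => absurd (Finset.mem_univ k) h)]
  exact mul_ne_zero hk (hgram1 k)

theorem orth_blockK {t : ℕ} (B : V →ₗ[F] V →ₗ[F] F) (b : Module.Basis κ F V) (g : κ → Fin t)
    (hgram : ∀ m k, g m ≠ g k → B (b m) (b k) = 0) (j j' : Fin t) (hjj' : j ≠ j') :
    ∀ u ∈ blockK b g j, ∀ v ∈ blockK b g j', B u v = 0 := by
  have h1 : ∀ k, g k = j' → ∀ u ∈ blockK b g j, B u (b k) = 0 := by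
    intro k hk u hu
    have hle : blockK b g j ≤ LinearMap.ker (B.flip (b k)) := by
      rw [blockK, Submodule.span_le]
      rintro _ ⟨m, hm, rfl⟩
      simp only [Set.mem_setOf_eq] at hm
      simp only [SetLike.mem_coe, LinearMap.mem_ker, LinearMap.flip_apply]
      exact hgram m k (by rw [hm, hk]; exact hjj')
    have := hle hu
    simpa using this
  intro u hu v hv
  have hle : blockK b g j' ≤ LinearMap.ker (B u) := by
    rw [blockK, Submodule.span_le]
    rintro _ ⟨k, hk, rfl⟩
    simp only [Set.mem_setOf_eq] at hk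
    simp only [SetLike.mem_coe, LinearMap.mem_ker]
    exact h1 k hk u hu
  exact hle hv

end blocks



section final
variable {F : Type*} [Field F] {V : Type u} [AddCommGroup V] [Module F V]

theorem exists_orth_decomposition [FiniteDimensional F V] (B : V →ₗ[F] V →ₗ[F] F)
    (halt : ∀ v, B v v = 0) (hnd : ∀ a, (∀ b, B a b = 0) → a = 0)
    (x : V →ₗ[F] V) (z : F) (hz : z ≠ 0)
    (hinv : ∀ a b, B (x a) (x b) = B a b) (hx : ∀ a, x (x a) = z • a)
    {a' t d : ℕ} (hdim : Module.finrank F V = 2 * d) (hat : d = a' * t) (ha' : 1 ≤ a') :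
    ∃ D : Fin t → Submodule F V, (∀ j, Module.finrank F ↥(D j) = 2 * a') ∧ iSupIndep D ∧
      iSup D = ⊤ ∧ (∀ j, ∀ u ∈ D j, u ≠ 0 → ∃ v ∈ D j, B u v ≠ 0) ∧
      (∀ j j', j ≠ j' → ∀ u ∈ D j, ∀ v ∈ D j', B u v = 0) ∧
      ∃ σ : Equiv.Perm (Fin t), ∀ j, (D j).map x = D (σ j) := by
  classical
  obtain ⟨ι, _, e, f, τ, hfam, hτ, hcompat⟩ := plane_family B halt x z hz hinv hx _ ⊤
    (fun _ _ => Submodule.mem_top) (fun a _ ha => hnd a (fun b => ha b Submodule.mem_top)) rfl
  have hinj : Function.Injective x := by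
    rw [injective_iff_map_eq_zero]
    intro v hv
    have := hx v
    rw [hv, map_zero] at this
    exact (smul_eq_zero.1 this.symm).resolve_left hz
  -- Gram relations
  have hg0 : ∀ m k : ι ⊕ ι, m ≠ k → B (Sum.elim e f m) (Sum.elim e f k.swap) = 0 := by
    rintro (i | i) (j | j) hmk
    · exact (hfam.orth i j (fun h => hmk (congrArg Sum.inl h))).2.1
    · by_cases hij : i = j
      · subst hij; exact halt _
      · exact (hfam.orth i j hij).1
    · by_cases hij : i = j
      · subst hij; exact halt _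
      · exact (hfam.orth i j hij).2.2.2
    · exact (hfam.orth i j (fun h => hmk (congrArg Sum.inr h))).2.2.1
  have hg1 : ∀ k : ι ⊕ ι, B (Sum.elim e f k) (Sum.elim e f k.swap) ≠ 0 := by
    rintro (i | i)
    · exact hfam.pair i
    · change B (f i) (e i) ≠ 0
      rw [skew B halt]
      exact neg_ne_zero.2 (hfam.pair i)
  have hli : LinearIndependent F (Sum.elim e f) := li_of_gram B _ Sum.swap hg0 hg1
  have hspan : ⊤ ≤ Submodule.span F (Set.range (Sum.elim e f)) := by
    rw [Set.Sum.elim_range]; exact hfam.span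
  obtain ⟨b, hb⟩ : ∃ b : Module.Basis (ι ⊕ ι) F V, ⇑b = Sum.elim e f :=
    ⟨Module.Basis.mk hli hspan, Module.Basis.coe_mk hli hspan⟩
  have hcard : Fintype.card ι = d := by
    have h1 := Module.finrank_eq_card_basis b
    rw [hdim, Fintype.card_sum] at h1
    omega
  obtain ⟨eqv⟩ : Nonempty (ι ≃ Fin d) := ⟨Fintype.equivFinOfCardEq hcard⟩
  obtain ⟨g₀, σ, hfib, hgσ⟩ := packing_fin hat ha' (fun i => eqv (τ (eqv.symm i)))
    (by intro i; simp [hτ])
  obtain ⟨g, hg⟩ : ∃ g : ι → Fin t, g = fun i => g₀ (eqv i) := ⟨_, rfl⟩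
  have hgτ : ∀ i, g (τ i) = σ (g i) := by
    intro i
    have := hgσ (eqv i)
    simp only [Equiv.symm_apply_apply] at this
    rw [hg]; exact this
  have hfibι : ∀ j, (Finset.univ.filter (fun i : ι => g i = j)).card = a' := by
    intro j
    rw [← hfib j, hg]
    apply Finset.card_bij (fun i _ => eqv i)
    · intro i hi
      simp only [Finset.mem_filter, Finset.mem_univ, true_and] at hi ⊢
      exact hi
    · intro i _ i' _ h; exact eqv.injective h
    · intro i hi
      simp only [Finset.mem_filter, Finset.mem_univ, true_and] at hi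
      exact ⟨eqv.symm i, by simp [hi], by simp⟩
  have hfib' : ∀ j, (Finset.univ.filter (fun k : ι ⊕ ι => Sum.elim g g k = j)).card = 2 * a' := by
    intro j
    have h := hfibι j
    rw [Finset.card_filter] at h
    rw [Finset.card_filter, Fintype.sum_sum_type]
    change (∑ a₁, if g a₁ = j then 1 else 0) + (∑ a₂, if g a₂ = j then 1 else 0) = 2 * a'
    rw [h]; ring
  have hmemblock : ∀ k : ι ⊕ ι, b k ∈ blockK b (Sum.elim g g) (Sum.elim g g k) := fun k =>
    Submodule.subset_span ⟨k, rfl, rfl⟩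
  refine ⟨blockK b (Sum.elim g g), finrank_blockK b _ hfib', iSupIndep_blockK b _, iSup_blockK b _,
    ?_, ?_, σ, ?_⟩
  · intro j
    apply nondeg_blockK B b (Sum.elim g g) Sum.swap
    · rintro (i | i) <;> rfl
    · intro m k hmk; rw [hb]; exact hg0 m k hmk
    · intro k; rw [hb]; exact hg1 k
  · intro j j' hjj'
    apply orth_blockK B b (Sum.elim g g) _ j j' hjj'
    rw [hb]
    rintro (i | i) (i' | i') hne
    · have hii' : i ≠ i' := fun h => hne (by rw [h])
      exact (hfam.orth i i' hii').1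
    · have hii' : i ≠ i' := fun h => hne (by rw [h]; rfl)
      exact (hfam.orth i i' hii').2.1
    · have hii' : i ≠ i' := fun h => hne (by rw [h]; rfl)
      exact (hfam.orth i i' hii').2.2.1
    · have hii' : i ≠ i' := fun h => hne (by rw [h])
      exact (hfam.orth i i' hii').2.2.2
  · apply map_blockK b (Sum.elim g g) hfib' x hinj σ
    have hle : ∀ i : ι, Submodule.span F {e (τ i), f (τ i)} ≤
        blockK b (Sum.elim g g) (σ (g i)) := by
      intro i
      rw [Submodule.span_le]
      rintro y hy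
      rcases hy with rfl | hy
      · have := hmemblock (Sum.inl (τ i))
        rw [hb] at this
        simp only [Sum.elim_inl, hgτ] at this
        exact this
      · rw [Set.mem_singleton_iff] at hy
        subst hy
        have := hmemblock (Sum.inr (τ i))
        rw [hb] at this
        simp only [Sum.elim_inr, hgτ] at this
        exact this
    rintro (i | i)
    · rw [hb]; exact hle i (hcompat i).1
    · rw [hb]; exact hle i (hcompat i).2

end final

end Cfsg.Agent.Lib.Helper24.OrthDecomp
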