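import Mathlib
import Cfsg.Agent.Lib.Helper27.UMax
import Cfsg.Agent.Lib.Helper24.OrthDecomp

set_option autoImplicit false
set_option linter.style.haveILetI false

namespace Cfsg.Agent.Lib.Helper24.USubfield

open Cfsg Matrix Cfsg.Agent.Lib.Helper27.Unitary

section field
variable {F : Type*} [Field F] [Fintype F] {q : ℕ}

theorem card_sub (hF : Fintype.card F = q ^ 2) (F₀ : Subfield F)
    (hcard : Fintype.card F = Nat.card F₀ ^ 2) : Nat.card F₀ = q := by
  rw [hF] at hcard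
  exact (Nat.pow_left_injective (by norm_num : 2 ≠ 0) hcard).symm

theorem mem_fix (hF : Fintype.card F = q ^ 2) (F₀ : Subfield F)
    (hcard : Fintype.card F = Nat.card F₀ ^ 2) {a : F} (ha : a ∈ F₀) : a ^ q = a := by
  haveI : Fintype ↥F₀ := Fintype.ofFinite _
  have h1 := FiniteField.pow_card (⟨a, ha⟩ : ↥F₀)
  rw [← Nat.card_eq_fintype_card, card_sub hF F₀ hcard] at h1
  have := congrArg (Subtype.val) h1
  simpa using this

theorem mem_of_fix (hF : Fintype.card F = q ^ 2) (F₀ : Subfield F)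
    (hcard : Fintype.card F = Nat.card F₀ ^ 2) {a : F} (ha : a ^ q = a) : a ∈ F₀ := by
  classical
  have hq2 : 2 ≤ q := two_le_q hF
  obtain ⟨S, hS⟩ : ∃ S : Finset F, S = Finset.univ.filter (fun a : F => a ^ q = a) := ⟨_, rfl⟩
  obtain ⟨T, hT⟩ : ∃ T : Finset F, T = Finset.univ.filter (fun a : F => a ∈ F₀) := ⟨_, rfl⟩
  have hTS : T ⊆ S := by
    intro b hb
    rw [hT, Finset.mem_filter] at hb
    rw [hS, Finset.mem_filter]
    exact ⟨Finset.mem_univ _, mem_fix hF F₀ hcard hb.2⟩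
  have hTcard : T.card = q := by
    rw [← card_sub hF F₀ hcard, hT, Nat.card_eq_fintype_card, Fintype.card_subtype]
  have hScard : S.card ≤ q := by
    have hdeg : (Polynomial.X ^ q - Polynomial.X : Polynomial F).natDegree = q :=
      FiniteField.X_pow_card_sub_X_natDegree_eq F (by omega)
    have hne : (Polynomial.X ^ q - Polynomial.X : Polynomial F) ≠ 0 :=
      FiniteField.X_pow_card_sub_X_ne_zero F (by omega)
    have hsub : S ⊆ (Polynomial.X ^ q - Polynomial.X : Polynomial F).roots.toFinset := by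
      intro b hb
      rw [hS, Finset.mem_filter] at hb
      rw [Multiset.mem_toFinset, Polynomial.mem_roots hne]
      simp [hb.2]
    calc S.card ≤ (Polynomial.X ^ q - Polynomial.X : Polynomial F).roots.toFinset.card :=
          Finset.card_le_card hsub
      _ ≤ Multiset.card (Polynomial.X ^ q - Polynomial.X : Polynomial F).roots :=
          Multiset.toFinset_card_le _
      _ ≤ (Polynomial.X ^ q - Polynomial.X : Polynomial F).natDegree := Polynomial.card_roots' _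
      _ = q := hdeg
  have hEq : T = S := Finset.eq_of_subset_of_card_le hTS (by rw [hTcard]; exact hScard)
  have : a ∈ S := by rw [hS, Finset.mem_filter]; exact ⟨Finset.mem_univ _, ha⟩
  rw [← hEq, hT, Finset.mem_filter] at this
  exact this.2

/-- decomposition of the quadratic extension -/
theorem decomp_field (hF : Fintype.card F = q ^ 2) (F₀ : Subfield F)
    (hcard : Fintype.card F = Nat.card F₀ ^ 2) (ω : F) (hω : ω ^ q ≠ ω) (x : F) :
    ∃ a b : ↥F₀, x = (a : F) + ω * (b : F) := by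
  have hne : ω - ω ^ q ≠ 0 := sub_ne_zero.2 (Ne.symm hω)
  obtain ⟨b, hb⟩ : ∃ b : F, b = (x - x ^ q) / (ω - ω ^ q) := ⟨_, rfl⟩
  have hbfix : b ^ q = b := by
    rw [hb, cj_div, cj_sub hF, cj_sub hF, cj_cj hF, cj_cj hF]
    rw [div_eq_div_iff (by intro h; apply hne; linear_combination -h) hne]
    ring
  have hafix : (x - ω * b) ^ q = x - ω * b := by
    rw [cj_sub hF, mul_pow, hbfix]
    have : b * (ω - ω ^ q) = x - x ^ q := by rw [hb]; field_simp
    linear_combination this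
  exact ⟨⟨x - ω * b, mem_of_fix hF F₀ hcard hafix⟩, ⟨b, mem_of_fix hF F₀ hcard hbfix⟩, by simp⟩

theorem decomp_field_unique (hF : Fintype.card F = q ^ 2) (F₀ : Subfield F)
    (hcard : Fintype.card F = Nat.card F₀ ^ 2) (ω : F) (hω : ω ^ q ≠ ω) (a b a' b' : ↥F₀)
    (h : (a : F) + ω * (b : F) = (a' : F) + ω * (b' : F)) : a = a' ∧ b = b' := by
  have hb : b = b' := by
    by_contra hne
    have hne' : (b : F) - (b' : F) ≠ 0 := by
      intro h0
      exact hne (Subtype.ext (sub_eq_zero.1 h0))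
    apply hω
    have h1 : ω = ((a' : F) - (a : F)) / ((b : F) - (b' : F)) := by
      field_simp
      linear_combination h
    have hmem : ω ∈ F₀ := by
      rw [h1]
      exact F₀.div_mem (F₀.sub_mem a'.2 a.2) (F₀.sub_mem b.2 b'.2)
    exact mem_fix hF F₀ hcard hmem
  refine ⟨?_, hb⟩
  rw [hb] at h
  exact Subtype.ext (add_right_cancel h)

end field



section emb
variable {F : Type*} [Field F] [Fintype F] {q n : ℕ}

/-- the coordinate embedding of the rational structure -/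
def emb (F₀ : Subfield F) (P : GL (Fin n) F) (u : Fin n → ↥F₀) : Fin n → F :=
  (P : Matrix (Fin n) (Fin n) F) *ᵥ (fun i => (u i : F))

theorem emb_add (F₀ : Subfield F) (P : GL (Fin n) F) (u v : Fin n → ↥F₀) :
    emb F₀ P (u + v) = emb F₀ P u + emb F₀ P v := by
  unfold emb
  rw [← Matrix.mulVec_add]
  congr 1

theorem emb_smul (F₀ : Subfield F) (P : GL (Fin n) F) (a : ↥F₀) (u : Fin n → ↥F₀) :
    emb F₀ P (a • u) = (a : F) • emb F₀ P u := by
  unfold emb
  rw [← Matrix.mulVec_smul]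
  congr 1

theorem emb_zero (F₀ : Subfield F) (P : GL (Fin n) F) : emb F₀ P 0 = 0 := by
  unfold emb
  have : (fun i => (((0 : Fin n → ↥F₀) i : ↥F₀) : F)) = 0 := by
    funext i; simp
  rw [this, Matrix.mulVec_zero]

theorem emb_neg (F₀ : Subfield F) (P : GL (Fin n) F) (u : Fin n → ↥F₀) :
    emb F₀ P (-u) = - emb F₀ P u := by
  have := emb_smul F₀ P (-1) u
  simpa using this

theorem emb_sub (F₀ : Subfield F) (P : GL (Fin n) F) (u v : Fin n → ↥F₀) :
    emb F₀ P (u - v) = emb F₀ P u - emb F₀ P v := by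
  rw [sub_eq_add_neg, emb_add, emb_neg, sub_eq_add_neg]

theorem emb_eq_gact (F₀ : Subfield F) (P : GL (Fin n) F) (u : Fin n → ↥F₀) :
    emb F₀ P u = gact P (fun i => (u i : F)) := rfl

theorem emb_injective (F₀ : Subfield F) (P : GL (Fin n) F) : Function.Injective (emb F₀ P) := by
  intro u v h
  rw [emb_eq_gact, emb_eq_gact] at h
  have h2 := gact_injective P h
  funext i
  exact Subtype.ext (congrFun h2 i)

theorem emb_eq_zero (F₀ : Subfield F) (P : GL (Fin n) F) {u : Fin n → ↥F₀}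
    (h : emb F₀ P u = 0) : u = 0 := by
  apply emb_injective F₀ P
  rw [h, emb_zero]

/-- every vector is `emb x₁ + ω • emb x₂` -/
theorem decomp_vec (hF : Fintype.card F = q ^ 2) (F₀ : Subfield F)
    (hcard : Fintype.card F = Nat.card F₀ ^ 2) (P : GL (Fin n) F) (ω : F) (hω : ω ^ q ≠ ω)
    (x : Fin n → F) : ∃ x₁ x₂ : Fin n → ↥F₀, x = emb F₀ P x₁ + ω • emb F₀ P x₂ := by
  have h := fun i => decomp_field hF F₀ hcard ω hω (gact P⁻¹ x i)
  choose a b hab using h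
  refine ⟨a, b, ?_⟩
  rw [emb_eq_gact, emb_eq_gact, ← gact_smul, ← gact_add]
  have : (fun i => ((a i : ↥F₀) : F)) + ω • (fun i => ((b i : ↥F₀) : F)) = gact P⁻¹ x := by
    funext i
    simp only [Pi.add_apply, Pi.smul_apply, smul_eq_mul]
    exact (hab i).symm
  rw [this, gact_gact_inv]

theorem decomp_vec_unique (hF : Fintype.card F = q ^ 2) (F₀ : Subfield F)
    (hcard : Fintype.card F = Nat.card F₀ ^ 2) (P : GL (Fin n) F) (ω : F) (hω : ω ^ q ≠ ω)
    (x₁ x₂ y₁ y₂ : Fin n → ↥F₀)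
    (h : emb F₀ P x₁ + ω • emb F₀ P x₂ = emb F₀ P y₁ + ω • emb F₀ P y₂) :
    x₁ = y₁ ∧ x₂ = y₂ := by
  rw [emb_eq_gact, emb_eq_gact, emb_eq_gact, emb_eq_gact, ← gact_smul, ← gact_add, ← gact_smul,
    ← gact_add] at h
  have h2 := gact_injective P h
  have h3 : ∀ i, x₁ i = y₁ i ∧ x₂ i = y₂ i := by
    intro i
    have := congrFun h2 i
    simp only [Pi.add_apply, Pi.smul_apply, smul_eq_mul] at this
    exact decomp_field_unique hF F₀ hcard ω hω _ _ _ _ this
  exact ⟨funext fun i => (h3 i).1, funext fun i => (h3 i).2⟩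

end emb



section form
variable {F : Type*} [Field F] [Fintype F] {q n : ℕ}

/-- the hypotheses of the symplectic-type subfield structure in the unitary group -/
structure Setup (F₀ : Subfield F) (P : GL (Fin n) F) (ζ : F) (q : ℕ) : Prop where
  hF : Fintype.card F = q ^ 2
  hcard : Fintype.card F = Nat.card F₀ ^ 2
  hζ0 : ζ ≠ 0
  hζ : ζ + ζ ^ q = 0
  hP : Cfsg.Geo.IsFormRationalStructure (hermForm n F q) F₀ ζ P
  halt : ∀ u : Fin n → F, (∀ i, u i ∈ F₀) →
    hermForm n F q ((P : Matrix (Fin n) (Fin n) F) *ᵥ u) ((P : Matrix (Fin n) (Fin n) F) *ᵥ u) = 0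

variable {F₀ : Subfield F} {P : GL (Fin n) F} {ζ : F}

theorem Setup.fix (S : Setup F₀ P ζ q) (a : ↥F₀) : (a : F) ^ q = a :=
  mem_fix S.hF F₀ S.hcard a.2

theorem Setup.hf_mem (S : Setup F₀ P ζ q) (u v : Fin n → ↥F₀) :
    ζ * hermForm n F q (emb F₀ P u) (emb F₀ P v) ∈ F₀ :=
  S.hP _ _ (fun i => (u i).2) (fun i => (v i).2)

theorem Setup.hf_self (S : Setup F₀ P ζ q) (u : Fin n → ↥F₀) :
    hermForm n F q (emb F₀ P u) (emb F₀ P u) = 0 :=
  S.halt _ (fun i => (u i).2)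

theorem Setup.hf_skew (S : Setup F₀ P ζ q) (u v : Fin n → ↥F₀) :
    hermForm n F q (emb F₀ P v) (emb F₀ P u) = - hermForm n F q (emb F₀ P u) (emb F₀ P v) := by
  have h := S.hf_self (u + v)
  rw [emb_add, hf_add_self S.hF, S.hf_self, S.hf_self, ← hf_swap S.hF] at h
  linear_combination h

/-- the alternating `F₀`-bilinear form `ζ h` on the rational structure -/
noncomputable def Bform (S : Setup F₀ P ζ q) :
    (Fin n → ↥F₀) →ₗ[↥F₀] (Fin n → ↥F₀) →ₗ[↥F₀] ↥F₀ :=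
  LinearMap.mk₂ ↥F₀
    (fun u v => ⟨ζ * hermForm n F q (emb F₀ P u) (emb F₀ P v), S.hf_mem u v⟩)
    (by
      intro u u' v
      apply Subtype.ext
      simp only [Subfield.coe_add]
      rw [emb_add, hf_add_left, mul_add])
    (by
      intro a u v
      apply Subtype.ext
      simp only [smul_eq_mul, Subfield.coe_mul]
      rw [emb_smul, hf_smul_left]
      ring)
    (by
      intro u v v'
      apply Subtype.ext
      simp only [Subfield.coe_add]
      rw [emb_add, hf_add_right S.hF, mul_add])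
    (by
      intro a u v
      apply Subtype.ext
      simp only [smul_eq_mul, Subfield.coe_mul]
      rw [emb_smul, hf_smul_right, S.fix a]
      ring)

theorem Bform_apply (S : Setup F₀ P ζ q) (u v : Fin n → ↥F₀) :
    ((Bform S u v : ↥F₀) : F) = ζ * hermForm n F q (emb F₀ P u) (emb F₀ P v) := rfl

theorem Bform_alt (S : Setup F₀ P ζ q) (u : Fin n → ↥F₀) : Bform S u u = 0 := by
  apply Subtype.ext
  rw [Bform_apply, S.hf_self, mul_zero]
  rfl

theorem Bform_eq_zero_iff (S : Setup F₀ P ζ q) (u v : Fin n → ↥F₀) :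
    Bform S u v = 0 ↔ hermForm n F q (emb F₀ P u) (emb F₀ P v) = 0 := by
  constructor
  · intro h
    have h1 := congrArg Subtype.val h
    rw [Bform_apply] at h1
    exact (mul_eq_zero.1 h1).resolve_left S.hζ0
  · intro h
    apply Subtype.ext
    rw [Bform_apply, h, mul_zero]
    rfl

theorem Bform_nondeg (S : Setup F₀ P ζ q) (u : Fin n → ↥F₀) (h : ∀ v, Bform S u v = 0) :
    u = 0 := by
  obtain ⟨ω, hω⟩ := exists_not_fixed S.hF
  apply emb_eq_zero F₀ P
  apply hf_nondeg S.hF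
  intro x
  obtain ⟨x₁, x₂, rfl⟩ := decomp_vec S.hF F₀ S.hcard P ω hω x
  rw [hf_add_right S.hF, hf_smul_right, (Bform_eq_zero_iff S u x₁).1 (h x₁),
    (Bform_eq_zero_iff S u x₂).1 (h x₂)]
  ring

/-- isotropy of `emb x₁ + ω • emb x₂` -/
theorem iso_iff (S : Setup F₀ P ζ q) (ω : F) (hω : ω ^ q ≠ ω) (x₁ x₂ : Fin n → ↥F₀) :
    hermForm n F q (emb F₀ P x₁ + ω • emb F₀ P x₂) (emb F₀ P x₁ + ω • emb F₀ P x₂) = 0 ↔
      Bform S x₁ x₂ = 0 := by
  rw [Bform_eq_zero_iff]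
  have h1 : hermForm n F q (emb F₀ P x₁ + ω • emb F₀ P x₂) (emb F₀ P x₁ + ω • emb F₀ P x₂) =
      (ω ^ q - ω) * hermForm n F q (emb F₀ P x₁) (emb F₀ P x₂) := by
    rw [hf_add_left, hf_add_right S.hF, hf_add_right S.hF, hf_smul_left, hf_smul_left,
      hf_smul_right, hf_smul_right, S.hf_self, S.hf_self, S.hf_skew x₁ x₂]
    ring
  rw [h1]
  constructor
  · intro h
    exact (mul_eq_zero.1 h).resolve_left (sub_ne_zero.2 hω)
  · intro h
    rw [h, mul_zero]

end form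



section subfield
variable {F : Type*} [Field F] [Fintype F] {n : ℕ}

theorem coe_single (F₀ : Subfield F) (j : Fin n) :
    (fun i => (((Pi.single j (1 : ↥F₀) : Fin n → ↥F₀) i : ↥F₀) : F)) = Pi.single j (1 : F) := by
  funext i
  by_cases h : i = j
  · subst h; simp
  · simp [Pi.single_eq_of_ne h]

theorem emb_single (F₀ : Subfield F) (P : GL (Fin n) F) (j : Fin n) :
    emb F₀ P (Pi.single j 1) = (P : Matrix (Fin n) (Fin n) F) *ᵥ Pi.single j 1 := by
  unfold emb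
  rw [coe_single]

theorem mem_subfield_of (F₀ : Subfield F) (P : GL (Fin n) F) (g : GL (Fin n) F) (lam : F)
    (hlam : lam ≠ 0) (U : Fin n → (Fin n → ↥F₀))
    (h : ∀ j, gact g (emb F₀ P (Pi.single j 1)) = lam • emb F₀ P (U j)) :
    g ∈ Cfsg.Geo.subfieldSubgroup F₀ P := by
  obtain ⟨A₀, hA₀⟩ : ∃ A₀ : Matrix (Fin n) (Fin n) ↥F₀, A₀ = fun i j => U j i := ⟨_, rfl⟩
  have hcol : ∀ j, (A₀.map F₀.subtype) *ᵥ Pi.single j 1 = fun i => ((U j i : ↥F₀) : F) := by
    intro j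
    rw [Matrix.mulVec_single_one]
    funext i
    rw [hA₀]
    rfl
  have hmat : (g : Matrix (Fin n) (Fin n) F) * (P : Matrix (Fin n) (Fin n) F) =
      lam • ((P : Matrix (Fin n) (Fin n) F) * A₀.map F₀.subtype) := by
    apply Matrix.ext_of_mulVec_single
    intro j
    rw [← Matrix.mulVec_mulVec, ← emb_single, Matrix.smul_mulVec, ← Matrix.mulVec_mulVec,
      hcol]
    exact h j
  have hdetF : (A₀.map F₀.subtype).det ≠ 0 := by
    intro h0
    have h1 := congrArg Matrix.det hmat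
    rw [Matrix.det_mul, Matrix.det_smul, Matrix.det_mul, h0, mul_zero, mul_zero] at h1
    have hg : (g : Matrix (Fin n) (Fin n) F).det ≠ 0 := by
      have := Matrix.GeneralLinearGroup.det_ne_zero g
      exact this
    have hP : (P : Matrix (Fin n) (Fin n) F).det ≠ 0 := Matrix.GeneralLinearGroup.det_ne_zero P
    exact mul_ne_zero hg hP h1
  have hdet : A₀.det ≠ 0 := by
    intro h0
    apply hdetF
    have := RingHom.map_det F₀.subtype A₀
    rw [h0, map_zero] at this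
    rw [RingHom.mapMatrix_apply] at this
    exact this.symm
  obtain ⟨A, hA⟩ : ∃ A : GL (Fin n) ↥F₀, (A : Matrix (Fin n) (Fin n) ↥F₀) = A₀ :=
    ⟨Matrix.GeneralLinearGroup.mkOfDetNeZero A₀ hdet, rfl⟩
  obtain ⟨s, hs⟩ : ∃ s : GL (Fin n) F, s =
      Units.map (Matrix.scalar (Fin n) : F →+* Matrix (Fin n) (Fin n) F).toMonoidHom
        (Units.mk0 lam hlam) := ⟨_, rfl⟩
  have hsmem : s ∈ Cfsg.Geo.scalars (Fin n) F := by
    rw [hs]; exact ⟨Units.mk0 lam hlam, rfl⟩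
  have hsmat : (s : Matrix (Fin n) (Fin n) F) = lam • (1 : Matrix (Fin n) (Fin n) F) := by
    rw [hs]
    simp [Matrix.smul_one_eq_diagonal]
  have hAmat : ((Matrix.GeneralLinearGroup.map F₀.subtype A : GL (Fin n) F) :
      Matrix (Fin n) (Fin n) F) = A₀.map F₀.subtype := by
    ext i j
    rw [Matrix.GeneralLinearGroup.map_apply, hA]
    rfl
  unfold Cfsg.Geo.subfieldSubgroup
  rw [Subgroup.mem_map]
  refine ⟨Matrix.GeneralLinearGroup.map F₀.subtype A * s,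
    mul_mem (Subgroup.mem_sup_left ⟨A, rfl⟩) (Subgroup.mem_sup_right hsmem), ?_⟩
  apply Units.ext
  simp only [MulEquiv.coe_toMonoidHom, MulAut.conj_apply, Units.val_mul]
  rw [hAmat, hsmat]
  have hPinv : (P : Matrix (Fin n) (Fin n) F) * ((P⁻¹ : GL (Fin n) F) : Matrix (Fin n) (Fin n) F)
      = 1 := by
    rw [← Units.val_mul, mul_inv_cancel]; rfl
  have hgeq : (g : Matrix (Fin n) (Fin n) F) =
      lam • ((P : Matrix (Fin n) (Fin n) F) * A₀.map F₀.subtype) *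
        ((P⁻¹ : GL (Fin n) F) : Matrix (Fin n) (Fin n) F) := by
    rw [← hmat, mul_assoc, hPinv, mul_one]
  rw [hgeq]
  simp only [Matrix.mul_smul, Matrix.smul_mul, Matrix.mul_one]

end subfield



section subfield2
variable {F : Type*} [Field F] [Fintype F] {n : ℕ}

theorem of_mem_subfield (F₀ : Subfield F) (P : GL (Fin n) F) (g : GL (Fin n) F)
    (hg : g ∈ Cfsg.Geo.subfieldSubgroup F₀ P) :
    ∃ lam : F, lam ≠ 0 ∧ ∀ u : Fin n → ↥F₀, ∃ u' : Fin n → ↥F₀,
      gact g (emb F₀ P u) = lam • emb F₀ P u' := by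
  unfold Cfsg.Geo.subfieldSubgroup at hg
  obtain ⟨k, hk, rfl⟩ := Subgroup.mem_map.1 hg
  obtain ⟨a, ha, s, hs, rfl⟩ := Subgroup.mem_sup_of_normal_right.1 hk
  obtain ⟨A, rfl⟩ := ha
  obtain ⟨c, hc⟩ := (Cfsg.Geo.mem_scalars_iff s).1 hs
  refine ⟨(c : F), c.ne_zero, ?_⟩
  intro u
  refine ⟨(A : Matrix (Fin n) (Fin n) ↥F₀) *ᵥ u, ?_⟩
  simp only [MulEquiv.coe_toMonoidHom, MulAut.conj_apply]
  rw [gact_mul, gact_mul, emb_eq_gact, gact_inv_gact, gact_mul, emb_eq_gact, ← gact_smul]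
  congr 1
  have h1 : gact s (fun i => ((u i : ↥F₀) : F)) = (c : F) • (fun i => ((u i : ↥F₀) : F)) := by
    rw [gact_def, hc, Matrix.smul_mulVec, Matrix.one_mulVec]
  rw [h1, gact_smul]
  congr 1
  funext i
  rw [gact_def]
  have h2 := RingHom.map_mulVec F₀.subtype (A : Matrix (Fin n) (Fin n) ↥F₀) u i
  have h3 : ((Matrix.GeneralLinearGroup.map F₀.subtype A : GL (Fin n) F) :
      Matrix (Fin n) (Fin n) F) = (A : Matrix (Fin n) (Fin n) ↥F₀).map F₀.subtype := by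
    ext i j
    rw [Matrix.GeneralLinearGroup.map_apply]
    rfl
  rw [h3]
  exact h2.symm

end subfield2



section transv
variable {F : Type*} [Field F] [Fintype F] {q n : ℕ}
variable {F₀ : Subfield F} {P : GL (Fin n) F} {ζ : F}

/-- symplectic transvection on the rational structure -/
noncomputable def stv (S : Setup F₀ P ζ q) (w : Fin n → ↥F₀) (a : ↥F₀) (u : Fin n → ↥F₀) :
    Fin n → ↥F₀ :=
  u + (a * Bform S u w) • w

theorem zeta_mul_trace (S : Setup F₀ P ζ q) (a : ↥F₀) : ζ * (a : F) + (ζ * (a : F)) ^ q = 0 := by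
  rw [mul_pow, S.fix a]
  linear_combination (a : F) * S.hζ

theorem exists_coeff (S : Setup F₀ P ζ q) (c : F) (hc : c + c ^ q = 0) :
    ∃ a : ↥F₀, c = ζ * (a : F) := by
  have hζq : ζ ^ q = -ζ := by linear_combination S.hζ
  have hcq : c ^ q = -c := by linear_combination hc
  have hfix : (c / ζ) ^ q = c / ζ := by
    rw [cj_div, hζq, hcq, neg_div_neg_eq]
  refine ⟨⟨c / ζ, mem_of_fix S.hF F₀ S.hcard hfix⟩, ?_⟩
  have := S.hζ0
  simp only
  field_simp

theorem tv_emb (S : Setup F₀ P ζ q) (w : Fin n → ↥F₀) (a : ↥F₀) (u : Fin n → ↥F₀) :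
    gact (tv q (emb F₀ P w) (ζ * (a : F))) (emb F₀ P u) = emb F₀ P (stv S w a u) := by
  rw [tv_gact (S.hf_self w), stv, emb_add, emb_smul]
  congr 2
  rw [Subfield.coe_mul, Bform_apply]
  ring

theorem tv_mem_subfield (S : Setup F₀ P ζ q) (w : Fin n → ↥F₀) (a : ↥F₀) :
    tv q (emb F₀ P w) (ζ * (a : F)) ∈ Cfsg.Geo.subfieldSubgroup F₀ P :=
  mem_subfield_of F₀ P _ 1 one_ne_zero (fun j => stv S w a (Pi.single j 1))
    (fun j => by rw [one_smul]; exact tv_emb S w a _)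

theorem tv_mem_H (S : Setup F₀ P ζ q) (w : Fin n → ↥F₀) (a : ↥F₀) :
    tv q (emb F₀ P w) (ζ * (a : F)) ∈ Cfsg.Geo.subfieldSubgroup F₀ P ⊓
      (GU n F q ⊓ Cfsg.Geo.specialLinear (Fin n) F) :=
  ⟨tv_mem_subfield S w a, tv_mem_SUg S.hF _ (zeta_mul_trace S a)⟩

theorem Bform_skew (S : Setup F₀ P ζ q) (u v : Fin n → ↥F₀) : Bform S u v = - Bform S v u :=
  Cfsg.Agent.Lib.Helper24.PolarPair.skew (Bform S) (Bform_alt S) u v

theorem stv_move (S : Setup F₀ P ζ q) (u v : Fin n → ↥F₀) (huv : Bform S u v ≠ 0) :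
    stv S (u - v) (Bform S u v)⁻¹ u = v := by
  unfold stv
  have h1 : Bform S u (u - v) = - Bform S u v := by
    rw [map_sub, Bform_alt, zero_sub]
  rw [h1, mul_neg, inv_mul_cancel₀ huv]
  simp

theorem stv_fix (S : Setup F₀ P ζ q) (w : Fin n → ↥F₀) (a : ↥F₀) (y : Fin n → ↥F₀)
    (h : Bform S y w = 0) : stv S w a y = y := by
  unfold stv
  rw [h, mul_zero, zero_smul, add_zero]

/-- moving `u` to `v` while fixing `y`, by rational transvections -/
theorem move_constrained (S : Setup F₀ P ζ q) (K : Subgroup (GL (Fin n) F))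
    (hK : ∀ (w : Fin n → ↥F₀) (a : ↥F₀), tv q (emb F₀ P w) (ζ * (a : F)) ∈ K)
    (y u v : Fin n → ↥F₀) (hyu : Bform S y u = 0) (hyv : Bform S y v = 0)
    (hu : ∀ μ : ↥F₀, u ≠ μ • y) (hv : ∀ μ : ↥F₀, v ≠ μ • y) :
    ∃ k ∈ K, gact k (emb F₀ P u) = emb F₀ P v ∧ gact k (emb F₀ P y) = emb F₀ P y ∧
      ∀ x : Fin n → ↥F₀, ∃ x' : Fin n → ↥F₀, gact k (emb F₀ P x) = emb F₀ P x' := by
  by_cases huv : Bform S u v = 0
  · -- intermediate vector
    obtain ⟨z, hz1, hz2, hz3⟩ : ∃ z, Bform S u z ≠ 0 ∧ Bform S v z ≠ 0 ∧ Bform S y z = 0 := by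
      obtain ⟨s₁, hs1, hs1y⟩ := Cfsg.Agent.Lib.Helper24.OrthDecomp.exists_sep (Bform S)
        (Bform_nondeg S) u y hu
      obtain ⟨s₂, hs2, hs2y⟩ := Cfsg.Agent.Lib.Helper24.OrthDecomp.exists_sep (Bform S)
        (Bform_nondeg S) v y hv
      by_cases h1 : Bform S v s₁ = 0
      · by_cases h2 : Bform S u s₂ = 0
        · refine ⟨s₁ + s₂, ?_, ?_, ?_⟩
          · rw [map_add, h2, add_zero]; exact hs1
          · rw [map_add, h1, zero_add]; exact hs2
          · rw [map_add, hs1y, hs2y, add_zero]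
        · exact ⟨s₂, h2, hs2, hs2y⟩
      · exact ⟨s₁, hs1, h1, hs1y⟩
    have hzv : Bform S z v ≠ 0 := by
      rw [Bform_skew]; exact neg_ne_zero.2 hz2
    have hyz' : Bform S y (u - z) = 0 := by rw [map_sub, hyu, hz3, sub_zero]
    have hyz'' : Bform S y (z - v) = 0 := by rw [map_sub, hz3, hyv, sub_zero]
    refine ⟨tv q (emb F₀ P (z - v)) (ζ * ((Bform S z v)⁻¹ : ↥F₀)) *
      tv q (emb F₀ P (u - z)) (ζ * ((Bform S u z)⁻¹ : ↥F₀)), mul_mem (hK _ _) (hK _ _), ?_, ?_, ?_⟩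
    · rw [gact_mul, tv_emb S, stv_move S u z hz1, tv_emb S, stv_move S z v hzv]
    · rw [gact_mul, tv_emb S, stv_fix S _ _ y hyz', tv_emb S, stv_fix S _ _ y hyz'']
    · intro x
      refine ⟨stv S (z - v) (Bform S z v)⁻¹ (stv S (u - z) (Bform S u z)⁻¹ x), ?_⟩
      rw [gact_mul, tv_emb S, tv_emb S]
  · have hyz' : Bform S y (u - v) = 0 := by rw [map_sub, hyu, hyv, sub_zero]
    refine ⟨tv q (emb F₀ P (u - v)) (ζ * ((Bform S u v)⁻¹ : ↥F₀)), hK _ _, ?_, ?_, ?_⟩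
    · rw [tv_emb S, stv_move S u v huv]
    · rw [tv_emb S, stv_fix S _ _ y hyz']
    · intro x
      exact ⟨_, tv_emb S _ _ x⟩

end transv



section proj
variable {F : Type*} [Field F] [Fintype F] {q n : ℕ}

/-- an element mapping every rational point to a rational point lies in the subfield group -/
theorem mem_subfield_of_proj (hF : Fintype.card F = q ^ 2) (F₀ : Subfield F)
    (hcard : Fintype.card F = Nat.card F₀ ^ 2) (P : GL (Fin n) F) (hn : 0 < n)
    (g : GL (Fin n) F)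
    (h : ∀ u : Fin n → ↥F₀, ∃ (lam : F) (u' : Fin n → ↥F₀),
      gact g (emb F₀ P u) = lam • emb F₀ P u') :
    g ∈ Cfsg.Geo.subfieldSubgroup F₀ P := by
  classical
  obtain ⟨ω, hω⟩ := exists_not_fixed hF
  have he_ne : ∀ j : Fin n, emb F₀ P (Pi.single j 1) ≠ 0 := by
    intro j h0
    have h1 := congrFun (emb_eq_zero F₀ P h0) j
    simp at h1
  choose lam U hU using fun j : Fin n => h (Pi.single j 1)
  have hlam_ne : ∀ j, lam j ≠ 0 := by
    intro j h0
    have h1 := hU j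
    rw [h0, zero_smul, gact_eq_zero] at h1
    exact he_ne j h1
  obtain ⟨j0, hj0⟩ : ∃ j0 : Fin n, j0 = ⟨0, hn⟩ := ⟨_, rfl⟩
  have hratio : ∀ j, ∃ c : ↥F₀, lam j = lam j0 * (c : F) := by
    intro j
    by_cases hj : j = j0
    · exact ⟨1, by rw [hj]; simp⟩
    obtain ⟨μ, s, hs⟩ := h (Pi.single j 1 + Pi.single j0 1)
    rw [emb_add, gact_add, hU j, hU j0] at hs
    have hμ : μ ≠ 0 := by
      intro h0
      rw [h0, zero_smul, ← hU j, ← hU j0, ← gact_add, gact_eq_zero, ← emb_add] at hs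
      have h1 := congrFun (emb_eq_zero F₀ P hs) j
      simp [hj] at h1
    obtain ⟨a₁, a₂, ha⟩ := decomp_field hF F₀ hcard ω hω (lam j / μ)
    obtain ⟨b₁, b₂, hb⟩ := decomp_field hF F₀ hcard ω hω (lam j0 / μ)
    have hs' : emb F₀ P s = (lam j / μ) • emb F₀ P (U j) + (lam j0 / μ) • emb F₀ P (U j0) := by
      have h1 : emb F₀ P s = μ⁻¹ • (μ • emb F₀ P s) := by
        rw [smul_smul, inv_mul_cancel₀ hμ, one_smul]
      rw [h1, ← hs, smul_add, smul_smul, smul_smul, div_eq_inv_mul, div_eq_inv_mul]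
    have h1 : emb F₀ P s + ω • emb F₀ P 0 =
        emb F₀ P (a₁ • U j + b₁ • U j0) + ω • emb F₀ P (a₂ • U j + b₂ • U j0) := by
      rw [emb_zero, smul_zero, add_zero, emb_add, emb_add, emb_smul, emb_smul, emb_smul, emb_smul,
        hs', ha, hb]
      module
    obtain ⟨-, h2⟩ := decomp_vec_unique hF F₀ hcard P ω hω _ _ _ _ h1
    have h3 : a₂ = 0 ∧ b₂ = 0 := by
      have h4 : (a₂ : F) • emb F₀ P (U j) + (b₂ : F) • emb F₀ P (U j0) = 0 := by
        rw [← emb_smul, ← emb_smul, ← emb_add, ← h2, emb_zero]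
      have h5 : ∀ i, emb F₀ P (U i) = (lam i)⁻¹ • gact g (emb F₀ P (Pi.single i 1)) := by
        intro i
        rw [hU i, smul_smul, inv_mul_cancel₀ (hlam_ne i), one_smul]
      rw [h5 j, h5 j0, smul_smul, smul_smul, ← gact_smul, ← gact_smul, ← gact_add, gact_eq_zero,
        emb_single, emb_single] at h4
      have h6 : gact P (((a₂ : F) * (lam j)⁻¹) • Pi.single j 1 +
          ((b₂ : F) * (lam j0)⁻¹) • Pi.single j0 1) = 0 := by
        rw [gact_add, gact_smul, gact_smul]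
        exact h4
      rw [gact_eq_zero] at h6
      have e1 := congrFun h6 j
      have e2 := congrFun h6 j0
      have hj' : j0 ≠ j := Ne.symm hj
      simp only [Pi.add_apply, Pi.smul_apply, Pi.single_eq_same, Pi.single_eq_of_ne hj,
        Pi.single_eq_of_ne hj', smul_eq_mul, mul_one, mul_zero, add_zero, zero_add,
        Pi.zero_apply] at e1 e2
      constructor
      · apply Subtype.ext
        rcases mul_eq_zero.1 e1 with h7 | h7
        · exact h7
        · exact absurd (inv_eq_zero.1 h7) (hlam_ne j)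
      · apply Subtype.ext
        rcases mul_eq_zero.1 e2 with h7 | h7
        · exact h7
        · exact absurd (inv_eq_zero.1 h7) (hlam_ne j0)
    rw [h3.1] at ha
    rw [h3.2] at hb
    simp only [ZeroMemClass.coe_zero, mul_zero, add_zero] at ha hb
    have hb1 : (b₁ : F) ≠ 0 := by
      rw [← hb]
      exact div_ne_zero (hlam_ne j0) hμ
    refine ⟨a₁ / b₁, ?_⟩
    rw [Subfield.coe_div, ← ha, ← hb]
    have hl0 := hlam_ne j0
    field_simp
  choose c hc using hratio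
  apply mem_subfield_of F₀ P g (lam j0) (hlam_ne j0) (fun j => c j • U j)
  intro j
  rw [hU j, hc j, emb_smul, smul_smul]

end proj



section assembly
variable {F : Type*} [Field F] [Fintype F] {q n : ℕ}
variable {F₀ : Subfield F} {P : GL (Fin n) F} {ζ : F}

theorem not_rational (S : Setup F₀ P ζ q) (ω : F) (hω : ω ^ q ≠ ω) (x₁ x₂ : Fin n → ↥F₀)
    (hx₁ : x₁ ≠ 0) (hx₂ : ∀ μ : ↥F₀, x₂ ≠ μ • x₁) (lam : F) (u' : Fin n → ↥F₀) :
    emb F₀ P x₁ + ω • emb F₀ P x₂ ≠ lam • emb F₀ P u' := by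
  intro h
  obtain ⟨a, b, hab⟩ := decomp_field S.hF F₀ S.hcard ω hω lam
  have h1 : lam • emb F₀ P u' = emb F₀ P (a • u') + ω • emb F₀ P (b • u') := by
    rw [emb_smul, emb_smul, hab]
    module
  rw [h1] at h
  obtain ⟨h2, h3⟩ := decomp_vec_unique S.hF F₀ S.hcard P ω hω _ _ _ _ h
  by_cases ha : a = 0
  · apply hx₁
    rw [h2, ha, zero_smul]
  · apply hx₂ (b / a)
    rw [h3, h2, smul_smul, div_mul_cancel₀ _ ha]

theorem rational_of (S : Setup F₀ P ζ q) (ω : F) (x₁ x₂ : Fin n → ↥F₀)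
    (h : x₁ = 0 ∨ ∃ μ : ↥F₀, x₂ = μ • x₁) :
    ∃ (lam : F) (u' : Fin n → ↥F₀), emb F₀ P x₁ + ω • emb F₀ P x₂ = lam • emb F₀ P u' := by
  rcases h with h | ⟨μ, h⟩
  · exact ⟨ω, x₂, by rw [h, emb_zero, zero_add]⟩
  · refine ⟨1 + ω * (μ : F), x₁, ?_⟩
    rw [h, emb_smul]
    module

theorem rational_mem_ASet (S : Setup F₀ P ζ q) (M : Subgroup (GL (Fin n) F))
    (hHM : Cfsg.Geo.subfieldSubgroup F₀ P ⊓ (GU n F q ⊓ Cfsg.Geo.specialLinear (Fin n) F) ≤ M)
    (w : Fin n → ↥F₀) : emb F₀ P w ∈ ASet q M := by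
  refine ⟨S.hf_self w, ?_⟩
  intro c hc
  obtain ⟨a, rfl⟩ := exists_coeff S c hc
  exact hHM (tv_mem_H S w a)

theorem all_iso (S : Setup F₀ P ζ q) (M : Subgroup (GL (Fin n) F))
    (hHM : Cfsg.Geo.subfieldSubgroup F₀ P ⊓ (GU n F q ⊓ Cfsg.Geo.specialLinear (Fin n) F) ≤ M)
    (hMU : M ≤ GU n F q) (ω : F) (hω : ω ^ q ≠ ω) (x₁ x₂ : Fin n → ↥F₀)
    (hx₁ : x₁ ≠ 0) (hx₂ : ∀ μ : ↥F₀, x₂ ≠ μ • x₁)
    (hx : emb F₀ P x₁ + ω • emb F₀ P x₂ ∈ ASet q M)
    (y : Fin n → F) (hy : hermForm n F q y y = 0) : y ∈ ASet q M := by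
  have hK : ∀ (w : Fin n → ↥F₀) (a : ↥F₀), tv q (emb F₀ P w) (ζ * (a : F)) ∈ M :=
    fun w a => hHM (tv_mem_H S w a)
  obtain ⟨y₁, y₂, rfl⟩ := decomp_vec S.hF F₀ S.hcard P ω hω y
  have hB : Bform S y₁ y₂ = 0 := (iso_iff S ω hω y₁ y₂).1 hy
  have hBx : Bform S x₁ x₂ = 0 := (iso_iff S ω hω x₁ x₂).1 hx.1
  by_cases hrat : y₁ = 0 ∨ ∃ μ : ↥F₀, y₂ = μ • y₁
  · obtain ⟨lam, u', hlu⟩ := rational_of S ω y₁ y₂ hrat
    rw [hlu]
    exact ASet_smul S.hF (rational_mem_ASet S M hHM u') lam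
  · push Not at hrat
    obtain ⟨hy₁, hy₂⟩ := hrat
    -- stage 1
    obtain ⟨k₁, hk₁, hk₁x, -, hk₁all⟩ := move_constrained S M hK 0 x₁ y₁
      (by simp) (by simp)
      (fun μ => by rw [smul_zero]; exact hx₁) (fun μ => by rw [smul_zero]; exact hy₁)
    obtain ⟨x₂', hx₂'⟩ := hk₁all x₂
    have hB' : Bform S y₁ x₂' = 0 := by
      rw [Bform_eq_zero_iff, ← hk₁x, ← hx₂', GU_preserves (hMU hk₁)]
      exact (Bform_eq_zero_iff S x₁ x₂).1 hBx
    have hind' : ∀ μ : ↥F₀, x₂' ≠ μ • y₁ := by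
      intro μ h
      apply hx₂ μ
      apply emb_injective F₀ P
      apply gact_injective k₁
      rw [hx₂', h, emb_smul, emb_smul, gact_smul, hk₁x]
    -- stage 2
    obtain ⟨k₂, hk₂, hk₂x, hk₂y, -⟩ := move_constrained S M hK y₁ x₂' y₂ hB' hB hind' hy₂
    have : emb F₀ P y₁ + ω • emb F₀ P y₂ =
        gact (k₂ * k₁) (emb F₀ P x₁ + ω • emb F₀ P x₂) := by
      rw [gact_mul, gact_add, gact_smul, hk₁x, hx₂', gact_add, gact_smul, hk₂x, hk₂y]
    rw [this]
    exact ASet_gact S.hF hMU (mul_mem hk₂ hk₁) hx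

/-- an independent totally isotropic rational pair -/
theorem exists_ti_pair (S : Setup F₀ P ζ q) (hn : 3 ≤ n) :
    ∃ x₁ x₂ : Fin n → ↥F₀, x₁ ≠ 0 ∧ (∀ μ : ↥F₀, x₂ ≠ μ • x₁) ∧ Bform S x₁ x₂ = 0 := by
  classical
  obtain ⟨i0, hi0⟩ : ∃ i0 : Fin n, i0 = ⟨0, by omega⟩ := ⟨_, rfl⟩
  obtain ⟨i1, hi1⟩ : ∃ i1 : Fin n, i1 = ⟨1, by omega⟩ := ⟨_, rfl⟩
  obtain ⟨i2, hi2⟩ : ∃ i2 : Fin n, i2 = ⟨2, by omega⟩ := ⟨_, rfl⟩
  have h01 : i1 ≠ i0 := by rw [hi0, hi1]; intro h; simp [Fin.ext_iff] at h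
  have h02 : i2 ≠ i0 := by rw [hi0, hi2]; intro h; simp [Fin.ext_iff] at h
  have h12 : i2 ≠ i1 := by rw [hi1, hi2]; intro h; simp [Fin.ext_iff] at h
  have hne : (Pi.single i0 1 : Fin n → ↥F₀) ≠ 0 := by
    intro h
    have := congrFun h i0
    simp at this
  by_cases hB : Bform S (Pi.single i0 1) (Pi.single i1 1) = 0
  · refine ⟨Pi.single i0 1, Pi.single i1 1, hne, ?_, hB⟩
    intro μ h
    have := congrFun h i1
    simp [Pi.single_eq_of_ne h01] at this
  · refine ⟨Pi.single i0 1, Pi.single i2 1 - (Bform S (Pi.single i0 1) (Pi.single i2 1) /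
      Bform S (Pi.single i0 1) (Pi.single i1 1)) • Pi.single i1 1, hne, ?_, ?_⟩
    · intro μ h
      have := congrFun h i2
      simp [Pi.single_eq_of_ne h02, Pi.single_eq_of_ne h12] at this
    · rw [map_sub, map_smul, smul_eq_mul, div_mul_cancel₀ _ hB, sub_self]

theorem maximal (S : Setup F₀ P ζ q) (hn : 4 ≤ n) :
    Cfsg.Geo.IsMaximalIn (GU n F q ⊓ Cfsg.Geo.specialLinear (Fin n) F)
      (Cfsg.Geo.subfieldSubgroup F₀ P ⊓ (GU n F q ⊓ Cfsg.Geo.specialLinear (Fin n) F)) := by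
  obtain ⟨ω, hω⟩ := exists_not_fixed S.hF
  refine ⟨lt_of_le_of_ne inf_le_right ?_, ?_⟩
  · intro hEq
    obtain ⟨x₁, x₂, hx₁, hx₂, hB⟩ := exists_ti_pair S (by omega)
    have hiso : hermForm n F q (emb F₀ P x₁ + ω • emb F₀ P x₂) (emb F₀ P x₁ + ω • emb F₀ P x₂) = 0 :=
      (iso_iff S ω hω x₁ x₂).2 hB
    have hne1 : emb F₀ P x₁ ≠ 0 := fun h => hx₁ (emb_eq_zero F₀ P h)
    have hne2 : emb F₀ P x₁ + ω • emb F₀ P x₂ ≠ 0 := by
      intro h
      have := not_rational S ω hω x₁ x₂ hx₁ hx₂ 0 0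
      rw [zero_smul] at this
      exact this h
    obtain ⟨g, hg, hgx⟩ := su_trans1 S.hF (by omega) (emb F₀ P x₁) (emb F₀ P x₁ + ω • emb F₀ P x₂)
      hne1 (S.hf_self x₁) hne2 hiso
    rw [← hEq] at hg
    obtain ⟨lam, -, hlam⟩ := of_mem_subfield F₀ P g hg.1
    obtain ⟨u', hu'⟩ := hlam x₁
    rw [hgx] at hu'
    exact not_rational S ω hω x₁ x₂ hx₁ hx₂ lam u' hu'
  · intro M hHM hMK
    by_cases hMH : M ≤ Cfsg.Geo.subfieldSubgroup F₀ P ⊓
        (GU n F q ⊓ Cfsg.Geo.specialLinear (Fin n) F)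
    · exact Or.inl (le_antisymm hMH hHM)
    · right
      obtain ⟨g, hgM, hgH⟩ := SetLike.not_le_iff_exists.1 hMH
      have hgK := hMK hgM
      have hgsub : g ∉ Cfsg.Geo.subfieldSubgroup F₀ P := fun h => hgH ⟨h, hgK⟩
      have hMU : M ≤ GU n F q := fun k hk => (hMK hk).1
      have hex : ∃ u : Fin n → ↥F₀, ∀ (lam : F) (u' : Fin n → ↥F₀),
          gact g (emb F₀ P u) ≠ lam • emb F₀ P u' := by
        by_contra hcon
        push Not at hcon
        exact hgsub (mem_subfield_of_proj S.hF F₀ S.hcard P (by omega) g hcon)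
      obtain ⟨u, hu⟩ := hex
      have hxA : gact g (emb F₀ P u) ∈ ASet q M :=
        ASet_gact S.hF hMU hgM (rational_mem_ASet S M hHM u)
      obtain ⟨x₁, x₂, hx⟩ := decomp_vec S.hF F₀ S.hcard P ω hω (gact g (emb F₀ P u))
      have hnr : ¬ (x₁ = 0 ∨ ∃ μ : ↥F₀, x₂ = μ • x₁) := by
        intro h
        obtain ⟨lam, u', hlu⟩ := rational_of S ω x₁ x₂ h
        exact hu lam u' (by rw [hx, hlu])
      push Not at hnr
      rw [hx] at hxA
      apply ASet_top S.hF (by omega) hMK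
      intro y hy
      exact all_iso S M hHM hMU ω hω x₁ x₂ hnr.1 hnr.2 hxA y hy

end assembly

end Cfsg.Agent.Lib.Helper24.USubfield
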