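import Mathlib
import Cfsg.Agent.Lib.Helper27.UMax
import Cfsg.Agent.S5642

set_option autoImplicit false
set_option linter.style.haveILetI false

namespace Cfsg.Agent.Lib.Helper24
namespace USim

open Cfsg Matrix Cfsg.Agent.S0772 Cfsg.Agent.Lib.Helper27.GLStab Cfsg.Agent.Lib.Helper27.Unitary

variable {F : Type*} [Field F] [Fintype F] {q n : ℕ}

theorem cjv_dot (x v : Fin n → F) : cjv q x ⬝ᵥ v = hermForm n F q v x := hf_dot v x

theorem cjv_add (hF : Fintype.card F = q ^ 2) (x y : Fin n → F) :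
    cjv q (x + y) = cjv q x + cjv q y := by
  funext i
  exact cj_add hF (x i) (y i)

theorem cjv_smul (c : F) (x : Fin n → F) : cjv q (c • x) = c ^ q • cjv q x := by
  funext i
  exact mul_pow c (x i) q

theorem cjv_neg (hF : Fintype.card F = q ^ 2) (x : Fin n → F) : cjv q (-x) = - cjv q x := by
  funext i
  exact cj_neg hF (x i)

theorem cjv_zero (hF : Fintype.card F = q ^ 2) : cjv q (0 : Fin n → F) = 0 := by
  funext i
  exact cj_zero hF

/-- the transvection `v ↦ v + h(v, x) b` lies in `M` -/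
def R (q : ℕ) (M : Subgroup (GL (Fin n) F)) (b x : Fin n → F) : Prop :=
  InK M (Tm b (cjv q x))

theorem Tm_cjv_mulVec (b x v : Fin n → F) :
    Tm b (cjv q x) *ᵥ v = v + hermForm n F q v x • b := by
  rw [Tm_mulVec, cjv_dot]

theorem Tm_zero (b : Fin n → F) : Tm b 0 = 1 := by
  rw [Matrix.ext_iff_mulVec]
  intro x
  rw [Tm_mulVec, zero_dotProduct, zero_smul, add_zero, Matrix.one_mulVec]

theorem R_zero (hF : Fintype.card F = q ^ 2) (M : Subgroup (GL (Fin n) F)) (b : Fin n → F) :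
    R q M b 0 := by
  intro g hg
  rw [cjv_zero hF, Tm_zero] at hg
  have : g = 1 := Units.ext hg
  rw [this]
  exact one_mem M

theorem R_add (hF : Fintype.card F = q ^ 2) (M : Subgroup (GL (Fin n) F)) (b x x' : Fin n → F)
    (hx : hermForm n F q b x = 0) (hx' : hermForm n F q b x' = 0) (h : R q M b x)
    (h' : R q M b x') : R q M b (x + x') := by
  unfold R
  have e1 : cjv q x ⬝ᵥ b = 0 := by rw [cjv_dot, hx]
  have e2 : cjv q x' ⬝ᵥ b = 0 := by rw [cjv_dot, hx']
  rw [cjv_add hF, ← Cfsg.Agent.S5642.Tm_mul_Tm _ _ _ e1]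
  apply Cfsg.Agent.S5642.InK_mul M _ _ _ _ h h'
  · rw [det_Tm, e1, add_zero]; exact one_ne_zero
  · rw [det_Tm, e2, add_zero]; exact one_ne_zero

theorem R_neg (hF : Fintype.card F = q ^ 2) (M : Subgroup (GL (Fin n) F)) (b x : Fin n → F)
    (hx : hermForm n F q b x = 0) (h : R q M b x) : R q M b (-x) := by
  intro g hg
  have e1 : cjv q x ⬝ᵥ b = 0 := by rw [cjv_dot, hx]
  have hdet : (Tm b (cjv q x)).det ≠ 0 := by
    rw [det_Tm, e1, add_zero]; exact one_ne_zero
  have hk := h (Matrix.GeneralLinearGroup.mkOfDetNeZero _ hdet) rfl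
  have hkg : Matrix.GeneralLinearGroup.mkOfDetNeZero _ hdet * g = 1 := by
    apply Units.ext
    rw [Units.val_mul, hg]
    change Tm b (cjv q x) * Tm b (cjv q (-x)) = 1
    rw [Cfsg.Agent.S5642.Tm_mul_Tm _ _ _ e1, cjv_neg hF, add_neg_cancel, Tm_zero]
  have : g = (Matrix.GeneralLinearGroup.mkOfDetNeZero _ hdet)⁻¹ := by
    rw [eq_inv_iff_mul_eq_one, mul_eq_one_comm]
    exact hkg
  rw [this]
  exact inv_mem hk

theorem R_conj (M : Subgroup (GL (Fin n) F)) (g : GL (Fin n) F) (hgM : g ∈ M)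
    (hgU : g ∈ GU n F q) (b x : Fin n → F) (h : R q M b x) :
    R q M (gact g b) (gact g x) := by
  unfold R
  have h1 := InK_conj M g hgM _ h
  rw [conj_Tm] at h1
  have h2 : cjv q x ᵥ* ((g⁻¹ : GL (Fin n) F) : Matrix (Fin n) (Fin n) F) = cjv q (gact g x) := by
    apply Cfsg.Agent.S5642.vec_ext
    intro y
    rw [← Matrix.dotProduct_mulVec, cjv_dot, cjv_dot]
    have := GU_adjoint (inv_mem hgU) y x
    rw [inv_inv] at this
    exact this
  rw [h2] at h1
  exact h1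

theorem Tm_smul_center (l : F) (b φ : Fin n → F) : Tm (l • b) φ = Tm b (l • φ) := by
  unfold Tm
  rw [Matrix.smul_vecMulVec, Matrix.vecMulVec_smul]

theorem R_smul_center (hF : Fintype.card F = q ^ 2) (M : Subgroup (GL (Fin n) F)) (l : F)
    (b x : Fin n → F) : R q M (l • b) x ↔ R q M b (l ^ q • x) := by
  unfold R
  rw [Tm_smul_center, cjv_smul, cj_cj hF]

theorem R_tv (hF : Fintype.card F = q ^ 2) (M : Subgroup (GL (Fin n) F))
    (hM : GU n F q ⊓ Cfsg.Geo.specialLinear (Fin n) F ≤ M) (a : Fin n → F)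
    (ha : hermForm n F q a a = 0) (c : F) (hc : c + c ^ q = 0) : R q M a (c • a) := by
  intro g hg
  have hc' : c ^ q + (c ^ q) ^ q = 0 := by rw [cj_cj hF, add_comm]; exact hc
  have : g = tv q a (c ^ q) := by
    apply gact_ext
    intro x
    rw [tv_gact ha]
    unfold gact
    rw [hg, Tm_cjv_mulVec, hf_smul_right]
  rw [this]
  exact hM (tv_mem_SUg hF a hc')


/-! ### The perp of an anisotropic vector -/

/-- `x ⟂ b₀` and the transvection with centre `b₀` and functional `h(·, x)` lies in `M`. -/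
def P (q : ℕ) (M : Subgroup (GL (Fin n) F)) (b₀ x : Fin n → F) : Prop :=
  hermForm n F q x b₀ = 0 ∧ R q M b₀ x

theorem P_zero (hF : Fintype.card F = q ^ 2) (M : Subgroup (GL (Fin n) F)) (b₀ : Fin n → F) :
    P q M b₀ 0 := ⟨hf_zero_left _, R_zero hF M b₀⟩

theorem P_add (hF : Fintype.card F = q ^ 2) {M : Subgroup (GL (Fin n) F)} {b₀ x y : Fin n → F}
    (hx : P q M b₀ x) (hy : P q M b₀ y) : P q M b₀ (x + y) := by
  refine ⟨by rw [hf_add_left, hx.1, hy.1, add_zero], ?_⟩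
  exact R_add hF M b₀ x y (hf_eq_zero_swap hF hx.1) (hf_eq_zero_swap hF hy.1) hx.2 hy.2

theorem P_neg (hF : Fintype.card F = q ^ 2) {M : Subgroup (GL (Fin n) F)} {b₀ x : Fin n → F}
    (hx : P q M b₀ x) : P q M b₀ (-x) := by
  refine ⟨by rw [hf_neg_left, hx.1, neg_zero], ?_⟩
  exact R_neg hF M b₀ x (hf_eq_zero_swap hF hx.1) hx.2

theorem P_sub (hF : Fintype.card F = q ^ 2) {M : Subgroup (GL (Fin n) F)} {b₀ x y : Fin n → F}
    (hx : P q M b₀ x) (hy : P q M b₀ y) : P q M b₀ (x - y) := by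
  rw [sub_eq_add_neg]
  exact P_add hF hx (P_neg hF hy)

theorem stepA (hF : Fintype.card F = q ^ 2) {M : Subgroup (GL (Fin n) F)}
    (hM : GU n F q ⊓ Cfsg.Geo.specialLinear (Fin n) F ≤ M) {b₀ y a : Fin n → F}
    (hy : P q M b₀ y) (hab : hermForm n F q a b₀ = 0) (haa : hermForm n F q a a = 0)
    {c : F} (hc : c + c ^ q = 0) : P q M b₀ ((c * hermForm n F q y a) • a) := by
  have hg := tv_mem_SUg hF a hc
  have h1 := R_conj M (tv q a c) (hM hg) ((mem_SUg_iff _).mp hg).1 b₀ y hy.2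
  rw [tv_gact haa, tv_gact haa, hf_eq_zero_swap hF hab, mul_zero, zero_smul, add_zero] at h1
  have h2 : P q M b₀ (y + (c * hermForm n F q y a) • a) := by
    refine ⟨?_, h1⟩
    rw [hf_add_left, hy.1, hf_smul_left, hab, mul_zero, add_zero]
  have h3 := P_sub hF h2 hy
  rw [add_sub_cancel_left] at h3
  exact h3

theorem decomp_K (hF : Fintype.card F = q ^ 2) (ξ : F) (hξ : ξ ^ q ≠ ξ) (μ : F) :
    ∃ k₁ k₂ : F, k₁ ^ q = k₁ ∧ k₂ ^ q = k₂ ∧ μ = k₁ + k₂ * ξ := by
  have h1 : ξ - ξ ^ q ≠ 0 := sub_ne_zero.mpr (Ne.symm hξ)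
  have h2 : ξ ^ q - ξ ≠ 0 := sub_ne_zero.mpr hξ
  obtain ⟨k₂, hk₂⟩ : ∃ k₂ : F, k₂ = (μ - μ ^ q) / (ξ - ξ ^ q) := ⟨_, rfl⟩
  have hk₂q : k₂ ^ q = k₂ := by
    rw [hk₂, cj_div, cj_sub hF, cj_sub hF, cj_cj hF, cj_cj hF]
    rw [div_eq_div_iff h2 h1]
    ring
  have hk₂m : k₂ * (ξ - ξ ^ q) = μ - μ ^ q := by
    rw [hk₂, div_mul_cancel₀ _ h1]
  refine ⟨μ - k₂ * ξ, k₂, ?_, hk₂q, by ring⟩
  rw [cj_sub hF, mul_pow, hk₂q]
  linear_combination hk₂m

theorem mem_perp_iff (b₀ x : Fin n → F) :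
    x ∈ uperp q (Submodule.span F {b₀}) ↔ hermForm n F q x b₀ = 0 := by
  rw [mem_uperp]
  constructor
  · intro h
    exact h b₀ (Submodule.mem_span_singleton_self b₀)
  · intro h w hw
    obtain ⟨α, rfl⟩ := Submodule.mem_span_singleton.mp hw
    rw [hf_smul_right, h, mul_zero]

theorem perp_nondeg (hF : Fintype.card F = q ^ 2) {b₀ : Fin n → F}
    (hb₀ : hermForm n F q b₀ b₀ ≠ 0) : UNondeg q (uperp q (Submodule.span F {b₀})) :=
  unondeg_uperp hF (unondeg_span_singleton hb₀)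

theorem perp_finrank (hF : Fintype.card F = q ^ 2) (b₀ : Fin n → F) :
    n - 1 ≤ Module.finrank F (uperp q (Submodule.span F {b₀})) := by
  rw [finrank_uperp hF]
  have := finrank_span_single_le b₀
  omega

/-- hyperbolic partner inside a non-degenerate subspace -/
theorem exists_hyp_in (hF : Fintype.card F = q ^ 2) {S : Submodule F (Fin n → F)}
    (hS : UNondeg q S) {a : Fin n → F} (ha : a ∈ S) (ha0 : a ≠ 0)
    (haa : hermForm n F q a a = 0) : ∃ a' ∈ S, HypPair q a a' := by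
  obtain ⟨c, hc, hac⟩ := exists_dual_in hF hS ha ha0
  obtain ⟨α, β, h1, h2⟩ := exists_partner hF a c haa (by rw [hac]; exact one_ne_zero)
  exact ⟨α • a + β • c, S.add_mem (S.smul_mem _ ha) (S.smul_mem _ hc), haa, h1, h2⟩

theorem line_full (hF : Fintype.card F = q ^ 2) (hn : 5 ≤ n) {M : Subgroup (GL (Fin n) F)}
    (hM : GU n F q ⊓ Cfsg.Geo.specialLinear (Fin n) F ≤ M) {b₀ : Fin n → F}
    (hb₀ : hermForm n F q b₀ b₀ ≠ 0) {a : Fin n → F} (hab : hermForm n F q a b₀ = 0)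
    (haa : hermForm n F q a a = 0) (ha0 : a ≠ 0) {l₀ : F} (hl₀ : l₀ ≠ 0)
    (hP : P q M b₀ (l₀ • a)) : ∀ l : F, P q M b₀ (l • a) := by
  have hWnd := perp_nondeg hF hb₀
  have hWfr := perp_finrank hF b₀
  have haW : a ∈ uperp q (Submodule.span F {b₀}) := (mem_perp_iff b₀ a).mpr hab
  obtain ⟨a', ha'W, hp⟩ := exists_hyp_in hF hWnd haW ha0 haa
  have ha'b : hermForm n F q a' b₀ = 0 := (mem_perp_iff b₀ a').mp ha'W
  obtain ⟨θ, hθ0, hθ⟩ := exists_theta hF
  have hθq : θ ^ q = -θ := by linear_combination hθ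
  have B1 : ∀ (l c : F), c + c ^ q = 0 → P q M b₀ (l • a) → P q M b₀ ((c * l) • a') := by
    intro l c hc h
    have := stepA hF hM h ha'b hp.ff hc
    rwa [hf_smul_left, hp.ef, mul_one] at this
  have B1' : ∀ (l c : F), c + c ^ q = 0 → P q M b₀ (l • a') → P q M b₀ ((c * l) • a) := by
    intro l c hc h
    have := stepA hF hM h hab hp.ee hc
    rwa [hf_smul_left, hp.fe hF, mul_one] at this
  have hK : ∀ k : F, k ^ q = k → ∀ l : F, P q M b₀ (l • a) → P q M b₀ ((k * l) • a) := by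
    intro k hk l h
    have hc : k / θ + (k / θ) ^ q = 0 := by
      rw [cj_div, hk, hθq]
      field_simp
      ring
    have := B1' (θ * l) (k / θ) hc (B1 l θ hθ h)
    have e : k / θ * (θ * l) = k * l := by field_simp
    rwa [e] at this
  -- the third vertex of the triangle
  have hSU : Submodule.span F {a, a'} ≤ uperp q (Submodule.span F {b₀}) := by
    rw [Submodule.span_le]
    rintro x (rfl | rfl)
    · exact haW
    · exact ha'W
  have hlt : Module.finrank F ↥(Submodule.span F {a, a'}) <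
      Module.finrank F ↥(uperp q (Submodule.span F {b₀})) := by
    have := finrank_span_pair_le a a'
    omega
  obtain ⟨w₀, hw₀W, hw₀S, hw₀⟩ := exists_norm_rel hF hSU (unondeg_span_hyp hF hp) hWnd hlt 1
    (one_pow q) one_ne_zero
  have hw₀b : hermForm n F q w₀ b₀ = 0 := (mem_perp_iff b₀ w₀).mp hw₀W
  have hw₀a : hermForm n F q w₀ a = 0 := hw₀S a (Submodule.subset_span (by simp))
  have hw₀a' : hermForm n F q w₀ a' = 0 := hw₀S a' (Submodule.subset_span (by simp))
  have haw₀ : hermForm n F q a w₀ = 0 := hf_eq_zero_swap hF hw₀a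
  have ha'w₀ : hermForm n F q a' w₀ = 0 := hf_eq_zero_swap hF hw₀a'
  obtain ⟨l₁, hl₁⟩ := tr_surj hF (-1 : F) (by rw [cj_neg hF, one_pow])
  obtain ⟨a'', ha''⟩ : ∃ a'' : Fin n → F, a'' = a + l₁ • a' + w₀ := ⟨_, rfl⟩
  have ha''b : hermForm n F q a'' b₀ = 0 := by
    rw [ha'', hf_add_left, hf_add_left, hf_smul_left, hab, ha'b, hw₀b]
    ring
  have ha''a'' : hermForm n F q a'' a'' = 0 := by
    rw [ha'']
    simp only [hf_add_left, hf_add_right hF, hf_smul_left, hf_smul_right, hp.ee, hp.ff, hp.ef,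
      hp.fe hF, hw₀a, hw₀a', haw₀, ha'w₀, hw₀]
    linear_combination hl₁
  have haa'' : hermForm n F q a a'' = l₁ ^ q := by
    rw [ha'']
    simp only [hf_add_right hF, hf_smul_right, hp.ee, hp.ef, haw₀]
    ring
  have ha''a' : hermForm n F q a'' a' = 1 := by
    rw [ha'']
    simp only [hf_add_left, hf_smul_left, hp.ff, hp.ef, hw₀a']
    ring
  have C : ∀ l : F, P q M b₀ (l • a) → P q M b₀ ((θ ^ 3 * l₁ ^ q * l) • a) := by
    intro l h
    have h1 := stepA hF hM h ha''b ha''a'' hθ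
    rw [hf_smul_left, haa''] at h1
    have h2 := stepA hF hM h1 ha'b hp.ff hθ
    rw [hf_smul_left, ha''a', mul_one] at h2
    have h3 := B1' _ θ hθ h2
    have e : θ * (θ * (θ * (l * l₁ ^ q))) = θ ^ 3 * l₁ ^ q * l := by ring
    rwa [e] at h3
  obtain ⟨ξ, hξdef⟩ : ∃ ξ : F, ξ = θ ^ 3 * l₁ ^ q := ⟨_, rfl⟩
  have hξ : ξ ^ q ≠ ξ := by
    intro h
    rw [hξdef, mul_pow, ← pow_mul, mul_comm 3 q, pow_mul, hθq, cj_cj hF] at h
    have h2 : θ ^ 3 * (l₁ + l₁ ^ q) = 0 := by linear_combination (-1 : F) * h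
    rw [hl₁] at h2
    have h3 : θ ^ 3 = 0 := by linear_combination (-1 : F) * h2
    exact hθ0 (pow_eq_zero_iff (by norm_num) |>.mp h3)
  intro l
  obtain ⟨k₁, k₂, hk₁, hk₂, hdec⟩ := decomp_K hF ξ hξ (l / l₀)
  have h1 := hK k₁ hk₁ l₀ hP
  have h2 := hK k₂ hk₂ _ (C l₀ hP)
  have h3 := P_add hF h1 h2
  rw [← add_smul] at h3
  have e : k₁ * l₀ + k₂ * (θ ^ 3 * l₁ ^ q * l₀) = l := by
    rw [← hξdef]
    have : l = (l / l₀) * l₀ := by field_simp
    rw [this, hdec]
    ring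
  rwa [e] at h3


/-- connecting two orthogonal isotropic vectors inside a non-degenerate subspace -/
theorem exists_connect_iso (hF : Fintype.card F = q ^ 2) {S : Submodule F (Fin n → F)}
    (hS : UNondeg q S) {a a₂ : Fin n → F} (ha : a ∈ S) (ha₂ : a₂ ∈ S) (ha0 : a ≠ 0)
    (ha₂0 : a₂ ≠ 0) (haa : hermForm n F q a a = 0) (horth : hermForm n F q a₂ a = 0) :
    ∃ a₁ ∈ S, hermForm n F q a₁ a₁ = 0 ∧ hermForm n F q a a₁ ≠ 0 ∧
      hermForm n F q a₂ a₁ ≠ 0 := by
  have ex : ∀ v ∈ S, v ≠ 0 → ∃ u ∈ S, hermForm n F q v u ≠ 0 := by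
    intro v hv hv0
    by_contra hne
    apply hv0
    apply hS v hv
    intro y hy
    by_contra h
    exact hne ⟨y, hy, h⟩
  obtain ⟨u₁, hu₁S, hu₁⟩ := ex a ha ha0
  obtain ⟨u₂, hu₂S, hu₂⟩ := ex a₂ ha₂ ha₂0
  have hu : ∃ u ∈ S, hermForm n F q a u ≠ 0 ∧ hermForm n F q a₂ u ≠ 0 := by
    by_cases h1 : hermForm n F q a₂ u₁ = 0
    · by_cases h2 : hermForm n F q a u₂ = 0
      · refine ⟨u₁ + u₂, S.add_mem hu₁S hu₂S, ?_, ?_⟩
        · rw [hf_add_right hF, h2, add_zero]; exact hu₁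
        · rw [hf_add_right hF, h1, zero_add]; exact hu₂
      · exact ⟨u₂, hu₂S, h2, hu₂⟩
    · exact ⟨u₁, hu₁S, hu₁, h1⟩
  obtain ⟨u, huS, hau, ha₂u⟩ := hu
  obtain ⟨t, ht⟩ := tr_surj hF (- hermForm n F q u u) (by rw [cj_neg hF, hf_self_fixed hF])
  obtain ⟨μ, hμ⟩ : ∃ μ : F, μ = t / hermForm n F q a u := ⟨_, rfl⟩
  have hμa : μ * hermForm n F q a u = t := by rw [hμ, div_mul_cancel₀ _ hau]
  refine ⟨u + μ • a, S.add_mem huS (S.smul_mem _ ha), ?_, ?_, ?_⟩
  · rw [hf_add_self hF, hf_smul_self, haa, mul_zero, add_zero, hf_smul_right,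
      hf_swap hF a u, ← mul_pow, hμa, cj_cj hF]
    linear_combination ht
  · rw [hf_add_right hF, hf_smul_right, haa, mul_zero, add_zero]
    exact hau
  · rw [hf_add_right hF, hf_smul_right, horth, mul_zero, add_zero]
    exact ha₂u

theorem P_full (hF : Fintype.card F = q ^ 2) (hn : 5 ≤ n) {M : Subgroup (GL (Fin n) F)}
    (hM : GU n F q ⊓ Cfsg.Geo.specialLinear (Fin n) F ≤ M) {b₀ : Fin n → F}
    (hb₀ : hermForm n F q b₀ b₀ ≠ 0) {y₀ : Fin n → F} (hy₀0 : y₀ ≠ 0) (hy₀ : P q M b₀ y₀) :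
    ∀ x : Fin n → F, hermForm n F q x b₀ = 0 → P q M b₀ x := by
  have hWnd := perp_nondeg hF hb₀
  have hWfr := perp_finrank hF b₀
  have hy₀W : y₀ ∈ uperp q (Submodule.span F {b₀}) := (mem_perp_iff b₀ y₀).mpr hy₀.1
  obtain ⟨θ, hθ0, hθ⟩ := exists_theta hF
  -- an isotropic vector of `W` not orthogonal to `y₀`
  have ex1 : ∃ a ∈ uperp q (Submodule.span F {b₀}), hermForm n F q a a = 0 ∧
      hermForm n F q y₀ a ≠ 0 := by
    have : ∃ u ∈ uperp q (Submodule.span F {b₀}), hermForm n F q y₀ u ≠ 0 := by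
      by_contra hne
      apply hy₀0
      apply hWnd y₀ hy₀W
      intro y hy
      by_contra h
      exact hne ⟨y, hy, h⟩
    obtain ⟨u, hu, hyu⟩ := this
    obtain ⟨e₁, he₁, e₂, he₂, h11, h22, α, β, hx⟩ := iso_span hF hWnd (by omega) hu
    by_cases h1 : hermForm n F q y₀ e₁ = 0
    · refine ⟨e₂, he₂, h22, ?_⟩
      intro h2
      apply hyu
      rw [hx, hf_add_right hF, hf_smul_right, hf_smul_right, h1, h2]
      ring
    · exact ⟨e₁, he₁, h11, h1⟩
  obtain ⟨a, haW, haa, hya⟩ := ex1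
  have hab : hermForm n F q a b₀ = 0 := (mem_perp_iff b₀ a).mp haW
  have ha0 : a ≠ 0 := by
    rintro rfl
    exact hya (hf_zero_right hF _)
  have hZa : ∀ l : F, P q M b₀ (l • a) :=
    line_full hF hn hM hb₀ hab haa ha0 (mul_ne_zero hθ0 hya) (stepA hF hM hy₀ hab haa hθ)
  -- propagation to a non-orthogonal isotropic vector
  have prop : ∀ a₀ a₁ : Fin n → F, (∀ l : F, P q M b₀ (l • a₀)) → hermForm n F q a₁ b₀ = 0 →
      hermForm n F q a₁ a₁ = 0 → hermForm n F q a₀ a₁ ≠ 0 → ∀ l : F, P q M b₀ (l • a₁) := by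
    intro a₀ a₁ h0 h1b h11 h01 l
    have := stepA hF hM (h0 (l / (θ * hermForm n F q a₀ a₁))) h1b h11 hθ
    rw [hf_smul_left] at this
    have e : θ * (l / (θ * hermForm n F q a₀ a₁) * hermForm n F q a₀ a₁) = l := by
      field_simp
    rwa [e] at this
  have hZ : ∀ a₂ ∈ uperp q (Submodule.span F {b₀}), hermForm n F q a₂ a₂ = 0 →
      ∀ l : F, P q M b₀ (l • a₂) := by
    intro a₂ ha₂W h22 l
    by_cases ha₂0 : a₂ = 0
    · rw [ha₂0, smul_zero]
      exact P_zero hF M b₀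
    have ha₂b : hermForm n F q a₂ b₀ = 0 := (mem_perp_iff b₀ a₂).mp ha₂W
    by_cases horth : hermForm n F q a₂ a = 0
    · obtain ⟨a₁, ha₁W, h11, h1, h2⟩ := exists_connect_iso hF hWnd haW ha₂W ha0 ha₂0 haa horth
      have ha₁b : hermForm n F q a₁ b₀ = 0 := (mem_perp_iff b₀ a₁).mp ha₁W
      have hZ1 := prop a a₁ hZa ha₁b h11 h1
      have h12 : hermForm n F q a₁ a₂ ≠ 0 := by
        intro h
        exact h2 (hf_eq_zero_swap hF h)
      exact prop a₁ a₂ hZ1 ha₂b h22 h12 l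
    · have h12 : hermForm n F q a a₂ ≠ 0 := by
        intro h
        exact horth (hf_eq_zero_swap hF h)
      exact prop a a₂ hZa ha₂b h22 h12 l
  intro x hx
  have hxW : x ∈ uperp q (Submodule.span F {b₀}) := (mem_perp_iff b₀ x).mpr hx
  obtain ⟨e₁, he₁, e₂, he₂, h11, h22, α, β, hxe⟩ := iso_span hF hWnd (by omega) hxW
  rw [hxe]
  exact P_add hF (hZ e₁ he₁ h11 α) (hZ e₂ he₂ h22 β)


/-! ### The cone lemma -/

theorem three_norm_neg_one (hF : Fintype.card F = q ^ 2) :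
    ∃ z₁ z₂ z₃ : F, z₁ * z₁ ^ q = -1 ∧ z₂ * z₂ ^ q = -1 ∧ z₃ * z₃ ^ q = -1 ∧
      z₁ ≠ z₂ ∧ z₁ ≠ z₃ ∧ z₂ ≠ z₃ := by
  classical
  have hcard := card_nm_eq hF (-1 : F) (neg_ne_zero.mpr one_ne_zero)
    (by rw [cj_neg hF, one_pow])
  have h3 : 2 < (Finset.univ.filter (fun x : F => x * x ^ q = -1)).card := by
    rw [hcard]
    have := two_le_q hF
    omega
  obtain ⟨a, ha, b, hb, c, hc, hab, hac, hbc⟩ := Finset.two_lt_card.mp h3
  simp only [Finset.mem_filter, Finset.mem_univ, true_and] at ha hb hc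
  exact ⟨a, b, c, ha, hb, hc, hab, hac, hbc⟩

theorem gact_sum (g : GL (Fin n) F) {ι : Type*} (s : Finset ι) (f : ι → Fin n → F) :
    gact g (∑ i ∈ s, f i) = ∑ i ∈ s, gact g (f i) := by
  classical
  induction s using Finset.induction_on with
  | empty => simp [gact_zero]
  | insert a s ha ih => rw [Finset.sum_insert ha, Finset.sum_insert ha, gact_add, ih]

theorem cone (hF : Fintype.card F = q ^ 2) (hn : 1 ≤ n) (h : GL (Fin n) F)
    (hcone : ∀ a : Fin n → F, hermForm n F q a a = 0 →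
      hermForm n F q (gact h a) (gact h a) = 0) :
    h ∈ Cfsg.Geo.similarityGroup (hermForm n F q) := by
  classical
  obtain ⟨z₁, z₂, z₃, N₁, N₂, N₃, h12, h13, h23⟩ := three_norm_neg_one hF
  obtain ⟨e, he⟩ : ∃ e : Fin n → Fin n → F, e = fun i => Pi.single i 1 := ⟨_, rfl⟩
  obtain ⟨A, hA⟩ : ∃ A : Fin n → Fin n → F,
      A = fun i j => hermForm n F q (gact h (e i)) (gact h (e j)) := ⟨_, rfl⟩
  have hAswap : ∀ i j, A j i = (A i j) ^ q := by
    intro i j
    rw [hA]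
    exact hf_swap hF _ _
  have hee : ∀ i j, hermForm n F q (e i) (e j) = if i = j then 1 else 0 := by
    intro i j
    rw [he]
    show hermForm n F q (Pi.single i 1) (Pi.single j 1) = _
    rw [hf_single_right hF, Pi.single_apply]
    by_cases hij : i = j
    · rw [if_pos hij, if_pos hij.symm]
    · rw [if_neg hij, if_neg (Ne.symm hij)]
  -- the equation for each `ζ` of norm `-1`
  have heq : ∀ i j, i ≠ j → ∀ z : F, z * z ^ q = -1 →
      A i i - A j j + z ^ q * A i j + z * (A i j) ^ q = 0 := by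
    intro i j hij z hz
    have hiso : hermForm n F q (e i + z • e j) (e i + z • e j) = 0 := by
      have h_ii := hee i i
      have h_jj := hee j j
      have h_ij := hee i j
      have h_ji := hee j i
      rw [if_pos rfl] at h_ii h_jj
      rw [if_neg hij] at h_ij
      rw [if_neg (Ne.symm hij)] at h_ji
      simp only [hf_add_left, hf_add_right hF, hf_smul_left, hf_smul_right, h_ii, h_jj, h_ij, h_ji]
      linear_combination hz
    have := hcone _ hiso
    rw [gact_add, gact_smul] at this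
    simp only [hf_add_left, hf_add_right hF, hf_smul_left, hf_smul_right] at this
    have e1 : hermForm n F q (gact h (e i)) (gact h (e i)) = A i i := by rw [hA]
    have e2 : hermForm n F q (gact h (e i)) (gact h (e j)) = A i j := by rw [hA]
    have e3 : hermForm n F q (gact h (e j)) (gact h (e i)) = (A i j) ^ q := by
      rw [← hAswap, hA]
    have e4 : hermForm n F q (gact h (e j)) (gact h (e j)) = A j j := by rw [hA]
    rw [e1, e2, e3, e4] at this
    linear_combination this - A j j * hz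
  have hoff : ∀ i j, i ≠ j → A i j = 0 ∧ A i i = A j j := by
    intro i j hij
    have E1 := heq i j hij z₁ N₁
    have E2 := heq i j hij z₂ N₂
    have E3 := heq i j hij z₃ N₃
    have k12 : (z₁ - z₂) * (A i i - A j j + (A i j) ^ q * (z₁ + z₂)) = 0 := by
      linear_combination z₁ * E1 - z₂ * E2 - A i j * N₁ + A i j * N₂
    have k13 : (z₁ - z₃) * (A i i - A j j + (A i j) ^ q * (z₁ + z₃)) = 0 := by
      linear_combination z₁ * E1 - z₃ * E3 - A i j * N₁ + A i j * N₃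
    have k12' := (mul_eq_zero.mp k12).resolve_left (sub_ne_zero.mpr h12)
    have k13' := (mul_eq_zero.mp k13).resolve_left (sub_ne_zero.mpr h13)
    have k : (A i j) ^ q * (z₂ - z₃) = 0 := by linear_combination k12' - k13'
    have hB : (A i j) ^ q = 0 := (mul_eq_zero.mp k).resolve_right (sub_ne_zero.mpr h23)
    have hB0 : A i j = 0 := (cj_eq_zero hF).mp hB
    refine ⟨hB0, ?_⟩
    rw [hB, zero_mul, add_zero] at k12'
    exact sub_eq_zero.mp k12'
  obtain ⟨i₀⟩ : Nonempty (Fin n) := ⟨⟨0, by omega⟩⟩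
  obtain ⟨c, hc⟩ : ∃ c : F, c = A i₀ i₀ := ⟨_, rfl⟩
  have hAc : ∀ i j, A i j = if i = j then c else 0 := by
    intro i j
    by_cases hij : i = j
    · rw [if_pos hij, ← hij, hc]
      by_cases hi : i = i₀
      · rw [hi]
      · exact (hoff i i₀ hi).2
    · rw [if_neg hij]
      exact (hoff i j hij).1
  have hform : ∀ u v : Fin n → F,
      hermForm n F q (gact h u) (gact h v) = c * hermForm n F q u v := by
    intro u v
    have hu : u = ∑ i, u i • e i := by
      rw [he]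
      funext k
      simp [Finset.sum_apply, Pi.single_apply]
    have hv : v = ∑ j, v j • e j := by
      rw [he]
      funext k
      simp [Finset.sum_apply, Pi.single_apply]
    conv_lhs => rw [hu, hv]
    rw [gact_sum, gact_sum, hf_sum_left]
    have : ∀ i ∈ Finset.univ, hermForm n F q (gact h (u i • e i)) (∑ j, gact h (v j • e j)) =
        c * (u i * (v i) ^ q) := by
      intro i _
      rw [hf_sum_right hF, Finset.sum_eq_single i]
      · rw [gact_smul, gact_smul, hf_smul_left, hf_smul_right]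
        have : hermForm n F q (gact h (e i)) (gact h (e i)) = A i i := by rw [hA]
        rw [this, hAc, if_pos rfl]
        ring
      · intro j _ hji
        rw [gact_smul, gact_smul, hf_smul_left, hf_smul_right]
        have : hermForm n F q (gact h (e i)) (gact h (e j)) = A i j := by rw [hA]
        rw [this, hAc, if_neg (Ne.symm hji)]
        ring
      · intro hi
        exact absurd (Finset.mem_univ i) hi
    rw [Finset.sum_congr rfl this, ← Finset.mul_sum, hf_def]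
  have hc0 : c ≠ 0 := by
    intro h0
    have h1 := hform (gact h⁻¹ (e i₀)) (gact h⁻¹ (e i₀))
    rw [gact_gact_inv, hee, if_pos rfl, h0, zero_mul] at h1
    exact one_ne_zero h1
  exact ⟨Units.mk0 c hc0, fun u v => hform u v⟩


/-! ### The key step -/

theorem GU_le_sim : GU n F q ≤ Cfsg.Geo.similarityGroup (hermForm n F q) := by
  intro g hg
  exact ⟨1, fun u v => by rw [Units.val_one, one_mul]; exact hg u v⟩

theorem A_zero (M : Subgroup (GL (Fin n) F)) : A M (0 : Fin n → F) := by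
  intro φ _ g hg
  have : g = 1 := by
    apply Units.ext
    rw [hg, Units.val_one, Matrix.ext_iff_mulVec]
    intro x
    rw [Tm_mulVec, smul_zero, add_zero, Matrix.one_mulVec]
  rw [this]
  exact one_mem M

theorem A_smul_center (M : Subgroup (GL (Fin n) F)) (l : F) (b : Fin n → F) (hb : A M b) :
    A M (l • b) := by
  by_cases hl : l = 0
  · rw [hl, zero_smul]
    exact A_zero M
  intro φ hφ
  rw [Tm_smul_center]
  apply hb
  rw [dotProduct_smul, smul_eq_mul] at hφ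
  rw [smul_dotProduct, smul_eq_mul]
  rcases mul_eq_zero.mp hφ with h | h
  · exact absurd h hl
  · rw [h, mul_zero]

theorem A_of_P (hF : Fintype.card F = q ^ 2) (M : Subgroup (GL (Fin n) F)) (b₀ : Fin n → F)
    (hP : ∀ x : Fin n → F, hermForm n F q x b₀ = 0 → P q M b₀ x) : A M b₀ := by
  intro φ hφ
  have h1 : cjv q (cjv q φ) = φ := cjv_cjv hF φ
  have h2 : hermForm n F q b₀ (cjv q φ) = 0 := by
    rw [← cjv_dot, h1]
    exact hφ
  have h3 := (hP (cjv q φ) (hf_eq_zero_swap hF h2)).2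
  unfold R at h3
  rwa [h1] at h3

theorem key (hF : Fintype.card F = q ^ 2) (hn : 13 ≤ n) (M : Subgroup (GL (Fin n) F))
    (hM1 : Cfsg.Geo.similarityGroup (hermForm n F q) ⊓ Cfsg.Geo.specialLinear (Fin n) F ≤ M)
    (h : GL (Fin n) F) (hhM : h ∈ M) (hhS : h ∉ Cfsg.Geo.similarityGroup (hermForm n F q)) :
    ∀ a, A M a := by
  have hM : GU n F q ⊓ Cfsg.Geo.specialLinear (Fin n) F ≤ M :=
    le_trans (inf_le_inf_right _ GU_le_sim) hM1
  -- an isotropic vector with anisotropic image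
  have hex : ∃ a : Fin n → F, hermForm n F q a a = 0 ∧
      hermForm n F q (gact h a) (gact h a) ≠ 0 := by
    by_contra hne
    apply hhS
    apply cone hF (by omega) h
    intro a ha
    by_contra hc
    exact hne ⟨a, ha, hc⟩
  obtain ⟨a, haa, hb₀⟩ := hex
  obtain ⟨b₀, hb₀def⟩ : ∃ b₀ : Fin n → F, b₀ = gact h a := ⟨_, rfl⟩
  rw [← hb₀def] at hb₀
  obtain ⟨φ₀, hφ₀⟩ : ∃ φ₀ : Fin n → F,
      φ₀ = cjv q a ᵥ* ((h⁻¹ : GL (Fin n) F) : Matrix (Fin n) (Fin n) F) := ⟨_, rfl⟩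
  obtain ⟨x₀, hx₀⟩ : ∃ x₀ : Fin n → F, x₀ = cjv q φ₀ := ⟨_, rfl⟩
  have hcx₀ : cjv q x₀ = φ₀ := by rw [hx₀, cjv_cjv hF]
  have hφ₀dot : ∀ y, φ₀ ⬝ᵥ y = hermForm n F q (gact h⁻¹ y) a := by
    intro y
    rw [hφ₀, ← Matrix.dotProduct_mulVec, cjv_dot]
    rfl
  have hb₀x₀ : hermForm n F q b₀ x₀ = 0 := by
    rw [← cjv_dot, hcx₀, hφ₀dot, hb₀def, gact_inv_gact, haa]
  have hx₀0 : x₀ ≠ 0 := by
    intro h0
    have h1 : φ₀ = 0 := by rw [← hcx₀, h0, cjv_zero hF]
    have h2 : a = 0 := by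
      apply hf_nondeg' hF
      intro z
      have := hφ₀dot (gact h z)
      rw [gact_inv_gact, h1, zero_dotProduct] at this
      exact this.symm
    apply hb₀
    rw [hb₀def, h2, gact_zero, hf_zero_left]
  -- the conjugated transvections
  have hR : ∀ d : F, d + d ^ q = 0 → R q M b₀ (d • x₀) := by
    intro d hd
    have hd' : d ^ q + (d ^ q) ^ q = 0 := by rw [cj_cj hF, add_comm]; exact hd
    have hk : h * tv q a (d ^ q) * h⁻¹ ∈ M :=
      mul_mem (mul_mem hhM (hM (tv_mem_SUg hF a hd'))) (inv_mem hhM)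
    intro g hg
    have : g = h * tv q a (d ^ q) * h⁻¹ := by
      apply gact_ext
      intro y
      rw [gact_mul, gact_mul, tv_gact haa, gact_add, gact_gact_inv, gact_smul, ← hb₀def]
      unfold gact at *
      rw [hg, Tm_cjv_mulVec, hf_smul_right, ← cjv_dot (q := q) x₀ y, hcx₀, hφ₀dot]
    rw [this]
    exact hk
  obtain ⟨θ, hθ0, hθ⟩ := exists_theta hF
  have hy₀ : P q M b₀ (θ • x₀) := by
    refine ⟨?_, hR θ hθ⟩
    rw [hf_smul_left, hf_eq_zero_swap hF hb₀x₀, mul_zero]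
  have hfull := P_full hF (by omega) hM hb₀ (smul_ne_zero hθ0 hx₀0) hy₀
  have hAb₀ : A M b₀ := A_of_P hF M b₀ hfull
  -- all anisotropic vectors
  have hAan : ∀ v : Fin n → F, hermForm n F q v v ≠ 0 → A M v := by
    intro v hv
    have hfix : (hermForm n F q v v / hermForm n F q b₀ b₀) ^ q =
        hermForm n F q v v / hermForm n F q b₀ b₀ := by
      rw [cj_div, hf_self_fixed hF, hf_self_fixed hF]
    obtain ⟨l, hl⟩ := nm_surj hF _ hfix
    have hb₁ : hermForm n F q (l • b₀) (l • b₀) = hermForm n F q v v := by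
      rw [hf_smul_self, hl, div_mul_cancel₀ _ hb₀]
    have hfr : Module.finrank F (⊤ : Submodule F (Fin n → F)) = n := by
      rw [finrank_top, Module.finrank_fin_fun]
    obtain ⟨t, ht, htv⟩ := TW_trans hF ⊤ (unondeg_top hF) (by rw [hfr]; omega)
      (by rw [hfr]; omega) (l • b₀) v Submodule.mem_top Submodule.mem_top _ hv hb₁ rfl
    have htM : t ∈ M := hM (TW_le_SUg hF ⊤ ht)
    have := A_smul M t htM (l • b₀) (A_smul_center M l b₀ hAb₀)
    rw [← htv]
    exact this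
  intro a₁
  by_cases h11 : hermForm n F q a₁ a₁ = 0
  · by_cases ha₁0 : a₁ = 0
    · rw [ha₁0]; exact A_zero M
    have hfr : Module.finrank F (⊤ : Submodule F (Fin n → F)) = n := by
      rw [finrank_top, Module.finrank_fin_fun]
    obtain ⟨b, -, hbb, ha₁b⟩ := exists_norm_perp_in hF (unondeg_top hF) (by rw [hfr]; omega)
      (Submodule.mem_top : a₁ ∈ ⊤) (1 : F) (one_pow q) one_ne_zero
    have hbne : hermForm n F q b b ≠ 0 := by rw [hbb]; exact one_ne_zero
    have ha₁W : a₁ ∈ uperp q (Submodule.span F {b}) := (mem_perp_iff b a₁).mpr ha₁b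
    obtain ⟨a', ha'W, ha₁a'⟩ := exists_dual_in hF (perp_nondeg hF hbne) ha₁W ha₁0
    have ha'b : hermForm n F q a' b = 0 := (mem_perp_iff b a').mp ha'W
    have hψb : cjv q a' ⬝ᵥ b = 0 := by rw [cjv_dot]; exact hf_eq_zero_swap hF ha'b
    have hdet : (Tm b (cjv q a')).det ≠ 0 := by
      rw [det_Tm, hψb, add_zero]; exact one_ne_zero
    have hgM : Matrix.GeneralLinearGroup.mkOfDetNeZero _ hdet ∈ M :=
      hAan b hbne (cjv q a') hψb _ rfl
    have hv : hermForm n F q (a₁ - b) (a₁ - b) ≠ 0 := by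
      rw [hf_sub_left, hf_sub_right hF, hf_sub_right hF, h11, ha₁b, hf_eq_zero_swap hF ha₁b, hbb]
      simp
    have := A_smul M _ hgM (a₁ - b) (hAan _ hv)
    have e : ((Matrix.GeneralLinearGroup.mkOfDetNeZero _ hdet : GL (Fin n) F) :
        Matrix (Fin n) (Fin n) F) *ᵥ (a₁ - b) = a₁ := by
      change Tm b (cjv q a') *ᵥ (a₁ - b) = a₁
      rw [Tm_cjv_mulVec, hf_sub_left, ha₁a', hf_eq_zero_swap hF ha'b, sub_zero, one_smul]
      abel
    rwa [e] at this
  · exact hAan a₁ h11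

theorem std_max (hF : Fintype.card F = q ^ 2) (hn : 13 ≤ n) :
    Cfsg.Geo.IsMaximalIn (Cfsg.Geo.specialLinear (Fin n) F)
      (Cfsg.Geo.similarityGroup (hermForm n F q) ⊓ Cfsg.Geo.specialLinear (Fin n) F) := by
  classical
  refine ⟨lt_of_le_of_ne inf_le_right ?_, ?_⟩
  · intro heq
    obtain ⟨i₀, hi₀⟩ : ∃ i₀ : Fin n, i₀ = ⟨0, by omega⟩ := ⟨_, rfl⟩
    obtain ⟨i₁, hi₁⟩ : ∃ i₁ : Fin n, i₁ = ⟨1, by omega⟩ := ⟨_, rfl⟩
    have h01 : i₁ ≠ i₀ := by
      intro h; have := congrArg Fin.val h; simp [hi₀, hi₁] at this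
    have hdot : (Pi.single i₁ 1 : Fin n → F) ⬝ᵥ Pi.single i₀ 1 = 0 := by
      rw [single_one_dotProduct, Pi.single_apply, if_neg h01]
    have hdet : (Tm (Pi.single i₀ 1 : Fin n → F) (Pi.single i₁ 1)).det ≠ 0 := by
      rw [det_Tm, hdot, add_zero]; exact one_ne_zero
    have hgSL : Matrix.GeneralLinearGroup.mkOfDetNeZero _ hdet ∈
        Cfsg.Geo.specialLinear (Fin n) F := by
      rw [mem_specialLinear_iff]
      change (Tm (Pi.single i₀ 1 : Fin n → F) (Pi.single i₁ 1)).det = 1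
      rw [det_Tm, hdot, add_zero]
    rw [← heq] at hgSL
    obtain ⟨c, hc⟩ := hgSL.1
    have hact : ∀ x : Fin n → F, ((Matrix.GeneralLinearGroup.mkOfDetNeZero _ hdet :
        GL (Fin n) F) : Matrix (Fin n) (Fin n) F) *ᵥ x = x + x i₁ • Pi.single i₀ 1 := by
      intro x
      change Tm (Pi.single i₀ 1 : Fin n → F) (Pi.single i₁ 1) *ᵥ x = _
      rw [Tm_mulVec, single_one_dotProduct]
    have h1 := hc (Pi.single i₀ 1) (Pi.single i₀ 1)
    rw [hact, Pi.single_apply, if_neg h01, zero_smul, add_zero, hf_single_right hF,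
      Pi.single_apply, if_pos rfl, mul_one] at h1
    have h2 := hc (Pi.single i₁ 1) (Pi.single i₀ 1)
    rw [hact, hact, Pi.single_apply, if_pos rfl, Pi.single_apply, if_neg h01, zero_smul, add_zero,
      one_smul, hf_single_right hF, hf_single_right hF] at h2
    simp only [Pi.add_apply, Pi.single_apply, if_neg (Ne.symm h01), if_true, mul_zero,
      zero_add] at h2
    exact one_ne_zero h2
  · intro M hM1 hM2
    by_cases hM : M ≤ Cfsg.Geo.similarityGroup (hermForm n F q) ⊓ Cfsg.Geo.specialLinear (Fin n) F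
    · left
      exact le_antisymm hM hM1
    right
    obtain ⟨h, hhM, hhP⟩ := SetLike.not_le_iff_exists.mp hM
    have hhS : h ∉ Cfsg.Geo.similarityGroup (hermForm n F q) := fun hS => hhP ⟨hS, hM2 hhM⟩
    have hA := key hF hn M hM1 h hhM hhS
    apply le_antisymm hM2
    intro g hg
    exact Cfsg.Agent.S5631.mem_of_A_all (by omega) M hA g ((mem_specialLinear_iff g).mp hg)

end USim
end Cfsg.Agent.Lib.Helper24
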