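import Mathlib
import Cfsg.Agent.Lib.Helper24.USim

set_option autoImplicit false
set_option linter.style.haveILetI false

namespace Cfsg.Agent.Lib.Helper24
namespace USim

open Cfsg Matrix Cfsg.Agent.S0772 Cfsg.Agent.Lib.Helper27.GLStab Cfsg.Agent.Lib.Helper27.Unitary

open Module in
theorem sigma_card {F : Type*} [Field F] [Fintype F] (σ : F ≃+* F) (hne : σ ≠ RingEquiv.refl F)
    (hinv : ∀ a, σ (σ a) = a) : ∃ q : ℕ, Fintype.card F = q ^ 2 ∧ ∀ x : F, σ x = x → x ^ q = x := by
  classical
  let G : Subgroup (RingAut F) := Subgroup.zpowers (σ : RingAut F)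
  haveI : Finite (RingAut F) :=
    Finite.of_injective (fun e : RingAut F => (e : F → F)) DFunLike.coe_injective
  haveI : Fintype G := Fintype.ofFinite G
  have h := FixedPoints.finrank_eq_card G F
  have hσ2 : (σ : RingAut F) ^ 2 = 1 := by
    ext x
    simp [pow_two, hinv]
  have hσ1 : (σ : RingAut F) ≠ 1 := hne
  have hord : orderOf (σ : RingAut F) = 2 := orderOf_eq_prime hσ2 hσ1
  have hcard : Fintype.card G = 2 := by
    rw [← Nat.card_eq_fintype_card, ← hord]
    exact Nat.card_zpowers (σ : RingAut F)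
  rw [hcard] at h
  haveI : Fintype (FixedPoints.subfield G F) := Fintype.ofFinite _
  have hq := Module.card_eq_pow_finrank (K := FixedPoints.subfield G F) (V := F)
  rw [h] at hq
  refine ⟨Fintype.card (FixedPoints.subfield G F), hq, ?_⟩
  intro x hx
  have hmem : x ∈ FixedPoints.subfield G F := by
    intro g
    obtain ⟨k, hk⟩ := g.2
    have : ∀ k : ℤ, ((σ : RingAut F) ^ k) x = x := by
      intro k
      induction k using Int.induction_on with
      | zero => simp
      | succ i ih =>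
        rw [_root_.zpow_add_one]
        show ((σ : RingAut F) ^ (i : ℤ)) (σ x) = x
        rw [hx]; exact ih
      | pred i ih =>
        rw [_root_.zpow_sub_one]
        show ((σ : RingAut F) ^ (-(i : ℤ))) ((σ : RingAut F)⁻¹ x) = x
        have : (σ : RingAut F)⁻¹ x = x := by
          have h1 : (σ : RingAut F)⁻¹ (σ x) = x := σ.symm_apply_apply x
          rw [hx] at h1
          exact h1
        rw [this]; exact ih
    have h2 := this k
    show (g : RingAut F) x = x
    rw [← hk]
    exact h2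
  have := FiniteField.pow_card (⟨x, hmem⟩ : FixedPoints.subfield G F)
  exact congrArg Subtype.val this

theorem sigma_frob {F : Type*} [Field F] [Fintype F] (σ : F ≃+* F) (hne : σ ≠ RingEquiv.refl F)
    (hinv : ∀ a, σ (σ a) = a) : ∃ q : ℕ, Fintype.card F = q ^ 2 ∧ ∀ x : F, σ x = x ^ q := by
  obtain ⟨q, hF, hfix⟩ := sigma_card σ hne hinv
  refine ⟨q, hF, ?_⟩
  have hor : ∀ x : F, x ^ q = x ∨ x ^ q = σ x := by
    intro x
    have ha : (x + σ x) ^ q = x + σ x := hfix _ (by rw [map_add, hinv, add_comm])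
    have hb : (x * σ x) ^ q = x * σ x := hfix _ (by rw [map_mul, hinv, mul_comm])
    have h0 : x ^ 2 - (x + σ x) * x + x * σ x = 0 := by ring
    have h1 := congrArg (fun y : F => y ^ q) h0
    beta_reduce at h1
    rw [cj_add hF, cj_sub hF, mul_pow, ha, hb, cj_zero hF, ← pow_mul, mul_comm 2 q, pow_mul] at h1
    have h2 : (x ^ q - x) * (x ^ q - σ x) = 0 := by linear_combination h1
    rcases mul_eq_zero.mp h2 with h | h
    · left; exact sub_eq_zero.mp h
    · right; exact sub_eq_zero.mp h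
  by_contra hcon
  rw [not_forall] at hcon
  obtain ⟨x₀, hx₀⟩ := hcon
  have hx₀A : x₀ ^ q = x₀ := by
    rcases hor x₀ with h | h
    · exact h
    · exact absurd h.symm hx₀
  have hall : ∀ y : F, y ^ q = y := by
    intro y
    rcases hor y with h | h
    · exact h
    · -- `y ∈ B`; consider `y + x₀`
      rcases hor (y + x₀) with h' | h'
      · rw [cj_add hF, hx₀A] at h'
        exact add_right_cancel h'
      · exfalso
        apply hx₀
        rw [cj_add hF, map_add, h] at h'
        have := add_left_cancel h'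
        rw [← this, hx₀A]
  obtain ⟨z, hz⟩ := exists_not_fixed hF
  exact hz (hall z)


/-! ### General unitary forms: orthonormal bases -/

section General

variable {F : Type*} [Field F] [Fintype F] {q n : ℕ}

/-- the hypotheses on a general Hermitian form, with `σ = (·)^q` -/
structure HForm (q : ℕ) (f : (Fin n → F) → (Fin n → F) → F) : Prop where
  add_left : ∀ x y v, f (x + y) v = f x v + f y v
  smul_left : ∀ (c : F) (x v : Fin n → F), f (c • x) v = c * f x v
  herm : ∀ v w, f v w = (f w v) ^ q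
  nondeg : ∀ v : Fin n → F, v ≠ 0 → ∃ x, f v x ≠ 0

variable {f : (Fin n → F) → (Fin n → F) → F}

theorem HForm.zero_left (hf : HForm q f) (v : Fin n → F) : f 0 v = 0 := by
  have := hf.smul_left 0 0 v
  rwa [zero_smul, zero_mul] at this

theorem HForm.add_right (hF : Fintype.card F = q ^ 2) (hf : HForm q f) (v x y : Fin n → F) :
    f v (x + y) = f v x + f v y := by
  rw [hf.herm, hf.add_left, cj_add hF, ← hf.herm, ← hf.herm]

theorem HForm.smul_right (hf : HForm q f) (c : F) (v x : Fin n → F) :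
    f v (c • x) = c ^ q * f v x := by
  rw [hf.herm, hf.smul_left, mul_pow, ← hf.herm]

theorem HForm.zero_right (hF : Fintype.card F = q ^ 2) (hf : HForm q f) (v : Fin n → F) :
    f v 0 = 0 := by
  rw [hf.herm, hf.zero_left, cj_zero hF]

theorem HForm.neg_left (hf : HForm q f) (x v : Fin n → F) : f (-x) v = - f x v := by
  have := hf.smul_left (-1) x v
  rwa [neg_one_smul, neg_one_mul] at this

theorem HForm.sub_left (hf : HForm q f) (x y v : Fin n → F) : f (x - y) v = f x v - f y v := by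
  rw [sub_eq_add_neg, hf.add_left, hf.neg_left, sub_eq_add_neg]

theorem HForm.neg_right (hF : Fintype.card F = q ^ 2) (hf : HForm q f) (x v : Fin n → F) :
    f v (-x) = - f v x := by
  rw [hf.herm, hf.neg_left, cj_neg hF, ← hf.herm]

theorem HForm.sub_right (hF : Fintype.card F = q ^ 2) (hf : HForm q f) (v x y : Fin n → F) :
    f v (x - y) = f v x - f v y := by
  rw [sub_eq_add_neg, hf.add_right hF, hf.neg_right hF, sub_eq_add_neg]

theorem HForm.sum_left (hf : HForm q f) {ι : Type*} (s : Finset ι) (g : ι → Fin n → F)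
    (v : Fin n → F) : f (∑ i ∈ s, g i) v = ∑ i ∈ s, f (g i) v := by
  classical
  induction s using Finset.induction_on with
  | empty => simp [hf.zero_left]
  | insert a s ha ih => rw [Finset.sum_insert ha, Finset.sum_insert ha, hf.add_left, ih]

theorem HForm.sum_right (hF : Fintype.card F = q ^ 2) (hf : HForm q f) {ι : Type*}
    (s : Finset ι) (g : ι → Fin n → F) (v : Fin n → F) :
    f v (∑ i ∈ s, g i) = ∑ i ∈ s, f v (g i) := by
  classical
  induction s using Finset.induction_on with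
  | empty => simp [hf.zero_right hF]
  | insert a s ha ih => rw [Finset.sum_insert ha, Finset.sum_insert ha, hf.add_right hF, ih]

theorem HForm.self_fixed (hf : HForm q f) (v : Fin n → F) : (f v v) ^ q = f v v :=
  (hf.herm v v).symm

/-- orthonormal family -/
def ON (f : (Fin n → F) → (Fin n → F) → F) {k : ℕ} (b : Fin k → Fin n → F) : Prop :=
  ∀ i j, f (b i) (b j) = if i = j then 1 else 0

/-- the component of `x` orthogonal to an orthonormal family -/
theorem proj_perp (hF : Fintype.card F = q ^ 2) (hf : HForm q f) {k : ℕ}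
    {b : Fin k → Fin n → F} (hb : ON f b) (x : Fin n → F) (j : Fin k) :
    f (x - ∑ i, f x (b i) • b i) (b j) = 0 := by
  classical
  rw [hf.sub_left, hf.sum_left, Finset.sum_eq_single j]
  · rw [hf.smul_left, hb j j, if_pos rfl, mul_one, sub_self]
  · intro i _ hij
    rw [hf.smul_left, hb i j, if_neg hij, mul_zero]
  · intro h
    exact absurd (Finset.mem_univ j) h

theorem exists_extend (hF : Fintype.card F = q ^ 2) (hf : HForm q f) {k : ℕ} (hk : k < n)
    {b : Fin k → Fin n → F} (hb : ON f b) :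
    ∃ w : Fin n → F, f w w = 1 ∧ ∀ i, f w (b i) = 0 := by
  classical
  -- a non-zero vector orthogonal to the family
  have ex1 : ∃ x₁ : Fin n → F, x₁ ≠ 0 ∧ ∀ i, f x₁ (b i) = 0 := by
    by_contra hne
    have hall : ∀ x : Fin n → F, x = ∑ i, f x (b i) • b i := by
      intro x
      by_contra hx
      apply hne
      refine ⟨x - ∑ i, f x (b i) • b i, sub_ne_zero.mpr hx, proj_perp hF hf hb x⟩
    have htop : Submodule.span F (Set.range b) = ⊤ := by
      rw [eq_top_iff]
      intro x _
      rw [hall x]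
      apply Submodule.sum_mem
      intro i _
      exact Submodule.smul_mem _ _ (Submodule.subset_span ⟨i, rfl⟩)
    have h1 := finrank_range_le_card (R := F) b
    rw [Set.finrank, htop, finrank_top, Module.finrank_fin_fun, Fintype.card_fin] at h1
    omega
  obtain ⟨x₁, hx₁0, hx₁⟩ := ex1
  obtain ⟨y, hy⟩ := hf.nondeg x₁ hx₁0
  obtain ⟨y', hy'⟩ : ∃ y' : Fin n → F, y' = y - ∑ i, f y (b i) • b i := ⟨_, rfl⟩
  have hy'b : ∀ i, f y' (b i) = 0 := by
    intro i; rw [hy']; exact proj_perp hF hf hb y i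
  have hx₁y' : f x₁ y' = f x₁ y := by
    rw [hy', hf.sub_right hF, hf.sum_right hF]
    have : ∀ i ∈ Finset.univ, f x₁ (f y (b i) • b i) = 0 := by
      intro i _
      rw [hf.smul_right, hx₁ i, mul_zero]
    rw [Finset.sum_eq_zero this, sub_zero]
  have hβ : f x₁ y' ≠ 0 := by rw [hx₁y']; exact hy
  -- an anisotropic vector orthogonal to the family
  have ex2 : ∃ z : Fin n → F, f z z ≠ 0 ∧ ∀ i, f z (b i) = 0 := by
    by_cases h1 : f x₁ x₁ ≠ 0
    · exact ⟨x₁, h1, hx₁⟩
    by_cases h2 : f y' y' ≠ 0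
    · exact ⟨y', h2, hy'b⟩
    rw [not_not] at h1 h2
    obtain ⟨s, hs⟩ := tr_surj hF (1 : F) (one_pow q)
    obtain ⟨l, hl⟩ : ∃ l : F, l = (s / f x₁ y') ^ q := ⟨_, rfl⟩
    refine ⟨l • y' + x₁, ?_, ?_⟩
    · rw [hf.add_left, hf.add_right hF, hf.add_right hF, hf.smul_left, hf.smul_left,
        hf.smul_right, hf.smul_right, h1, h2, mul_zero, mul_zero, zero_add, add_zero]
      have e1 : f y' x₁ = (f x₁ y') ^ q := hf.herm y' x₁
      have hβq : (f x₁ y') ^ q ≠ 0 := fun h => hβ ((cj_eq_zero hF).mp h)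
      have e2 : l * f y' x₁ = s ^ q := by
        rw [hl, e1, cj_div]
        field_simp
      have e3 : l ^ q * f x₁ y' = s := by
        rw [hl, cj_cj hF]
        field_simp
      rw [e2, e3, add_comm, hs]
      exact one_ne_zero
    · intro i
      rw [hf.add_left, hf.smul_left, hy'b i, hx₁ i, mul_zero, add_zero]
  obtain ⟨z, hzz, hzb⟩ := ex2
  have hfix : ((f z z)⁻¹) ^ q = (f z z)⁻¹ := by rw [cj_inv, hf.self_fixed]
  obtain ⟨l, hl⟩ := nm_surj hF _ hfix
  refine ⟨l • z, ?_, ?_⟩
  · rw [hf.smul_left, hf.smul_right, ← mul_assoc, hl, inv_mul_cancel₀ hzz]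
  · intro i
    rw [hf.smul_left, hzb i, mul_zero]

theorem exists_ON (hF : Fintype.card F = q ^ 2) (hf : HForm q f) :
    ∀ k : ℕ, k ≤ n → ∃ b : Fin k → Fin n → F, ON f b := by
  intro k
  induction k with
  | zero => intro _; exact ⟨fun i => i.elim0, fun i => i.elim0⟩
  | succ k ih =>
    intro hk
    obtain ⟨b, hb⟩ := ih (by omega)
    obtain ⟨w, hww, hwb⟩ := exists_extend hF hf (by omega) hb
    refine ⟨Fin.cons w b, ?_⟩
    intro i j
    refine Fin.cases ?_ (fun i' => ?_) i <;> refine Fin.cases ?_ (fun j' => ?_) j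
    · rw [Fin.cons_zero, if_pos rfl]; exact hww
    · rw [Fin.cons_zero, Fin.cons_succ, if_neg (Fin.succ_ne_zero j').symm]; exact hwb j'
    · rw [Fin.cons_zero, Fin.cons_succ, if_neg (Fin.succ_ne_zero i'), hf.herm, hwb i',
        cj_zero hF]
    · rw [Fin.cons_succ, Fin.cons_succ, hb i' j']
      by_cases h : i' = j'
      · rw [if_pos h, if_pos (by rw [h])]
      · rw [if_neg h, if_neg (fun h' => h (Fin.succ_injective _ h'))]

/-- standardisation: a general Hermitian form is the standard one in a suitable basis -/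
theorem exists_std (hF : Fintype.card F = q ^ 2) (hf : HForm q f) :
    ∃ Pg : GL (Fin n) F, ∀ u v : Fin n → F,
      f ((Pg : Matrix (Fin n) (Fin n) F) *ᵥ u) ((Pg : Matrix (Fin n) (Fin n) F) *ᵥ v) =
        hermForm n F q u v := by
  classical
  obtain ⟨b, hb⟩ := exists_ON hF hf n le_rfl
  obtain ⟨Pm, hPm⟩ : ∃ Pm : Matrix (Fin n) (Fin n) F, Pm = Matrix.of (fun i j => b j i) := ⟨_, rfl⟩
  have hmul : ∀ u : Fin n → F, Pm *ᵥ u = ∑ j, u j • b j := by
    intro u
    funext i
    rw [hPm, Matrix.mulVec, dotProduct, Finset.sum_apply]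
    apply Finset.sum_congr rfl
    intro j _
    rw [Matrix.of_apply, Pi.smul_apply, smul_eq_mul, mul_comm]
  have hform : ∀ u v : Fin n → F, f (Pm *ᵥ u) (Pm *ᵥ v) = hermForm n F q u v := by
    intro u v
    rw [hmul, hmul, hf.sum_left, hf_def]
    apply Finset.sum_congr rfl
    intro i _
    rw [hf.sum_right hF, Finset.sum_eq_single i]
    · rw [hf.smul_left, hf.smul_right, hb i i, if_pos rfl, mul_one]
    · intro j _ hji
      rw [hf.smul_left, hf.smul_right, hb i j, if_neg (Ne.symm hji), mul_zero, mul_zero]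
    · intro h
      exact absurd (Finset.mem_univ i) h
  have hinj : Function.Injective Pm.mulVec := by
    intro u v huv
    have h0 : Pm *ᵥ (u - v) = 0 := by rw [Matrix.mulVec_sub, huv, sub_self]
    have h1 : u - v = 0 := by
      apply hf_nondeg hF
      intro w
      rw [← hform, h0, hf.zero_left]
    exact sub_eq_zero.mp h1
  have hunit : IsUnit Pm := Matrix.mulVec_injective_iff_isUnit.mp hinj
  have hdet : Pm.det ≠ 0 := by
    have := (Matrix.isUnit_iff_isUnit_det Pm).mp hunit
    exact this.ne_zero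
  exact ⟨Matrix.GeneralLinearGroup.mkOfDetNeZero Pm hdet, hform⟩

end General

/-! ### Transfer of maximality along a conjugation -/

theorem isMaximalIn_of_equiv {G : Type*} [Group G] (φ : G ≃* G) (K H K' H' : Subgroup G)
    (hK : ∀ g, g ∈ K' ↔ φ g ∈ K) (hH : ∀ g, g ∈ H' ↔ φ g ∈ H)
    (hmax : Cfsg.Geo.IsMaximalIn K H) : Cfsg.Geo.IsMaximalIn K' H' := by
  obtain ⟨hlt, hm⟩ := hmax
  have hle : H' ≤ K' := fun g hg => (hK g).mpr (hlt.le ((hH g).mp hg))
  refine ⟨lt_of_le_of_ne hle ?_, ?_⟩
  · intro heq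
    apply hlt.ne
    apply le_antisymm hlt.le
    intro x hx
    have h1 : φ.symm x ∈ K' := (hK _).mpr (by rw [MulEquiv.apply_symm_apply]; exact hx)
    rw [← heq] at h1
    have h2 := (hH _).mp h1
    rwa [MulEquiv.apply_symm_apply] at h2
  · intro M hM1 hM2
    have h1 : H ≤ M.map φ.toMonoidHom := by
      intro x hx
      refine ⟨φ.symm x, hM1 ((hH _).mpr (by rw [MulEquiv.apply_symm_apply]; exact hx)), ?_⟩
      exact MulEquiv.apply_symm_apply φ x
    have h2 : M.map φ.toMonoidHom ≤ K := by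
      rintro x ⟨m, hm', rfl⟩
      exact (hK m).mp (hM2 hm')
    rcases hm _ h1 h2 with h | h
    · left
      apply le_antisymm _ hM1
      intro m hm'
      apply (hH m).mpr
      rw [← h]
      exact ⟨m, hm', rfl⟩
    · right
      apply le_antisymm hM2
      intro g hg
      have h3 : φ g ∈ M.map φ.toMonoidHom := by rw [h]; exact (hK g).mp hg
      obtain ⟨m, hm', hmg⟩ := h3
      have : m = g := φ.injective hmg
      rw [← this]
      exact hm'


/-! ### The main theorem -/

theorem main {F : Type*} [Field F] [Fintype F] (n : ℕ) (hn : 13 ≤ n) (σ : F ≃+* F)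
    (f : (Fin n → F) → (Fin n → F) → F) (hf : Cfsg.Geo.IsUnitaryForm σ f) :
    Cfsg.Geo.IsMaximalIn (Cfsg.Geo.specialLinear (Fin n) F)
      (Cfsg.Geo.similarityGroup f ⊓ Cfsg.Geo.specialLinear (Fin n) F) := by
  obtain ⟨q, hF, hσ⟩ := sigma_frob σ hf.ne_refl hf.involutive
  have hform : HForm q f :=
    ⟨hf.add_left, hf.smul_left, fun v w => by rw [hf.herm v w, hσ],
      fun v hv => (hf.nondegenerate v hv).2⟩
  obtain ⟨Pg, hP⟩ := exists_std hF hform
  have hP' : ∀ x y : Fin n → F, f x y = hermForm n F q (gact Pg⁻¹ x) (gact Pg⁻¹ y) := by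
    intro x y
    rw [← hP]
    change f x y = f (gact Pg (gact Pg⁻¹ x)) (gact Pg (gact Pg⁻¹ y))
    rw [gact_gact_inv, gact_gact_inv]
  have hφ : ∀ g : GL (Fin n) F, MulAut.conj Pg⁻¹ g = Pg⁻¹ * g * Pg := by
    intro g
    rw [MulAut.conj_apply, inv_inv]
  have hK : ∀ g : GL (Fin n) F, g ∈ Cfsg.Geo.specialLinear (Fin n) F ↔
      MulAut.conj Pg⁻¹ g ∈ Cfsg.Geo.specialLinear (Fin n) F := by
    intro g
    rw [hφ]
    unfold Cfsg.Geo.specialLinear
    rw [MonoidHom.mem_ker, MonoidHom.mem_ker, map_mul, map_mul, map_inv, mul_comm, ← mul_assoc,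
      mul_inv_cancel, one_mul]
  have hS : ∀ g : GL (Fin n) F, g ∈ Cfsg.Geo.similarityGroup f ↔
      MulAut.conj Pg⁻¹ g ∈ Cfsg.Geo.similarityGroup (hermForm n F q) := by
    intro g
    rw [hφ]
    constructor
    · rintro ⟨c, hc⟩
      refine ⟨c, fun u v => ?_⟩
      change hermForm n F q (gact (Pg⁻¹ * g * Pg) u) (gact (Pg⁻¹ * g * Pg) v) = _
      rw [gact_mul, gact_mul, gact_mul, gact_mul, ← hP', ← hP u v]
      exact hc _ _
    · rintro ⟨c, hc⟩
      refine ⟨c, fun x y => ?_⟩
      have h1 := hc (gact Pg⁻¹ x) (gact Pg⁻¹ y)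
      change hermForm n F q (gact (Pg⁻¹ * g * Pg) (gact Pg⁻¹ x))
        (gact (Pg⁻¹ * g * Pg) (gact Pg⁻¹ y)) = _ at h1
      rw [gact_mul, gact_mul, gact_mul, gact_mul, gact_gact_inv, gact_gact_inv, ← hP', ← hP'] at h1
      exact h1
  have hH : ∀ g : GL (Fin n) F,
      g ∈ Cfsg.Geo.similarityGroup f ⊓ Cfsg.Geo.specialLinear (Fin n) F ↔
      MulAut.conj Pg⁻¹ g ∈ Cfsg.Geo.similarityGroup (hermForm n F q) ⊓
        Cfsg.Geo.specialLinear (Fin n) F := by
    intro g
    rw [Subgroup.mem_inf, Subgroup.mem_inf, ← hS, ← hK]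
  exact isMaximalIn_of_equiv (MulAut.conj Pg⁻¹) _ _ _ _ hK hH (std_max hF hn)

end USim
end Cfsg.Agent.Lib.Helper24
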