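import Mathlib

set_option autoImplicit false
set_option linter.style.haveILetI false

namespace Cfsg.Agent.Lib.Helper24
namespace U33

/-- a concrete model of the field with nine elements: `𝔽₃[i]`, `i² = -1` -/
structure F9 where
  re : ZMod 3
  im : ZMod 3
  deriving DecidableEq, Fintype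

namespace F9

instance : Zero F9 := ⟨⟨0, 0⟩⟩
instance : One F9 := ⟨⟨1, 0⟩⟩
instance : Add F9 := ⟨fun x y => ⟨x.re + y.re, x.im + y.im⟩⟩
instance : Neg F9 := ⟨fun x => ⟨-x.re, -x.im⟩⟩
instance : Mul F9 := ⟨fun x y => ⟨x.re * y.re - x.im * y.im, x.re * y.im + x.im * y.re⟩⟩
instance : Inv F9 := ⟨fun x => ⟨x.re * (x.re * x.re + x.im * x.im), -x.im * (x.re * x.re + x.im * x.im)⟩⟩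

instance : CommRing F9 where
  add := (· + ·)
  add_assoc := by decide
  zero := 0
  zero_add := by decide
  add_zero := by decide
  nsmul := nsmulRec
  neg := Neg.neg
  zsmul := zsmulRec
  neg_add_cancel := by decide
  add_comm := by decide
  mul := (· * ·)
  left_distrib := by decide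
  right_distrib := by decide
  zero_mul := by decide
  mul_zero := by decide
  mul_assoc := by decide
  one := 1
  one_mul := by decide
  mul_one := by decide
  mul_comm := by decide

instance : Field F9 where
  inv := Inv.inv
  exists_pair_ne := ⟨0, 1, by decide⟩
  mul_inv_cancel := by decide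
  inv_zero := by decide
  nnqsmul := _
  nnqsmul_def := fun _ _ => rfl
  qsmul := _
  qsmul_def := fun _ _ => rfl

theorem card : Fintype.card F9 = 9 := by decide

theorem add_pow_three : ∀ a b : F9, (a + b) ^ 3 = a ^ 3 + b ^ 3 := by decide

/-- the Frobenius `x ↦ x³` -/
def frob : F9 →+* F9 where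
  toFun x := x ^ 3
  map_one' := one_pow 3
  map_mul' a b := mul_pow a b 3
  map_zero' := by decide
  map_add' := add_pow_three

end F9


open Matrix

def UW : Fin 7 → Matrix (Fin 3) (Fin 3) F9 :=
  ![!![⟨0, 0⟩, ⟨1, 1⟩, ⟨2, 1⟩; ⟨1, 2⟩, ⟨1, 0⟩, ⟨0, 2⟩; ⟨2, 2⟩, ⟨0, 1⟩, ⟨1, 0⟩],
    !![⟨2, 1⟩, ⟨0, 2⟩, ⟨2, 0⟩; ⟨2, 2⟩, ⟨2, 0⟩, ⟨0, 1⟩; ⟨0, 0⟩, ⟨2, 1⟩, ⟨2, 2⟩],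
    !![⟨0, 1⟩, ⟨0, 2⟩, ⟨2, 2⟩; ⟨0, 1⟩, ⟨1, 2⟩, ⟨2, 0⟩; ⟨2, 2⟩, ⟨1, 0⟩, ⟨0, 2⟩],
    !![⟨2, 2⟩, ⟨0, 1⟩, ⟨0, 1⟩; ⟨2, 0⟩, ⟨1, 2⟩, ⟨1, 0⟩; ⟨2, 0⟩, ⟨1, 0⟩, ⟨1, 2⟩],
    !![⟨1, 1⟩, ⟨0, 1⟩, ⟨0, 1⟩; ⟨0, 0⟩, ⟨1, 2⟩, ⟨2, 1⟩; ⟨1, 2⟩, ⟨2, 0⟩, ⟨2, 0⟩],
    !![⟨2, 0⟩, ⟨1, 2⟩, ⟨0, 2⟩; ⟨1, 0⟩, ⟨0, 1⟩, ⟨2, 1⟩; ⟨2, 1⟩, ⟨2, 0⟩, ⟨2, 0⟩],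
    !![⟨2, 1⟩, ⟨1, 0⟩, ⟨0, 2⟩; ⟨0, 1⟩, ⟨0, 2⟩, ⟨2, 1⟩; ⟨0, 2⟩, ⟨1, 1⟩, ⟨1, 0⟩]]
def HU : Fin 7 → Fin 7 → Matrix (Fin 3) (Fin 3) F9 :=
  ![![!![⟨1, 0⟩, ⟨0, 0⟩, ⟨0, 0⟩; ⟨0, 0⟩, ⟨1, 0⟩, ⟨0, 0⟩; ⟨0, 0⟩, ⟨0, 0⟩, ⟨1, 0⟩],
      !![⟨0, 0⟩, ⟨1, 1⟩, ⟨1, 1⟩; ⟨0, 0⟩, ⟨1, 1⟩, ⟨2, 2⟩; ⟨0, 1⟩, ⟨0, 0⟩, ⟨0, 0⟩],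
      !![⟨2, 1⟩, ⟨0, 2⟩, ⟨0, 1⟩; ⟨1, 2⟩, ⟨0, 2⟩, ⟨0, 1⟩; ⟨0, 0⟩, ⟨2, 1⟩, ⟨2, 1⟩],
      !![⟨2, 0⟩, ⟨2, 2⟩, ⟨0, 1⟩; ⟨2, 0⟩, ⟨0, 2⟩, ⟨1, 1⟩; ⟨2, 2⟩, ⟨1, 0⟩, ⟨2, 0⟩],
      !![⟨2, 0⟩, ⟨2, 0⟩, ⟨2, 1⟩; ⟨2, 1⟩, ⟨0, 1⟩, ⟨1, 0⟩; ⟨0, 2⟩, ⟨1, 2⟩, ⟨2, 0⟩],
      !![⟨2, 2⟩, ⟨1, 1⟩, ⟨0, 0⟩; ⟨0, 1⟩, ⟨0, 1⟩, ⟨2, 2⟩; ⟨0, 2⟩, ⟨0, 2⟩, ⟨2, 2⟩],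
      !![⟨0, 0⟩, ⟨0, 0⟩, ⟨0, 2⟩; ⟨1, 2⟩, ⟨1, 2⟩, ⟨0, 0⟩; ⟨1, 2⟩, ⟨2, 1⟩, ⟨0, 0⟩]],
    ![!![⟨1, 0⟩, ⟨0, 0⟩, ⟨0, 0⟩; ⟨0, 0⟩, ⟨1, 0⟩, ⟨0, 0⟩; ⟨0, 0⟩, ⟨0, 0⟩, ⟨1, 0⟩],
      !![⟨0, 0⟩, ⟨1, 1⟩, ⟨1, 1⟩; ⟨0, 0⟩, ⟨1, 1⟩, ⟨2, 2⟩; ⟨0, 1⟩, ⟨0, 0⟩, ⟨0, 0⟩],
      !![⟨2, 1⟩, ⟨0, 2⟩, ⟨0, 1⟩; ⟨1, 2⟩, ⟨0, 2⟩, ⟨0, 1⟩; ⟨0, 0⟩, ⟨2, 1⟩, ⟨2, 1⟩],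
      !![⟨2, 0⟩, ⟨2, 2⟩, ⟨0, 1⟩; ⟨2, 0⟩, ⟨0, 2⟩, ⟨1, 1⟩; ⟨2, 2⟩, ⟨1, 0⟩, ⟨2, 0⟩],
      !![⟨2, 0⟩, ⟨2, 0⟩, ⟨2, 1⟩; ⟨2, 1⟩, ⟨0, 1⟩, ⟨1, 0⟩; ⟨0, 2⟩, ⟨1, 2⟩, ⟨2, 0⟩],
      !![⟨2, 2⟩, ⟨1, 1⟩, ⟨0, 0⟩; ⟨0, 1⟩, ⟨0, 1⟩, ⟨2, 2⟩; ⟨0, 2⟩, ⟨0, 2⟩, ⟨2, 2⟩],
      !![⟨0, 0⟩, ⟨0, 0⟩, ⟨0, 2⟩; ⟨1, 2⟩, ⟨1, 2⟩, ⟨0, 0⟩; ⟨1, 2⟩, ⟨2, 1⟩, ⟨0, 0⟩]],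
    ![!![⟨0, 2⟩, ⟨1, 0⟩, ⟨1, 1⟩; ⟨2, 2⟩, ⟨0, 2⟩, ⟨0, 2⟩; ⟨2, 0⟩, ⟨1, 2⟩, ⟨0, 2⟩],
      !![⟨2, 1⟩, ⟨2, 0⟩, ⟨0, 1⟩; ⟨1, 0⟩, ⟨1, 0⟩, ⟨2, 2⟩; ⟨1, 0⟩, ⟨1, 2⟩, ⟨0, 2⟩],
      !![⟨2, 0⟩, ⟨0, 2⟩, ⟨2, 1⟩; ⟨1, 2⟩, ⟨2, 2⟩, ⟨0, 0⟩; ⟨1, 0⟩, ⟨0, 1⟩, ⟨2, 1⟩],
      !![⟨2, 2⟩, ⟨0, 1⟩, ⟨1, 0⟩; ⟨0, 0⟩, ⟨2, 1⟩, ⟨2, 2⟩; ⟨2, 2⟩, ⟨0, 2⟩, ⟨2, 0⟩],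
      !![⟨0, 1⟩, ⟨2, 2⟩, ⟨1, 0⟩; ⟨1, 2⟩, ⟨1, 0⟩, ⟨2, 0⟩; ⟨0, 2⟩, ⟨1, 0⟩, ⟨2, 2⟩],
      !![⟨0, 1⟩, ⟨2, 2⟩, ⟨2, 0⟩; ⟨0, 2⟩, ⟨0, 1⟩, ⟨1, 2⟩; ⟨1, 2⟩, ⟨2, 0⟩, ⟨0, 1⟩],
      !![⟨0, 2⟩, ⟨2, 2⟩, ⟨2, 0⟩; ⟨1, 1⟩, ⟨0, 0⟩, ⟨2, 1⟩; ⟨2, 0⟩, ⟨1, 2⟩, ⟨0, 1⟩]],
    ![!![⟨0, 1⟩, ⟨2, 1⟩, ⟨2, 0⟩; ⟨1, 0⟩, ⟨0, 1⟩, ⟨1, 1⟩; ⟨1, 2⟩, ⟨0, 1⟩, ⟨0, 1⟩],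
      !![⟨0, 2⟩, ⟨0, 1⟩, ⟨1, 1⟩; ⟨2, 1⟩, ⟨0, 2⟩, ⟨2, 0⟩; ⟨2, 0⟩, ⟨1, 1⟩, ⟨0, 2⟩],
      !![⟨2, 1⟩, ⟨0, 0⟩, ⟨2, 1⟩; ⟨0, 2⟩, ⟨2, 2⟩, ⟨0, 1⟩; ⟨1, 0⟩, ⟨2, 1⟩, ⟨2, 0⟩],
      !![⟨2, 2⟩, ⟨1, 0⟩, ⟨1, 0⟩; ⟨2, 0⟩, ⟨1, 0⟩, ⟨1, 1⟩; ⟨0, 2⟩, ⟨2, 1⟩, ⟨0, 1⟩],
      !![⟨0, 1⟩, ⟨1, 2⟩, ⟨2, 0⟩; ⟨2, 1⟩, ⟨0, 0⟩, ⟨1, 1⟩; ⟨2, 0⟩, ⟨2, 2⟩, ⟨0, 2⟩],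
      !![⟨0, 2⟩, ⟨1, 1⟩, ⟨0, 1⟩; ⟨2, 1⟩, ⟨1, 0⟩, ⟨1, 0⟩; ⟨1, 0⟩, ⟨2, 0⟩, ⟨2, 1⟩],
      !![⟨2, 0⟩, ⟨1, 1⟩, ⟨1, 0⟩; ⟨0, 1⟩, ⟨2, 1⟩, ⟨0, 2⟩; ⟨2, 2⟩, ⟨0, 0⟩, ⟨2, 2⟩]],
    ![!![⟨0, 1⟩, ⟨2, 1⟩, ⟨2, 0⟩; ⟨1, 0⟩, ⟨0, 1⟩, ⟨1, 1⟩; ⟨1, 2⟩, ⟨0, 1⟩, ⟨0, 1⟩],
      !![⟨0, 2⟩, ⟨0, 1⟩, ⟨1, 1⟩; ⟨2, 1⟩, ⟨0, 2⟩, ⟨2, 0⟩; ⟨2, 0⟩, ⟨1, 1⟩, ⟨0, 2⟩],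
      !![⟨2, 1⟩, ⟨0, 0⟩, ⟨2, 1⟩; ⟨0, 2⟩, ⟨2, 2⟩, ⟨0, 1⟩; ⟨1, 0⟩, ⟨2, 1⟩, ⟨2, 0⟩],
      !![⟨2, 2⟩, ⟨1, 0⟩, ⟨1, 0⟩; ⟨2, 0⟩, ⟨1, 0⟩, ⟨1, 1⟩; ⟨0, 2⟩, ⟨2, 1⟩, ⟨0, 1⟩],
      !![⟨0, 1⟩, ⟨1, 2⟩, ⟨2, 0⟩; ⟨2, 1⟩, ⟨0, 0⟩, ⟨1, 1⟩; ⟨2, 0⟩, ⟨2, 2⟩, ⟨0, 2⟩],
      !![⟨0, 2⟩, ⟨1, 1⟩, ⟨0, 1⟩; ⟨2, 1⟩, ⟨1, 0⟩, ⟨1, 0⟩; ⟨1, 0⟩, ⟨2, 0⟩, ⟨2, 1⟩],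
      !![⟨2, 0⟩, ⟨1, 1⟩, ⟨1, 0⟩; ⟨0, 1⟩, ⟨2, 1⟩, ⟨0, 2⟩; ⟨2, 2⟩, ⟨0, 0⟩, ⟨2, 2⟩]],
    ![!![⟨0, 2⟩, ⟨1, 0⟩, ⟨1, 1⟩; ⟨2, 2⟩, ⟨0, 2⟩, ⟨0, 2⟩; ⟨2, 0⟩, ⟨1, 2⟩, ⟨0, 2⟩],
      !![⟨2, 1⟩, ⟨2, 0⟩, ⟨0, 1⟩; ⟨1, 0⟩, ⟨1, 0⟩, ⟨2, 2⟩; ⟨1, 0⟩, ⟨1, 2⟩, ⟨0, 2⟩],
      !![⟨2, 0⟩, ⟨0, 2⟩, ⟨2, 1⟩; ⟨1, 2⟩, ⟨2, 2⟩, ⟨0, 0⟩; ⟨1, 0⟩, ⟨0, 1⟩, ⟨2, 1⟩],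
      !![⟨2, 2⟩, ⟨0, 1⟩, ⟨1, 0⟩; ⟨0, 0⟩, ⟨2, 1⟩, ⟨2, 2⟩; ⟨2, 2⟩, ⟨0, 2⟩, ⟨2, 0⟩],
      !![⟨0, 1⟩, ⟨2, 2⟩, ⟨1, 0⟩; ⟨1, 2⟩, ⟨1, 0⟩, ⟨2, 0⟩; ⟨0, 2⟩, ⟨1, 0⟩, ⟨2, 2⟩],
      !![⟨0, 1⟩, ⟨2, 2⟩, ⟨2, 0⟩; ⟨0, 2⟩, ⟨0, 1⟩, ⟨1, 2⟩; ⟨1, 2⟩, ⟨2, 0⟩, ⟨0, 1⟩],
      !![⟨0, 2⟩, ⟨2, 2⟩, ⟨2, 0⟩; ⟨1, 1⟩, ⟨0, 0⟩, ⟨2, 1⟩; ⟨2, 0⟩, ⟨1, 2⟩, ⟨0, 1⟩]],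
    ![!![⟨1, 0⟩, ⟨0, 0⟩, ⟨0, 0⟩; ⟨0, 0⟩, ⟨1, 0⟩, ⟨0, 0⟩; ⟨0, 0⟩, ⟨0, 0⟩, ⟨1, 0⟩],
      !![⟨0, 0⟩, ⟨1, 1⟩, ⟨1, 1⟩; ⟨0, 0⟩, ⟨1, 1⟩, ⟨2, 2⟩; ⟨0, 1⟩, ⟨0, 0⟩, ⟨0, 0⟩],
      !![⟨2, 1⟩, ⟨0, 2⟩, ⟨0, 1⟩; ⟨1, 2⟩, ⟨0, 2⟩, ⟨0, 1⟩; ⟨0, 0⟩, ⟨2, 1⟩, ⟨2, 1⟩],
      !![⟨2, 0⟩, ⟨2, 2⟩, ⟨0, 1⟩; ⟨2, 0⟩, ⟨0, 2⟩, ⟨1, 1⟩; ⟨2, 2⟩, ⟨1, 0⟩, ⟨2, 0⟩],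
      !![⟨2, 0⟩, ⟨2, 0⟩, ⟨2, 1⟩; ⟨2, 1⟩, ⟨0, 1⟩, ⟨1, 0⟩; ⟨0, 2⟩, ⟨1, 2⟩, ⟨2, 0⟩],
      !![⟨2, 2⟩, ⟨1, 1⟩, ⟨0, 0⟩; ⟨0, 1⟩, ⟨0, 1⟩, ⟨2, 2⟩; ⟨0, 2⟩, ⟨0, 2⟩, ⟨2, 2⟩],
      !![⟨0, 0⟩, ⟨0, 0⟩, ⟨0, 2⟩; ⟨1, 2⟩, ⟨1, 2⟩, ⟨0, 0⟩; ⟨1, 2⟩, ⟨2, 1⟩, ⟨0, 0⟩]]]

/-- the explicit map `SL₂(7) → M₃(𝔽₉)` given by the Bruhat normal form -/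
def phi (M : Matrix (Fin 2) (Fin 2) (ZMod 7)) : Matrix (Fin 3) (Fin 3) F9 :=
  if M 1 0 = 0 then HU (M 0 0) (M 0 1 * (M 0 0) ^ 5)
  else UW (M 0 0 * (M 1 0) ^ 5) * HU (M 1 0) (M 1 1 * (M 1 0) ^ 5)

set_option maxRecDepth 100000 in
theorem phi_one : phi 1 = 1 := by decide +kernel

set_option maxRecDepth 100000 in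
theorem phi_neg_one : phi (-1) = 1 := by decide +kernel

set_option maxRecDepth 100000 in
theorem phi_noncomm : phi (1 + Matrix.single 0 1 1) * phi (1 + Matrix.single 1 0 1) ≠
    phi (1 + Matrix.single 1 0 1) * phi (1 + Matrix.single 0 1 1) := by decide +kernel

set_option maxRecDepth 1000000 in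
set_option maxHeartbeats 0 in
theorem phi_mul_gen : ∀ (i j : Fin 2), i ≠ j → ∀ (M : Matrix (Fin 2) (Fin 2) (ZMod 7)), M.det = 1 →
    phi (M * (1 + Matrix.single i j 1)) = phi M * phi (1 + Matrix.single i j 1) := by
  decide +kernel

set_option maxRecDepth 1000000 in
theorem phi_unitary_gen : ∀ (i j : Fin 2), i ≠ j →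
    (phi (1 + Matrix.single i j 1))ᵀ * (phi (1 + Matrix.single i j 1)).map F9.frob = 1 := by
  decide +kernel

end U33
end Cfsg.Agent.Lib.Helper24
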