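import Mathlib
import Cfsg.Prelude.Def_Characters

set_option autoImplicit false

namespace Cfsg.Agent.Lib.Helper24

open Cfsg

/-- the one-dimensional representation attached to a homomorphism into `ℂˣ` -/
noncomputable def linRepH {G : Type*} [Group G] (φ : G →* ℂˣ) :
    Representation ℂ G (Fin 1 → ℂ) where
  toFun g := ((φ g : ℂ)) • LinearMap.id
  map_one' := by simp; rfl
  map_mul' x y := by
    ext v i
    simp only [map_mul, Units.val_mul, LinearMap.coe_comp, LinearMap.coe_single,
      Function.comp_apply, LinearMap.smul_apply, LinearMap.id_coe, id_eq, Pi.smul_apply,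
      smul_eq_mul, Module.End.mul_apply]
    ring

theorem linRepH_character {G : Type*} [Group G] (φ : G →* ℂˣ) (g : G) :
    (linRepH φ).character g = (φ g : ℂ) := by
  unfold Representation.character linRepH
  simp

/-- a homomorphism into `ℂˣ` is a character (of degree one) -/
theorem isCharacter_of_hom {G : Type*} [Group G] (φ : G →* ℂˣ) :
    IsCharacter G (fun g => (φ g : ℂ)) :=
  ⟨1, linRepH φ, funext (linRepH_character φ)⟩

/-- the (0,0) entry of a one by one representation as a monoid hom -/
noncomputable def entryHomH {G : Type*} [Group G] (ρ : Representation ℂ G (Fin 1 → ℂ)) :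
    G →* ℂ where
  toFun g := LinearMap.toMatrix' (ρ g) 0 0
  map_one' := by simp
  map_mul' x y := by
    rw [map_mul, Module.End.mul_eq_comp, LinearMap.toMatrix'_comp, Matrix.mul_apply]
    simp

theorem entryHomH_eq_character {G : Type*} [Group G] (ρ : Representation ℂ G (Fin 1 → ℂ))
    (g : G) : entryHomH ρ g = ρ.character g := by
  unfold Representation.character entryHomH
  rw [LinearMap.trace_eq_matrix_trace ℂ (Pi.basisFun ℂ (Fin 1))]
  simp [Matrix.trace, LinearMap.toMatrix_eq_toMatrix']

/-- a character of degree one is given by a homomorphism into `ℂˣ` -/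
theorem exists_hom_of_isCharacter {G : Type*} [Group G] {χ : G → ℂ} (h : IsCharacter G χ)
    (h1 : χ 1 = 1) : ∃ φ : G →* ℂˣ, χ = fun g => (φ g : ℂ) := by
  obtain ⟨n, ρ, rfl⟩ := h
  have hn : n = 1 := by
    have := Representation.char_one ρ
    rw [this] at h1
    simpa using h1
  subst hn
  refine ⟨(entryHomH ρ).toHomUnits, ?_⟩
  funext g
  rw [MonoidHom.coe_toHomUnits, entryHomH_eq_character]

/-- homomorphisms into `ℂˣ` as complex-valued functions, as a monoid hom into the pointwise
monoid of functions -/
noncomputable def homToFun (G : Type*) [Group G] : (G →* ℂˣ) →* (G → ℂ) where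
  toFun φ := fun g => (φ g : ℂ)
  map_one' := by funext g; simp
  map_mul' φ ψ := by funext g; simp

theorem homToFun_injective (G : Type*) [Group G] : Function.Injective (homToFun G) := by
  intro φ ψ h
  ext g
  exact congrFun h g

theorem orderOf_homFun {G : Type*} [Group G] (φ : G →* ℂˣ) :
    orderOf (fun g => (φ g : ℂ)) = orderOf φ :=
  orderOf_injective (homToFun G) (homToFun_injective G) φ

end Cfsg.Agent.Lib.Helper24
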