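import Mathlib
import Cfsg.Agent.S0116
import Cfsg.Agent.Lib.Helper2.PGroupFrattini
import Cfsg.Agent.Lib.Helper24.OmegaTwo
import Cfsg.Agent.Lib.Helper29.PResidualSylow
import Cfsg.Agent.Lib.Helper29.FusionHyp
import Cfsg.Agent.Lib.Helper29.FusionAut
import Cfsg.Agent.Lib.Helper29.GroupFusion

/-!
The hyperfocal subgroup theorem for finite groups (Puig):
`S ∩ O^p(G)` is generated by the `x⁻¹ (h x h⁻¹)` with `x ∈ Q ≤ S`, `h ∈ N_G(Q)` a `p'`-element.
-/

set_option autoImplicit false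

namespace Cfsg.Agent.Lib.Helper24

open Subgroup Cfsg Cfsg.Agent.S0116
open scoped Pointwise

section HyperfocalGroup

variable {G : Type*} [Group G]

/-- The elementary hyperfocal subgroup of `G` on `S`: generated by the `x⁻¹ (h x h⁻¹)` with
`x ∈ Q ≤ S`, `h ∈ N_G(Q)` of order prime to `p`. -/
def hypG (p : ℕ) (S : Subgroup G) : Subgroup G :=
  closure {y : G | ∃ (Q : Subgroup G) (h x : G), Q ≤ S ∧ h ∈ normalizer (Q : Set G) ∧
    (orderOf h).Coprime p ∧ x ∈ Q ∧ y = x⁻¹ * (h * x * h⁻¹)}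

theorem hypG_le (p : ℕ) (S : Subgroup G) : hypG p S ≤ S := by
  unfold hypG
  rw [closure_le]
  rintro _ ⟨Q, h, x, hQS, hh, -, hx, rfl⟩
  exact mul_mem (inv_mem (hQS hx)) (hQS ((mem_normalizer_iff.mp hh x).mp hx))

theorem hypG_mono (p : ℕ) {S T : Subgroup G} (h : S ≤ T) : hypG p S ≤ hypG p T := by
  unfold hypG
  apply Subgroup.closure_mono
  rintro _ ⟨Q, h', x, hQS, hh, hc, hx, rfl⟩
  exact ⟨Q, h', x, hQS.trans h, hh, hc, hx, rfl⟩

variable [Finite G] {p : ℕ} [Fact p.Prime]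

/-- Alperin's fusion theorem in focal form: `P ∩ G'` lies in any subgroup containing the
commutators `[y, x]`, `y ∈ P ∩ Q`, `x ∈ N_G(P ∩ Q)`, `Q` a tame Sylow. -/
theorem focal_le_of_tame_step (P : Sylow p G) (R : Subgroup G)
    (step : ∀ Q : Sylow p G, Tame P Q →
      ∀ x ∈ normalizer ((((P : Subgroup G) ⊓ (Q : Subgroup G)) : Subgroup G) : Set G),
      ∀ y ∈ (P : Subgroup G) ⊓ (Q : Subgroup G), y⁻¹ * x⁻¹ * y * x ∈ R) :
    (P : Subgroup G) ⊓ commutator G ≤ R := by
  have chain : ∀ (l : List (Sylow p G × G)) (B : Subgroup G),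
      IsChain P (B : Set G) l → ∀ y ∈ B, y⁻¹ * ((lprod l)⁻¹ * y * lprod l) ∈ R := by
    intro l
    induction l with
    | nil =>
      intro B _ y _
      rw [lprod_nil]
      have : y⁻¹ * ((1 : G)⁻¹ * y * 1) = 1 := by group
      rw [this]; exact one_mem _
    | cons qx l ihl =>
      intro B hch y hyB
      obtain ⟨hT, hxN, hBD, hch'⟩ := hch
      rw [lprod_cons]
      have hcs : cs qx.2 (B : Set G) =
          ((B.map (MulAut.conj qx.2⁻¹).toMonoidHom : Subgroup G) : Set G) := by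
        ext z
        rw [mem_cs]
        constructor
        · intro hz
          exact ⟨qx.2 * z * qx.2⁻¹, hz, by simp [MulAut.conj_apply]; group⟩
        · rintro ⟨b, hb, rfl⟩
          have : qx.2 * ((MulAut.conj qx.2⁻¹).toMonoidHom b) * qx.2⁻¹ = b := by
            simp [MulAut.conj_apply]; group
          rw [this]; exact hb
      rw [hcs] at hch'
      have hy' : qx.2⁻¹ * y * qx.2 ∈ (B.map (MulAut.conj qx.2⁻¹).toMonoidHom : Subgroup G) :=
        ⟨y, hyB, by simp [MulAut.conj_apply]⟩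
      have h2 := ihl _ hch' _ hy'
      have hBD' : B ≤ (P : Subgroup G) ⊓ (qx.1 : Subgroup G) := hBD
      have h1 := step qx.1 hT qx.2 hxN y (hBD' hyB)
      have e : y⁻¹ * ((qx.2 * lprod l)⁻¹ * y * (qx.2 * lprod l)) =
          (y⁻¹ * qx.2⁻¹ * y * qx.2) * ((qx.2⁻¹ * y * qx.2)⁻¹ *
            ((lprod l)⁻¹ * (qx.2⁻¹ * y * qx.2) * lprod l)) := by group
      rw [e]; exact mul_mem h1 h2
  rw [inf_comm, Subgroup.commutator_inf_eq_focalSubgroup P, Subgroup.focalSubgroup_def,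
    Subgroup.closure_le]
  rintro _ ⟨hgP, x, hxP, u, rfl⟩
  rw [commutatorElement_def] at hgP ⊢
  have huP : u * x⁻¹ * u⁻¹ ∈ (P : Subgroup G) := by
    have e : u * x⁻¹ * u⁻¹ = x⁻¹ * (x * u * x⁻¹ * u⁻¹) := by group
    rw [e]; exact mul_mem (inv_mem hxP) hgP
  have hcs : cs u⁻¹ ((Subgroup.zpowers x⁻¹ : Subgroup G) : Set G) ⊆
      ((P : Subgroup G) : Set G) := by
    intro z hz
    rw [mem_cs] at hz
    obtain ⟨i, hi⟩ := Subgroup.mem_zpowers_iff.mp hz
    have e : z = (u * x⁻¹ * u⁻¹) ^ i := by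
      have h1 : (u * x⁻¹ * u⁻¹) ^ i = u * x⁻¹ ^ i * u⁻¹ := by
        rw [conj_zpow]
      rw [h1, hi]; group
    rw [e]
    exact zpow_mem huP i
  have hA : Subgroup.zpowers x⁻¹ ≤ (P : Subgroup G) :=
    Subgroup.zpowers_le.mpr (inv_mem hxP)
  obtain ⟨l, hl, hlg⟩ := exists_chain_set P ((Subgroup.zpowers x⁻¹ : Subgroup G) : Set G) u⁻¹ hA hcs
  have := chain l _ hl x⁻¹ (Subgroup.mem_zpowers _)
  rw [hlg] at this
  have e : x⁻¹⁻¹ * (u⁻¹⁻¹ * x⁻¹ * u⁻¹) = x * u * x⁻¹ * u⁻¹ := by group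
  rw [e] at this
  exact this

/-- `N = O^p(N) T` for a Sylow `p`-subgroup `T` of `N`, in elementwise form. -/
theorem exists_pprime_mul_sylow (N T : Subgroup G) (hT : IsPGroup p T)
    (hsyl : ¬ p ∣ T.relIndex N) (x : G) (hx : x ∈ N) :
    ∃ m ∈ closure {m : G | m ∈ N ∧ (orderOf m).Coprime p}, ∃ t ∈ T, x = m * t := by
  have hT' : IsPGroup p (T.subgroupOf N) := hT.comap_subtype
  have hidx : ¬ p ∣ (T.subgroupOf N).index := hsyl
  obtain ⟨b, hb, s, hs, hbs⟩ := Cfsg.Agent.Lib.Helper29.exists_mul_pResidual_sylow p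
    (hT'.toSylow hidx) (⟨x, hx⟩ : N)
  refine ⟨b.1, ?_, s.1, ?_, ?_⟩
  · have hmap : (pResidual p N).map N.subtype ≤
        closure {m : G | m ∈ N ∧ (orderOf m).Coprime p} := by
      unfold pResidual
      rw [MonoidHom.map_closure, closure_le]
      rintro _ ⟨g, hg, rfl⟩
      apply Subgroup.subset_closure
      refine ⟨g.2, ?_⟩
      have : orderOf (N.subtype g) = orderOf g := orderOf_injective N.subtype N.subtype_injective g
      rw [this]; exact hg
    exact hmap ⟨b, hb, rfl⟩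
  · have : s ∈ T.subgroupOf N := hs
    exact Subgroup.mem_subgroupOf.mp this
  · have := congrArg Subtype.val hbs
    simpa using this

theorem tame_step_hyp (P Q : Sylow p G) (hT : Tame P Q) (x : G)
    (hxN : x ∈ normalizer ((((P : Subgroup G) ⊓ (Q : Subgroup G)) : Subgroup G) : Set G))
    (y : G) (hyD : y ∈ (P : Subgroup G) ⊓ (Q : Subgroup G)) :
    y⁻¹ * x⁻¹ * y * x ∈ hypG p (P : Subgroup G) ⊔ ⁅(P : Subgroup G), (P : Subgroup G)⁆ := by
  obtain ⟨D, hD⟩ : ∃ D : Subgroup G, D = (P : Subgroup G) ⊓ (Q : Subgroup G) := ⟨_, rfl⟩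
  have hT1 := hT.1
  rw [← hD] at hxN hyD hT1
  have hDP : D ≤ (P : Subgroup G) := hD ▸ inf_le_left
  obtain ⟨m, hmM, t, ht, hxmt⟩ := exists_pprime_mul_sylow
    (normalizer (D : Set G)) ((P : Subgroup G) ⊓ normalizer (D : Set G))
    (P.isPGroup'.to_le inf_le_left) hT1 x hxN
  obtain ⟨htP, htN⟩ := Subgroup.mem_inf.mp ht
  obtain ⟨T', hT'def⟩ : ∃ T' : Subgroup G, T' = closure {t : G | ∃ y ∈ D,
      ∃ m ∈ normalizer (D : Set G), (orderOf m).Coprime p ∧
        t = y⁻¹ * m⁻¹ * y * m} := ⟨_, rfl⟩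
  have hT'R : T' ≤ hypG p (P : Subgroup G) := by
    rw [hT'def, closure_le]
    rintro _ ⟨y, hy, m, hm, hmp, rfl⟩
    unfold hypG
    apply Subgroup.subset_closure
    refine ⟨D, m⁻¹, y, hDP, inv_mem hm, by rwa [orderOf_inv], hy, by group⟩
  have hT'N : ∀ n ∈ normalizer (D : Set G), ∀ t ∈ T', n * t * n⁻¹ ∈ T' := by
    intro n hn
    rw [hT'def]
    apply conj_mem_closure
    rintro _ ⟨y, hy, m, hm, hj, rfl⟩
    refine ⟨n * y * n⁻¹, (mem_normalizer_iff.mp hn y).mp hy, n * m * n⁻¹,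
      mul_mem (mul_mem hn hm) (inv_mem hn), ?_, by group⟩
    have := orderOf_injective (MulAut.conj n).toMonoidHom (MulAut.conj n).injective m
    have e : orderOf (n * m * n⁻¹) = orderOf m := by
      simpa [MulAut.conj_apply] using this
    rw [e]; exact hj
  have hM : ∀ m ∈ closure {m : G | m ∈ normalizer (D : Set G) ∧ (orderOf m).Coprime p},
      (m ∈ normalizer (D : Set G) ∧ ∀ y ∈ D, y⁻¹ * m⁻¹ * y * m ∈ T') := by
    intro m hm
    induction hm using Subgroup.closure_induction with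
    | mem m hm =>
      refine ⟨hm.1, fun y hy => ?_⟩
      rw [hT'def]
      exact Subgroup.subset_closure ⟨y, hy, m, hm.1, hm.2, rfl⟩
    | one =>
      refine ⟨one_mem _, fun y hy => ?_⟩
      have : y⁻¹ * (1 : G)⁻¹ * y * 1 = 1 := by group
      rw [this]; exact one_mem _
    | mul m₁ m₂ _ _ h₁ h₂ =>
      refine ⟨mul_mem h₁.1 h₂.1, fun y hy => ?_⟩
      have e : y⁻¹ * (m₁ * m₂)⁻¹ * y * (m₁ * m₂) =
          (y⁻¹ * m₂⁻¹ * y * m₂) * (m₂⁻¹ * (y⁻¹ * m₁⁻¹ * y * m₁) * m₂⁻¹⁻¹) := by group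
      rw [e]
      exact mul_mem (h₂.2 y hy) (hT'N _ (inv_mem h₂.1) _ (h₁.2 y hy))
    | inv m _ h =>
      refine ⟨inv_mem h.1, fun y hy => ?_⟩
      have hz : m * y * m⁻¹ ∈ D := (mem_normalizer_iff.mp h.1 y).mp hy
      have e : y⁻¹ * m⁻¹⁻¹ * y * m⁻¹ =
          ((m * y * m⁻¹)⁻¹ * m⁻¹ * (m * y * m⁻¹) * m)⁻¹ := by group
      rw [e]
      exact inv_mem (h.2 _ hz)
  have hf2 : t⁻¹ * (y⁻¹ * m⁻¹ * y * m) * t ∈ T' := by
    have := hT'N t⁻¹ (inv_mem htN) _ ((hM m hmM).2 y hyD)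
    rwa [inv_inv] at this
  have hf1 : y⁻¹ * t⁻¹ * y * t ∈ ⁅(P : Subgroup G), (P : Subgroup G)⁆ := by
    have := Subgroup.commutator_mem_commutator (inv_mem (hDP hyD)) (inv_mem htP)
    rwa [commutatorElement_def, inv_inv, inv_inv] at this
  rw [hxmt]
  have e : y⁻¹ * (m * t)⁻¹ * y * (m * t) =
      (y⁻¹ * t⁻¹ * y * t) * (t⁻¹ * (y⁻¹ * m⁻¹ * y * m) * t) := by group
  rw [e]
  exact mul_mem (Subgroup.mem_sup_right hf1) (Subgroup.mem_sup_left (hT'R hf2))

theorem focal_le_hypG_sup (P : Sylow p G) :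
    (P : Subgroup G) ⊓ commutator G ≤
      hypG p (P : Subgroup G) ⊔ ⁅(P : Subgroup G), (P : Subgroup G)⁆ :=
  focal_le_of_tame_step P _ fun Q hT x hx y hy => tame_step_hyp P Q hT x hx y hy

/-- If `G` is generated by `p'`-elements then its Sylow `p`-subgroups lie in `G'`. -/
theorem sylow_le_commutator_of_pResidual_eq_top (h : pResidual p G = ⊤) (P : Sylow p G) :
    (P : Subgroup G) ≤ commutator G := by
  have hp : p.Prime := Fact.out
  have key : ∀ g ∈ pResidual p G, (orderOf (Abelianization.of g)).Coprime p := by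
    intro g hg
    unfold pResidual at hg
    induction hg using Subgroup.closure_induction with
    | mem g hg =>
      exact Nat.Coprime.coprime_dvd_left (orderOf_map_dvd Abelianization.of g) hg
    | one => rw [map_one, orderOf_one]; exact Nat.coprime_one_left p
    | mul a b _ _ ha hb =>
      rw [map_mul]
      exact Nat.Coprime.coprime_dvd_left
        (dvd_trans (Commute.orderOf_mul_dvd_lcm (Commute.all _ _)) (Nat.lcm_dvd_mul _ _))
        (Nat.Coprime.mul_left ha hb)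
    | inv a _ ha => rwa [map_inv, orderOf_inv]
  intro s hs
  have h1 := key s (h ▸ Subgroup.mem_top s)
  obtain ⟨k, hk⟩ := P.isPGroup' ⟨s, hs⟩
  have hk' : s ^ p ^ k = 1 := by
    have := congrArg Subtype.val hk
    simpa using this
  have h2 : orderOf (Abelianization.of s) ∣ p ^ k := by
    apply orderOf_dvd_of_pow_eq_one
    rw [← map_pow, hk', map_one]
  have h3 : orderOf (Abelianization.of s) = 1 :=
    Nat.Coprime.eq_one_of_dvd (Nat.Coprime.pow_right k h1) h2
  rw [orderOf_eq_one_iff] at h3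
  rw [← Abelianization.ker_of]
  exact h3

/-- A subgroup of a finite `p`-group that generates it together with the derived subgroup is
everything. -/
theorem eq_of_sup_commutator_eq (S H : Subgroup G) (hS : IsPGroup p S) (hHS : H ≤ S)
    (h : S ≤ H ⊔ ⁅S, S⁆) : H = S := by
  have h1 : H.subgroupOf S ⊔ frattini S = ⊤ := by
    rw [eq_top_iff]
    intro x _
    have hx : (x : G) ∈ H ⊔ ⁅S, S⁆ := h x.2
    have h2 : H ⊔ ⁅S, S⁆ = (H.subgroupOf S ⊔ commutator S).map S.subtype := by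
      rw [Subgroup.map_sup, Subgroup.map_subgroupOf_eq_of_le hHS, Subgroup.map_subtype_commutator]
    rw [h2] at hx
    obtain ⟨z, hz, hzx⟩ := hx
    have : z = x := Subtype.ext hzx
    rw [← this]
    exact (sup_le_sup_left (Cfsg.Agent.Lib.Helper2.commutator_le_frattini_of_isPGroup hS) _) hz
  have h3 := frattini_nongenerating h1
  apply le_antisymm hHS
  intro s hs
  have : (⟨s, hs⟩ : S) ∈ H.subgroupOf S := h3 ▸ Subgroup.mem_top _
  exact Subgroup.mem_subgroupOf.mp this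

theorem hypG_eq_of_pResidual_eq_top (h : pResidual p G = ⊤) (P : Sylow p G) :
    hypG p (P : Subgroup G) = P := by
  apply eq_of_sup_commutator_eq (P : Subgroup G) _ P.isPGroup' (hypG_le p _)
  calc (P : Subgroup G) ≤ (P : Subgroup G) ⊓ commutator G :=
        le_inf le_rfl (sylow_le_commutator_of_pResidual_eq_top h P)
    _ ≤ _ := focal_le_hypG_sup P

omit [Finite G] [Fact p.Prime] in
theorem map_hypG_le (N : Subgroup G) (T : Subgroup N) :
    (hypG p T).map N.subtype ≤ hypG p (T.map N.subtype) := by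
  unfold hypG
  rw [MonoidHom.map_closure, closure_le]
  rintro _ ⟨_, ⟨Q, h, x, hQT, hh, hc, hx, rfl⟩, rfl⟩
  apply Subgroup.subset_closure
  refine ⟨Q.map N.subtype, h.1, x.1, Subgroup.map_mono hQT, ?_, ?_, ⟨x, hx, rfl⟩, ?_⟩
  · exact Subgroup.le_normalizer_map N.subtype ⟨h, hh, rfl⟩
  · have : orderOf (N.subtype h) = orderOf h := orderOf_injective N.subtype N.subtype_injective h
    rw [← this] at hc; exact hc
  · simp

omit [Finite G] [Fact p.Prime] in
theorem pResidual_pResidual_eq_top : pResidual p (pResidual p G) = ⊤ := by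
  have h1 : pResidual p G ≤ (pResidual p (pResidual p G)).map (pResidual p G).subtype := by
    conv_lhs => unfold pResidual
    rw [closure_le]
    intro g hg
    have hgN : g ∈ pResidual p G := Subgroup.subset_closure hg
    refine ⟨⟨g, hgN⟩, Subgroup.subset_closure ?_, rfl⟩
    show (orderOf (⟨g, hgN⟩ : pResidual p G)).Coprime p
    have : orderOf ((pResidual p G).subtype ⟨g, hgN⟩) = orderOf (⟨g, hgN⟩ : pResidual p G) :=
      orderOf_injective _ (pResidual p G).subtype_injective _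
    rw [← this]; exact hg
  rw [eq_top_iff]
  intro z _
  obtain ⟨w, hw, hwz⟩ := h1 z.2
  have : w = z := Subtype.ext hwz
  rw [← this]; exact hw

/-- The hard half of the hyperfocal subgroup theorem. -/
theorem inf_pResidual_le_hypG (S : Sylow p G) :
    (S : Subgroup G) ⊓ pResidual p G ≤ hypG p (S : Subgroup G) := by
  have hN : (pResidual p G).Normal := Cfsg.Agent.Lib.Helper29.pResidual_normal' p
  obtain ⟨S₀⟩ : Nonempty (Sylow p (pResidual p G)) := inferInstance
  have hT : IsPGroup p ((S₀ : Subgroup (pResidual p G)).map (pResidual p G).subtype) :=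
    S₀.isPGroup'.map _
  obtain ⟨g, hg⟩ := Cfsg.Agent.Lib.Helper29.exists_cj_le_sylow S hT
  obtain ⟨S₁, hS₁def⟩ : ∃ S₁ : Sylow p (pResidual p G),
      S₁ = (MulAut.conjNormal g : MulAut (pResidual p G)) • S₀ := ⟨_, rfl⟩
  have hS₁ : ∀ w : pResidual p G, w ∈ S₁ → (w : G) ∈ (S : Subgroup G) := by
    intro w hw
    have hw' : w ∈ ((MulAut.conjNormal g : MulAut (pResidual p G)) • (S₀ : Subgroup (pResidual p G))) := by
      rw [hS₁def] at hw; exact hw
    rw [Subgroup.mem_pointwise_smul_iff_inv_smul_mem] at hw'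
    have hw := hw'
    apply hg
    refine ⟨g⁻¹ * w * g, ⟨_, hw, ?_⟩, ?_⟩
    · rw [MulAut.smul_def]
      exact MulAut.conjNormal_inv_apply g w
    · show g * (g⁻¹ * w * g) * g⁻¹ = w
      group
  have hmax : S₁.1 = (S : Subgroup G).subgroupOf (pResidual p G) := by
    symm
    apply S₁.is_maximal' S.isPGroup'.comap_subtype
    intro w hw
    exact Subgroup.mem_subgroupOf.mpr (hS₁ w hw)
  have hA := hypG_eq_of_pResidual_eq_top (pResidual_pResidual_eq_top (p := p) (G := G)) S₁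
  have hmapS : S₁.1.map (pResidual p G).subtype ≤ (S : Subgroup G) := by
    rintro _ ⟨w, hw, rfl⟩
    exact hS₁ w hw
  intro z hz
  obtain ⟨hzS, hzN⟩ := Subgroup.mem_inf.mp hz
  have h1 : (⟨z, hzN⟩ : pResidual p G) ∈ S₁.1 := by
    rw [hmax]; exact Subgroup.mem_subgroupOf.mpr hzS
  have h2 : (⟨z, hzN⟩ : pResidual p G) ∈ hypG p S₁.1 := by
    rw [show hypG p S₁.1 = S₁.1 from hA]; exact h1
  exact hypG_mono p hmapS (map_hypG_le _ _ ⟨_, h2, rfl⟩)

end HyperfocalGroup

section HyperfocalFusion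

variable {G : Type*} [Group G]

theorem hypG_le_hyperfocal (p : ℕ) (S : Subgroup G) :
    hypG p S ≤ (groupFusionSystem S).hyperfocalSubgroup p := by
  unfold hypG FusionSystem.hyperfocalSubgroup
  apply Subgroup.closure_mono
  rintro _ ⟨Q, h, x, hQS, hh, hc, hx, rfl⟩
  have hmem : Q.normalizerMonoidHom ⟨h, hh⟩ ∈ (groupFusionSystem S).autGroup Q := by
    apply Subgroup.subset_closure
    refine ⟨hQS, fun z => hQS (Q.normalizerMonoidHom ⟨h, hh⟩ z).2, h, fun z => rfl⟩
  refine ⟨Q, ⟨Q.normalizerMonoidHom ⟨h, hh⟩, hmem⟩, ⟨x, hx⟩, hQS, ?_, rfl⟩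
  apply Subgroup.subset_closure
  show (orderOf (⟨Q.normalizerMonoidHom ⟨h, hh⟩, hmem⟩ : (groupFusionSystem S).autGroup Q)).Coprime p
  have h1 : orderOf (⟨Q.normalizerMonoidHom ⟨h, hh⟩, hmem⟩ : (groupFusionSystem S).autGroup Q) =
      orderOf (Q.normalizerMonoidHom ⟨h, hh⟩) := Subgroup.orderOf_mk _ _
  have h2 : orderOf (Q.normalizerMonoidHom ⟨h, hh⟩) ∣
      orderOf (⟨h, hh⟩ : normalizer (Q : Set G)) := orderOf_map_dvd _ _
  have h3 : orderOf (⟨h, hh⟩ : normalizer (Q : Set G)) = orderOf h := Subgroup.orderOf_mk _ _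
  rw [h1]
  exact Nat.Coprime.coprime_dvd_left (h3 ▸ h2) hc

theorem pow_induced {P : Subgroup G} (β : MulAut P) (g : G)
    (h : ∀ x : P, ((β x : P) : G) = g * x * g⁻¹) (j : ℕ) :
    ∀ x : P, (((β ^ j) x : P) : G) = g ^ j * x * (g ^ j)⁻¹ := by
  induction j with
  | zero => intro x; simp
  | succ j ih =>
    intro x
    rw [pow_succ, MulAut.mul_apply, ih, h, pow_succ]
    group

theorem hyperfocal_le_pResidual [Finite G] (p : ℕ) [Fact p.Prime] (S : Subgroup G) :
    (groupFusionSystem S).hyperfocalSubgroup p ≤ pResidual p G := by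
  have hN : (pResidual p G).Normal := Cfsg.Agent.Lib.Helper29.pResidual_normal' p
  unfold FusionSystem.hyperfocalSubgroup
  rw [closure_le]
  rintro _ ⟨P, α, x, hPS, hα, rfl⟩
  -- every element of `O^p(Aut_G(P))` is induced by an element of `O^p(G)`
  have key : ∀ a ∈ pResidual p ((groupFusionSystem S).autGroup P),
      ∃ h ∈ pResidual p G, ∀ x : P, (((a : MulAut P) x : P) : G) = h * x * h⁻¹ := by
    intro a ha
    unfold pResidual at ha
    induction ha using Subgroup.closure_induction with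
    | mem a ha =>
      have hmem := (Cfsg.Agent.Lib.Helper29.mem_autGroup_iff (groupFusionSystem S) hPS).mp a.2
      obtain ⟨-, -, g, hg⟩ := hmem
      obtain ⟨k, hk⟩ := Cfsg.Agent.Lib.Helper29.exists_pow_mem_pResidual p g
      have hco : Nat.Coprime (p ^ k) (orderOf a) := (Nat.Coprime.pow_right k ha).symm
      obtain ⟨m, hm⟩ := exists_pow_eq_self_of_coprime hco
      refine ⟨(g ^ p ^ k) ^ m, pow_mem hk m, fun x => ?_⟩
      have h1 : (a : MulAut P) = ((a : MulAut P) ^ (p ^ k * m)) := by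
        have := congrArg Subtype.val hm
        rw [← pow_mul] at this
        simpa using this.symm
      rw [← pow_mul]
      conv_lhs => rw [h1]
      exact pow_induced _ g hg _ x
    | one => exact ⟨1, one_mem _, fun x => by simp⟩
    | mul a b _ _ ha hb =>
      obtain ⟨h₁, hh₁, e₁⟩ := ha
      obtain ⟨h₂, hh₂, e₂⟩ := hb
      refine ⟨h₁ * h₂, mul_mem hh₁ hh₂, fun x => ?_⟩
      rw [Subgroup.coe_mul, MulAut.mul_apply, e₁, e₂]
      group
    | inv a _ ha =>
      obtain ⟨h₁, hh₁, e₁⟩ := ha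
      refine ⟨h₁⁻¹, inv_mem hh₁, fun x => ?_⟩
      have := e₁ ((a : MulAut P)⁻¹ x)
      rw [MulAut.apply_inv_self] at this
      rw [Subgroup.coe_inv, this]
      group
  obtain ⟨h, hh, e⟩ := key α hα
  rw [e]
  have e2 : (x : G)⁻¹ * (h * x * h⁻¹) = ((x : G)⁻¹ * h * (x : G)⁻¹⁻¹) * h⁻¹ := by group
  rw [e2]
  exact mul_mem (hN.conj_mem h hh _) (inv_mem hh)

/-- **Hyperfocal subgroup theorem** (Puig) for the fusion system of a finite group. -/
theorem hyperfocal_eq_inf_pResidual [Finite G] (p : ℕ) [Fact p.Prime] (S : Sylow p G) :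
    (groupFusionSystem (S : Subgroup G)).hyperfocalSubgroup p =
      (S : Subgroup G) ⊓ pResidual p G :=
  le_antisymm (le_inf (Cfsg.Agent.Lib.Helper29.hyperfocal_le _ p) (hyperfocal_le_pResidual p _))
    ((inf_pResidual_le_hypG S).trans (hypG_le_hyperfocal p _))

end HyperfocalFusion

end Cfsg.Agent.Lib.Helper24
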