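import Mathlib
import Cfsg.Prelude.Def_Transfer
import Cfsg.Agent.Lib.Helper11.WeaklyClosed

set_option autoImplicit false

namespace Cfsg.Agent.Lib.Helper24

open Subgroup

/-- If `Z ≤ Z(P)` is weakly closed in the Sylow `p`-subgroup `P`, then `N_G(Z)` controls
`G`-fusion of subsets of `P`. -/
theorem exists_normalizer_conj_set_of_weaklyClosed {G : Type*} [Group G] [Finite G] {p : ℕ}
    [Fact p.Prime] (P : Sylow p G) (Z : Subgroup G)
    (hZ : Z ≤ centralizer (P : Set G)) (hW : Cfsg.IsWeaklyClosed Z P)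
    (A : Set G) (hA : ∀ a ∈ A, a ∈ (P : Subgroup G)) (u : G)
    (hu : ∀ a ∈ A, u * a * u⁻¹ ∈ (P : Subgroup G)) :
    ∃ n ∈ normalizer (Z : Set G), ∀ a ∈ A, n * a * n⁻¹ = u * a * u⁻¹ := by
  obtain ⟨hZP, hclosed⟩ := hW
  have hZpg : IsPGroup p Z := P.2.to_le hZP
  obtain ⟨C, hC⟩ : ∃ C : Subgroup G, C = centralizer ((fun a => u * a * u⁻¹) '' A) := ⟨_, rfl⟩
  have hcomm : ∀ z ∈ Z, ∀ s ∈ P, s * z = z * s := fun z hz s hs =>
    (mem_centralizer_iff.mp (hZ hz)) s hs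
  have hZC : Z ≤ C := by
    intro z hz
    rw [hC, mem_centralizer_iff]
    rintro _ ⟨a, ha, rfl⟩
    exact hcomm z hz _ (hu a ha)
  obtain ⟨Zu, hZu⟩ : ∃ Zu : Subgroup G, Zu = Z.map (MulAut.conj u).toMonoidHom := ⟨_, rfl⟩
  have hZuC : Zu ≤ C := by
    rw [hZu]
    rintro w ⟨z, hz, rfl⟩
    rw [hC, mem_centralizer_iff]
    rintro _ ⟨a, ha, rfl⟩
    have h1 := hcomm z hz a (hA a ha)
    change u * a * u⁻¹ * (u * z * u⁻¹) = (u * z * u⁻¹) * (u * a * u⁻¹)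
    calc u * a * u⁻¹ * (u * z * u⁻¹) = u * (a * z) * u⁻¹ := by group
      _ = u * (z * a) * u⁻¹ := by rw [h1]
      _ = u * z * u⁻¹ * (u * a * u⁻¹) := by group
  have hA' : IsPGroup p (Z.subgroupOf C) := hZpg.comap_subtype
  have hB : IsPGroup p (Zu.subgroupOf C) := by
    rw [hZu]; exact (hZpg.map _).comap_subtype
  obtain ⟨S1, hS1⟩ := hA'.exists_le_sylow
  obtain ⟨S2, hS2⟩ := hB.exists_le_sylow
  obtain ⟨c, hc⟩ := MulAction.exists_smul_eq C S2 S1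
  have hT : IsPGroup p ((S1 : Subgroup C).map C.subtype) := S1.2.map _
  obtain ⟨Q, hQ⟩ := hT.exists_le_sylow
  obtain ⟨v, hv⟩ := MulAction.exists_smul_eq G P Q
  have hZQ : ∀ z ∈ Z, v⁻¹ * z * v ∈ (P : Subgroup G) := by
    intro z hz
    rw [← Cfsg.Agent.Lib.Helper11.mem_smul_sylow_iff, hv]
    apply hQ
    exact ⟨⟨z, hZC hz⟩, hS1 (mem_subgroupOf.mpr hz), rfl⟩
  have hZuQ : ∀ z ∈ Z, v⁻¹ * ((c : G) * (u * z * u⁻¹) * (c : G)⁻¹) * v ∈ (P : Subgroup G) := by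
    intro z hz
    rw [← Cfsg.Agent.Lib.Helper11.mem_smul_sylow_iff, hv]
    apply hQ
    have hw : u * z * u⁻¹ ∈ Zu := by rw [hZu]; exact ⟨z, hz, rfl⟩
    have hw2 : (⟨u * z * u⁻¹, hZuC hw⟩ : C) ∈ (S2 : Subgroup C) := hS2 (mem_subgroupOf.mpr hw)
    have hw3 : c * ⟨u * z * u⁻¹, hZuC hw⟩ * c⁻¹ ∈ ((c • S2 : Sylow p C) : Subgroup C) := by
      rw [Cfsg.Agent.Lib.Helper11.mem_smul_sylow_iff]
      have : c⁻¹ * (c * ⟨u * z * u⁻¹, hZuC hw⟩ * c⁻¹) * c = ⟨u * z * u⁻¹, hZuC hw⟩ := by group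
      rw [this]; exact hw2
    rw [hc] at hw3
    exact ⟨_, hw3, rfl⟩
  have h1 : Z.map (MulAut.conj v⁻¹).toMonoidHom = Z := by
    apply hclosed
    rintro w ⟨z, hz, rfl⟩
    have := hZQ z hz
    change v⁻¹ * z * v⁻¹⁻¹ ∈ (P : Subgroup G)
    rwa [inv_inv]
  have h2 : Z.map (MulAut.conj (v⁻¹ * (c : G) * u)).toMonoidHom = Z := by
    apply hclosed
    rintro w ⟨z, hz, rfl⟩
    have := hZuQ z hz
    change (v⁻¹ * (c : G) * u) * z * (v⁻¹ * (c : G) * u)⁻¹ ∈ (P : Subgroup G)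
    have e : (v⁻¹ * (c : G) * u) * z * (v⁻¹ * (c : G) * u)⁻¹ =
        v⁻¹ * ((c : G) * (u * z * u⁻¹) * (c : G)⁻¹) * v := by group
    rw [e]; exact this
  have hn1 : v⁻¹ ∈ normalizer (Z : Set G) := mem_normalizer_iff_map_conj_eq.mpr h1
  have hn2 : v⁻¹ * (c : G) * u ∈ normalizer (Z : Set G) := mem_normalizer_iff_map_conj_eq.mpr h2
  have hn : (c : G) * u ∈ normalizer (Z : Set G) := by
    have : (c : G) * u = (v⁻¹)⁻¹ * (v⁻¹ * (c : G) * u) := by group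
    rw [this]
    exact Subgroup.mul_mem _ (Subgroup.inv_mem _ hn1) hn2
  refine ⟨(c : G) * u, hn, fun a ha => ?_⟩
  have hcb : (u * a * u⁻¹) * (c : G) = (c : G) * (u * a * u⁻¹) := by
    have hc2 : (c : G) ∈ centralizer ((fun a => u * a * u⁻¹) '' A) := hC ▸ c.2
    exact (mem_centralizer_iff.mp hc2) _ ⟨a, ha, rfl⟩
  calc (c : G) * u * a * ((c : G) * u)⁻¹ = (c : G) * (u * a * u⁻¹) * (c : G)⁻¹ := by group
    _ = u * a * u⁻¹ := by rw [← hcb]; group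

/-- `p`-normality gives weak closure of the centre of the Sylow subgroup. -/
theorem isWeaklyClosed_center_of_pNormal {G : Type*} [Group G] {p : ℕ} (P : Sylow p G)
    (hn : ∀ Q : Sylow p G, (P : Subgroup G) ⊓ Subgroup.centralizer (P : Set G) ≤ (Q : Subgroup G) →
      (Q : Subgroup G) ⊓ Subgroup.centralizer (Q : Set G) =
        (P : Subgroup G) ⊓ Subgroup.centralizer (P : Set G)) :
    Cfsg.IsWeaklyClosed ((P : Subgroup G) ⊓ Subgroup.centralizer (P : Set G)) P := by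
  refine ⟨inf_le_left, fun g hg => ?_⟩
  have h1 : (P : Subgroup G) ⊓ Subgroup.centralizer (P : Set G) ≤ ((g⁻¹ • P : Sylow p G) : Subgroup G) := by
    intro z hz
    rw [Cfsg.Agent.Lib.Helper11.mem_smul_sylow_iff, inv_inv]
    have := hg ⟨z, hz, rfl⟩
    simpa [MulAut.conj_apply] using this
  have h2 := hn _ h1
  ext w
  constructor
  · rintro ⟨z, hz, rfl⟩
    have hz' : z ∈ ((g⁻¹ • P : Sylow p G) : Subgroup G) ⊓
        Subgroup.centralizer (((g⁻¹ • P : Sylow p G) : Subgroup G) : Set G) := h2 ▸ hz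
    obtain ⟨hz1, hz2⟩ := Subgroup.mem_inf.mp hz'
    rw [Cfsg.Agent.Lib.Helper11.mem_smul_sylow_iff, inv_inv] at hz1
    refine Subgroup.mem_inf.mpr ⟨by simpa [MulAut.conj_apply] using hz1, ?_⟩
    rw [Subgroup.mem_centralizer_iff]
    intro s hs
    have hs' : g⁻¹ * s * g ∈ ((g⁻¹ • P : Sylow p G) : Subgroup G) := by
      rw [Cfsg.Agent.Lib.Helper11.mem_smul_sylow_iff, inv_inv]
      have : g * (g⁻¹ * s * g) * g⁻¹ = s := by group
      rw [this]; exact hs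
    have h3 := (Subgroup.mem_centralizer_iff.mp hz2) _ hs'
    show s * (g * z * g⁻¹) = (g * z * g⁻¹) * s
    calc s * (g * z * g⁻¹) = g * ((g⁻¹ * s * g) * z) * g⁻¹ := by group
      _ = g * (z * (g⁻¹ * s * g)) * g⁻¹ := by rw [h3]
      _ = (g * z * g⁻¹) * s := by group
  · intro hw
    obtain ⟨hw1, hw2⟩ := Subgroup.mem_inf.mp hw
    refine ⟨g⁻¹ * w * g, ?_, by simp [MulAut.conj_apply]; group⟩
    rw [SetLike.mem_coe, ← h2]
    refine Subgroup.mem_inf.mpr ⟨?_, ?_⟩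
    · rw [Cfsg.Agent.Lib.Helper11.mem_smul_sylow_iff, inv_inv]
      have : g * (g⁻¹ * w * g) * g⁻¹ = w := by group
      rw [this]; exact hw1
    · rw [Subgroup.mem_centralizer_iff]
      intro s hs
      have hs' : g * s * g⁻¹ ∈ (P : Subgroup G) := by
        have := (Cfsg.Agent.Lib.Helper11.mem_smul_sylow_iff P g⁻¹ s).mp hs
        rwa [inv_inv] at this
      have h3 := (Subgroup.mem_centralizer_iff.mp hw2) _ hs'
      calc s * (g⁻¹ * w * g) = g⁻¹ * ((g * s * g⁻¹) * w) * g := by group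
        _ = g⁻¹ * (w * (g * s * g⁻¹)) * g := by rw [h3]
        _ = (g⁻¹ * w * g) * s := by group

end Cfsg.Agent.Lib.Helper24
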