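import Mathlib
import Cfsg.Agent.Lib.Helper13.NPC
import Cfsg.Agent.Lib.Helper13.FpfThompson
import Cfsg.Agent.Lib.Helper13.FpfCyclic
import Cfsg.Agent.Lib.Helper13.ThompsonTransfer
import Cfsg.Agent.Lib.Helper17.ThompsonOf
import Cfsg.Agent.Lib.Helper17.NormalHall
import Cfsg.Agent.Lib.Helper29.PResidualSylow
import Cfsg.Agent.Lib.Helper29.GroupFusion
import Cfsg.Agent.S0033
import Cfsg.Agent.S0078
import Cfsg.Agent.S0108

/-!
# Groups with a nilpotent maximal subgroup (Thompson, Deskins-Janko)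

`NormProp M`: every nontrivial subgroup of `M` normalized by `M` has normalizer exactly `M`
(true for a core-free maximal subgroup).  For nilpotent `M` with this property:
* the Sylow subgroups of `M` are Sylow in `G` (`exists_sylow_of_normProp`);
* class `≤ 2` gives `p`-normality, hence a normal `p`-complement (`npc_of_normProp_class_two`);
* odd order gives a normal `p`-complement by Thompson (`npc_of_normProp_odd`);
* normal `p`-complements for all `p ∣ |M|` give solvability (`isSolvable_of_normProp`), via a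
  fixed-point-free automorphism of prime order.
`isSolvable_of_coatom_aux` is the induction reducing a maximal subgroup to the core-free case.
-/

set_option autoImplicit false
set_option linter.style.haveILetI false

universe u

namespace Cfsg.Agent.Lib.Helper24

open Cfsg.Agent.Lib.Helper13 (NPC)

section

variable {G : Type*} [Group G] [Finite G] {p : ℕ} [Fact p.Prime]

/-- A normal subgroup meeting a Sylow `p`-subgroup trivially has order prime to `p`. -/
theorem card_coprime_of_normal_inf_sylow_eq_bot (S : Sylow p G) (L : Subgroup G) [hLn : L.Normal]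
    (h : (S : Subgroup G) ⊓ L = ⊥) : (Nat.card L).Coprime p := by
  have hp : p.Prime := Fact.out
  rw [Nat.coprime_comm, Nat.Prime.coprime_iff_not_dvd hp]
  intro hdvd
  obtain ⟨x, hx⟩ := exists_prime_orderOf_dvd_card' (G := L) p hdvd
  have hxo : orderOf (x : G) = p := by rw [Subgroup.orderOf_coe]; exact hx
  have hz : IsPGroup p (Subgroup.zpowers (x : G)) := by
    apply IsPGroup.of_card (n := 1)
    rw [Nat.card_zpowers, hxo, pow_one]
  obtain ⟨g, hg⟩ := Cfsg.Agent.Lib.Helper29.exists_cj_le_sylow S hz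
  have h1 : g * (x : G) * g⁻¹ ∈ (S : Subgroup G) :=
    hg (Cfsg.Agent.Lib.Helper29.conj_mem_cj (Subgroup.mem_zpowers _))
  have h2 : g * (x : G) * g⁻¹ ∈ L := hLn.conj_mem _ x.2 g
  have h3 : g * (x : G) * g⁻¹ ∈ (S : Subgroup G) ⊓ L := Subgroup.mem_inf.mpr ⟨h1, h2⟩
  rw [h, Subgroup.mem_bot] at h3
  have h5 : (x : G) = 1 := by
    have : (x : G) = g⁻¹ * (g * (x : G) * g⁻¹) * g := by group
    rw [this, h3]; group
  rw [h5, orderOf_one] at hxo
  exact hp.one_lt.ne hxo

/-- If a Sylow `p`-subgroup meets `O^p(G)` trivially, `G` has a normal `p`-complement. -/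
theorem npc_of_sylow_inf_pResidual_eq_bot (S : Sylow p G)
    (h : (S : Subgroup G) ⊓ Cfsg.pResidual p G = ⊥) : NPC p G := by
  haveI : (Cfsg.pResidual p G).Normal := Cfsg.Agent.Lib.Helper29.pResidual_normal' p
  refine ⟨Cfsg.pResidual p G, inferInstance,
    card_coprime_of_normal_inf_sylow_eq_bot S _ h, ?_⟩
  have hq : IsPGroup p (G ⧸ Cfsg.pResidual p G) :=
    Cfsg.Agent.Lib.Helper17.isPGroup_quotient_of_forall_coprime _
      (fun g hg => Subgroup.subset_closure hg)
  obtain ⟨k, hk⟩ := IsPGroup.iff_card.mp hq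
  exact ⟨k, by rw [Subgroup.index_eq_card]; exact hk⟩

end

/-- normalizer property: every nontrivial subgroup of `M` normalized by `M` has normalizer `M`. -/
def NormProp {G : Type*} [Group G] (M : Subgroup G) : Prop :=
  ∀ U : Subgroup G, U ≤ M → U ≠ ⊥ → M ≤ Subgroup.normalizer (U : Set G) →
    Subgroup.normalizer (U : Set G) = M

theorem mem_normalizer_zpowers_of_commute {G : Type*} [Group G] {c x : G} (h : Commute c x) :
    c ∈ Subgroup.normalizer (Subgroup.zpowers x : Set G) := by
  have key : ∀ y ∈ Subgroup.zpowers x, c * y * c⁻¹ = y := by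
    intro y hy
    obtain ⟨k, rfl⟩ := Subgroup.mem_zpowers_iff.mp hy
    have : Commute c (x ^ k) := h.zpow_right k
    rw [this.eq, mul_inv_cancel_right]
  rw [Subgroup.mem_normalizer_iff]
  intro y
  constructor
  · intro hy
    rw [key y hy]; exact hy
  · intro hy
    have h1 := key _ hy
    have h2 : c * y * c⁻¹ = y := mul_left_cancel (mul_right_cancel h1)
    rw [← h2]; exact hy

/-- "quotient solvable" in derived series form -/
def QS {G : Type*} [Group G] (N : Subgroup G) : Prop := ∃ n, derivedSeries G n ≤ N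

theorem QS.inf {G : Type*} [Group G] {A B : Subgroup G} (hA : QS A) (hB : QS B) : QS (A ⊓ B) := by
  obtain ⟨a, ha⟩ := hA
  obtain ⟨b, hb⟩ := hB
  refine ⟨max a b, le_inf ?_ ?_⟩
  · exact le_trans (derivedSeries_antitone G (le_max_left a b)) ha
  · exact le_trans (derivedSeries_antitone G (le_max_right a b)) hb

theorem QS.of_isSolvable_quotient {G : Type*} [Group G] (N : Subgroup G) [N.Normal]
    (h : Group.IsSolvable (G ⧸ N)) : QS N := by
  obtain ⟨n, hn⟩ := h
  refine ⟨n, ?_⟩
  have h1 := map_derivedSeries_le_derivedSeries (QuotientGroup.mk' N) n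
  rw [hn, le_bot_iff, Subgroup.map_eq_bot_iff, QuotientGroup.ker_mk'] at h1
  exact h1

theorem QS.isSolvable {G : Type*} [Group G] (N : Subgroup G) [N.Normal] (h : QS N)
    (hN : Group.IsSolvable N) : Group.IsSolvable G := by
  obtain ⟨n, hn⟩ := h
  have hq : Group.IsSolvable (G ⧸ N) := by
    refine ⟨⟨n, ?_⟩⟩
    rw [← map_derivedSeries_eq (QuotientGroup.mk'_surjective N) n, Subgroup.map_eq_bot_iff,
      QuotientGroup.ker_mk']
    exact hn
  exact (Group.isSolvable_iff_subgroup_quotient N).mpr ⟨hN, hq⟩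

theorem QS.of_npc {G : Type*} [Group G] [Finite G] {q : ℕ} [Fact q.Prime] (N : Subgroup G)
    [N.Normal] (k : ℕ) (hk : N.index = q ^ k) : QS N := by
  apply QS.of_isSolvable_quotient
  have hq : IsPGroup q (G ⧸ N) := by
    apply IsPGroup.of_card (n := k)
    rw [← Subgroup.index_eq_card]; exact hk
  haveI : Group.IsNilpotent (G ⧸ N) := hq.isNilpotent
  infer_instance


theorem isSolvable_of_normProp {G : Type u} [Group G] [Finite G] (M : Subgroup G)
    (hnil : Group.IsNilpotent M) (hM : M ≠ ⊥) (hN : NormProp M)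
    (hnpc : ∀ q : ℕ, q.Prime → q ∣ Nat.card M → NPC q G) : Group.IsSolvable G := by
  classical
  have hnt : Nontrivial M := (Subgroup.nontrivial_iff_ne_bot M).mpr hM
  have hc := Group.IsNilpotent.center_ne_bot M
  obtain ⟨⟨z, hz⟩, hz1⟩ := (Subgroup.ne_bot_iff_exists_ne_one).mp hc
  have hz1' : z ≠ 1 := fun h => hz1 (Subtype.ext h)
  have ho1 : orderOf z ≠ 1 := fun h => hz1' (orderOf_eq_one_iff.mp h)
  obtain ⟨p, hp, hpd⟩ := Nat.exists_prime_and_dvd ho1
  have ho0 : orderOf z ≠ 0 := (orderOf_pos z).ne'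
  obtain ⟨x, hxdef⟩ : ∃ x : M, x = z ^ (orderOf z / p) := ⟨_, rfl⟩
  have hxo : orderOf x = p := by rw [hxdef]; exact orderOf_pow_orderOf_div ho0 hpd
  have hxc : x ∈ Subgroup.center M := by rw [hxdef]; exact Subgroup.pow_mem _ hz _
  have hxoG : orderOf (x : G) = p := by rw [Subgroup.orderOf_coe]; exact hxo
  have hx1 : (x : G) ≠ 1 := by
    intro h
    rw [h, orderOf_one] at hxoG
    exact hp.one_lt.ne hxoG
  have hcomm : ∀ m ∈ M, Commute m (x : G) := by
    intro m hm
    have h1 := (Subgroup.mem_center_iff.mp hxc) ⟨m, hm⟩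
    have h2 := congrArg Subtype.val h1
    exact h2
  -- normalizer of ⟨x⟩ is M
  have hU : Subgroup.normalizer (Subgroup.zpowers (x : G) : Set G) = M := by
    apply hN
    · rw [Subgroup.zpowers_le]; exact x.2
    · intro h
      have : (x : G) ∈ (⊥ : Subgroup G) := h ▸ Subgroup.mem_zpowers _
      exact hx1 (Subgroup.mem_bot.mp this)
    · intro m hm
      exact mem_normalizer_zpowers_of_commute (hcomm m hm)
  have hcent : ∀ c : G, Commute c (x : G) → c ∈ M := by
    intro c hc
    rw [← hU]; exact mem_normalizer_zpowers_of_commute hc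
  -- the family of normal complements
  obtain ⟨N, hNdef⟩ : ∃ N : ℕ → Subgroup G, N = fun q =>
      if h : q.Prime ∧ q ∣ Nat.card M then Classical.choose (hnpc q h.1 h.2) else ⊤ := ⟨_, rfl⟩
  have hNspec : ∀ q, q.Prime → q ∣ Nat.card M →
      (N q).Normal ∧ (Nat.card (N q)).Coprime q ∧ ∃ k : ℕ, (N q).index = q ^ k := by
    intro q hq hqd
    have : N q = Classical.choose (hnpc q hq hqd) := by
      rw [hNdef]; simp only; rw [dif_pos ⟨hq, hqd⟩]
    rw [this]
    exact Classical.choose_spec (hnpc q hq hqd)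
  have hind : ∀ s : Finset ℕ, s ⊆ (Nat.card M).primeFactors →
      (s.inf N).Normal ∧ QS (s.inf N) := by
    intro s
    induction s using Finset.induction_on with
    | empty =>
      intro _
      rw [Finset.inf_empty]
      exact ⟨inferInstance, ⟨0, le_top⟩⟩
    | insert a s ha ih =>
      intro hs
      rw [Finset.inf_insert]
      obtain ⟨h1, h2⟩ := ih (fun q hq => hs (Finset.mem_insert_of_mem hq))
      have ha' := hs (Finset.mem_insert_self a s)
      have hap : a.Prime := Nat.prime_of_mem_primeFactors ha'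
      have had : a ∣ Nat.card M := Nat.dvd_of_mem_primeFactors ha'
      obtain ⟨h3, h4, k, hk⟩ := hNspec a hap had
      haveI := h1
      haveI := h3
      haveI : Fact a.Prime := ⟨hap⟩
      exact ⟨inferInstance, QS.inf (QS.of_npc (N a) k hk) h2⟩
  obtain ⟨K, hKdef⟩ : ∃ K : Subgroup G, K = ((Nat.card M).primeFactors).inf N := ⟨_, rfl⟩
  obtain ⟨hKn, hKq⟩ := hind _ (le_refl _)
  rw [← hKdef] at hKn hKq
  have hKle : ∀ q, q.Prime → q ∣ Nat.card M → K ≤ N q := by
    intro q hq hqd
    rw [hKdef]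
    apply Finset.inf_le
    exact Nat.mem_primeFactors.mpr ⟨hq, hqd, Nat.card_pos.ne'⟩
  have hcop : (Nat.card K).Coprime (Nat.card M) := by
    by_contra hcon
    obtain ⟨q, hq, hq1, hq2⟩ := Nat.Prime.not_coprime_iff_dvd.mp hcon
    obtain ⟨_, h4, _⟩ := hNspec q hq hq2
    have h5 : q ∣ Nat.card (N q) := dvd_trans hq1 (Subgroup.card_dvd_of_le (hKle q hq hq2))
    have := Nat.Coprime.eq_one_of_dvd h4.symm h5
    exact hq.one_lt.ne' this
  have hKM : K ⊓ M = ⊥ := (Subgroup.disjoint_of_coprime_natCard hcop).eq_bot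
  -- the fixed point free automorphism
  obtain ⟨φ, hφdef⟩ : ∃ φ : K ≃* K, φ = MulAut.conjNormal (x : G) := ⟨_, rfl⟩
  have hφapp : ∀ k : K, ((φ k : K) : G) = (x : G) * k * (x : G)⁻¹ := by
    intro k; rw [hφdef]; exact MulAut.conjNormal_apply _ _
  have hfpf : MonoidHom.FixedPointFree (φ : K →* K) := by
    intro k hk
    have h1 : ((φ k : K) : G) = (k : G) := congrArg Subtype.val hk
    rw [hφapp] at h1
    have h2 : Commute (k : G) (x : G) := by
      have : (x : G) * k = k * x := by
        calc (x : G) * k = ((x : G) * k * (x : G)⁻¹) * x := by group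
          _ = k * x := by rw [h1]
      exact this.symm
    have h3 : (k : G) ∈ K ⊓ M := Subgroup.mem_inf.mpr ⟨k.2, hcent _ h2⟩
    rw [hKM, Subgroup.mem_bot] at h3
    exact Subtype.ext h3
  have hper : (⇑φ)^[p] = id := by
    have h1 : φ ^ p = 1 := by
      rw [hφdef, ← map_pow, ← hxoG, pow_orderOf_eq_one, map_one]
    rw [← Cfsg.Agent.S0033.coe_pow_eq_iterate, h1]
    rfl
  have hKnil : Group.IsNilpotent K :=
    Cfsg.Agent.Lib.Helper13.fpf_nilpotent_aux p hp _ K rfl φ hfpf hper
  exact QS.isSolvable K hKq inferInstance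

theorem exists_sylow_of_normProp {G : Type u} [Group G] [Finite G] (M : Subgroup G)
    (hnil : Group.IsNilpotent M) (hN : NormProp M) (p : ℕ) [Fact p.Prime]
    (hpd : p ∣ Nat.card M) :
    ∃ S : Sylow p G, (S : Subgroup G) ≤ M ∧ (S : Subgroup G) ≠ ⊥ ∧
      M ≤ Subgroup.normalizer ((S : Subgroup G) : Set G) ∧
      (∀ Q : Subgroup G, IsPGroup p Q → Q ≤ M → Q ≤ S) := by
  obtain ⟨P⟩ : Nonempty (Sylow p M) := inferInstance
  have hPn : (P : Subgroup M).Normal := inferInstance
  obtain ⟨PG, hPGdef⟩ : ∃ PG : Subgroup G, PG = (P : Subgroup M).map M.subtype := ⟨_, rfl⟩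
  have hPGp : IsPGroup p PG := by rw [hPGdef]; exact P.2.map _
  have hPGle : PG ≤ M := by rw [hPGdef]; exact Subgroup.map_subtype_le _
  have hPGne : PG ≠ ⊥ := by
    rw [hPGdef]
    intro h
    rw [Subgroup.map_eq_bot_iff_of_injective _ M.subtype_injective] at h
    exact P.ne_bot_of_dvd_card hpd h
  have hPGn : M ≤ Subgroup.normalizer (PG : Set G) := by
    have h1 := Subgroup.le_normalizer_map (H := (P : Subgroup M)) M.subtype
    rw [Subgroup.normalizer_eq_top, ← MonoidHom.range_eq_map, Subgroup.range_subtype] at h1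
    rw [hPGdef]; exact h1
  have hNPG : Subgroup.normalizer (PG : Set G) = M := hN PG hPGle hPGne hPGn
  -- p-subgroups of M are inside PG
  have hall : ∀ Q : Subgroup G, IsPGroup p Q → Q ≤ M → Q ≤ PG := by
    intro Q hQ hQM
    have hQ' : IsPGroup p (Q.subgroupOf M) :=
      hQ.comap_of_injective _ M.subtype_injective
    obtain ⟨P', hP'⟩ := hQ'.exists_le_sylow
    have hP'P : P' = P := by
      haveI := Sylow.unique_of_normal P hPn
      exact Subsingleton.elim _ _
    intro x hx
    rw [hPGdef]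
    refine ⟨⟨x, hQM hx⟩, ?_, rfl⟩
    rw [← hP'P]
    exact hP' (Subgroup.mem_subgroupOf.mpr hx)
  obtain ⟨S, hS⟩ := hPGp.exists_le_sylow
  have hSeq : (S : Subgroup G) = PG := by
    by_contra hne
    have hlt : PG.subgroupOf S < ⊤ := by
      rw [lt_top_iff_ne_top]
      intro h
      apply hne
      apply le_antisymm _ hS
      intro s hs
      have : (⟨s, hs⟩ : (S : Subgroup G)) ∈ PG.subgroupOf S := h ▸ Subgroup.mem_top _
      exact Subgroup.mem_subgroupOf.mp this
    haveI : Group.IsNilpotent (S : Subgroup G) := S.2.isNilpotent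
    have hnc := Group.normalizerCondition_of_isNilpotent (G := (S : Subgroup G)) _ hlt
    rw [← Subgroup.subgroupOf_normalizer_eq hS] at hnc
    obtain ⟨s, hs1, hs2⟩ := SetLike.exists_of_lt hnc
    have hs3 : (s : G) ∈ Subgroup.normalizer (PG : Set G) := Subgroup.mem_subgroupOf.mp hs1
    rw [hNPG] at hs3
    have hs4 : Subgroup.zpowers (s : G) ≤ PG := by
      apply hall
      · exact S.2.to_le (by rw [Subgroup.zpowers_le]; exact s.2)
      · rw [Subgroup.zpowers_le]; exact hs3
    exact hs2 (Subgroup.mem_subgroupOf.mpr (hs4 (Subgroup.mem_zpowers _)))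
  refine ⟨S, hSeq ▸ hPGle, hSeq ▸ hPGne, ?_, ?_⟩
  · rw [hSeq]; exact hPGn
  · intro Q hQ hQM
    rw [hSeq]; exact hall Q hQ hQM

theorem le_normalizer_sup_of_conj_mem {G : Type*} [Group G] (M A B : Subgroup G)
    (hA : ∀ m ∈ M, ∀ a ∈ A, m * a * m⁻¹ ∈ A ⊔ B)
    (hB : ∀ m ∈ M, ∀ b ∈ B, m * b * m⁻¹ ∈ A ⊔ B) :
    M ≤ Subgroup.normalizer ((A ⊔ B : Subgroup G) : Set G) := by
  have key : ∀ m ∈ M, ∀ x ∈ A ⊔ B, m * x * m⁻¹ ∈ A ⊔ B := by
    intro m hm x hx
    have h1 : (A ⊔ B).map (MulAut.conj m).toMonoidHom ≤ A ⊔ B := by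
      rw [Subgroup.map_sup, sup_le_iff]
      constructor
      · rintro _ ⟨a, ha, rfl⟩
        exact hA m hm a ha
      · rintro _ ⟨b, hb, rfl⟩
        exact hB m hm b hb
    exact h1 ⟨x, hx, rfl⟩
  intro m hm
  rw [Subgroup.mem_normalizer_iff]
  intro x
  constructor
  · exact key m hm x
  · intro hx
    have := key m⁻¹ (inv_mem hm) _ hx
    have h2 : m⁻¹ * (m * x * m⁻¹) * m⁻¹⁻¹ = x := by group
    rwa [h2] at this

theorem npc_of_normProp_class_two {G : Type u} [Group G] [Finite G] (M : Subgroup G)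
    (hnil : Group.IsNilpotent M) (hN : NormProp M)
    (hcl : ∀ a ∈ M, ∀ b ∈ M, ∀ c ∈ M, (a * b * a⁻¹ * b⁻¹) * c = c * (a * b * a⁻¹ * b⁻¹))
    (p : ℕ) [Fact p.Prime] (hpd : p ∣ Nat.card M) : NPC p G := by
  have hp : p.Prime := Fact.out
  obtain ⟨S, hSM, hSne, hMS, hall⟩ := exists_sylow_of_normProp M hnil hN p hpd
  obtain ⟨Z, hZdef⟩ : ∃ Z : Subgroup G,
      Z = (S : Subgroup G) ⊓ Subgroup.centralizer (S : Set G) := ⟨_, rfl⟩
  have hZne : Z ≠ ⊥ := by
    rw [hZdef]; exact Cfsg.Agent.Lib.Helper13.inf_centralizer_ne_bot p (S : Subgroup G) S.2 hSne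
  have hZS : Z ≤ S := hZdef ▸ inf_le_left
  have hZM : Z ≤ M := le_trans hZS hSM
  have hMZ : M ≤ Subgroup.normalizer (Z : Set G) := by
    rw [hZdef]
    exact le_trans hMS (Cfsg.Agent.Lib.Helper13.normalizer_le_normalizer_inf_centralizer (S : Subgroup G))
  have hNZ : Subgroup.normalizer (Z : Set G) = M := hN Z hZM hZne hMZ
  have hCZ : Subgroup.centralizer (Z : Set G) ≤ M := by
    rw [← hNZ]; exact Subgroup.centralizer_le_normalizer (Z : Set G)
  -- commutators with S land in Z
  have hcomm : ∀ m ∈ M, ∀ t ∈ (S : Subgroup G), m * t * m⁻¹ * t⁻¹ ∈ Z := by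
    intro m hm t ht
    rw [hZdef]
    refine Subgroup.mem_inf.mpr ⟨?_, ?_⟩
    · have := (Subgroup.mem_normalizer_iff.mp (hMS hm) t).mp ht
      exact mul_mem this (inv_mem ht)
    · rw [Subgroup.mem_centralizer_iff]
      intro s hs
      exact (hcl m hm t (hSM ht) s (hSM hs)).symm
  -- p-normality
  have hn : ∀ Q : Sylow p G,
      (S : Subgroup G) ⊓ Subgroup.centralizer (S : Set G) ≤ (Q : Subgroup G) →
      (Q : Subgroup G) ⊓ Subgroup.centralizer (Q : Set G)
        = (S : Subgroup G) ⊓ Subgroup.centralizer (S : Set G) := by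
    intro Q hQ
    rw [← hZdef] at hQ ⊢
    obtain ⟨ZQ, hZQdef⟩ : ∃ ZQ : Subgroup G,
      ZQ = (Q : Subgroup G) ⊓ Subgroup.centralizer (Q : Set G) := ⟨_, rfl⟩
    rw [← hZQdef]
    have hZQQ : ZQ ≤ Q := hZQdef ▸ inf_le_left
    have hZQc : ∀ w ∈ ZQ, ∀ x ∈ (Q : Subgroup G), x * w = w * x := by
      intro w hw x hx
      rw [hZQdef] at hw
      exact (Subgroup.mem_centralizer_iff.mp (Subgroup.mem_inf.mp hw).2) x hx
    have h1 : ZQ ≤ Subgroup.centralizer (Z : Set G) := by
      intro w hw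
      rw [Subgroup.mem_centralizer_iff]
      intro z hz
      exact hZQc w hw z (hQ hz)
    have hZQM : ZQ ≤ M := le_trans h1 hCZ
    have hZQS : ZQ ≤ S := hall ZQ (Q.2.to_le hZQQ) hZQM
    -- class two for Q
    obtain ⟨g, hg⟩ := MulAction.exists_smul_eq G S Q
    have hQcl : ∀ a ∈ (Q : Subgroup G), ∀ b ∈ (Q : Subgroup G), a * b * a⁻¹ * b⁻¹ ∈ ZQ := by
      intro a ha b hb
      rw [← hg, Cfsg.Agent.Lib.Helper17.mem_smul_sylow_iff] at ha hb
      have hc := hcomm _ (hSM ha) _ hb
      have hc1 : g⁻¹ * (a * b * a⁻¹ * b⁻¹) * g ∈ Z := by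
        have : g⁻¹ * (a * b * a⁻¹ * b⁻¹) * g
            = (g⁻¹ * a * g) * (g⁻¹ * b * g) * (g⁻¹ * a * g)⁻¹ * (g⁻¹ * b * g)⁻¹ := by group
        rw [this]; exact hc
      rw [hZQdef]
      refine Subgroup.mem_inf.mpr ⟨?_, ?_⟩
      · rw [← hg, Cfsg.Agent.Lib.Helper17.mem_smul_sylow_iff]
        exact hZS hc1
      · rw [Subgroup.mem_centralizer_iff]
        intro x hx0
        have hx : x ∈ (Q : Subgroup G) := hx0
        rw [← hg, Cfsg.Agent.Lib.Helper17.mem_smul_sylow_iff] at hx
        rw [hZdef] at hc1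
        have h5 := (Subgroup.mem_centralizer_iff.mp (Subgroup.mem_inf.mp hc1).2) _ hx
        calc x * (a * b * a⁻¹ * b⁻¹)
            = g * ((g⁻¹ * x * g) * (g⁻¹ * (a * b * a⁻¹ * b⁻¹) * g)) * g⁻¹ := by group
          _ = g * ((g⁻¹ * (a * b * a⁻¹ * b⁻¹) * g) * (g⁻¹ * x * g)) * g⁻¹ := by rw [h5]
          _ = (a * b * a⁻¹ * b⁻¹) * x := by group
    -- A = Z ⊔ ZQ
    have hAM : Z ⊔ ZQ ≤ M := sup_le hZM hZQM
    have hAne : Z ⊔ ZQ ≠ ⊥ := by
      intro h
      apply hZne
      rw [eq_bot_iff, ← h]; exact le_sup_left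
    have hMA : M ≤ Subgroup.normalizer ((Z ⊔ ZQ : Subgroup G) : Set G) := by
      apply le_normalizer_sup_of_conj_mem
      · intro m hm z hz
        exact le_sup_left (α := Subgroup G) ((Subgroup.mem_normalizer_iff.mp (hMZ hm) z).mp hz)
      · intro m hm t ht
        have h2 := hcomm m hm t (hZQS ht)
        have h3 : m * t * m⁻¹ = (m * t * m⁻¹ * t⁻¹) * t := by group
        rw [h3]
        exact mul_mem (le_sup_left (α := Subgroup G) h2) (le_sup_right (α := Subgroup G) ht)
    have hNA : Subgroup.normalizer ((Z ⊔ ZQ : Subgroup G) : Set G) = M := hN _ hAM hAne hMA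
    have hQA : (Q : Subgroup G) ≤ Subgroup.normalizer ((Z ⊔ ZQ : Subgroup G) : Set G) := by
      apply le_normalizer_sup_of_conj_mem
      · intro q hq z hz
        have h2 := hQcl q hq z (hQ hz)
        have h3 : q * z * q⁻¹ = (q * z * q⁻¹ * z⁻¹) * z := by group
        rw [h3]
        exact mul_mem (le_sup_right (α := Subgroup G) h2) (le_sup_left (α := Subgroup G) hz)
      · intro q hq t ht
        have h2 := hZQc t ht q hq
        have h3 : q * t * q⁻¹ = t := by rw [h2]; group
        rw [h3]; exact le_sup_right (α := Subgroup G) ht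
    have hQM : (Q : Subgroup G) ≤ M := hNA ▸ hQA
    have hQS : (Q : Subgroup G) ≤ S := hall Q Q.2 hQM
    have hSQ : (S : Subgroup G) = Q := Q.is_maximal' S.2 hQS
    have hSQ' : S = Q := Sylow.ext hSQ
    rw [hZQdef, hZdef, hSQ']
  have hV : Subgroup.normalizer (((S : Subgroup G) ⊓ Subgroup.centralizer (S : Set G) :
      Subgroup G) : Set G) ≤ M := by
    rw [← hZdef, hNZ]
  have hres := Cfsg.Agent.S0078.result S hn M hV
  apply npc_of_sylow_inf_pResidual_eq_bot S
  rw [hres, eq_bot_iff]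
  -- the residual of M is a p'-group
  haveI := hnil
  obtain ⟨N, hNn, hcop, k, hk⟩ := Cfsg.Agent.Lib.Helper13.NPC.of_isNilpotent (H := M) p
  have hresN : Cfsg.pResidual p M ≤ N := by
    unfold Cfsg.pResidual
    rw [Subgroup.closure_le]
    intro y hy
    have hy' : (orderOf y).Coprime p := hy
    have h1 : ((y : M ⧸ N)) ^ (p ^ k) = 1 := by
      have hcard : Nat.card (M ⧸ N) = p ^ k := by rw [← Subgroup.index_eq_card]; exact hk
      rw [← hcard]; exact pow_card_eq_one'
    have h2 : orderOf (y : M ⧸ N) ∣ p ^ k := orderOf_dvd_of_pow_eq_one h1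
    have h3 : orderOf (y : M ⧸ N) ∣ orderOf y := by
      apply orderOf_dvd_of_pow_eq_one
      rw [← QuotientGroup.mk_pow, pow_orderOf_eq_one]; rfl
    have h4 : (orderOf (y : M ⧸ N)).Coprime (p ^ k) :=
      Nat.Coprime.pow_right k (Nat.Coprime.coprime_dvd_left h3 hy')
    have h5 : orderOf (y : M ⧸ N) = 1 := Nat.Coprime.eq_one_of_dvd h4 h2
    exact (QuotientGroup.eq_one_iff y).mp (orderOf_eq_one_iff.mp h5)
  intro x hx
  obtain ⟨hx1, y, hy, hyx⟩ := Subgroup.mem_inf.mp hx
  have hyN : y ∈ N := hresN hy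
  have ho : orderOf x = orderOf y := by rw [← hyx]; exact Subgroup.orderOf_coe y
  have h6 : orderOf y ∣ Nat.card N := by
    have := orderOf_dvd_natCard (⟨y, hyN⟩ : N)
    rwa [← Subgroup.orderOf_coe] at this
  obtain ⟨j, hj⟩ := (S.2.to_le (le_refl _)) ⟨x, hx1⟩
  have h7 : orderOf x ∣ p ^ j := by
    apply orderOf_dvd_of_pow_eq_one
    have := congrArg Subtype.val hj
    exact this
  have h8 : (orderOf x).Coprime (p ^ j) :=
    Nat.Coprime.pow_right j (Nat.Coprime.coprime_dvd_left (ho ▸ h6) hcop)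
  have h9 : orderOf x = 1 := Nat.Coprime.eq_one_of_dvd h8 h7
  exact Subgroup.mem_bot.mpr (orderOf_eq_one_iff.mp h9)

theorem npc_of_normProp_odd {G : Type u} [Group G] [Finite G] (M : Subgroup G)
    (hnil : Group.IsNilpotent M) (hN : NormProp M) (hodd : Odd (Nat.card M))
    (p : ℕ) [Fact p.Prime] (hpd : p ∣ Nat.card M) : NPC p G := by
  have hp : p.Prime := Fact.out
  have hp2 : p ≠ 2 := by
    rintro rfl
    exact (Nat.not_even_iff_odd.mpr hodd) (even_iff_two_dvd.mpr hpd)
  obtain ⟨S, hSM, hSne, hMS, hall⟩ := exists_sylow_of_normProp M hnil hN p hpd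
  have hJ : Subgroup.normalizer (Cfsg.thompsonSubgroupOf p (S : Subgroup G) : Set G) = M := by
    apply hN
    · exact le_trans (Cfsg.Agent.Lib.Helper17.thompsonSubgroupOf_le_self _) hSM
    · exact Cfsg.Agent.Lib.Helper13.thompsonSubgroupOf_ne_bot _ S.2 hSne
    · exact le_trans hMS (Cfsg.Agent.Lib.Helper17.normalizer_le_normalizer_thompsonSubgroupOf _)
  obtain ⟨Z, hZdef⟩ : ∃ Z : Subgroup G,
      Z = (S : Subgroup G) ⊓ Subgroup.centralizer (S : Set G) := ⟨_, rfl⟩
  have hZne : Z ≠ ⊥ := by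
    rw [hZdef]; exact Cfsg.Agent.Lib.Helper13.inf_centralizer_ne_bot p (S : Subgroup G) S.2 hSne
  have hZS : Z ≤ S := hZdef ▸ inf_le_left
  have hZM : Z ≤ M := le_trans hZS hSM
  have hMZ : M ≤ Subgroup.normalizer (Z : Set G) := by
    rw [hZdef]
    exact le_trans hMS
      (Cfsg.Agent.Lib.Helper13.normalizer_le_normalizer_inf_centralizer (S : Subgroup G))
  have hNZ : Subgroup.normalizer (Z : Set G) = M := hN Z hZM hZne hMZ
  have hCZ : Subgroup.centralizer (Z : Set G) ≤ M := by
    rw [← hNZ]; exact Subgroup.centralizer_le_normalizer (Z : Set G)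
  have hnpcM : NPC p M := by
    haveI := hnil
    exact Cfsg.Agent.Lib.Helper13.NPC.of_isNilpotent (H := M) p
  have hMC : M ≤ Subgroup.centralizer (Z : Set G) := by
    obtain ⟨N, hNn, hcop, k, hk⟩ := hnpcM
    obtain ⟨SM, hSMdef⟩ : ∃ SM : Sylow p M, SM = S.subtype hSM := ⟨_, rfl⟩
    have hSMcoe : (SM : Subgroup M) = (S : Subgroup G).subgroupOf M := by
      rw [hSMdef]; exact Sylow.coe_subtype _ _
    haveI := hnil
    have hSMn : (SM : Subgroup M).Normal := inferInstance
    have hdis : Disjoint N (SM : Subgroup M) := by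
      apply Subgroup.disjoint_of_coprime_natCard
      obtain ⟨j, hj⟩ := IsPGroup.iff_card.mp SM.2
      rw [hj]
      exact Nat.Coprime.pow_right j hcop
    have htop : (SM : Subgroup M) ⊔ N = ⊤ := by
      rw [← Subgroup.index_eq_one]
      have h1 : ((SM : Subgroup M) ⊔ N).index ∣ N.index := Subgroup.index_dvd_of_le le_sup_right
      have h2 : ((SM : Subgroup M) ⊔ N).index ∣ (SM : Subgroup M).index :=
        Subgroup.index_dvd_of_le le_sup_left
      rw [hk] at h1
      have h3 : ((SM : Subgroup M).index).Coprime (p ^ k) :=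
        Nat.Coprime.pow_right k
          ((Nat.Prime.coprime_iff_not_dvd hp).mpr SM.not_dvd_index).symm
      exact Nat.Coprime.eq_one_of_dvd (Nat.Coprime.coprime_dvd_left h2 h3) h1
    have hle : (SM : Subgroup M) ⊔ N ≤ (Subgroup.centralizer (Z : Set G)).subgroupOf M := by
      rw [sup_le_iff]
      constructor
      · intro s hs
        rw [hSMcoe, Subgroup.mem_subgroupOf] at hs
        rw [Subgroup.mem_subgroupOf, Subgroup.mem_centralizer_iff]
        intro z hz
        have hz' : z ∈ Z := hz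
        rw [hZdef] at hz'
        exact ((Subgroup.mem_centralizer_iff.mp (Subgroup.mem_inf.mp hz').2) _ hs).symm
      · intro n hn
        rw [Subgroup.mem_subgroupOf, Subgroup.mem_centralizer_iff]
        intro z hz
        have hz' : z ∈ Z := hz
        have hzS : (⟨z, hZM hz'⟩ : M) ∈ (SM : Subgroup M) := by
          rw [hSMcoe, Subgroup.mem_subgroupOf]; exact hZS hz'
        have hc := Subgroup.commute_of_normal_of_disjoint N (SM : Subgroup M) hNn hSMn hdis
          n ⟨z, hZM hz'⟩ hn hzS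
        have := congrArg Subtype.val hc.eq
        exact this.symm
    intro m hm
    have : (⟨m, hm⟩ : M) ∈ (Subgroup.centralizer (Z : Set G)).subgroupOf M :=
      hle (htop ▸ Subgroup.mem_top _)
    exact Subgroup.mem_subgroupOf.mp this
  have hCeq : Subgroup.centralizer (Z : Set G) = M := le_antisymm hCZ hMC
  rw [← Cfsg.Agent.Lib.Helper13.npc_iff] at hnpcM ⊢
  have hset : (((S : Subgroup G) ⊓ Subgroup.centralizer (S : Set G)) : Set G) = (Z : Set G) := by
    rw [hZdef]; rfl
  rw [Cfsg.Agent.S0108.result hp2 S, hset, hJ, hCeq]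
  exact ⟨hnpcM, hnpcM⟩

theorem isCoatom_map_mk {G : Type*} [Group G] (M K : Subgroup G) [K.Normal] (hKM : K ≤ M)
    (hco : IsCoatom M) : IsCoatom (M.map (QuotientGroup.mk' K)) := by
  have hker : (QuotientGroup.mk' K).ker ≤ M := by rw [QuotientGroup.ker_mk']; exact hKM
  have hcm : (M.map (QuotientGroup.mk' K)).comap (QuotientGroup.mk' K) = M :=
    Subgroup.comap_map_eq_self hker
  constructor
  · intro h
    apply hco.1
    rw [← hcm, h, Subgroup.comap_top]
  · intro X hX
    have h1 : M ≤ X.comap (QuotientGroup.mk' K) := by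
      rw [← hcm]; exact Subgroup.comap_mono hX.le
    have hsurj := QuotientGroup.mk'_surjective K
    rcases hco.le_iff.mp h1 with h2 | h2
    · rw [← Subgroup.map_comap_eq_self_of_surjective hsurj X, h2,
        ← MonoidHom.range_eq_map, MonoidHom.range_eq_top_of_surjective _ hsurj]
    · exfalso
      have : X = M.map (QuotientGroup.mk' K) := by
        rw [← Subgroup.map_comap_eq_self_of_surjective hsurj X, h2]
      exact hX.ne this.symm

theorem normProp_of_coatom {G : Type*} [Group G] (M : Subgroup G) (hco : IsCoatom M)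
    (hcore : M.normalCore = ⊥) : NormProp M := by
  intro U hUM hU hMU
  rcases hco.le_iff.mp hMU with h | h
  · exfalso
    have hUn : U.Normal := Subgroup.normalizer_eq_top_iff.mp h
    have : U ≤ M.normalCore := Subgroup.normal_le_normalCore.mpr hUM
    rw [hcore, le_bot_iff] at this
    exact hU this
  · exact h

theorem isSolvable_of_coatom_bot {G : Type*} [Group G] (hco : IsCoatom (⊥ : Subgroup G)) :
    Group.IsSolvable G := by
  apply Group.isSolvable_of_comm
  intro a b
  by_cases ha : a = 1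
  · rw [ha, one_mul, mul_one]
  · have h1 : Subgroup.zpowers a = ⊤ := by
      rcases hco.le_iff.mp (bot_le : ⊥ ≤ Subgroup.zpowers a) with h | h
      · exact h
      · exfalso
        have : a ∈ (⊥ : Subgroup G) := h ▸ Subgroup.mem_zpowers a
        exact ha (Subgroup.mem_bot.mp this)
    have hb : b ∈ Subgroup.zpowers a := h1 ▸ Subgroup.mem_top b
    obtain ⟨k, rfl⟩ := Subgroup.mem_zpowers_iff.mp hb
    exact ((Commute.refl a).zpow_right k).eq

theorem isSolvable_of_coatom_aux
    (Φ : ∀ (G : Type u) [Group G], Subgroup G → Prop)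
    (hΦquot : ∀ (G : Type u) [Group G] [Finite G] (M K : Subgroup G) [K.Normal], K ≤ M →
      Φ G M → Φ (G ⧸ K) (M.map (QuotientGroup.mk' K)))
    (hΦnpc : ∀ (G : Type u) [Group G] [Finite G] (M : Subgroup G), Group.IsNilpotent M →
      NormProp M → Φ G M → ∀ p : ℕ, p.Prime → p ∣ Nat.card M → NPC p G) :
    ∀ n : ℕ, ∀ (G : Type u) [Group G] [Finite G], Nat.card G = n → ∀ M : Subgroup G,
      IsCoatom M → Group.IsNilpotent M → Φ G M → Group.IsSolvable G := by
  intro n
  induction n using Nat.strong_induction_on with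
  | _ n ih =>
  intro G _ _ hn M hco hnil hΦ
  by_cases hM : M = ⊥
  · exact isSolvable_of_coatom_bot (hM ▸ hco)
  by_cases hK : M.normalCore = ⊥
  · have hNP := normProp_of_coatom M hco hK
    exact isSolvable_of_normProp M hnil hM hNP (hΦnpc G M hnil hNP hΦ)
  · obtain ⟨K, hKdef⟩ : ∃ K : Subgroup G, K = M.normalCore := ⟨_, rfl⟩
    have hKn : K.Normal := hKdef ▸ inferInstance
    have hKM : K ≤ M := hKdef ▸ Subgroup.normalCore_le M
    rw [← hKdef] at hK
    have hlt : Nat.card (G ⧸ K) < n := by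
      rw [← hn, ← Subgroup.index_eq_card, ← Subgroup.card_mul_index K]
      have h1 : 1 < Nat.card K := by
        rw [Subgroup.one_lt_card_iff_ne_bot]; exact hK
      have h2 : 0 < K.index := Nat.pos_of_ne_zero Subgroup.index_ne_zero_of_finite
      nlinarith
    have hco' := isCoatom_map_mk M K hKM hco
    have hnil' : Group.IsNilpotent (M.map (QuotientGroup.mk' K)) := by
      haveI := hnil
      exact Group.nilpotent_of_surjective ((QuotientGroup.mk' K).subgroupMap M)
        ((QuotientGroup.mk' K).subgroupMap_surjective M)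
    have hq : Group.IsSolvable (G ⧸ K) :=
      ih _ hlt (G ⧸ K) rfl _ hco' hnil' (hΦquot G M K hKM hΦ)
    have hKs : Group.IsSolvable K := by
      haveI := hnil
      exact Group.isSolvable_of_isSolvable_injective (Subgroup.inclusion_injective hKM)
    exact (Group.isSolvable_iff_subgroup_quotient K).mpr ⟨hKs, hq⟩

end Cfsg.Agent.Lib.Helper24
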