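import Cfsg.Agent.Lib.Helper24.SylowTools

set_option autoImplicit false

namespace Cfsg.Agent.Lib.Helper24

section SylowPrime
variable {G : Type*} [Group G] {p : ℕ} [Fact p.Prime]

omit [Fact p.Prime] in
/-- A `p`-element of `N_G(P)` lies in the Sylow `p`-subgroup `P`. -/
theorem mem_sylow_of_mem_normalizer_of_isPGroup (P : Sylow p G) (z : G)
    (hz : z ∈ Subgroup.normalizer ((P : Subgroup G) : Set G))
    (hzp : IsPGroup p (Subgroup.zpowers z)) : z ∈ (P : Subgroup G) := by
  have hle : Subgroup.zpowers z ≤ Subgroup.normalizer ((P : Subgroup G) : Set G) := by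
    rw [Subgroup.zpowers_le]; exact hz
  have h1 := P.is_maximal' (hzp.to_sup_of_normal_right' P.2 hle) le_sup_right
  have h2 : Subgroup.zpowers z ≤ (P : Subgroup G) := by
    rw [← h1]; exact le_sup_left
  exact h2 (Subgroup.mem_zpowers z)

/-- fixed cosets: `y • gN = gN ↔ g⁻¹ y g ∈ N` -/
theorem smul_coset_eq_iff (N : Subgroup G) (y g : G) :
    y • (g : G ⧸ N) = (g : G ⧸ N) ↔ g⁻¹ * y * g ∈ N := by
  rw [MulAction.Quotient.smul_mk, QuotientGroup.eq, smul_eq_mul, mul_inv_rev]
  rw [← N.inv_mem_iff]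
  have : (g⁻¹ * y⁻¹ * g)⁻¹ = g⁻¹ * y * g := by group
  rw [this]

/-- If `|P| = p` then an element of order `p` fixes exactly one coset of `N_G(P)`. -/
theorem card_fixedBy_normalizer_eq_one [Finite G] (P : Sylow p G)
    (hP : Nat.card ↥(P : Subgroup G) = p) (y : G) (hy : orderOf y = p) :
    Nat.card (MulAction.fixedBy (G ⧸ Subgroup.normalizer ((P : Subgroup G) : Set G)) y) = 1 := by
  have hcardY : Nat.card (Subgroup.zpowers y) = p ^ (Nat.card G).factorization p := by
    rw [Nat.card_zpowers, hy, ← P.card_eq_multiplicity, hP]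
  -- the Sylow subgroup generated by y
  obtain ⟨Y, hY⟩ : ∃ Y : Sylow p G, (Y : Subgroup G) = Subgroup.zpowers y :=
    ⟨Sylow.ofCard _ hcardY, rfl⟩
  have hzp : ∀ g : G, IsPGroup p (Subgroup.zpowers (g⁻¹ * y * g)) := by
    intro g
    apply IsPGroup.of_card (n := 1)
    rw [Nat.card_zpowers, pow_one]
    have := (MulAut.conj g⁻¹).orderOf_eq y
    rw [MulAut.conj_apply, inv_inv] at this
    rw [this, hy]
  -- y fixes gN iff g • P = Y
  have key : ∀ g : G, y • (g : G ⧸ Subgroup.normalizer ((P : Subgroup G) : Set G)) = g ↔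
      g • P = Y := by
    intro g
    rw [smul_coset_eq_iff]
    constructor
    · intro h
      have h1 := mem_sylow_of_mem_normalizer_of_isPGroup P _ h (hzp g)
      have h2 : y ∈ ((g • P : Sylow p G) : Subgroup G) := (mem_smul_sylow_iff P g y).mpr h1
      have h3 : (Y : Subgroup G) ≤ ((g • P : Sylow p G) : Subgroup G) := by
        rw [hY, Subgroup.zpowers_le]; exact h2
      have h4 : Nat.card ((g • P : Sylow p G) : Subgroup G) ≤ Nat.card (Y : Subgroup G) := by
        rw [Sylow.card_eq_multiplicity, Sylow.card_eq_multiplicity]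
      exact (Sylow.ext (Subgroup.eq_of_le_of_card_ge h3 h4)).symm
    · intro h
      have h2 : y ∈ ((g • P : Sylow p G) : Subgroup G) := by
        rw [h, hY]; exact Subgroup.mem_zpowers y
      exact Subgroup.le_normalizer ((mem_smul_sylow_iff P g y).mp h2)
  rw [Nat.card_eq_one_iff_unique]
  obtain ⟨g₀, hg₀⟩ := MulAction.exists_smul_eq G P Y
  refine ⟨⟨?_⟩, ⟨⟨(g₀ : G ⧸ _), (key g₀).mpr hg₀⟩⟩⟩
  rintro ⟨a, ha⟩ ⟨b, hb⟩
  rw [Subtype.mk.injEq]
  induction a using QuotientGroup.induction_on with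
  | H a =>
    induction b using QuotientGroup.induction_on with
    | H b =>
      rw [MulAction.mem_fixedBy] at ha hb
      have h1 := (key a).mp ha
      have h2 := (key b).mp hb
      rw [QuotientGroup.eq]
      have h3 : (a⁻¹ * b) • P = P := by rw [mul_smul, h2, ← h1, inv_smul_smul]
      exact Sylow.smul_eq_iff_mem_normalizer.mp h3

end SylowPrime

end Cfsg.Agent.Lib.Helper24
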