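import Mathlib
import Cfsg.Agent.Lib.Helper24.OmegaAll

set_option autoImplicit false

namespace Cfsg.Agent.Lib.Helper24

section SmallFusion
variable {G : Type*} [Group G]

/-- If a Sylow `p`-subgroup `P` controls fusion of its elements of order dividing `p` (or `4`
when `p = 2`), then every `p'`-element normalizing a subgroup `Q ≤ P` centralizes it. -/
theorem fusion_small_local [Finite G] {p : ℕ} [Fact p.Prime] (P : Sylow p G)
    (hC : ∀ a ∈ (P : Subgroup G), (a ^ p = 1 ∨ (p = 2 ∧ a ^ 4 = 1)) → ∀ g : G,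
      g * a * g⁻¹ ∈ (P : Subgroup G) → ∃ x ∈ (P : Subgroup G), g * a * g⁻¹ = x * a * x⁻¹)
    {g : G} (hcop : Nat.Coprime (orderOf g) p) :
    ∀ (n : ℕ) (Q : Subgroup G), Nat.card Q = n → Q ≤ (P : Subgroup G) →
      (∀ x ∈ Q, g * x * g⁻¹ ∈ Q) → ∀ x ∈ Q, g * x * g⁻¹ = x := by
  intro n
  induction n using Nat.strong_induction_on with
  | _ n ih =>
    intro Q hn hQP hnorm
    have hQpg : IsPGroup p Q := P.2.to_le hQP
    have hcopx : ∀ x ∈ Q, Nat.Coprime (orderOf g) (orderOf x) := by
      intro x hx
      obtain ⟨j, hj⟩ := (IsPGroup.iff_orderOf.1 hQpg) ⟨x, hx⟩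
      have : orderOf x = p ^ j := by rw [← hj]; exact (Subgroup.orderOf_mk x hx).symm
      rw [this]
      exact Nat.Coprime.pow_right j hcop
    apply coprime_centralizes_of_omega hcop Q hQpg hnorm
    intro s hsQ hssmall
    set T : Set G := {t | ∃ i : ℕ, t = g ^ i * s * (g ^ i)⁻¹} with hT
    have hTQ : ∀ t ∈ T, t ∈ Q := by
      rintro t ⟨i, rfl⟩
      exact conj_pow_mem Q hnorm i s hsQ
    have hTg : ∀ t ∈ T, g * t * g⁻¹ ∈ T := by
      rintro t ⟨i, rfl⟩
      refine ⟨i + 1, ?_⟩
      rw [pow_succ']; group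
    have hTsmall : ∀ t ∈ T, (t ^ p = 1 ∨ (p = 2 ∧ t ^ 4 = 1)) := by
      rintro t ⟨i, rfl⟩
      rcases hssmall with h1 | ⟨h2, h3⟩
      · left; rw [conj_pow, h1]; group
      · right; refine ⟨h2, ?_⟩; rw [conj_pow, h3]; group
    set D : Subgroup G := Subgroup.closure T with hD
    have hDQ : D ≤ Q := by rw [hD, Subgroup.closure_le]; exact hTQ
    have hDg : ∀ y ∈ D, g * y * g⁻¹ ∈ D := conj_mem_closure hTg
    have hsD : s ∈ D := Subgroup.subset_closure ⟨0, by simp⟩
    by_cases hDQeq : D = Q
    · -- `Q` is generated by small elements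
      set B : Subgroup G := Subgroup.closure
        {b | ∃ q ∈ Q, ∃ t ∈ T, b = q * (t⁻¹ * (g * t * g⁻¹)) * q⁻¹} with hB
      have hBQ : B ≤ Q := by
        rw [hB, Subgroup.closure_le]
        rintro b ⟨q, hq, t, ht, rfl⟩
        exact Q.mul_mem (Q.mul_mem hq (Q.mul_mem (Q.inv_mem (hTQ t ht)) (hnorm t (hTQ t ht))))
          (Q.inv_mem hq)
      have hBg : ∀ y ∈ B, g * y * g⁻¹ ∈ B := by
        apply conj_mem_closure
        rintro b ⟨q, hq, t, ht, rfl⟩
        refine ⟨g * q * g⁻¹, hnorm q hq, g * t * g⁻¹, hTg t ht, ?_⟩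
        group
      have hBnorm : ∀ q ∈ Q, ∀ y ∈ B, q * y * q⁻¹ ∈ B := by
        intro q hq
        apply conj_mem_closure
        rintro b ⟨q', hq', t, ht, rfl⟩
        refine ⟨q * q', Q.mul_mem hq hq', t, ht, ?_⟩
        group
      have hcB : ∀ x ∈ D, x⁻¹ * (g * x * g⁻¹) ∈ B := by
        intro x hx
        induction hx using Subgroup.closure_induction with
        | mem t ht =>
          refine Subgroup.subset_closure ⟨1, Q.one_mem, t, ht, ?_⟩
          group
        | one => simp
        | mul a b ha hb iha ihb =>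
          have hbQ : b ∈ Q := hDQ hb
          have e : (a * b)⁻¹ * (g * (a * b) * g⁻¹) =
              (b⁻¹ * (a⁻¹ * (g * a * g⁻¹)) * b⁻¹⁻¹) * (b⁻¹ * (g * b * g⁻¹)) := by group
          rw [e]
          exact B.mul_mem (hBnorm b⁻¹ (Q.inv_mem hbQ) _ iha) ihb
        | inv a ha iha =>
          have haQ : a ∈ Q := hDQ ha
          have e : a⁻¹⁻¹ * (g * a⁻¹ * g⁻¹) = a * (a⁻¹ * (g * a * g⁻¹))⁻¹ * a⁻¹ := by group
          rw [e]
          exact hBnorm a haQ _ (B.inv_mem iha)
      by_cases hBeq : B = Q
      · -- descent along the lower central series of `P`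
        have hdesc : ∀ i : ℕ, Q ≤ (P : Subgroup G).lowerCentralSeries i := by
          intro i
          induction i with
          | zero => rw [Subgroup.lowerCentralSeries_zero]; exact hQP
          | succ i ihi =>
            have hN := (P : Subgroup G).self_le_normalizer_lowerCentralSeries (i + 1)
            rw [← hBeq, hB, Subgroup.closure_le]
            rintro b ⟨q, hq, t, ht, rfl⟩
            have htQ := hTQ t ht
            obtain ⟨y, hyP, hy⟩ := hC t (hQP htQ) (hTsmall t ht) g (hQP (hnorm t htQ))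
            have hmem : t⁻¹ * (g * t * g⁻¹) ∈ (P : Subgroup G).lowerCentralSeries (i + 1) := by
              rw [Subgroup.lowerCentralSeries_succ]
              have h1 : t⁻¹ ∈ (P : Subgroup G).lowerCentralSeries i :=
                Subgroup.inv_mem _ (ihi htQ)
              have := Subgroup.commutator_mem_commutator h1 hyP
              rw [commutatorElement_def, inv_inv] at this
              rw [hy]
              have e : t⁻¹ * (y * t * y⁻¹) = t⁻¹ * y * t * y⁻¹ := by group
              rw [e]; exact this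
            exact (Subgroup.mem_normalizer_iff.1 (hN (hQP hq)) _).1 hmem
        haveI : Group.IsNilpotent (P : Subgroup G) := P.2.isNilpotent
        obtain ⟨m, hm⟩ := ((P : Subgroup G).isNilpotent_iff_lowerCentralSeries).1 inferInstance
        have := hdesc m hsQ
        rw [hm, Subgroup.mem_bot] at this
        rw [this]; group
      · -- `B < Q`
        have hBcard : Nat.card B < n := by
          rw [← hn]
          apply lt_of_le_of_ne (Subgroup.card_le_of_le hBQ)
          intro hcard
          exact hBeq (Subgroup.eq_of_le_of_card_ge hBQ hcard.ge)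
        have hBfix := ih _ hBcard B rfl (hBQ.trans hQP) hBg
        have hcl := hcB s hsD
        have hgc := hBfix _ hcl
        have hxu : g * s * g⁻¹ = s * (s⁻¹ * (g * s * g⁻¹)) := by group
        have hu1 := eq_one_of_coprime_stab hxu hgc (hcopx _ (hBQ hcl))
        rw [hxu, hu1, mul_one]
    · -- `D < Q`
      have hDcard : Nat.card D < n := by
        rw [← hn]
        apply lt_of_le_of_ne (Subgroup.card_le_of_le hDQ)
        intro hcard
        exact hDQeq (Subgroup.eq_of_le_of_card_ge hDQ hcard.ge)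
      exact ih _ hDcard D rfl (hDQ.trans hQP) hDg s hsD

end SmallFusion

end Cfsg.Agent.Lib.Helper24
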