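import Mathlib

/-! Abelian subgroups of symmetric groups: order at most the largest product of a partition (helper24). -/

set_option autoImplicit false
set_option linter.style.haveILetI false

namespace Cfsg.Agent.Lib.Helper24

/-- the largest product of a partition of `n` into positive parts -/
def maxProd : ℕ → ℕ
  | 0 => 1
  | 1 => 1
  | 2 => 2
  | 3 => 3
  | 4 => 4
  | (n + 5) => 3 * maxProd (n + 2)

theorem maxProd_add_three (n : ℕ) (hn : 2 ≤ n) : maxProd (n + 3) = 3 * maxProd n := by
  obtain ⟨m, rfl⟩ : ∃ m, n = m + 2 := ⟨n - 2, by omega⟩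
  show maxProd (m + 5) = 3 * maxProd (m + 2)
  rw [maxProd]

theorem maxProd_pos (n : ℕ) : 0 < maxProd n := by
  induction n using Nat.strong_induction_on with
  | _ n ih =>
    rcases Nat.lt_or_ge n 5 with h | h
    · interval_cases n <;> simp [maxProd]
    · obtain ⟨m, rfl⟩ : ∃ m, n = m + 2 + 3 := ⟨n - 5, by omega⟩
      rw [maxProd_add_three _ (by omega)]
      have := ih (m + 2) (by omega)
      omega

theorem maxProd_small_steps (n : ℕ) :
    maxProd n ≤ maxProd (n + 1) ∧ 2 * maxProd n ≤ maxProd (n + 2) ∧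
      3 * maxProd n ≤ maxProd (n + 3) ∧ 4 * maxProd n ≤ maxProd (n + 4) := by
  induction n using Nat.strong_induction_on with
  | _ n ih =>
    rcases Nat.lt_or_ge n 5 with h | h
    · interval_cases n <;> simp [maxProd]
    · obtain ⟨m, rfl⟩ : ∃ m, n = m + 2 + 3 := ⟨n - 5, by omega⟩
      obtain ⟨h1, h2, h3, h4⟩ := ih (m + 2) (by omega)
      have e0 : maxProd (m + 2 + 3) = 3 * maxProd (m + 2) := maxProd_add_three _ (by omega)
      have e1 : maxProd (m + 2 + 3 + 1) = 3 * maxProd (m + 2 + 1) := by
        have := maxProd_add_three (m + 2 + 1) (by omega)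
        rw [← this]
      have e2 : maxProd (m + 2 + 3 + 2) = 3 * maxProd (m + 2 + 2) := by
        have := maxProd_add_three (m + 2 + 2) (by omega)
        rw [← this]
      have e3 : maxProd (m + 2 + 3 + 3) = 3 * maxProd (m + 2 + 3) := by
        have := maxProd_add_three (m + 2 + 3) (by omega)
        rw [← this]
      have e4 : maxProd (m + 2 + 3 + 4) = 3 * maxProd (m + 2 + 4) := by
        have := maxProd_add_three (m + 2 + 4) (by omega)
        rw [← this]
      refine ⟨?_, ?_, ?_, ?_⟩
      · rw [e0, e1]; omega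
      · rw [e0, e2]; omega
      · rw [e3]
      · rw [e0, e4]; omega

theorem mul_maxProd_le (m s : ℕ) (hm : 1 ≤ m) : m * maxProd s ≤ maxProd (m + s) := by
  induction m using Nat.strong_induction_on generalizing s with
  | _ m ih =>
    obtain ⟨h1, h2, h3, h4⟩ := maxProd_small_steps s
    rcases Nat.lt_or_ge m 5 with h | h
    · interval_cases m
      · rw [one_mul, add_comm]; exact h1
      · rw [add_comm]; exact h2
      · rw [add_comm]; exact h3
      · rw [add_comm]; exact h4
    · have ih' := ih (m - 3) (by omega) s (by omega)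
      have e : maxProd (m + s) = 3 * maxProd (m - 3 + s) := by
        have := maxProd_add_three (m - 3 + s) (by omega)
        rw [← this]
        congr 1
        omega
      rw [e]
      have hpos := maxProd_pos s
      calc m * maxProd s ≤ (3 * (m - 3)) * maxProd s := Nat.mul_le_mul_right _ (by omega)
        _ = 3 * ((m - 3) * maxProd s) := by ring
        _ ≤ 3 * maxProd (m - 3 + s) := Nat.mul_le_mul_left _ ih'

theorem maxProd_three_mul (k : ℕ) : maxProd (3 * k) = 3 ^ k := by
  induction k with
  | zero => simp [maxProd]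
  | succ k ih =>
    rcases Nat.eq_zero_or_pos k with h | h
    · subst h; simp [maxProd]
    · have : 3 * (k + 1) = 3 * k + 3 := by ring
      rw [this, maxProd_add_three _ (by omega), ih, pow_succ]; ring

theorem maxProd_three_mul_add_one (k : ℕ) (hk : 1 ≤ k) : maxProd (3 * k + 1) = 4 * 3 ^ (k - 1) := by
  induction k with
  | zero => omega
  | succ k ih =>
    rcases Nat.eq_zero_or_pos k with h | h
    · subst h; simp [maxProd]
    · have : 3 * (k + 1) + 1 = 3 * k + 1 + 3 := by ring
      rw [this, maxProd_add_three _ (by omega), ih h]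
      obtain ⟨j, rfl⟩ : ∃ j, k = j + 1 := ⟨k - 1, by omega⟩
      simp only [Nat.add_sub_cancel]
      rw [pow_succ]; ring

theorem maxProd_three_mul_add_two (k : ℕ) : maxProd (3 * k + 2) = 2 * 3 ^ k := by
  induction k with
  | zero => simp [maxProd]
  | succ k ih =>
    have : 3 * (k + 1) + 2 = 3 * k + 2 + 3 := by ring
    rw [this, maxProd_add_three _ (by omega), ih, pow_succ]; ring

end Cfsg.Agent.Lib.Helper24

namespace Cfsg.Agent.Lib.Helper24

theorem isMulCommutative_of_forall_mem {G : Type*} [Group G] (S : Subgroup G)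
    (h : ∀ x ∈ S, ∀ y ∈ S, x * y = y * x) : IsMulCommutative S :=
  ⟨⟨fun a b => Subtype.ext (h a a.2 b b.2)⟩⟩

theorem mul_comm_of_isMulCommutative {G : Type*} [Group G] (S : Subgroup G)
    (h : IsMulCommutative S) {x y : G} (hx : x ∈ S) (hy : y ∈ S) : x * y = y * x :=
  congrArg Subtype.val (h.is_comm.comm ⟨x, hx⟩ ⟨y, hy⟩)

/-- an abelian permutation group of degree `n` has order at most `maxProd n` -/
theorem card_le_maxProd_aux : ∀ (n : ℕ) (Ω : Type) [Fintype Ω] [DecidableEq Ω],
    Fintype.card Ω = n → ∀ A : Subgroup (Equiv.Perm Ω),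
    (∀ a ∈ A, ∀ b ∈ A, a * b = b * a) → Nat.card A ≤ maxProd n := by
  intro n
  induction n using Nat.strong_induction_on with
  | _ n ih =>
    intro Ω _ _ hcard A hA
    classical
    by_cases hΩ : IsEmpty Ω
    · haveI := hΩ
      haveI : Subsingleton (Equiv.Perm Ω) := inferInstance
      have : Nat.card A ≤ 1 := Finite.card_le_one_iff_subsingleton.mpr inferInstance
      exact this.trans (maxProd_pos n)
    · rw [not_isEmpty_iff] at hΩ
      obtain ⟨x⟩ := hΩ
      obtain ⟨O, hO⟩ : ∃ O : Set Ω, O = {y | ∃ a ∈ A, a x = y} := ⟨_, rfl⟩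
      have hOmem : ∀ y, y ∈ O ↔ ∃ a ∈ A, a x = y := by
        intro y; rw [hO]; rfl
      have hxO : x ∈ O := (hOmem x).mpr ⟨1, A.one_mem, rfl⟩
      have hinv : ∀ a ∈ A, ∀ y, a y ∈ O ↔ y ∈ O := by
        intro a ha y
        rw [hOmem, hOmem]
        constructor
        · rintro ⟨b, hb, hby⟩
          refine ⟨a⁻¹ * b, A.mul_mem (A.inv_mem ha) hb, ?_⟩
          rw [Equiv.Perm.mul_apply, hby]
          simp
        · rintro ⟨b, hb, hby⟩
          refine ⟨a * b, A.mul_mem ha hb, ?_⟩
          rw [Equiv.Perm.mul_apply, hby]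
      -- restriction to the complement
      let ρ : A →* Equiv.Perm {y // y ∉ O} :=
        { toFun := fun a => (a : Equiv.Perm Ω).subtypePerm (fun y => not_congr (hinv a a.2 y))
          map_one' := by ext y; rfl
          map_mul' := fun a b => by ext y; rfl }
      have hρ : ∀ (a : A) (y : {y // y ∉ O}), ((ρ a) y : Ω) = (a : Equiv.Perm Ω) y := fun a y => rfl
      have hsplit : Nat.card A = Nat.card ρ.ker * Nat.card ρ.range := by
        rw [← Subgroup.card_mul_index ρ.ker, Subgroup.index_ker]
      -- the kernel injects into the orbit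
      have hker : Nat.card ρ.ker ≤ Nat.card O := by
        have hmem : ∀ k : ρ.ker, ((k : A) : Equiv.Perm Ω) x ∈ O := by
          intro k; exact (hOmem _).mpr ⟨_, (k : A).2, rfl⟩
        apply Nat.card_le_card_of_injective (fun k : ρ.ker => (⟨((k : A) : Equiv.Perm Ω) x, hmem k⟩ : O))
        intro k k' hkk
        have hkx : ((k : A) : Equiv.Perm Ω) x = ((k' : A) : Equiv.Perm Ω) x := congrArg Subtype.val hkk
        apply Subtype.ext
        apply Subtype.ext
        ext y
        by_cases hy : y ∈ O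
        · obtain ⟨b, hb, rfl⟩ := (hOmem y).mp hy
          have e1 : ((k : A) : Equiv.Perm Ω) (b x) = b (((k : A) : Equiv.Perm Ω) x) := by
            rw [← Equiv.Perm.mul_apply, ← Equiv.Perm.mul_apply, hA _ (k : A).2 _ hb]
          have e2 : ((k' : A) : Equiv.Perm Ω) (b x) = b (((k' : A) : Equiv.Perm Ω) x) := by
            rw [← Equiv.Perm.mul_apply, ← Equiv.Perm.mul_apply, hA _ (k' : A).2 _ hb]
          rw [e1, e2, hkx]
        · have h1 : ρ (k : A) = 1 := k.2
          have h2 : ρ (k' : A) = 1 := k'.2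
          have e1 := hρ (k : A) ⟨y, hy⟩
          have e2 := hρ (k' : A) ⟨y, hy⟩
          rw [h1] at e1
          rw [h2] at e2
          simp only [Equiv.Perm.coe_one, id_eq] at e1 e2
          rw [← e1, ← e2]
      -- cardinalities
      have hOcard : Nat.card O + Fintype.card {y // y ∉ O} = n := by
        have h1 : Fintype.card {y // y ∉ O} = Fintype.card Ω - Fintype.card {y // y ∈ O} :=
          Fintype.card_subtype_compl _
        have h2 : Fintype.card {y // y ∈ O} ≤ Fintype.card Ω := Fintype.card_subtype_le _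
        have h3 : Nat.card O = Fintype.card {y // y ∈ O} := Nat.card_eq_fintype_card
        omega
      have hOpos : 1 ≤ Nat.card O := by
        haveI : Nonempty O := ⟨⟨x, hxO⟩⟩
        exact Nat.card_pos
      have hrange : Nat.card ρ.range ≤ maxProd (Fintype.card {y // y ∉ O}) := by
        apply ih (Fintype.card {y // y ∉ O}) (by omega) {y // y ∉ O} rfl ρ.range
        rintro _ ⟨a, rfl⟩ _ ⟨b, rfl⟩
        rw [← map_mul, ← map_mul]
        congr 1
        exact Subtype.ext (hA _ a.2 _ b.2)
      calc Nat.card A = Nat.card ρ.ker * Nat.card ρ.range := hsplit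
        _ ≤ Nat.card O * maxProd (Fintype.card {y // y ∉ O}) := Nat.mul_le_mul hker hrange
        _ ≤ maxProd (Nat.card O + Fintype.card {y // y ∉ O}) := mul_maxProd_le _ _ hOpos
        _ = maxProd n := by rw [hOcard]

theorem card_le_maxProd (n : ℕ) (A : Subgroup (Equiv.Perm (Fin n))) (hA : IsMulCommutative A) :
    Nat.card A ≤ maxProd n :=
  card_le_maxProd_aux n (Fin n) (Fintype.card_fin n) A
    (fun _ ha _ hb => mul_comm_of_isMulCommutative A hA ha hb)

end Cfsg.Agent.Lib.Helper24

namespace Cfsg.Agent.Lib.Helper24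

/-- there is an abelian subgroup of order `c` in `Sym(n)` -/
def HasAbelianPermSubgroup (n c : ℕ) : Prop :=
  ∃ A : Subgroup (Equiv.Perm (Fin n)), IsMulCommutative A ∧ Nat.card A = c

theorem hasAbelianPermSubgroup_self (m : ℕ) (hm : 1 ≤ m) : HasAbelianPermSubgroup m m := by
  refine ⟨Subgroup.zpowers (finRotate m), ?_, ?_⟩
  · apply isMulCommutative_of_forall_mem
    rintro _ ⟨i, rfl⟩ _ ⟨j, rfl⟩
    exact (Commute.zpow_zpow_self _ i j).eq
  · rw [Nat.card_zpowers]
    rcases Nat.lt_or_ge m 2 with h | h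
    · have : m = 1 := by omega
      subst this
      have : finRotate 1 = 1 := Subsingleton.elim _ _
      rw [this, orderOf_one]
    · rw [(isCycle_finRotate_of_le h).orderOf, support_finRotate_of_le h, Finset.card_univ,
        Fintype.card_fin]

theorem hasAbelianPermSubgroup_zero : HasAbelianPermSubgroup 0 1 := by
  refine ⟨⊥, ?_, ?_⟩
  · apply isMulCommutative_of_forall_mem
    intro x hx y hy
    rw [Subgroup.mem_bot] at hx hy
    rw [hx, hy]
  · exact Subgroup.card_bot

theorem hasAbelianPermSubgroup_add {n m c d : ℕ} (h1 : HasAbelianPermSubgroup n c)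
    (h2 : HasAbelianPermSubgroup m d) : HasAbelianPermSubgroup (n + m) (c * d) := by
  obtain ⟨A, hA, hAc⟩ := h1
  obtain ⟨B, hB, hBc⟩ := h2
  obtain ⟨φ, hφ⟩ : ∃ φ : Equiv.Perm (Fin n) × Equiv.Perm (Fin m) →* Equiv.Perm (Fin (n + m)),
      Function.Injective φ :=
    ⟨(finSumFinEquiv.permCongrHom : Equiv.Perm (Fin n ⊕ Fin m) ≃* Equiv.Perm (Fin (n + m))).toMonoidHom.comp
      (Equiv.Perm.sumCongrHom (Fin n) (Fin m)),
      (finSumFinEquiv.permCongrHom : Equiv.Perm (Fin n ⊕ Fin m) ≃* Equiv.Perm (Fin (n + m))).injective.comp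
        Equiv.Perm.sumCongrHom_injective⟩
  refine ⟨(A.prod B).map φ, ?_, ?_⟩
  · apply isMulCommutative_of_forall_mem
    rintro _ ⟨⟨a, b⟩, ⟨ha, hb⟩, rfl⟩ _ ⟨⟨a', b'⟩, ⟨ha', hb'⟩, rfl⟩
    rw [← map_mul, ← map_mul]
    congr 1
    exact Prod.ext (mul_comm_of_isMulCommutative A hA ha ha')
      (mul_comm_of_isMulCommutative B hB hb hb')
  · rw [Subgroup.card_map_of_injective hφ, ← hAc, ← hBc]
    rw [Nat.card_congr (Subgroup.prodEquiv A B).toEquiv, Nat.card_prod]

theorem hasAbelianPermSubgroup_three_mul (k : ℕ) : HasAbelianPermSubgroup (3 * k) (3 ^ k) := by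
  induction k with
  | zero => exact hasAbelianPermSubgroup_zero
  | succ k ih =>
    have h := hasAbelianPermSubgroup_add ih (hasAbelianPermSubgroup_self 3 (by norm_num))
    have e1 : 3 * k + 3 = 3 * (k + 1) := by ring
    have e2 : 3 ^ k * 3 = 3 ^ (k + 1) := by rw [pow_succ]
    rw [e1, e2] at h
    exact h

end Cfsg.Agent.Lib.Helper24
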