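import Mathlib

set_option autoImplicit false
set_option linter.style.haveILetI false
set_option linter.unusedSimpArgs false
set_option linter.unusedSectionVars false

namespace Cfsg.Agent.Lib.Helper24.AdjGen

open Matrix

variable {ι : Type*} [Fintype ι] [DecidableEq ι] {F : Type*} [Field F]

/-- a linear anti-involution of the matrix algebra -/
structure IsAdj (adj : Matrix ι ι F → Matrix ι ι F) : Prop where
  mul : ∀ x y, adj (x * y) = adj y * adj x
  add : ∀ x y, adj (x + y) = adj x + adj y
  smul : ∀ (c : F) x, adj (c • x) = c • adj x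
  one : adj 1 = 1
  invol : ∀ x, adj (adj x) = x

namespace IsAdj

variable {adj : Matrix ι ι F → Matrix ι ι F} (hadj : IsAdj adj)
include hadj

theorem zero : adj 0 = 0 := by
  have := hadj.smul 0 0
  rw [zero_smul, zero_smul] at this
  exact this

theorem neg (x : Matrix ι ι F) : adj (-x) = -adj x := by
  have := hadj.smul (-1) x
  rw [neg_smul, one_smul, neg_smul, one_smul] at this
  exact this

theorem sub (x y : Matrix ι ι F) : adj (x - y) = adj x - adj y := by
  rw [sub_eq_add_neg, hadj.add, hadj.neg, ← sub_eq_add_neg]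

theorem algMap (c : F) :
    adj (algebraMap F (Matrix ι ι F) c) = algebraMap F (Matrix ι ι F) c := by
  rw [Algebra.algebraMap_eq_smul_one, hadj.smul, hadj.one]

theorem sum {κ : Type*} (s : Finset κ) (f : κ → Matrix ι ι F) :
    adj (∑ i ∈ s, f i) = ∑ i ∈ s, adj (f i) := by
  classical
  induction s using Finset.induction_on with
  | empty => simp [hadj.zero]
  | insert a s ha ih => rw [Finset.sum_insert ha, Finset.sum_insert ha, hadj.add, ih]

theorem pow (x : Matrix ι ι F) (k : ℕ) : adj (x ^ k) = adj x ^ k := by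
  induction k with
  | zero => rw [pow_zero, pow_zero, hadj.one]
  | succ k ih => rw [pow_succ, hadj.mul, ih, pow_succ']

end IsAdj

/-- the averaging idempotent of a matrix of finite order -/
noncomputable def avg (T : Matrix ι ι F) (k : ℕ) : Matrix ι ι F :=
  ((k : F)⁻¹) • ∑ i ∈ Finset.range k, T ^ i

theorem mul_sum_pow {T : Matrix ι ι F} {k : ℕ} (hT : T ^ k = 1) :
    T * ∑ i ∈ Finset.range k, T ^ i = ∑ i ∈ Finset.range k, T ^ i := by
  have h1 : T * ∑ i ∈ Finset.range k, T ^ i = ∑ i ∈ Finset.range k, T ^ (i + 1) := by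
    rw [Finset.mul_sum]
    exact Finset.sum_congr rfl (fun i _ => (pow_succ' T i).symm)
  have h2 := Finset.sum_range_succ' (fun i => T ^ i) k
  have h3 := Finset.sum_range_succ (fun i => T ^ i) k
  rw [h3] at h2
  simp only [hT, pow_zero] at h2
  rw [h1]
  exact (add_right_cancel h2).symm

theorem mul_avg {T : Matrix ι ι F} {k : ℕ} (hT : T ^ k = 1) : T * avg T k = avg T k := by
  unfold avg
  rw [Matrix.mul_smul, mul_sum_pow hT]

theorem avg_comm (T : Matrix ι ι F) (k : ℕ) : avg T k * T = T * avg T k := by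
  unfold avg
  rw [Matrix.mul_smul, Matrix.smul_mul, Finset.mul_sum, Finset.sum_mul]
  congr 1
  exact Finset.sum_congr rfl (fun i _ => by rw [← pow_succ, ← pow_succ'])

theorem avg_mul {T : Matrix ι ι F} {k : ℕ} (hT : T ^ k = 1) : avg T k * T = avg T k := by
  rw [avg_comm, mul_avg hT]

theorem avg_mul_of_fix {T X : Matrix ι ι F} {k : ℕ} (hk : (k : F) ≠ 0) (hX : T * X = X) :
    avg T k * X = X := by
  have h0 : ∀ i : ℕ, T ^ i * X = X := by
    intro i
    induction i with
    | zero => rw [pow_zero, one_mul]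
    | succ i ih => rw [pow_succ, mul_assoc, hX, ih]
  unfold avg
  rw [Matrix.smul_mul, Finset.sum_mul, Finset.sum_congr rfl (fun i _ => h0 i), Finset.sum_const,
    Finset.card_range, ← Nat.cast_smul_eq_nsmul F, smul_smul, inv_mul_cancel₀ hk, one_smul]

theorem avg_idem {T : Matrix ι ι F} {k : ℕ} (hT : T ^ k = 1) (hk : (k : F) ≠ 0) :
    avg T k * avg T k = avg T k :=
  avg_mul_of_fix hk (mul_avg hT)

theorem avg_mem (T : Matrix ι ι F) (k : ℕ) (S : Subalgebra F (Matrix ι ι F)) (hT : T ∈ S) :
    avg T k ∈ S := by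
  unfold avg
  exact S.smul_mem (S.sum_mem (fun i _ => S.pow_mem hT i)) _

/-- `adj` of the averaging idempotent -/
theorem adj_avg {adj : Matrix ι ι F → Matrix ι ι F} (hadj : IsAdj adj) {T T' : Matrix ι ι F}
    {k : ℕ} (hT : T ^ k = 1) (hk : (k : F) ≠ 0) (hT' : adj T = T') (hTT' : T * T' = 1) :
    adj (avg T k) = avg T k := by
  have hT'T : T' * T = 1 := mul_eq_one_comm.mp hTT'
  have h0 : adj (avg T k) = avg T' k := by
    unfold avg
    rw [hadj.smul, hadj.sum]
    congr 1
    exact Finset.sum_congr rfl (fun i _ => by rw [hadj.pow, hT'])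
  rw [h0]
  have h1 : T' * avg T k = avg T k := by
    calc T' * avg T k = T' * (T * avg T k) := by rw [mul_avg hT]
      _ = avg T k := by rw [← mul_assoc, hT'T, one_mul]
  have h3 : avg T' k * avg T k = avg T k := avg_mul_of_fix hk h1
  have h5 : adj (avg T' k) = avg T k := by
    rw [← h0, hadj.invol]
  have h6 := congrArg adj h3
  rw [hadj.mul, h0, h5] at h6
  exact h6.symm.trans h3

/-- the complementary inverse: `(T - 1) y = 1 - avg T k` -/
theorem exists_compl {T : Matrix ι ι F} {k : ℕ} (hk : (k : F) ≠ 0)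
    (S : Subalgebra F (Matrix ι ι F)) (hTS : T ∈ S) :
    ∃ y ∈ S, (T - 1) * y = 1 - avg T k := by
  refine ⟨-((k : F)⁻¹ • ∑ i ∈ Finset.range k, ∑ j ∈ Finset.range i, T ^ j), ?_, ?_⟩
  · exact S.neg_mem (S.smul_mem (S.sum_mem (fun i _ => S.sum_mem (fun j _ => S.pow_mem hTS j))) _)
  · have h1 : (T - 1) * ∑ i ∈ Finset.range k, ∑ j ∈ Finset.range i, T ^ j
        = ∑ i ∈ Finset.range k, (T ^ i - 1) := by
      rw [Finset.mul_sum]
      exact Finset.sum_congr rfl (fun i _ => mul_geom_sum T i)
    rw [Matrix.mul_neg, Matrix.mul_smul, h1, Finset.sum_sub_distrib, Finset.sum_const,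
      Finset.card_range, smul_sub, ← Nat.cast_smul_eq_nsmul F, smul_smul, inv_mul_cancel₀ hk,
      one_smul]
    unfold avg
    abel

theorem conj_pow {A B c : Matrix ι ι F} (h : c * A = B * c) (i : ℕ) :
    c * A ^ i = B ^ i * c := by
  induction i with
  | zero => rw [pow_zero, pow_zero, mul_one, one_mul]
  | succ i ih => rw [pow_succ, ← mul_assoc, ih, mul_assoc, h, ← mul_assoc, ← pow_succ]

theorem conj_avg {A B c : Matrix ι ι F} (h : c * A = B * c) (k : ℕ) :
    c * avg A k = avg B k * c := by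
  unfold avg
  rw [Matrix.mul_smul, Matrix.smul_mul, Finset.mul_sum, Finset.sum_mul]
  congr 1
  exact Finset.sum_congr rfl (fun i _ => conj_pow h i)

end Cfsg.Agent.Lib.Helper24.AdjGen
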