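import Mathlib
import Cfsg.Agent.Lib.Helper24.AdjGenA
import Cfsg.Agent.Lib.Helper24.NormSurjC

set_option autoImplicit false
set_option linter.style.haveILetI false
set_option linter.unusedSimpArgs false
set_option linter.unusedSectionVars false

namespace Cfsg.Agent.Lib.Helper24.AdjGen

open Matrix

universe u

/-- norm surjectivity modulo a fixed element -/
theorem norm_surj_quot {S : Type u} [CommRing S] [Finite S] (σ : S →+* S)
    (hσ : ∀ x, σ (σ x) = x) (f ω d h : S) (hf : σ f = f) (hd : (ω - σ ω) * d = 1 - f)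
    (hh : IsUnit h) (hfix : σ h = h) : ∃ x r : S, x * σ x - h = r * f := by
  obtain ⟨I, hI⟩ : ∃ I : Ideal S, I = Ideal.span {f} := ⟨_, rfl⟩
  have hfI : f ∈ I := hI ▸ Ideal.subset_span rfl
  have hle : I ≤ I.comap σ := by
    rw [hI, Ideal.span_le]
    intro a ha
    rw [Set.mem_singleton_iff] at ha
    rw [ha, SetLike.mem_coe, Ideal.mem_comap, hf]
    exact Ideal.subset_span rfl
  haveI : Finite (S ⧸ I) := Finite.of_surjective _ Ideal.Quotient.mk_surjective
  have hσ' : ∀ xb : S ⧸ I, Ideal.quotientMap I σ hle (Ideal.quotientMap I σ hle xb) = xb := by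
    intro xb
    obtain ⟨x, rfl⟩ := Ideal.Quotient.mk_surjective xb
    rw [Ideal.quotientMap_mk, Ideal.quotientMap_mk, hσ]
  have hω' : IsUnit (Ideal.Quotient.mk I ω
      - Ideal.quotientMap I σ hle (Ideal.Quotient.mk I ω)) := by
    rw [Ideal.quotientMap_mk, ← map_sub]
    apply IsUnit.of_mul_eq_one (Ideal.Quotient.mk I d)
    rw [← map_mul, hd, map_sub, map_one, Ideal.Quotient.eq_zero_iff_mem.mpr hfI, sub_zero]
  have hfix' : Ideal.quotientMap I σ hle (Ideal.Quotient.mk I h) = Ideal.Quotient.mk I h := by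
    rw [Ideal.quotientMap_mk, hfix]
  obtain ⟨xb, hxb⟩ := Cfsg.Agent.Lib.Helper24.NormSurj.norm_surj (Ideal.quotientMap I σ hle) hσ'
    (Ideal.Quotient.mk I ω) hω' (Ideal.Quotient.mk I h) (hh.map _) hfix'
  obtain ⟨x₀, rfl⟩ := Ideal.Quotient.mk_surjective xb
  rw [Ideal.quotientMap_mk, ← map_mul, Ideal.Quotient.eq, hI, Ideal.mem_span_singleton'] at hxb
  obtain ⟨r, hr⟩ := hxb
  exact ⟨x₀, r, hr.symm⟩

variable {ι : Type*} [Fintype ι] [DecidableEq ι] {F : Type*} [Field F]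

/-- the commutative algebra generated by `A`, `A⁻¹` and `h` -/
def spAlg (A A' h : Matrix ι ι F) : Subalgebra F (Matrix ι ι F) :=
  Algebra.adjoin F ({A, A', h} : Set (Matrix ι ι F))

theorem gen_comm {A A' h : Matrix ι ι F} (hAA' : A * A' = 1) (hAh : A * h = h * A) :
    ∀ a ∈ ({A, A', h} : Set (Matrix ι ι F)),
      ∀ b ∈ ({A, A', h} : Set (Matrix ι ι F)), a * b = b * a := by
  have hA'A : A' * A = 1 := mul_eq_one_comm.mp hAA'
  have hA'h : A' * h = h * A' := by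
    calc A' * h = A' * h * (A * A') := by rw [hAA', mul_one]
      _ = A' * (h * A) * A' := by simp only [mul_assoc]
      _ = A' * (A * h) * A' := by rw [hAh]
      _ = (A' * A) * h * A' := by simp only [mul_assoc]
      _ = h * A' := by rw [hA'A, one_mul]
  intro a ha b hb
  simp only [Set.mem_insert_iff, Set.mem_singleton_iff] at ha hb
  rcases ha with rfl | rfl | rfl <;> rcases hb with rfl | rfl | rfl
  · rfl
  · rw [hAA', hA'A]
  · exact hAh
  · rw [hAA', hA'A]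
  · rfl
  · exact hA'h
  · exact hAh.symm
  · exact hA'h.symm
  · rfl

theorem spAlg_comm {A A' h : Matrix ι ι F} (hAA' : A * A' = 1) (hAh : A * h = h * A)
    {a b : Matrix ι ι F} (ha : a ∈ spAlg A A' h) (hb : b ∈ spAlg A A' h) : a * b = b * a := by
  letI : CommRing ↥(spAlg A A' h) := Algebra.adjoinCommRingOfComm F (gen_comm hAA' hAh)
  exact congrArg Subtype.val (mul_comm (⟨a, ha⟩ : ↥(spAlg A A' h)) ⟨b, hb⟩)

theorem spAlg_adj {adj : Matrix ι ι F → Matrix ι ι F} (hadj : IsAdj adj) {A A' h : Matrix ι ι F}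
    (hA' : adj A = A') (hh : adj h = h) {a : Matrix ι ι F} (ha : a ∈ spAlg A A' h) :
    adj a ∈ spAlg A A' h := by
  unfold spAlg at ha ⊢
  induction ha using Algebra.adjoin_induction with
  | mem x hx =>
    simp only [Set.mem_insert_iff, Set.mem_singleton_iff] at hx
    rcases hx with rfl | rfl | rfl
    · rw [hA']
      exact Algebra.subset_adjoin (by simp)
    · rw [← hA', hadj.invol]
      exact Algebra.subset_adjoin (by simp)
    · rw [hh]
      exact Algebra.subset_adjoin (by simp)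
  | algebraMap r =>
    rw [hadj.algMap]
    exact Subalgebra.algebraMap_mem _ _
  | add x y _ _ hx hy =>
    rw [hadj.add]
    exact add_mem hx hy
  | mul x y _ _ hx hy =>
    rw [hadj.mul]
    exact mul_mem hy hx

theorem A_mem (A A' h : Matrix ι ι F) : A ∈ spAlg A A' h :=
  Algebra.subset_adjoin (by simp)

theorem A'_mem (A A' h : Matrix ι ι F) : A' ∈ spAlg A A' h :=
  Algebra.subset_adjoin (by simp)

theorem h_mem (A A' h : Matrix ι ι F) : h ∈ spAlg A A' h :=
  Algebra.subset_adjoin (by simp)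

/-- the inverse square root away from the eigenvalues `±1`: `x₀ x₀† = h⁻¹` modulo `f` -/
theorem exists_x0 [Finite F] {adj : Matrix ι ι F → Matrix ι ι F} (hadj : IsAdj adj)
    {A A' h f d : Matrix ι ι F}
    (hA' : adj A = A') (hAA' : A * A' = 1) (hAh : A * h = h * A) (hh : adj h = h)
    (hu : IsUnit h) (hfS : f ∈ spAlg A A' h) (hf : adj f = f) (hff : f * f = f)
    (hdS : d ∈ spAlg A A' h) (hd : (A - A') * d = 1 - f) :
    ∃ x₀ ∈ spAlg A A' h, ∃ s ∈ spAlg A A' h, h * s = 1 ∧ (1 - f) * (x₀ * adj x₀ - s) = 0 := by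
  classical
  letI : CommRing ↥(spAlg A A' h) := Algebra.adjoinCommRingOfComm F (gen_comm hAA' hAh)
  have hc2 : ∀ x y : ↥(spAlg A A' h), x.1 * y.1 = y.1 * x.1 :=
    fun x y => congrArg Subtype.val (mul_comm x y)
  have hcl : ∀ x ∈ spAlg A A' h, adj x ∈ spAlg A A' h := fun x hx => spAlg_adj hadj hA' hh hx
  obtain ⟨σ, hσdef⟩ : ∃ σ : ↥(spAlg A A' h) →+* ↥(spAlg A A' h), ∀ x, (σ x).1 = adj x.1 :=
    ⟨{ toFun := fun x => ⟨adj x.1, hcl x.1 x.2⟩
       map_one' := Subtype.ext hadj.one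
       map_mul' := fun a b => Subtype.ext (by
        show adj (a.1 * b.1) = adj a.1 * adj b.1
        rw [hadj.mul]
        exact hc2 ⟨adj b.1, hcl b.1 b.2⟩ ⟨adj a.1, hcl a.1 a.2⟩)
       map_zero' := Subtype.ext hadj.zero
       map_add' := fun a b => Subtype.ext (hadj.add a.1 b.1) }, fun x => rfl⟩
  have hσσ : ∀ x, σ (σ x) = x := fun x => Subtype.ext (by rw [hσdef, hσdef, hadj.invol])
  haveI : Finite (Matrix ι ι F) := by
    unfold Matrix
    infer_instance
  haveI : Finite ↥(spAlg A A' h) := Subtype.finite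
  obtain ⟨h', hh'def⟩ : ∃ h' : ↥(spAlg A A' h), h'.1 = h := ⟨⟨h, h_mem A A' h⟩, rfl⟩
  obtain ⟨s, hs⟩ : ∃ s : ↥(spAlg A A' h), h' * s = 1 := by
    have hinj : Function.Injective (fun s : ↥(spAlg A A' h) => h' * s) := by
      intro s s' hss
      have h1 : h'.1 * s.1 = h'.1 * s'.1 := congrArg Subtype.val hss
      rw [hh'def] at h1
      exact Subtype.ext (hu.mul_left_cancel h1)
    exact (Finite.injective_iff_surjective.mp hinj) 1
  have hsu : IsUnit s := IsUnit.of_mul_eq_one h' ((mul_comm s h').trans hs)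
  have hfix' : σ h' = h' := Subtype.ext (by rw [hσdef, hh'def, hh])
  have hfixs : σ s = s := Cfsg.Agent.Lib.Helper24.NormSurj.inv_fixed σ hs hfix'
  have hf' : σ ⟨f, hfS⟩ = ⟨f, hfS⟩ := Subtype.ext (by rw [hσdef, hf])
  have hd' : ((⟨A, A_mem A A' h⟩ : ↥(spAlg A A' h)) - σ ⟨A, A_mem A A' h⟩) * ⟨d, hdS⟩
      = 1 - ⟨f, hfS⟩ := by
    apply Subtype.ext
    show (A - (σ ⟨A, A_mem A A' h⟩).1) * d = 1 - f
    rw [hσdef, hA']
    exact hd
  obtain ⟨x, r, hxr⟩ := norm_surj_quot σ hσσ ⟨f, hfS⟩ ⟨A, A_mem A A' h⟩ ⟨d, hdS⟩ s hf' hd' hsu hfixs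
  refine ⟨x.1, x.2, s.1, s.2, ?_, ?_⟩
  · have h1 : h'.1 * s.1 = 1 := congrArg Subtype.val hs
    exact (congrArg (fun t => t * s.1) hh'def).symm.trans h1
  · have h1 : x.1 * (σ x).1 - s.1 = r.1 * f := congrArg Subtype.val hxr
    rw [hσdef] at h1
    rw [h1, hc2 r ⟨f, hfS⟩, ← mul_assoc, sub_mul, one_mul, hff, sub_self, zero_mul]

theorem dcalc_two {R : Type*} [CommRing R] (A A' y₁ e₁ : R) (hAA' : A * A' = 1)
    (hy₁ : (A - 1) * y₁ = 1 - e₁) (hee : e₁ * e₁ = e₁) (h2 : (1 : R) + 1 = 0) :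
    (A - A') * (A * y₁ * y₁) = 1 - e₁ := by
  have h2' : (2 : R) = 0 := by rw [← one_add_one_eq_two]; exact h2
  linear_combination (-(y₁ * y₁)) * hAA' + ((A - 1) * y₁ * y₁) * h2'
    + ((A - 1) * y₁ + (1 - e₁)) * hy₁ + hee

theorem dcalc_plus {R : Type*} [CommRing R] (A A' y₁ z e₁ : R) (hAA' : A * A' = 1)
    (hy₁ : (A - 1) * y₁ = 1 - e₁) (hz : (A + 1) * z = 1) :
    (A - A') * (A * y₁ * z) = 1 - e₁ := by
  linear_combination (-(y₁ * z)) * hAA' + ((A + 1) * z) * hy₁ + (1 - e₁) * hz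

end Cfsg.Agent.Lib.Helper24.AdjGen
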