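import Mathlib
import Cfsg.Agent.Lib.Helper24.AdjGenB

set_option autoImplicit false
set_option linter.style.haveILetI false
set_option linter.unusedSimpArgs false
set_option linter.unusedSectionVars false

namespace Cfsg.Agent.Lib.Helper24.AdjGen

open Matrix

variable {ι : Type*} [Fintype ι] [DecidableEq ι] {F : Type*} [Field F]

/-- `A + 1` is invertible when `A` has odd order and `2 ≠ 0` -/
theorem exists_plus_inv {A : Matrix ι ι F} {N : ℕ} (hAN : A ^ N = 1) (hodd : Odd N)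
    (h2 : (2 : F) ≠ 0) (S : Subalgebra F (Matrix ι ι F)) (hAS : A ∈ S) :
    ∃ z ∈ S, (A + 1) * z = 1 := by
  refine ⟨(2 : F)⁻¹ • ∑ i ∈ Finset.range N, (-A) ^ i, ?_, ?_⟩
  · exact S.smul_mem (S.sum_mem (fun i _ => S.pow_mem (S.neg_mem hAS) i)) _
  · have h1 : (-A - 1) * ∑ i ∈ Finset.range N, (-A) ^ i = (-A) ^ N - 1 := mul_geom_sum (-A) N
    rw [Odd.neg_pow hodd, hAN] at h1
    have h3 : (A + 1) * ∑ i ∈ Finset.range N, (-A) ^ i = (2 : F) • (1 : Matrix ι ι F) := by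
      have : (A + 1) = -(-A - 1) := by abel
      rw [this, neg_mul, h1, two_smul]
      abel
    rw [Matrix.mul_smul, h3, smul_smul, inv_mul_cancel₀ h2, one_smul]

/-- the partial inverse square root for an element of odd order -/
theorem exists_partial [Finite F] {adj : Matrix ι ι F → Matrix ι ι F} (hadj : IsAdj adj)
    {A A' h : Matrix ι ι F} {N : ℕ}
    (hA' : adj A = A') (hAA' : A * A' = 1) (hAh : A * h = h * A) (hh : adj h = h)
    (hu : IsUnit h) (hAN : A ^ N = 1) (hN : (N : F) ≠ 0) (hodd : Odd N) :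
    ∃ x₀ ∈ spAlg A A' h, ∃ s ∈ spAlg A A' h, ∃ y₁ ∈ spAlg A A' h,
      h * s = 1 ∧ (A - 1) * y₁ = 1 - avg A N ∧ (1 - avg A N) * (x₀ * adj x₀ - s) = 0 := by
  have hAS := A_mem A A' h
  have hA'S := A'_mem A A' h
  obtain ⟨e₁, he₁def⟩ : ∃ e₁, e₁ = avg A N := ⟨_, rfl⟩
  have he₁S : e₁ ∈ spAlg A A' h := he₁def ▸ avg_mem A N _ hAS
  have he₁ : adj e₁ = e₁ := he₁def ▸ adj_avg hadj hAN hN hA' hAA'
  have hee₁ : e₁ * e₁ = e₁ := he₁def ▸ avg_idem hAN hN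
  obtain ⟨y₁, hy₁S, hy₁⟩ := exists_compl hN (spAlg A A' h) hAS
  rw [← he₁def] at hy₁ ⊢
  have key : ∃ d ∈ spAlg A A' h, (A - A') * d = 1 - e₁ := by
    by_cases h2 : (2 : F) = 0
    · refine ⟨A * y₁ * y₁, mul_mem (mul_mem hAS hy₁S) hy₁S, ?_⟩
      have h11 : (1 : Matrix ι ι F) + 1 = 0 := by
        have : (1 : Matrix ι ι F) + 1 = (2 : F) • 1 := by rw [two_smul]
        rw [this, h2, zero_smul]
      letI : CommRing ↥(spAlg A A' h) := Algebra.adjoinCommRingOfComm F (gen_comm hAA' hAh)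
      have := dcalc_two (⟨A, hAS⟩ : ↥(spAlg A A' h)) ⟨A', hA'S⟩ ⟨y₁, hy₁S⟩ ⟨e₁, he₁S⟩
        (Subtype.ext hAA') (Subtype.ext hy₁) (Subtype.ext hee₁) (Subtype.ext h11)
      exact congrArg Subtype.val this
    · obtain ⟨z, hzS, hz⟩ := exists_plus_inv hAN hodd h2 (spAlg A A' h) hAS
      refine ⟨A * y₁ * z, mul_mem (mul_mem hAS hy₁S) hzS, ?_⟩
      letI : CommRing ↥(spAlg A A' h) := Algebra.adjoinCommRingOfComm F (gen_comm hAA' hAh)
      have := dcalc_plus (⟨A, hAS⟩ : ↥(spAlg A A' h)) ⟨A', hA'S⟩ ⟨y₁, hy₁S⟩ ⟨z, hzS⟩ ⟨e₁, he₁S⟩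
        (Subtype.ext hAA') (Subtype.ext hy₁) (Subtype.ext hz)
      exact congrArg Subtype.val this
  obtain ⟨d, hdS, hd⟩ := key
  obtain ⟨x₀, hx₀S, s, hsS, hs, hx₀⟩ := exists_x0 hadj hA' hAA' hAh hh hu he₁S he₁ hee₁ hdS hd
  exact ⟨x₀, hx₀S, s, hsS, y₁, hy₁S, hs, hy₁, hx₀⟩

end Cfsg.Agent.Lib.Helper24.AdjGen
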