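import Mathlib
import Cfsg.Agent.Lib.Helper24.AdjGenC

set_option autoImplicit false
set_option linter.style.haveILetI false
set_option linter.unusedSimpArgs false
set_option linter.unusedSectionVars false

namespace Cfsg.Agent.Lib.Helper24.AdjGen

open Matrix

variable {ι : Type*} [Fintype ι] [DecidableEq ι] {F : Type*} [Field F]

theorem h_props {adj : Matrix ι ι F → Matrix ι ι F} (hadj : IsAdj adj) {A B c : Matrix ι ι F}
    (hAsp : A * adj A = 1) (hBsp : B * adj B = 1) (hc : IsUnit c) (hcAB : c * A = B * c) :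
    adj (adj c * c) = adj c * c ∧ IsUnit (adj c * c) ∧ A * (adj c * c) = (adj c * c) * A := by
  obtain ⟨c', hcc'⟩ := hc.exists_right_inv
  have hc'c : c' * c = 1 := mul_eq_one_comm.mp hcc'
  have hBB' : adj B * B = 1 := mul_eq_one_comm.mp hBsp
  have h1 : adj c * B = A * adj c := by
    have h2 : adj A * adj c = adj c * adj B := by
      rw [← hadj.mul, ← hadj.mul, hcAB]
    calc adj c * B = (A * adj A) * adj c * B := by rw [hAsp, one_mul]
      _ = A * (adj A * adj c) * B := by simp only [mul_assoc]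
      _ = A * adj c * (adj B * B) := by rw [h2]; simp only [mul_assoc]
      _ = A * adj c := by rw [hBB', mul_one]
  refine ⟨by rw [hadj.mul, hadj.invol], ?_, ?_⟩
  · apply IsUnit.of_mul_eq_one (c' * adj c')
    calc adj c * c * (c' * adj c') = adj c * (c * c') * adj c' := by simp only [mul_assoc]
      _ = adj (c' * c) := by rw [hcc', mul_one, hadj.mul]
      _ = 1 := by rw [hc'c, hadj.one]
  · rw [← mul_assoc, ← h1, mul_assoc, ← hcAB, mul_assoc]

/-- the core identities in the commutative algebra -/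
theorem core_calc {R : Type*} [CommRing R] (e₀ x₀ ax h s : R) (h1 : e₀ * (x₀ * ax - s) = 0)
    (h2 : h * s = 1) : (ax * h * x₀) * e₀ = e₀ ∧ (x₀ * (ax * h)) * e₀ = e₀ := by
  constructor
  · linear_combination h * h1 + e₀ * h2
  · linear_combination h * h1 + e₀ * h2

theorem pow_eq_one_of_conj {A B c : Matrix ι ι F} {N : ℕ} (hc : IsUnit c) (hcAB : c * A = B * c)
    (hAN : A ^ N = 1) : B ^ N = 1 := by
  have h1 := conj_pow hcAB N
  rw [hAN, mul_one] at h1
  obtain ⟨c', hcc'⟩ := hc.exists_right_inv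
  calc B ^ N = B ^ N * (c * c') := by rw [hcc', mul_one]
    _ = (B ^ N * c) * c' := by rw [mul_assoc]
    _ = 1 := by rw [← h1, hcc']

theorem one_sub_idem {e : Matrix ι ι F} (he : e * e = e) : (1 - e) * (1 - e) = 1 - e := by
  rw [mul_sub, sub_mul, sub_mul, one_mul, mul_one, one_mul, he, sub_self, sub_zero]

/-- the partial isometry intertwining `A` and `B` -/
theorem exists_u1 [Finite F] {adj : Matrix ι ι F → Matrix ι ι F} (hadj : IsAdj adj)
    {A B c : Matrix ι ι F} {N : ℕ} (hAsp : A * adj A = 1) (hBsp : B * adj B = 1)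
    (hc : IsUnit c) (hcAB : c * A = B * c) (hAN : A ^ N = 1) (hN : (N : F) ≠ 0)
    (hodd : Odd N) :
    ∃ u₁ y₁ r : Matrix ι ι F,
      u₁ * A = B * u₁ ∧
      (adj u₁ * u₁) * (1 - avg A N) = 1 - avg A N ∧
      u₁ * (1 - avg A N) = (1 - avg B N) * u₁ ∧
      (1 - avg A N) * r = r ∧ u₁ * r * (1 - avg B N) = 1 - avg B N ∧
      (A - 1) * y₁ = 1 - avg A N ∧ y₁ * (1 - avg A N) = (1 - avg A N) * y₁ := by
  obtain ⟨hh, hu, hAh⟩ := h_props hadj hAsp hBsp hc hcAB
  obtain ⟨A', hA'⟩ : ∃ A', adj A = A' := ⟨_, rfl⟩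
  rw [hA'] at hAsp
  obtain ⟨h, hdef⟩ : ∃ h, h = adj c * c := ⟨_, rfl⟩
  rw [← hdef] at hh hu hAh
  obtain ⟨x₀, hx₀S, s, hsS, y₁, hy₁S, hs, hy₁, hx₀⟩ :=
    exists_partial hadj hA' hAsp hAh hh hu hAN hN hodd
  have hcomm : ∀ {a b : Matrix ι ι F}, a ∈ spAlg A A' h → b ∈ spAlg A A' h → a * b = b * a :=
    fun ha hb => spAlg_comm hAsp hAh ha hb
  have hAS := A_mem A A' h
  have hhS := h_mem A A' h
  have haxS : adj x₀ ∈ spAlg A A' h := spAlg_adj hadj hA' hh hx₀S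
  obtain ⟨e₀, he₀def⟩ : ∃ e₀, e₀ = 1 - avg A N := ⟨_, rfl⟩
  obtain ⟨eB, heBdef⟩ : ∃ eB, eB = 1 - avg B N := ⟨_, rfl⟩
  rw [← he₀def] at hx₀ hy₁ ⊢
  rw [← heBdef]
  have he₀S : e₀ ∈ spAlg A A' h := by
    rw [he₀def]
    exact sub_mem (one_mem _) (avg_mem A N _ hAS)
  have hee₀ : e₀ * e₀ = e₀ := he₀def ▸ one_sub_idem (avg_idem hAN hN)
  have hBN : B ^ N = 1 := pow_eq_one_of_conj hc hcAB hAN
  have heeB : eB * eB = eB := heBdef ▸ one_sub_idem (avg_idem hBN hN)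
  have hce : c * e₀ = eB * c := by
    rw [he₀def, heBdef, mul_sub, sub_mul, mul_one, one_mul, conj_avg hcAB]
  obtain ⟨c', hcc'⟩ := hc.exists_right_inv
  -- the core identities
  have hcore : (adj x₀ * h * x₀) * e₀ = e₀ ∧ (x₀ * (adj x₀ * h)) * e₀ = e₀ := by
    letI : CommRing ↥(spAlg A A' h) := Algebra.adjoinCommRingOfComm F (gen_comm hAsp hAh)
    have := core_calc (⟨e₀, he₀S⟩ : ↥(spAlg A A' h)) ⟨x₀, hx₀S⟩ ⟨adj x₀, haxS⟩ ⟨h, hhS⟩ ⟨s, hsS⟩
      (Subtype.ext hx₀) (Subtype.ext hs)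
    exact ⟨congrArg Subtype.val this.1, congrArg Subtype.val this.2⟩
  refine ⟨c * x₀, y₁, adj x₀ * h * e₀ * c', ?_, ?_, ?_, ?_, ?_, hy₁, hcomm hy₁S he₀S⟩
  · rw [mul_assoc, hcomm hx₀S hAS, ← mul_assoc, hcAB, mul_assoc]
  · have : adj (c * x₀) * (c * x₀) = adj x₀ * h * x₀ := by
      rw [hadj.mul, hdef]
      simp only [mul_assoc]
    rw [this]
    exact hcore.1
  · rw [mul_assoc, hcomm hx₀S he₀S, ← mul_assoc, hce, mul_assoc]
  · have h1 : e₀ * (adj x₀ * h) = (adj x₀ * h) * e₀ := hcomm he₀S (mul_mem haxS hhS)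
    calc e₀ * (adj x₀ * h * e₀ * c') = (e₀ * (adj x₀ * h)) * e₀ * c' := by
          simp only [mul_assoc]
      _ = adj x₀ * h * (e₀ * e₀) * c' := by rw [h1]; simp only [mul_assoc]
      _ = adj x₀ * h * e₀ * c' := by rw [hee₀]
  · calc c * x₀ * (adj x₀ * h * e₀ * c') * eB
        = c * ((x₀ * (adj x₀ * h)) * e₀) * c' * eB := by simp only [mul_assoc]
      _ = (c * e₀) * c' * eB := by rw [hcore.2]
      _ = eB * (c * c') * eB := by rw [hce]; simp only [mul_assoc]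
      _ = eB := by rw [hcc', mul_one, heeB]

end Cfsg.Agent.Lib.Helper24.AdjGen
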