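import Cfsg.Agent.Lib.Helper24.Thompson
import Cfsg.Agent.Lib.Helper24.StrEmb
import Cfsg.Agent.Lib.Helper24.SylowPrime
import Cfsg.Agent.Lib.Helper24.Dih
import Cfsg.Agent.S0207
import Cfsg.Prelude.Def_Involutions

set_option autoImplicit false

namespace Cfsg.Agent.Lib.Helper24

section StrEmb2
variable {G : Type*} [Group G] [Finite G] {H : Subgroup G}

/-- If `t ∈ H` is an involution and `c t c⁻¹ ∈ H` then `c ∈ H` (H strongly embedded). -/
theorem se_key (hH : Cfsg.IsStronglyEmbedded H) {c t : G} (ht : t ∈ H) (ho : orderOf t = 2)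
    (hs : c * t * c⁻¹ ∈ H) : c ∈ H := by
  by_contra hc
  have hodd := hH.2.2 c hc
  refine not_odd_card_of_involution_mem _ (t := c * t * c⁻¹) ?_
    (by rw [orderOf_conj']; exact ho) hodd
  exact ⟨hs, (mem_conj_map_iff H c _).mpr ⟨t, ht, rfl⟩⟩

/-- The centralizer of an involution of a strongly embedded `H` lies in `H`. -/
theorem se_cent (hH : Cfsg.IsStronglyEmbedded H) {g t : G} (ht : t ∈ H) (ho : orderOf t = 2)
    (hc : g * t = t * g) : g ∈ H := by
  apply se_key hH ht ho
  have : g * t * g⁻¹ = t := by rw [hc, mul_inv_cancel_right]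
  rw [this]; exact ht

/-- Every involution lies in `H` or is conjugate to any given involution of `H`. -/
theorem se_mem_or_conj (hH : Cfsg.IsStronglyEmbedded H) {i t : G} (hi : orderOf i = 2)
    (ht : t ∈ H) (hto : orderOf t = 2) : i ∈ H ∨ ∃ g, g * t * g⁻¹ = i := by
  by_cases hc : IsConj t i
  · right; exact isConj_iff.mp hc
  · left
    have he := even_orderOf_mul_of_not_isConj hto hi hc
    obtain ⟨hz, hzt, hzi⟩ := Cfsg.Agent.S0209.result t i hto hi he
    have hzH : (t * i) ^ (orderOf (t * i) / 2) ∈ H := se_cent hH ht hto hzt.eq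
    exact se_cent hH hzH hz hzi.symm.eq

/-- An involution fixes at most one coset of a strongly embedded subgroup. -/
theorem se_fix_unique (hH : Cfsg.IsStronglyEmbedded H) {i : G} (hi : orderOf i = 2)
    {a b : G ⧸ H} (ha : i • a = a) (hb : i • b = b) : a = b := by
  induction a using QuotientGroup.induction_on with
  | H g₁ =>
    induction b using QuotientGroup.induction_on with
    | H g₂ =>
      rw [smul_coset_eq_iff] at ha hb
      rw [QuotientGroup.eq]
      have ho : orderOf (g₂⁻¹ * i * g₂) = 2 := by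
        have := orderOf_conj' g₂⁻¹ i
        rw [inv_inv] at this
        rw [this]; exact hi
      apply se_key hH hb ho
      have : g₁⁻¹ * g₂ * (g₂⁻¹ * i * g₂) * (g₁⁻¹ * g₂)⁻¹ = g₁⁻¹ * i * g₁ := by group
      rw [this]; exact ha

/-- An involution fixes at least one coset of a strongly embedded subgroup. -/
theorem se_exists_fix (hH : Cfsg.IsStronglyEmbedded H) {i : G} (hi : orderOf i = 2) :
    ∃ a : G ⧸ H, i • a = a := by
  obtain ⟨t, ht, hto⟩ := exists_involution_of_even_card H hH.2.1
  rcases se_mem_or_conj hH hi ht hto with h | ⟨g, hg⟩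
  · refine ⟨((1 : G) : G ⧸ H), ?_⟩
    rw [smul_coset_eq_iff]
    simpa using h
  · refine ⟨(g : G ⧸ H), ?_⟩
    rw [smul_coset_eq_iff, ← hg]
    have : g⁻¹ * (g * t * g⁻¹) * g = t := by group
    rw [this]; exact ht

theorem se_fix_of_commute (hH : Cfsg.IsStronglyEmbedded H) {t z : G} (ht : orderOf t = 2)
    {a : G ⧸ H} (ha : t • a = a) (hc : t * z = z * t) : z • a = a := by
  apply se_fix_unique hH ht _ ha
  rw [← mul_smul, hc, mul_smul, ha]

/-- Involutions with different fixed points have a product of odd order. -/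
theorem se_odd_orderOf_mul (hH : Cfsg.IsStronglyEmbedded H) {t s : G} (ht : orderOf t = 2)
    (hs : orderOf s = 2) {a b : G ⧸ H} (ha : t • a = a) (hb : s • b = b) (hab : a ≠ b) :
    Odd (orderOf (t * s)) := by
  by_contra h
  rw [Nat.not_odd_iff_even] at h
  obtain ⟨hz, hzt, hzs⟩ := Cfsg.Agent.S0209.result t s ht hs h
  have h1 := se_fix_of_commute hH ht ha hzt.symm.eq
  have h2 := se_fix_of_commute hH hs hb hzs.symm.eq
  exact hab (se_fix_unique hH hz h1 h2)

/-- Involutions `t`, `s` with different fixed points `a`, `b` are conjugate by an involution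
`w`, which then maps `a` to `b`. -/
theorem se_exists_swap (hH : Cfsg.IsStronglyEmbedded H) {t s : G} (ht : orderOf t = 2)
    (hs : orderOf s = 2) {a b : G ⧸ H} (ha : t • a = a) (hb : s • b = b) (hab : a ≠ b) :
    ∃ w : G, orderOf w = 2 ∧ w * t * w⁻¹ = s ∧ w • a = b := by
  have hodd := se_odd_orderOf_mul hH ht hs ha hb hab
  have hts : t ≠ s := by
    rintro rfl
    exact hab (se_fix_unique hH ht ha hb)
  obtain ⟨d, hd, hdc⟩ := Cfsg.Agent.S0208.result t s ht hs hodd
  have hmap : ∀ w : G, w * t * w⁻¹ = s → w • a = b := by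
    intro w hw
    apply se_fix_unique hH hs _ hb
    rw [← hw, ← mul_smul]
    have : w * t * w⁻¹ * w = w * t := by group
    rw [this, mul_smul, ha]
  by_cases hdz : d ∈ Subgroup.zpowers (t * s)
  · have hdt : d * t ∈ Subgroup.closure ({t, s} : Set G) :=
      Subgroup.mul_mem _ hd (x_mem_closure_pair t s)
    have hdt' : d * t ∉ Subgroup.zpowers (t * s) := by
      intro h
      have h' := (Subgroup.zpowers (t * s)).mul_mem ((Subgroup.zpowers (t * s)).inv_mem hdz) h
      rw [inv_mul_cancel_left] at h'
      exact x_not_mem_zpowers ht hs h'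
    have ho := Cfsg.Agent.S0207.result t s ht hs hts (d * t) hdt hdt'
    have hc : d * t * t * (d * t)⁻¹ = s := by
      have : d * t * t * (d * t)⁻¹ = d * t * d⁻¹ := by group
      rw [this]; exact hdc
    exact ⟨d * t, ho, hc, hmap _ hc⟩
  · have ho := Cfsg.Agent.S0207.result t s ht hs hts d hd hdz
    exact ⟨d, ho, hdc, hmap d hdc⟩

open Classical in
/-- For cosets `a ≠ b` of a strongly embedded subgroup `H`, there are at least as many
involutions mapping `a` to `b` as involutions fixing `a`. -/
theorem se_card_fix_le_card_swap [Fintype G] (hH : Cfsg.IsStronglyEmbedded H) {a b : G ⧸ H}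
    (hab : a ≠ b) :
    (Finset.univ.filter (fun i : G => orderOf i = 2 ∧ i • a = a)).card ≤
      (Finset.univ.filter (fun i : G => orderOf i = 2 ∧ i • a = b)).card := by
  -- an involution fixing b
  obtain ⟨s, hs, hsb⟩ : ∃ s : G, orderOf s = 2 ∧ s • b = b := by
    obtain ⟨t, ht, hto⟩ := exists_involution_of_even_card H hH.2.1
    induction b using QuotientGroup.induction_on with
    | H g =>
      refine ⟨g * t * g⁻¹, by rw [orderOf_conj']; exact hto, ?_⟩
      rw [smul_coset_eq_iff]
      have : g⁻¹ * (g * t * g⁻¹) * g = t := by group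
      rw [this]; exact ht
  let φ : G → G := fun t =>
    if h : orderOf t = 2 ∧ t • a = a then
      Classical.choose (se_exists_swap hH h.1 hs h.2 hsb hab) else 1
  have hφ : ∀ t : G, ∀ h : orderOf t = 2 ∧ t • a = a,
      orderOf (φ t) = 2 ∧ φ t * t * (φ t)⁻¹ = s ∧ φ t • a = b := by
    intro t h
    simp only [φ, dif_pos h]
    exact Classical.choose_spec (se_exists_swap hH h.1 hs h.2 hsb hab)
  apply Finset.card_le_card_of_injOn φ
  · intro t ht
    simp only [Finset.coe_filter, Finset.mem_univ, true_and, Set.mem_ofPred_eq] at ht ⊢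
    obtain ⟨h1, _, h3⟩ := hφ t ht
    exact ⟨h1, h3⟩
  · intro t ht t' ht' heq
    simp only [Finset.coe_filter, Finset.mem_univ, true_and, Set.mem_ofPred_eq] at ht ht'
    obtain ⟨_, h2, _⟩ := hφ t ht
    obtain ⟨_, h2', _⟩ := hφ t' ht'
    have e1 : t = (φ t)⁻¹ * s * φ t := by rw [← h2]; group
    have e2 : t' = (φ t')⁻¹ * s * φ t' := by rw [← h2']; group
    rw [e1, e2, heq]

open Classical in
/-- The number of involutions fixing a coset does not depend on the coset. -/
theorem se_card_fix [Fintype G] (a : G ⧸ H) :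
    (Finset.univ.filter (fun i : G => orderOf i = 2 ∧ i • a = a)).card =
      (Finset.univ.filter (fun t : G => orderOf t = 2 ∧ t ∈ H)).card := by
  induction a using QuotientGroup.induction_on with
  | H g =>
    symm
    apply Finset.card_bij (fun t _ => g * t * g⁻¹)
    · intro t ht
      simp only [Finset.mem_filter, Finset.mem_univ, true_and] at ht ⊢
      refine ⟨by rw [orderOf_conj']; exact ht.1, ?_⟩
      rw [smul_coset_eq_iff]
      have : g⁻¹ * (g * t * g⁻¹) * g = t := by group
      rw [this]; exact ht.2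
    · intro t _ t' _ h
      exact mul_left_cancel (mul_right_cancel h)
    · intro i hi
      simp only [Finset.mem_filter, Finset.mem_univ, true_and] at hi ⊢
      refine ⟨g⁻¹ * i * g, ⟨?_, ?_⟩, by group⟩
      · have := orderOf_conj' g⁻¹ i
        rw [inv_inv] at this
        rw [this]; exact hi.1
      · exact (smul_coset_eq_iff H i g).mp hi.2

open Classical in
/-- **Counting involutions in a coset.** For cosets `x ≠ y` of a strongly embedded subgroup `H`,
the number of involutions mapping `x` to `y` is the number of involutions of `H`. -/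
theorem se_card_swap_fin [Fintype G] (hH : Cfsg.IsStronglyEmbedded H) (x y : G ⧸ H)
    (hxy : x ≠ y) :
    (Finset.univ.filter (fun i : G => orderOf i = 2 ∧ i • x = y)).card =
      (Finset.univ.filter (fun t : G => orderOf t = 2 ∧ t ∈ H)).card := by
  set f := (Finset.univ.filter (fun t : G => orderOf t = 2 ∧ t ∈ H)).card with hf
  set Inv : Finset G := Finset.univ.filter (fun i : G => orderOf i = 2) with hInv
  let J : G ⧸ H → G ⧸ H → Finset G := fun a b =>
    Finset.univ.filter (fun i : G => orderOf i = 2 ∧ i • a = b)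
  have hJ : ∀ a b, J a b = Inv.filter (fun i => i • a = b) := by
    intro a b
    simp only [J, hInv, Finset.filter_filter]
  -- each involution has exactly one fixed point
  have hone : ∀ i ∈ Inv, (Finset.univ.filter (fun a : G ⧸ H => i • a = a)).card = 1 := by
    intro i hi
    rw [hInv, Finset.mem_filter] at hi
    obtain ⟨a, ha⟩ := se_exists_fix hH hi.2
    rw [Finset.card_eq_one]
    refine ⟨a, ?_⟩
    ext b
    simp only [Finset.mem_filter, Finset.mem_univ, true_and, Finset.mem_singleton]
    constructor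
    · intro hb; exact se_fix_unique hH hi.2 hb ha
    · rintro rfl; exact ha
  -- |Inv| = Σ_a |J a a|
  have hcount : Inv.card = ∑ a : G ⧸ H, (J a a).card := by
    have h1 : ∑ i ∈ Inv, (Finset.univ.filter (fun a : G ⧸ H => i • a = a)).card = Inv.card := by
      rw [Finset.sum_congr rfl hone, Finset.sum_const, smul_eq_mul, mul_one]
    rw [← h1]
    have := Finset.sum_card_bipartiteAbove_eq_sum_card_bipartiteBelow
      (s := Inv) (t := (Finset.univ : Finset (G ⧸ H))) (fun (i : G) (a : G ⧸ H) => i • a = a)
    simp only [Finset.bipartiteAbove, Finset.bipartiteBelow] at this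
    rw [this]
    apply Finset.sum_congr rfl
    intro a _
    rw [hJ]
  have hcount2 : Inv.card = ∑ b : G ⧸ H, (J x b).card := by
    have := Finset.card_eq_sum_card_fiberwise (f := fun i : G => i • x) (s := Inv)
      (t := (Finset.univ : Finset (G ⧸ H))) (fun _ _ => Finset.mem_coe.mpr (Finset.mem_univ _))
    rw [this]
    apply Finset.sum_congr rfl
    intro b _
    rw [hJ]
  have hdiag : ∀ a, (J a a).card = f := fun a => se_card_fix a
  have hge : ∀ b ∈ (Finset.univ : Finset (G ⧸ H)).erase x, f ≤ (J x b).card := by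
    intro b hb
    rw [Finset.mem_erase] at hb
    rw [← hdiag x]
    exact se_card_fix_le_card_swap hH (Ne.symm hb.1)
  have e1 : f + ∑ a ∈ (Finset.univ : Finset (G ⧸ H)).erase x, f = Inv.card := by
    rw [hcount, Finset.sum_congr rfl (fun a _ => hdiag a)]
    exact Finset.add_sum_erase Finset.univ (fun _ => f) (Finset.mem_univ x)
  have e2 : f + ∑ b ∈ (Finset.univ : Finset (G ⧸ H)).erase x, (J x b).card = Inv.card := by
    rw [hcount2, ← hdiag x]
    exact Finset.add_sum_erase Finset.univ (fun b => (J x b).card) (Finset.mem_univ x)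
  have e3 : ∑ a ∈ (Finset.univ : Finset (G ⧸ H)).erase x, f =
      ∑ b ∈ (Finset.univ : Finset (G ⧸ H)).erase x, (J x b).card := by
    have := e1.trans e2.symm
    exact Nat.add_left_cancel this
  have := (Finset.sum_eq_sum_iff_of_le hge).mp e3 y
    (Finset.mem_erase.mpr ⟨Ne.symm hxy, Finset.mem_univ _⟩)
  exact this.symm

/-- `Nat.card` form of `se_card_swap_fin`. -/
theorem se_card_swap (hH : Cfsg.IsStronglyEmbedded H) (x y : G ⧸ H) (hxy : x ≠ y) :
    Nat.card {i : G // orderOf i = 2 ∧ i • x = y} =
      Nat.card {t : G // orderOf t = 2 ∧ t ∈ H} := by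
  classical
  have := Fintype.ofFinite G
  rw [Nat.card_eq_fintype_card, Nat.card_eq_fintype_card, Fintype.card_subtype,
    Fintype.card_subtype]
  exact se_card_swap_fin hH x y hxy

end StrEmb2

end Cfsg.Agent.Lib.Helper24
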