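import Cfsg.Agent.Lib.Helper24.StrEmb2
import Cfsg.Agent.S1225
import Cfsg.Agent.S1226

set_option autoImplicit false

namespace Cfsg.Agent.Lib.Helper24

section BSW
variable {G : Type*} [Group G]

/-- The hypotheses of the Brauer–Suzuki–Wall setting: `T` is a Sylow 2-subgroup that is neither
cyclic nor normal, and centralizers of involutions are elementary abelian 2-groups. -/
def BSWHyp (T : Sylow 2 G) : Prop :=
  ¬ IsCyclic (T : Subgroup G) ∧ ¬ (T : Subgroup G).Normal ∧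
    ∀ t : G, orderOf t = 2 → IsMulCommutative (Subgroup.centralizer ({t} : Set G)) ∧
      ∀ c ∈ Subgroup.centralizer ({t} : Set G), c ^ 2 = 1

/-- `H = N_G(T)` -/
abbrev bswH (T : Sylow 2 G) : Subgroup G := Subgroup.normalizer ((T : Subgroup G) : Set G)

/-- `D = H ∩ uHu⁻¹` -/
abbrev bswD (T : Sylow 2 G) (u : G) : Subgroup G :=
  bswH T ⊓ (bswH T).map (MulAut.conj u).toMonoidHom

variable [Finite G] {T : Sylow 2 G}

theorem bsw_se (h : BSWHyp T) : Cfsg.IsStronglyEmbedded (bswH T) :=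
  Cfsg.Agent.S1226.result T h.1 h.2.1 h.2.2

theorem bsw_cent (h : BSWHyp T) {s : G} (hs : s ∈ (T : Subgroup G)) (ho : orderOf s = 2) :
    Subgroup.centralizer ({s} : Set G) = (T : Subgroup G) :=
  (Cfsg.Agent.S1226.key T h.1 h.2.2).1 s hs ho

theorem bsw_inv_mem (h : BSWHyp T) {s : G} (hs : s ∈ bswH T) (ho : orderOf s = 2) :
    s ∈ (T : Subgroup G) :=
  (Cfsg.Agent.S1226.key T h.1 h.2.2).2.1 s hs ho

theorem bsw_exists_inv (h : BSWHyp T) : ∃ s ∈ (T : Subgroup G), orderOf s = 2 :=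
  (Cfsg.Agent.S1226.key T h.1 h.2.2).2.2

theorem bsw_T_le (T : Sylow 2 G) : (T : Subgroup G) ≤ bswH T := Subgroup.le_normalizer

theorem bsw_orderOf (h : BSWHyp T) {t : G} (ht : t ∈ (T : Subgroup G)) (h1 : t ≠ 1) :
    orderOf t = 2 := by
  obtain ⟨s, hs, ho⟩ := bsw_exists_inv h
  have htc : t ∈ Subgroup.centralizer ({s} : Set G) := by rw [bsw_cent h hs ho]; exact ht
  have h2 := (h.2.2 s ho).2 t htc
  haveI : Fact (Nat.Prime 2) := ⟨Nat.prime_two⟩
  exact orderOf_eq_prime h2 h1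

theorem bsw_mem_of_commute (h : BSWHyp T) {g t : G} (ht : t ∈ (T : Subgroup G)) (h1 : t ≠ 1)
    (hc : g * t = t * g) : g ∈ (T : Subgroup G) := by
  rw [← bsw_cent h ht (bsw_orderOf h ht h1), Subgroup.mem_centralizer_iff]
  intro y hy
  rw [Set.mem_singleton_iff] at hy
  rw [hy, hc]

theorem bsw_comm (h : BSWHyp T) {a b : G} (ha : a ∈ (T : Subgroup G)) (hb : b ∈ (T : Subgroup G)) :
    a * b = b * a := by
  by_cases h1 : a = 1
  · rw [h1, one_mul, mul_one]
  · have hbc : b ∈ Subgroup.centralizer ({a} : Set G) := by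
      rw [bsw_cent h ha (bsw_orderOf h ha h1)]; exact hb
    rw [Subgroup.mem_centralizer_iff] at hbc
    exact hbc a rfl

theorem bsw_conj_mem {g t : G} (hg : g ∈ bswH T) (ht : t ∈ (T : Subgroup G)) :
    g * t * g⁻¹ ∈ (T : Subgroup G) :=
  (Subgroup.mem_normalizer_iff.mp hg t).mp ht

theorem bsw_card_ge (h : BSWHyp T) : 4 ≤ Nat.card (T : Subgroup G) := by
  obtain ⟨n, hn⟩ := IsPGroup.iff_card.mp T.isPGroup'
  obtain ⟨s, hs, ho⟩ := bsw_exists_inv h
  rcases n with _ | _ | n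
  · -- card 1
    exfalso
    rw [pow_zero] at hn
    have : (⟨s, hs⟩ : (T : Subgroup G)) = 1 := by
      haveI := (Nat.card_eq_one_iff_unique.mp hn).1
      exact Subsingleton.elim _ _
    have hs1 : s = 1 := congrArg Subtype.val this
    rw [hs1, orderOf_one] at ho
    omega
  · exfalso
    rw [zero_add, pow_one] at hn
    haveI : Fact (Nat.Prime 2) := ⟨Nat.prime_two⟩
    exact h.1 (isCyclic_of_prime_card hn)
  · rw [hn]
    have : 2 ^ (n + 1 + 1) = 4 * 2 ^ n := by ring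
    rw [this]
    have : 1 ≤ 2 ^ n := Nat.one_le_two_pow
    omega

section BSWu
variable {u : G}

theorem bsw_D_odd (h : BSWHyp T) (huH : u ∉ bswH T) : Odd (Nat.card (bswD T u)) :=
  (bsw_se h).2.2 u huH

theorem bsw_D_le (T : Sylow 2 G) (u : G) : bswD T u ≤ bswH T := inf_le_left

theorem bsw_D_inf_T (h : BSWHyp T) (huH : u ∉ bswH T) {d : G} (hd : d ∈ bswD T u)
    (hdT : d ∈ (T : Subgroup G)) : d = 1 := by
  by_contra h1
  exact not_odd_card_of_involution_mem (bswD T u) hd (bsw_orderOf h hdT h1) (bsw_D_odd h huH)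

theorem bsw_D_trans (h : BSWHyp T) (hu : orderOf u = 2) (huH : u ∉ bswH T) {s t : G}
    (hs : s ∈ (T : Subgroup G)) (hs1 : s ≠ 1) (ht : t ∈ (T : Subgroup G)) (ht1 : t ≠ 1) :
    ∃ d ∈ bswD T u, d * s * d⁻¹ = t :=
  (Cfsg.Agent.S1225.result (bswH T) (bsw_se h) u hu huH s t (bsw_orderOf h hs hs1)
    (bsw_T_le T hs) (bsw_orderOf h ht ht1) (bsw_T_le T ht)).1

/-- `H = D T`. -/
theorem bsw_H_eq (h : BSWHyp T) (hu : orderOf u = 2) (huH : u ∉ bswH T) {g : G}
    (hg : g ∈ bswH T) : ∃ d ∈ bswD T u, ∃ t ∈ (T : Subgroup G), g = d * t := by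
  obtain ⟨s, hs, ho⟩ := bsw_exists_inv h
  have hs1 : s ≠ 1 := ne_one_of_orderOf_two ho
  have hgs : g * s * g⁻¹ ∈ (T : Subgroup G) := bsw_conj_mem hg hs
  have hgs1 : g * s * g⁻¹ ≠ 1 := by
    intro h0
    apply hs1
    have : s = g⁻¹ * (g * s * g⁻¹) * g := by group
    rw [this, h0]; group
  obtain ⟨d, hd, hdc⟩ := bsw_D_trans h hu huH hs hs1 hgs hgs1
  refine ⟨d, hd, d⁻¹ * g, ?_, by group⟩
  apply bsw_mem_of_commute h hs hs1
  calc d⁻¹ * g * s = d⁻¹ * (g * s * g⁻¹) * g := by group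
    _ = d⁻¹ * (d * s * d⁻¹) * g := by rw [hdc]
    _ = s * (d⁻¹ * g) := by group

/-- `D → {involutions of H}`, `d ↦ d s d⁻¹` is a bijection. -/
theorem bsw_card_D_eq (h : BSWHyp T) (hu : orderOf u = 2) (huH : u ∉ bswH T) :
    Nat.card (bswD T u) = Nat.card {t : G // orderOf t = 2 ∧ t ∈ bswH T} := by
  obtain ⟨s, hs, ho⟩ := bsw_exists_inv h
  have hs1 : s ≠ 1 := ne_one_of_orderOf_two ho
  let ψ : bswD T u → {t : G // orderOf t = 2 ∧ t ∈ bswH T} := fun d =>
    ⟨d.1 * s * d.1⁻¹, by rw [orderOf_conj']; exact ho,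
      bsw_T_le T (bsw_conj_mem (bsw_D_le T u d.2) hs)⟩
  have hψ : Function.Bijective ψ := by
    constructor
    · intro d d' hdd
      have h1 : d.1 * s * d.1⁻¹ = d'.1 * s * d'.1⁻¹ := congrArg Subtype.val hdd
      have hc : d'.1⁻¹ * d.1 * s = s * (d'.1⁻¹ * d.1) := by
        calc d'.1⁻¹ * d.1 * s = d'.1⁻¹ * (d.1 * s * d.1⁻¹) * d.1 := by group
          _ = d'.1⁻¹ * (d'.1 * s * d'.1⁻¹) * d.1 := by rw [h1]
          _ = s * (d'.1⁻¹ * d.1) := by group
      have hT := bsw_mem_of_commute h hs hs1 hc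
      have hD : d'.1⁻¹ * d.1 ∈ bswD T u := (bswD T u).mul_mem ((bswD T u).inv_mem d'.2) d.2
      have := bsw_D_inf_T h huH hD hT
      apply Subtype.ext
      have h2 : d.1 = d'.1 * (d'.1⁻¹ * d.1) := by group
      rw [h2, this, mul_one]
    · rintro ⟨t, hto, htH⟩
      have htT := bsw_inv_mem h htH hto
      obtain ⟨d, hd, hdc⟩ := bsw_D_trans h hu huH hs hs1 htT (ne_one_of_orderOf_two hto)
      exact ⟨⟨d, hd⟩, Subtype.ext hdc⟩
  exact Nat.card_congr (Equiv.ofBijective ψ hψ)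

theorem bsw_card_inv_add_one (h : BSWHyp T) :
    Nat.card {t : G // orderOf t = 2 ∧ t ∈ bswH T} + 1 = Nat.card (T : Subgroup G) := by
  classical
  rw [← Finite.card_option]
  refine Nat.card_congr ?_
  refine
    { toFun := fun o => match o with
        | none => 1
        | some t => ⟨t.1, bsw_inv_mem h t.2.2 t.2.1⟩
      invFun := fun t => if h1 : t = 1 then none else
        some ⟨t.1, bsw_orderOf h t.2 (fun h0 => h1 (Subtype.ext h0)), bsw_T_le T t.2⟩
      left_inv := ?_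
      right_inv := ?_ }
  · intro o
    cases o with
    | none => simp
    | some t =>
      have : (⟨t.1, bsw_inv_mem h t.2.2 t.2.1⟩ : (T : Subgroup G)) ≠ 1 := by
        intro h0
        have h0' : t.1 = 1 := congrArg Subtype.val h0
        have := t.2.1
        rw [h0', orderOf_one] at this
        omega
      simp [this]
  · intro t
    by_cases h1 : t = 1
    · simp [h1]
    · simp [h1]

theorem bsw_card_D (h : BSWHyp T) (hu : orderOf u = 2) (huH : u ∉ bswH T) :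
    Nat.card (bswD T u) + 1 = Nat.card (T : Subgroup G) := by
  rw [bsw_card_D_eq h hu huH, bsw_card_inv_add_one h]

theorem bsw_D_ne_bot (h : BSWHyp T) (hu : orderOf u = 2) (huH : u ∉ bswH T) :
    ∃ e ∈ bswD T u, e ≠ 1 := by
  have h1 := bsw_card_D h hu huH
  have h2 := bsw_card_ge h
  have h3 : 1 < Nat.card (bswD T u) := by omega
  haveI := Finite.one_lt_card_iff_nontrivial.mp h3
  obtain ⟨e, he⟩ := exists_ne (1 : bswD T u)
  exact ⟨e.1, e.2, fun h0 => he (Subtype.ext h0)⟩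

/-- `u` inverts `D`. -/
theorem bsw_inverts (h : BSWHyp T) (hu : orderOf u = 2) (huH : u ∉ bswH T) {d : G}
    (hd : d ∈ bswD T u) : u * d * u⁻¹ = d⁻¹ := by
  have hu2 : u * u = 1 := sq_one_of_orderOf_two hu
  have hui : u⁻¹ = u := inv_eq_self_of_orderOf_two hu
  have hxy : ((1 : G) : G ⧸ bswH T) ≠ ((u : G) : G ⧸ bswH T) := by
    intro h0
    rw [QuotientGroup.eq] at h0
    apply huH
    simpa using h0
  have hcard := se_card_swap (bsw_se h) _ _ hxy
  rw [← bsw_card_D_eq h hu huH] at hcard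
  -- injection from the involutions mapping 1H to uH into D
  have hmem : ∀ i : {i : G // orderOf i = 2 ∧ i • ((1 : G) : G ⧸ bswH T) = ((u : G) : G ⧸ bswH T)},
      u⁻¹ * i.1 ∈ bswD T u := by
    rintro ⟨i, hio, hi⟩
    rw [MulAction.Quotient.smul_mk, QuotientGroup.eq, smul_eq_mul, mul_one] at hi
    have hii : i⁻¹ = i := inv_eq_self_of_orderOf_two hio
    have h1 : u⁻¹ * i ∈ bswH T := by
      have := (bswH T).inv_mem hi
      rwa [mul_inv_rev, inv_inv] at this
    refine ⟨h1, (mem_conj_map_iff _ u _).mpr ⟨i * u, ?_, ?_⟩⟩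
    · rw [← hii]; exact hi
    · rw [hui]
      calc u * (i * u) * u = u * i * (u * u) := by group
        _ = u * i := by rw [hu2, mul_one]
  let φ : {i : G // orderOf i = 2 ∧ i • ((1 : G) : G ⧸ bswH T) = ((u : G) : G ⧸ bswH T)} →
      bswD T u := fun i => ⟨u⁻¹ * i.1, hmem i⟩
  have hφinj : Function.Injective φ := by
    intro i i' hii
    have : u⁻¹ * i.1 = u⁻¹ * i'.1 := congrArg Subtype.val hii
    exact Subtype.ext (mul_left_cancel this)
  have hφ : Function.Bijective φ := (Nat.bijective_iff_injective_and_card φ).mpr ⟨hφinj, hcard⟩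
  obtain ⟨⟨i, hio, hi⟩, hid⟩ := hφ.2 ⟨d, hd⟩
  have hid' : u⁻¹ * i = d := congrArg Subtype.val hid
  have hi2 : i * i = 1 := sq_one_of_orderOf_two hio
  have hiu : i = u * d := by rw [← hid']; group
  rw [hiu] at hi2
  -- u d u d = 1
  have : u * d * u = d⁻¹ := by
    have h3 : u * d * u * d = 1 := by rw [← hi2]; group
    exact eq_inv_of_mul_eq_one_left h3
  rw [hui]; exact this

/-- `D` is commutative. -/
theorem bsw_D_comm (h : BSWHyp T) (hu : orderOf u = 2) (huH : u ∉ bswH T) {a b : G}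
    (ha : a ∈ bswD T u) (hb : b ∈ bswD T u) : a * b = b * a := by
  have h1 := bsw_inverts h hu huH ha
  have h2 := bsw_inverts h hu huH hb
  have h3 := bsw_inverts h hu huH ((bswD T u).mul_mem ha hb)
  have h4 : u * (a * b) * u⁻¹ = (u * a * u⁻¹) * (u * b * u⁻¹) := by group
  rw [h4, h1, h2] at h3
  -- a⁻¹ b⁻¹ = (ab)⁻¹ = b⁻¹ a⁻¹
  have h5 : a⁻¹ * b⁻¹ = b⁻¹ * a⁻¹ := by rw [h3, mul_inv_rev]
  have h6 := congrArg (fun z => z⁻¹) h5
  simpa [mul_inv_rev] using h6.symm

theorem bsw_u_mem_normalizer (h : BSWHyp T) (hu : orderOf u = 2) (huH : u ∉ bswH T) :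
    u ∈ Subgroup.normalizer ((bswD T u : Subgroup G) : Set G) := by
  have hui : u⁻¹ = u := inv_eq_self_of_orderOf_two hu
  rw [Subgroup.mem_normalizer_iff]
  intro g
  constructor
  · intro hg
    rw [bsw_inverts h hu huH hg]; exact (bswD T u).inv_mem hg
  · intro hg
    have := bsw_inverts h hu huH hg
    have h2 : g = (u * g * u⁻¹)⁻¹ := by
      rw [← this, hui]
      have hu2 : u * u = 1 := sq_one_of_orderOf_two hu
      calc g = (u * u) * g * (u * u) := by rw [hu2, one_mul, mul_one]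
        _ = u * (u * g * u) * u := by group
    rw [h2]; exact (bswD T u).inv_mem hg

end BSWu

section BSWfix
variable {u : G}

omit [Finite G] in
theorem mem_normalizer_of_centralizes {K : Subgroup G} {c : G}
    (hc : ∀ e ∈ K, c * e * c⁻¹ = e) : c ∈ Subgroup.normalizer ((K : Subgroup G) : Set G) := by
  rw [Subgroup.mem_normalizer_iff]
  intro e
  constructor
  · intro he; rw [hc e he]; exact he
  · intro he
    have h1 := hc _ he
    have h2 : c * e * c⁻¹ = e := mul_left_cancel (mul_right_cancel h1)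
    rw [← h2]; exact he

/-- `x = 1·H` as a point of `G ⧸ H`. -/
abbrev bswX (T : Sylow 2 G) : G ⧸ bswH T := ((1 : G) : G ⧸ bswH T)

theorem bsw_smul_X_eq_iff (T : Sylow 2 G) (g : G) : g • bswX T = bswX T ↔ g ∈ bswH T := by
  rw [smul_coset_eq_iff]
  simp

theorem bsw_smul_X (T : Sylow 2 G) (g : G) : g • bswX T = ((g : G) : G ⧸ bswH T) := by
  rw [MulAction.Quotient.smul_mk, smul_eq_mul, mul_one]

theorem bsw_mem_D_iff (T : Sylow 2 G) (u d : G) :
    d ∈ bswD T u ↔ d • bswX T = bswX T ∧ d • (u • bswX T) = u • bswX T := by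
  rw [bsw_smul_X_eq_iff, bsw_smul_X T u, smul_coset_eq_iff]
  constructor
  · rintro ⟨h1, h2⟩
    refine ⟨h1, ?_⟩
    obtain ⟨k, hk, hkd⟩ := (mem_conj_map_iff _ u d).mp h2
    rw [← hkd]
    have : u⁻¹ * (u * k * u⁻¹) * u = k := by group
    rw [this]; exact hk
  · rintro ⟨h1, h2⟩
    exact ⟨h1, (mem_conj_map_iff _ u d).mpr ⟨u⁻¹ * d * u, h2, by group⟩⟩

/-- `N_H(D) = D`. -/
theorem bsw_normalizer_inf (h : BSWHyp T) (hu : orderOf u = 2) (huH : u ∉ bswH T) {g : G}
    (hg : g ∈ bswH T) (hgn : g ∈ Subgroup.normalizer ((bswD T u : Subgroup G) : Set G)) :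
    g ∈ bswD T u := by
  obtain ⟨d, hd, t, ht, hgdt⟩ := bsw_H_eq h hu huH hg
  have htn : t ∈ Subgroup.normalizer ((bswD T u : Subgroup G) : Set G) := by
    have : t = d⁻¹ * g := by rw [hgdt]; group
    rw [this]
    exact Subgroup.mul_mem _ (Subgroup.inv_mem _ (Subgroup.le_normalizer hd)) hgn
  -- t commutes with every element of D
  have hcomm : ∀ e ∈ bswD T u, e * t = t * e := by
    intro e he
    have h1 : t * e * t⁻¹ ∈ bswD T u := (Subgroup.mem_normalizer_iff.mp htn e).mp he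
    have h2 : t * e * t⁻¹ * e⁻¹ ∈ bswD T u := (bswD T u).mul_mem h1 ((bswD T u).inv_mem he)
    have h3 : t * e * t⁻¹ * e⁻¹ ∈ (T : Subgroup G) := by
      have : t * e * t⁻¹ * e⁻¹ = t * (e * t⁻¹ * e⁻¹) := by group
      rw [this]
      exact (T : Subgroup G).mul_mem ht
        (bsw_conj_mem (bsw_D_le T u he) ((T : Subgroup G).inv_mem ht))
    have h4 := bsw_D_inf_T h huH h2 h3
    calc e * t = (t * e * t⁻¹ * e⁻¹)⁻¹ * (t * e) := by group
      _ = t * e := by rw [h4, inv_one, one_mul]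
  obtain ⟨e, he, he1⟩ := bsw_D_ne_bot h hu huH
  have ht1 : t = 1 := by
    by_contra ht1
    have := bsw_mem_of_commute h ht ht1 (hcomm e he)
    exact he1 (bsw_D_inf_T h huH he this)
  rw [hgdt, ht1, mul_one]; exact hd

/-- If `D_u` fixes the point `v • x` (`v` an involution outside `H`) then `D_v = D_u`. -/
theorem bsw_D_eq_of_fix (h : BSWHyp T) (hu : orderOf u = 2) (huH : u ∉ bswH T) {v : G}
    (hv : orderOf v = 2) (hvH : v ∉ bswH T)
    (hfix : ∀ d ∈ bswD T u, d • (v • bswX T) = v • bswX T) : bswD T v = bswD T u := by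
  symm
  apply Subgroup.eq_of_le_of_card_ge
  · intro d hd
    rw [bsw_mem_D_iff]
    exact ⟨((bsw_mem_D_iff T u d).mp hd).1, hfix d hd⟩
  · have h1 := bsw_card_D h hu huH
    have h2 := bsw_card_D h hv hvH
    omega

/-- Existence of an involution mapping `x` to a given point `b ≠ x`. -/
theorem bsw_exists_inv_smul (h : BSWHyp T) {b : G ⧸ bswH T} (hb : b ≠ bswX T) :
    ∃ v : G, orderOf v = 2 ∧ v ∉ bswH T ∧ v • bswX T = b := by
  obtain ⟨s, hs, ho⟩ := bsw_exists_inv h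
  have hsx : s • bswX T = bswX T := (bsw_smul_X_eq_iff T s).mpr (bsw_T_le T hs)
  obtain ⟨s', hs'o, hs'b⟩ : ∃ s' : G, orderOf s' = 2 ∧ s' • b = b := by
    induction b using QuotientGroup.induction_on with
    | H g =>
      refine ⟨g * s * g⁻¹, by rw [orderOf_conj']; exact ho, ?_⟩
      rw [smul_coset_eq_iff]
      have : g⁻¹ * (g * s * g⁻¹) * g = s := by group
      rw [this]; exact bsw_T_le T hs
  obtain ⟨v, hvo, _, hvb⟩ := se_exists_swap (bsw_se h) ho hs'o hsx hs'b (Ne.symm hb)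
  refine ⟨v, hvo, ?_, hvb⟩
  intro hvH
  rw [(bsw_smul_X_eq_iff T v).mpr hvH] at hvb
  exact hb hvb.symm

/-- The only points fixed by `D` are `x = H` and `y = uH`. -/
theorem bsw_fix_D (h : BSWHyp T) (hu : orderOf u = 2) (huH : u ∉ bswH T) {b : G ⧸ bswH T}
    (hfix : ∀ d ∈ bswD T u, d • b = b) : b = bswX T ∨ b = u • bswX T := by
  by_contra hcon
  push Not at hcon
  obtain ⟨hbx, hby⟩ := hcon
  have hu2 : u * u = 1 := sq_one_of_orderOf_two hu
  obtain ⟨v, hvo, hvH, hvb⟩ := bsw_exists_inv_smul h hbx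
  have hv2 : v * v = 1 := sq_one_of_orderOf_two hvo
  have hDv : bswD T v = bswD T u := bsw_D_eq_of_fix h hu huH hvo hvH (by rw [hvb]; exact hfix)
  have hvinv : ∀ e ∈ bswD T u, v * e * v⁻¹ = e⁻¹ := by
    intro e he
    rw [← hDv] at he
    exact bsw_inverts h hvo hvH he
  have huinv : ∀ e ∈ bswD T u, u * e * u⁻¹ = e⁻¹ := fun e he => bsw_inverts h hu huH he
  -- c = u * v centralizes D
  have hc : ∀ e ∈ bswD T u, (u * v) * e * (u * v)⁻¹ = e := by
    intro e he
    have : (u * v) * e * (u * v)⁻¹ = u * (v * e * v⁻¹) * u⁻¹ := by group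
    rw [this, hvinv e he, huinv _ ((bswD T u).inv_mem he), inv_inv]
  have hcn : u * v ∈ Subgroup.normalizer ((bswD T u : Subgroup G) : Set G) :=
    mem_normalizer_of_centralizes hc
  -- the point b'' = (u * v) • x = u • b
  have hb'' : (u * v) • bswX T ≠ bswX T := by
    intro h0
    rw [mul_smul, hvb] at h0
    apply hby
    have : b = u • (u • b) := by rw [← mul_smul, hu2, one_smul]
    rw [this, h0]
  have hfix'' : ∀ d ∈ bswD T u, d • ((u * v) • bswX T) = (u * v) • bswX T := by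
    intro d hd
    have h1 : d * (u * v) = (u * v) * d := by
      have := hc d hd
      calc d * (u * v) = ((u * v) * d * (u * v)⁻¹) * (u * v) := by rw [this]
        _ = (u * v) * d := by group
    rw [← mul_smul, h1, mul_smul, ((bsw_mem_D_iff T u d).mp hd).1]
  obtain ⟨w, hwo, hwH, hwb⟩ := bsw_exists_inv_smul h hb''
  have hDw : bswD T w = bswD T u :=
    bsw_D_eq_of_fix h hu huH hwo hwH (by rw [hwb]; exact hfix'')
  have hwinv : ∀ e ∈ bswD T u, w * e * w⁻¹ = e⁻¹ := by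
    intro e he
    rw [← hDw] at he
    exact bsw_inverts h hwo hwH he
  have hwn : w ∈ Subgroup.normalizer ((bswD T u : Subgroup G) : Set G) := by
    rw [← hDw]; exact bsw_u_mem_normalizer h hwo hwH
  -- g = w⁻¹ * (u * v) ∈ N_H(D) = D
  have hgH : w⁻¹ * (u * v) ∈ bswH T := by
    rw [← bsw_smul_X_eq_iff, mul_smul, ← hwb, ← mul_smul, inv_mul_cancel, one_smul]
  have hgn : w⁻¹ * (u * v) ∈ Subgroup.normalizer ((bswD T u : Subgroup G) : Set G) :=
    Subgroup.mul_mem _ (Subgroup.inv_mem _ hwn) hcn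
  have hgD := bsw_normalizer_inf h hu huH hgH hgn
  -- for e ∈ D: e = c e c⁻¹ = w (g e g⁻¹) w⁻¹ = (g e g⁻¹)⁻¹
  have hkey : ∀ e ∈ bswD T u, e = (w⁻¹ * (u * v)) * e⁻¹ * (w⁻¹ * (u * v))⁻¹ := by
    intro e he
    have h1 := hc e he
    have h2 : (u * v) * e * (u * v)⁻¹ =
        w * ((w⁻¹ * (u * v)) * e * (w⁻¹ * (u * v))⁻¹) * w⁻¹ := by group
    have h3 : (w⁻¹ * (u * v)) * e * (w⁻¹ * (u * v))⁻¹ ∈ bswD T u :=
      (bswD T u).mul_mem ((bswD T u).mul_mem hgD he) ((bswD T u).inv_mem hgD)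
    rw [h2, hwinv _ h3] at h1
    calc e = ((w⁻¹ * (u * v)) * e * (w⁻¹ * (u * v))⁻¹)⁻¹ := h1.symm
      _ = (w⁻¹ * (u * v)) * e⁻¹ * (w⁻¹ * (u * v))⁻¹ := by group
  -- take e = g: g = g g⁻¹ g⁻¹ = g⁻¹, so g² = 1, so g = 1
  have hg1 : w⁻¹ * (u * v) = 1 := by
    have h1 := hkey _ hgD
    have h2 : (w⁻¹ * (u * v)) * (w⁻¹ * (u * v)) = 1 := by
      have e1 : (w⁻¹ * (u * v)) * (w⁻¹ * (u * v))⁻¹ * (w⁻¹ * (u * v))⁻¹ = (w⁻¹ * (u * v))⁻¹ := by
        group
      rw [e1] at h1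
      nth_rewrite 1 [h1]
      exact inv_mul_cancel _
    by_contra hne
    have ho : orderOf (w⁻¹ * (u * v)) = 2 := by
      haveI : Fact (Nat.Prime 2) := ⟨Nat.prime_two⟩
      exact orderOf_eq_prime (by rw [pow_two]; exact h2) hne
    exact not_odd_card_of_involution_mem (bswD T u) hgD ho (bsw_D_odd h huH)
  -- then every e ∈ D satisfies e = e⁻¹, so e = 1
  obtain ⟨e, he, he1⟩ := bsw_D_ne_bot h hu huH
  have h1 := hkey e he
  rw [hg1, one_mul, inv_one, mul_one] at h1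
  have h2 : e * e = 1 := by nth_rewrite 1 [h1]; exact inv_mul_cancel _
  have ho : orderOf e = 2 := by
    haveI : Fact (Nat.Prime 2) := ⟨Nat.prime_two⟩
    exact orderOf_eq_prime (by rw [pow_two]; exact h2) he1
  exact not_odd_card_of_involution_mem (bswD T u) he ho (bsw_D_odd h huH)

end BSWfix

end BSW

end Cfsg.Agent.Lib.Helper24
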