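import Mathlib

/-!
# The block matrix `N` with an identity block of size `ℓ` in the lower left corner

`blkN F n ℓ` has entry `1` at `(j + (n - ℓ), j)` for `j < ℓ`.  For `2ℓ ≤ n`: `N * N = 0`,
`Nᵀ * N = diag[j < ℓ]`, `N * Nᵀ = diag[n - ℓ ≤ i]`, `det (1 + N) = 1`, `rank N = ℓ`.
-/

set_option autoImplicit false

namespace Cfsg.Agent.Lib.Helper24

variable {F : Type*} [Field F]

/-- identity block of size `ℓ` in the lower left corner -/
def blkN (F : Type*) [Field F] (n ℓ : ℕ) : Matrix (Fin n) (Fin n) F :=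
  Matrix.of (fun i j : Fin n => if j.val < ℓ ∧ i.val = j.val + (n - ℓ) then (1 : F) else 0)

theorem blkN_apply (n ℓ : ℕ) (i j : Fin n) :
    blkN F n ℓ i j = if j.val < ℓ ∧ i.val = j.val + (n - ℓ) then (1 : F) else 0 := rfl

/-- `diag[j < ℓ]` -/
def blkW1 (F : Type*) [Field F] (n ℓ : ℕ) : Fin n → F := fun j => if j.val < ℓ then (1:F) else 0

/-- `diag[n - ℓ ≤ i]` -/
def blkW2 (F : Type*) [Field F] (n ℓ : ℕ) : Fin n → F := fun i => if n - ℓ ≤ i.val then (1:F) else 0

theorem blkN_mul_self {n ℓ : ℕ} (h2 : 2 * ℓ ≤ n) (h1 : 1 ≤ ℓ) : blkN F n ℓ * blkN F n ℓ = 0 := by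
  ext i j
  rw [Matrix.mul_apply, Matrix.zero_apply]
  apply Finset.sum_eq_zero
  intro k _
  rw [blkN_apply n ℓ i k, blkN_apply n ℓ k j]
  by_cases hk : k.val < ℓ ∧ i.val = k.val + (n - ℓ)
  · by_cases hj : j.val < ℓ ∧ k.val = j.val + (n - ℓ)
    · exfalso; omega
    · rw [if_neg hj, mul_zero]
  · rw [if_neg hk, zero_mul]

theorem blkN_det {n ℓ : ℕ} (h2 : 2 * ℓ ≤ n) (h1 : 1 ≤ ℓ) : (1 + blkN F n ℓ).det = 1 := by
  have htri : (1 + blkN F n ℓ).BlockTriangular ⇑OrderDual.toDual := by
    intro i j hij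
    have hij' : i < j := hij
    rw [Matrix.add_apply, Matrix.one_apply_ne (ne_of_lt hij'), zero_add, blkN_apply]
    rw [if_neg]
    intro h
    have : i.val < j.val := hij'
    omega
  rw [Matrix.det_of_isLowerTriangular _ htri]
  apply Finset.prod_eq_one
  intro i _
  rw [Matrix.add_apply, Matrix.one_apply_eq, blkN_apply, if_neg, add_zero]
  intro h; omega

theorem blkN_ne_zero {n ℓ : ℕ} (h2 : 2 * ℓ ≤ n) (h1 : 1 ≤ ℓ) : blkN F n ℓ ≠ 0 := by
  intro hN0
  have hn0 : 0 < n := by omega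
  have := congrFun (congrFun hN0 ⟨n - ℓ, by omega⟩) ⟨0, hn0⟩
  rw [blkN_apply] at this
  simp at this
  omega

theorem blkN_mul_diag (n ℓ : ℕ) : blkN F n ℓ * Matrix.diagonal (blkW1 F n ℓ) = blkN F n ℓ := by
  ext i j
  rw [Matrix.mul_diagonal, blkN_apply, blkW1]
  by_cases hj : j.val < ℓ
  · simp [hj]
  · simp [hj]

theorem blkN_transpose_mul {n ℓ : ℕ} (h2 : 2 * ℓ ≤ n) :
    (blkN F n ℓ).transpose * blkN F n ℓ = Matrix.diagonal (blkW1 F n ℓ) := by
  ext j k
  rw [Matrix.mul_apply]
  simp only [Matrix.transpose_apply]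
  by_cases hjk : j = k
  · subst hjk
    rw [Matrix.diagonal_apply_eq, blkW1]
    by_cases hj : j.val < ℓ
    · simp only [hj, if_true]
      rw [Finset.sum_eq_single (⟨j.val + (n - ℓ), by omega⟩ : Fin n)]
      · rw [blkN_apply]; simp [hj]
      · intro i _ hi
        rw [blkN_apply, if_neg, zero_mul]
        intro h
        apply hi
        apply Fin.ext
        exact h.2
      · intro h; exact absurd (Finset.mem_univ _) h
    · simp only [hj, if_false]
      apply Finset.sum_eq_zero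
      intro i _
      rw [blkN_apply, if_neg, zero_mul]
      intro h; exact hj h.1
  · rw [Matrix.diagonal_apply_ne _ hjk]
    apply Finset.sum_eq_zero
    intro i _
    rw [blkN_apply n ℓ i j, blkN_apply n ℓ i k]
    by_cases h3 : j.val < ℓ ∧ i.val = j.val + (n - ℓ)
    · by_cases h4 : k.val < ℓ ∧ i.val = k.val + (n - ℓ)
      · exfalso
        apply hjk
        apply Fin.ext
        omega
      · rw [if_neg h4, mul_zero]
    · rw [if_neg h3, zero_mul]

theorem blkN_mul_transpose {n ℓ : ℕ} (h2 : 2 * ℓ ≤ n) :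
    blkN F n ℓ * (blkN F n ℓ).transpose = Matrix.diagonal (blkW2 F n ℓ) := by
  ext i k
  rw [Matrix.mul_apply]
  simp only [Matrix.transpose_apply]
  by_cases hik : i = k
  · subst hik
    rw [Matrix.diagonal_apply_eq, blkW2]
    by_cases hi : n - ℓ ≤ i.val
    · simp only [hi, if_true]
      rw [Finset.sum_eq_single (⟨i.val - (n - ℓ), by omega⟩ : Fin n)]
      · rw [blkN_apply]
        have : (i.val - (n - ℓ) < ℓ ∧ i.val = i.val - (n - ℓ) + (n - ℓ)) := by
          have := i.2; omega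
        rw [if_pos this, mul_one]
      · intro j _ hj
        rw [blkN_apply, if_neg, zero_mul]
        intro h
        apply hj
        apply Fin.ext
        show j.val = i.val - (n - ℓ)
        omega
      · intro h; exact absurd (Finset.mem_univ _) h
    · simp only [hi, if_false]
      apply Finset.sum_eq_zero
      intro j _
      rw [blkN_apply, if_neg, zero_mul]
      intro h; omega
  · rw [Matrix.diagonal_apply_ne _ hik]
    apply Finset.sum_eq_zero
    intro j _
    rw [blkN_apply n ℓ i j, blkN_apply n ℓ k j]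
    by_cases h3 : j.val < ℓ ∧ i.val = j.val + (n - ℓ)
    · by_cases h4 : j.val < ℓ ∧ k.val = j.val + (n - ℓ)
      · exfalso
        apply hik
        apply Fin.ext
        omega
      · rw [if_neg h4, mul_zero]
    · rw [if_neg h3, zero_mul]

theorem blkN_rank {n ℓ : ℕ} (h2 : 2 * ℓ ≤ n) : (blkN F n ℓ).rank = ℓ := by
  classical
  have hle : (blkN F n ℓ).rank ≤ (Matrix.diagonal (blkW1 F n ℓ)).rank := by
    have := Matrix.rank_mul_le_right (blkN F n ℓ) (Matrix.diagonal (blkW1 F n ℓ))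
    rwa [blkN_mul_diag] at this
  have hge : (Matrix.diagonal (blkW1 F n ℓ)).rank ≤ (blkN F n ℓ).rank := by
    have := Matrix.rank_mul_le_right (blkN F n ℓ).transpose (blkN F n ℓ)
    rwa [blkN_transpose_mul h2] at this
  have hrk : (Matrix.diagonal (blkW1 F n ℓ)).rank = ℓ := by
    rw [Matrix.rank_diagonal]
    have hequiv : {i : Fin n // blkW1 F n ℓ i ≠ 0} ≃ Fin ℓ :=
      { toFun := fun i => ⟨i.1.val, by
          have := i.2
          rw [blkW1] at this
          by_contra hlt
          simp [hlt] at this⟩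
        invFun := fun k => ⟨⟨k.val, by have := k.2; omega⟩, by rw [blkW1]; simp [k.2]⟩
        left_inv := fun i => by apply Subtype.ext; apply Fin.ext; rfl
        right_inv := fun k => by apply Fin.ext; rfl }
    rw [Fintype.card_congr hequiv, Fintype.card_fin]
  omega

theorem one_add_blkN_sq [CharP F 2] {n ℓ : ℕ} (h2 : 2 * ℓ ≤ n) (h1 : 1 ≤ ℓ) :
    (1 + blkN F n ℓ) * (1 + blkN F n ℓ) = 1 := by
  have h20 : (2 : F) = 0 := by
    have := CharP.cast_eq_zero F 2
    exact_mod_cast this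
  rw [mul_add, add_mul, add_mul, blkN_mul_self h2 h1, one_mul, mul_one, one_mul, add_zero,
    add_assoc, ← two_smul F (blkN F n ℓ), h20, zero_smul, add_zero]

end Cfsg.Agent.Lib.Helper24
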