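import Cfsg.Agent.Lib.Helper24.InvolutionRank

/-!
# Iterated fixed-point series of a `p`-group acting linearly in characteristic `p`

`exists_fixed_mod_of_isPGroup`, `fixMod`, `fixSeries`, `fixSeries_lt_succ`, `fixSeries_map_le`,
`exists_flag` (Borel--Tits type flag for a `p`-group of linear maps).
-/

namespace Cfsg.Agent.Lib.Helper24

universe u v w

section BorelTits
variable {F : Type u} [Field F] {V : Type v} [AddCommGroup V] [Module F V]

/-- a `p`-group acting linearly in characteristic `p` has a fixed vector modulo any proper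
invariant submodule -/
theorem exists_fixed_mod_of_isPGroup [Finite F] (p : ℕ) [Fact p.Prime] [CharP F p]
    [FiniteDimensional F V] {G : Type w} [Group G] (hG : IsPGroup p G)
    (ρ : G →* Module.End F V) (W : Submodule F V) (hW : ∀ g, W ≤ W.comap (ρ g)) (hWtop : W ≠ ⊤) :
    ∃ v : V, v ∉ W ∧ ∀ g, ρ g v - v ∈ W := by
  classical
  have : Fintype F := Fintype.ofFinite F
  let act : MulAction G (V ⧸ W) := MulAction.compHom (V ⧸ W) (quotRep ρ W hW)
  have hfinV : Finite V := Module.finite_of_finite F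
  have hfinQ : Finite (V ⧸ W) := Finite.of_surjective _ (Submodule.Quotient.mk_surjective W)
  have hmod := hG.card_modEq_card_fixedPoints (V ⧸ W)
  -- p divides card (V ⧸ W)
  have hnt : Nontrivial (V ⧸ W) := Submodule.Quotient.nontrivial_iff.mpr hWtop
  have hpdvd : p ∣ Nat.card (V ⧸ W) := by
    have hfr : 0 < Module.finrank F (V ⧸ W) := Module.finrank_pos
    have hcard : Nat.card (V ⧸ W) = Nat.card F ^ Module.finrank F (V ⧸ W) :=
      Module.natCard_eq_pow_finrank
    rw [hcard]
    have hpF : p ∣ Nat.card F := by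
      rw [Nat.card_eq_fintype_card]
      obtain ⟨k, hk1, hk2⟩ := FiniteField.card F p
      rw [hk2]
      exact dvd_pow_self p k.ne_zero
    exact dvd_trans hpF (dvd_pow_self _ (by omega))
  have hpfix : p ∣ Nat.card (MulAction.fixedPoints G (V ⧸ W)) := by
    exact (Nat.modEq_zero_iff_dvd.mp ((hmod.symm).trans (Nat.modEq_zero_iff_dvd.mpr hpdvd)))
  -- 0 is a fixed point, so there is another one
  have h0 : (0 : V ⧸ W) ∈ MulAction.fixedPoints G (V ⧸ W) := by
    intro g
    show (quotRep ρ W hW g) 0 = 0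
    exact map_zero _
  have hfinfix : Finite (MulAction.fixedPoints G (V ⧸ W)) := Subtype.finite
  have h2 : 2 ≤ Nat.card (MulAction.fixedPoints G (V ⧸ W)) := by
    have hpos : 0 < Nat.card (MulAction.fixedPoints G (V ⧸ W)) :=
      Nat.card_pos_iff.mpr ⟨⟨⟨0, h0⟩⟩, hfinfix⟩
    have := Nat.le_of_dvd hpos hpfix
    have := (Fact.out : p.Prime).two_le
    omega
  have hntf : Nontrivial (MulAction.fixedPoints G (V ⧸ W)) :=
    Finite.one_lt_card_iff_nontrivial.mp (by omega)
  obtain ⟨x, hx⟩ := exists_ne (⟨0, h0⟩ : MulAction.fixedPoints G (V ⧸ W))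
  obtain ⟨x, hxfix⟩ := x
  obtain ⟨v, rfl⟩ := Submodule.Quotient.mk_surjective W x
  refine ⟨v, ?_, ?_⟩
  · intro hv
    apply hx
    apply Subtype.ext
    exact (Submodule.Quotient.mk_eq_zero W).mpr hv
  · intro g
    have h3 : (quotRep ρ W hW g) (Submodule.Quotient.mk v) = Submodule.Quotient.mk v := hxfix g
    rw [quotRep_apply, Submodule.Quotient.eq] at h3
    exact h3

/-- `Φ(W) = {v | ∀ g, ρ g v - v ∈ W}` -/
def fixMod {G : Type w} [Group G] (ρ : G →* Module.End F V) (W : Submodule F V) : Submodule F V :=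
  ⨅ g, W.comap (ρ g - 1)

theorem mem_fixMod {G : Type w} [Group G] (ρ : G →* Module.End F V) (W : Submodule F V) (v : V) :
    v ∈ fixMod ρ W ↔ ∀ g, ρ g v - v ∈ W := by
  simp [fixMod, Submodule.mem_iInf]

/-- the iterated fixed-point series -/
def fixSeries {G : Type w} [Group G] (ρ : G →* Module.End F V) : ℕ → Submodule F V
  | 0 => ⊥
  | (i+1) => fixMod ρ (fixSeries ρ i)

theorem fixSeries_invariant {G : Type w} [Group G] (ρ : G →* Module.End F V) (i : ℕ) :
    ∀ g, fixSeries ρ i ≤ (fixSeries ρ i).comap (ρ g) := by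
  induction i with
  | zero => intro g v hv; simp only [fixSeries, Submodule.mem_bot] at hv; rw [hv]; simp
  | succ i ih =>
    intro g v hv
    rw [Submodule.mem_comap]
    simp only [fixSeries] at hv ⊢
    rw [mem_fixMod] at hv ⊢
    intro h
    -- ρ h (ρ g v) - ρ g v = ρ g (ρ (g⁻¹ h g) v - v)
    have h1 : ρ h (ρ g v) - ρ g v = ρ g (ρ (g⁻¹ * h * g) v - v) := by
      rw [map_sub]
      congr 1
      rw [← Module.End.mul_apply, ← Module.End.mul_apply, ← map_mul, ← map_mul]
      congr 2
      group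
    rw [h1]
    exact ih g (hv _)

theorem fixSeries_le_succ {G : Type w} [Group G] (ρ : G →* Module.End F V) (i : ℕ) :
    fixSeries ρ i ≤ fixSeries ρ (i + 1) := by
  intro v hv
  simp only [fixSeries]
  rw [mem_fixMod]
  intro g
  exact Submodule.sub_mem _ (fixSeries_invariant ρ i g hv) hv

theorem fixSeries_mono {G : Type w} [Group G] (ρ : G →* Module.End F V) : Monotone (fixSeries ρ) :=
  monotone_nat_of_le_succ (fixSeries_le_succ ρ)

theorem fixSeries_lt_succ [Finite F] (p : ℕ) [Fact p.Prime] [CharP F p]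
    [FiniteDimensional F V] {G : Type w} [Group G] (hG : IsPGroup p G)
    (ρ : G →* Module.End F V) (i : ℕ) (hi : fixSeries ρ i ≠ ⊤) :
    fixSeries ρ i < fixSeries ρ (i + 1) := by
  refine lt_of_le_of_ne (fixSeries_le_succ ρ i) ?_
  intro heq
  obtain ⟨v, hv1, hv2⟩ := exists_fixed_mod_of_isPGroup p hG ρ _ (fixSeries_invariant ρ i) hi
  apply hv1
  rw [heq]
  simp only [fixSeries]
  rw [mem_fixMod]
  exact hv2

/-- the series is stable under any endomorphism `t` normalising the image of `ρ` -/
theorem fixSeries_map_le {G : Type w} [Group G] (ρ : G →* Module.End F V) (t : Module.End F V)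
    (ht : ∀ g, ∃ g', ρ g * t = t * ρ g') (i : ℕ) :
    (fixSeries ρ i).map t ≤ fixSeries ρ i := by
  induction i with
  | zero => simp [fixSeries]
  | succ i ih =>
    rintro _ ⟨v, hv, rfl⟩
    simp only [fixSeries, SetLike.mem_coe] at hv ⊢
    rw [mem_fixMod] at hv ⊢
    intro g
    obtain ⟨g', hg'⟩ := ht g
    have h1 : ρ g (t v) - t v = t (ρ g' v - v) := by
      rw [map_sub]
      congr 1
      exact congrArg (fun f : Module.End F V => f v) hg'
    rw [h1]
    exact ih (Submodule.mem_map_of_mem (hv g'))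

theorem fixSeries_eventually_top [Finite F] (p : ℕ) [Fact p.Prime] [CharP F p]
    [FiniteDimensional F V] {G : Type w} [Group G] (hG : IsPGroup p G)
    (ρ : G →* Module.End F V) : ∃ m, fixSeries ρ m = ⊤ := by
  have hclaim : ∀ i, fixSeries ρ i = ⊤ ∨ i ≤ Module.finrank F (fixSeries ρ i) := by
    intro i
    induction i with
    | zero => right; exact Nat.zero_le _
    | succ i ih =>
      by_cases htop : fixSeries ρ i = ⊤
      · left
        exact top_le_iff.mp (htop ▸ fixSeries_le_succ ρ i)
      · right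
        have h1 := ih.resolve_left htop
        have h3 := Submodule.finrank_lt_finrank_of_lt (fixSeries_lt_succ p hG ρ i htop)
        omega
  refine ⟨Module.finrank F V + 1, ?_⟩
  rcases hclaim (Module.finrank F V + 1) with h | h
  · exact h
  · have := Submodule.finrank_le (fixSeries ρ (Module.finrank F V + 1))
    omega

theorem exists_flag [Finite F] (p : ℕ) [Fact p.Prime] [CharP F p]
    [FiniteDimensional F V] {G : Type w} [Group G] (hG : IsPGroup p G)
    (ρ : G →* Module.End F V) (hnt : ∃ g, ρ g ≠ 1) :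
    ∃ (k : ℕ) (Vf : Fin (k + 2) → Submodule F V), 1 ≤ k ∧ StrictMono Vf ∧ Vf 0 = ⊥ ∧
      Vf (Fin.last (k + 1)) = ⊤ ∧ ∀ i : Fin (k + 2), Vf i = fixSeries ρ i.val := by
  classical
  have hex := fixSeries_eventually_top p hG ρ
  have hm := Nat.find_spec hex
  have hmin : ∀ j, j < Nat.find hex → fixSeries ρ j ≠ ⊤ := fun j hj => Nat.find_min hex hj
  obtain ⟨m, hmdef⟩ : ∃ m, m = Nat.find hex := ⟨_, rfl⟩
  rw [← hmdef] at hm hmin
  obtain ⟨g, hg⟩ := hnt
  have hVnt : Nontrivial V := by
    by_contra hcon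
    rw [not_nontrivial_iff_subsingleton] at hcon
    exact hg (LinearMap.ext fun x => Subsingleton.elim _ _)
  have h0 : fixSeries ρ 0 ≠ ⊤ := by
    simp only [fixSeries]
    exact bot_ne_top
  have h1 : fixSeries ρ 1 ≠ ⊤ := by
    intro htop
    apply hg
    refine LinearMap.ext fun x => ?_
    have hx : x ∈ fixSeries ρ 1 := by rw [htop]; exact Submodule.mem_top
    simp only [fixSeries] at hx
    rw [mem_fixMod] at hx
    have := hx g
    rw [Submodule.mem_bot, sub_eq_zero] at this
    rw [this]; rfl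
  have hm2 : 2 ≤ m := by
    by_contra hlt
    have : m = 0 ∨ m = 1 := by omega
    rcases this with h | h
    · rw [h] at hm; exact h0 hm
    · rw [h] at hm; exact h1 hm
  obtain ⟨k, rfl⟩ : ∃ k, m = k + 1 := ⟨m - 1, by omega⟩
  refine ⟨k, fun i => fixSeries ρ i.val, by omega, ?_, rfl, ?_, fun i => rfl⟩
  · rw [Fin.strictMono_iff_lt_succ]
    intro i
    show fixSeries ρ i.val < fixSeries ρ (i.val + 1)
    exact fixSeries_lt_succ p hG ρ i.val (hmin i.val i.2)
  · show fixSeries ρ (k + 1) = ⊤
    exact hm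

end BorelTits

end Cfsg.Agent.Lib.Helper24
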