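import Cfsg.Agent.Lib.Helper24.ClassCount
import Cfsg.Agent.Lib.Helper24.StrEmb

set_option autoImplicit false

namespace Cfsg.Agent.Lib.Helper24

section BrauerFowler
variable {G : Type*} [Group G]

/-- A simple group embeds in the symmetric group on the cosets of a proper subgroup. -/
theorem card_le_factorial_index_of_simple [Finite G] [IsSimpleGroup G] (H : Subgroup G)
    (hH : H ≠ ⊤) : Nat.card G ≤ Nat.factorial H.index := by
  have hker : (MulAction.toPermHom G (G ⧸ H)).ker = ⊥ := by
    rcases IsSimpleGroup.eq_bot_or_eq_top_of_normal _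
      (MonoidHom.normal_ker (MulAction.toPermHom G (G ⧸ H))) with h | h
    · exact h
    · exfalso
      apply hH
      rw [← Subgroup.normalCore_eq_ker] at h
      exact top_le_iff.mp (h ▸ Subgroup.normalCore_le H)
  have hinj : Function.Injective (MulAction.toPermHom G (G ⧸ H)) :=
    (MonoidHom.ker_eq_bot_iff _).mp hker
  have := Nat.card_le_card_of_injective _ hinj
  rwa [Nat.card_perm, ← Subgroup.index_eq_card] at this

open Classical in
/-- The number of ways to write `x` as a product of two conjugates of the involution `t` is at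
most `|C(x)|`. -/
theorem card_fiber_le_card_centralizer [Fintype G] (t : G) (ht : orderOf t = 2) (x : G) :
    (((Finset.univ.filter (fun g => IsConj t g)) ×ˢ (Finset.univ.filter (fun g => IsConj t g))).filter
      (fun p : G × G => p.1 * p.2 = x)).card ≤ Nat.card (Subgroup.centralizer ({x} : Set G)) := by
  set K : Finset G := Finset.univ.filter (fun g => IsConj t g) with hK
  have hinv : ∀ a ∈ K, a * a = 1 := by
    intro a ha
    rw [hK, Finset.mem_filter] at ha
    obtain ⟨c, hc⟩ := isConj_iff.mp ha.2
    have : orderOf a = 2 := by rw [← hc, orderOf_conj', ht]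
    have h2 := pow_orderOf_eq_one a
    rwa [this, pow_two] at h2
  have hcard : Nat.card (Subgroup.centralizer ({x} : Set G)) =
      (Finset.univ.filter (fun c : G => c ∈ Subgroup.centralizer ({x} : Set G))).card := by
    rw [Nat.card_eq_fintype_card]
    exact Fintype.card_of_subtype _ (by simp)
  rw [hcard]
  rcases Finset.eq_empty_or_nonempty ((K ×ˢ K).filter (fun p : G × G => p.1 * p.2 = x)) with h | h
  · rw [h]; simp
  · obtain ⟨⟨a₀, b₀⟩, h₀⟩ := h
    rw [Finset.mem_filter, Finset.mem_product] at h₀
    obtain ⟨⟨ha₀, hb₀⟩, hab₀⟩ := h₀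
    simp only at ha₀ hb₀ hab₀
    -- a x a⁻¹ = x⁻¹ for (a,b) in the fibre
    have hflip : ∀ a b : G, a ∈ K → b ∈ K → a * b = x → a * x = x⁻¹ * a := by
      intro a b ha hb hab
      have haa := hinv a ha
      have hbb := hinv b hb
      have hxi : x⁻¹ = b * a := by
        rw [← hab, mul_inv_rev, inv_eq_of_mul_eq_one_left haa, inv_eq_of_mul_eq_one_left hbb]
      rw [hxi, ← hab, ← mul_assoc, haa, one_mul, mul_assoc, haa, mul_one]
    apply Finset.card_le_card_of_injOn (fun p => a₀⁻¹ * p.1)
    · intro p hp
      simp only [Finset.coe_filter, Set.mem_ofPred_eq, Finset.mem_product] at hp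
      obtain ⟨⟨ha, hb⟩, hab⟩ := hp
      simp only [Finset.coe_filter, Finset.mem_univ, true_and, Set.mem_ofPred_eq]
      rw [Subgroup.mem_centralizer_iff]
      intro y hy
      rw [Set.mem_singleton_iff] at hy
      subst hy
      have h1 := hflip p.1 p.2 ha hb hab
      have h2 := hflip a₀ b₀ ha₀ hb₀ hab₀
      -- a₀⁻¹ * x⁻¹ = x * a₀⁻¹
      have h3 : a₀⁻¹ * y⁻¹ = y * a₀⁻¹ := by
        have : a₀⁻¹ * (y⁻¹ * a₀) * a₀⁻¹ = a₀⁻¹ * (a₀ * y) * a₀⁻¹ := by rw [h2]
        simpa [mul_assoc] using this
      calc y * (a₀⁻¹ * p.1) = (y * a₀⁻¹) * p.1 := by rw [mul_assoc]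
        _ = a₀⁻¹ * y⁻¹ * p.1 := by rw [h3]
        _ = a₀⁻¹ * (y⁻¹ * p.1) := by rw [mul_assoc]
        _ = a₀⁻¹ * (p.1 * y) := by rw [h1]
        _ = a₀⁻¹ * p.1 * y := by rw [mul_assoc]
    · intro p hp q hq hpq
      simp only [Finset.coe_filter, Set.mem_ofPred_eq, Finset.mem_product] at hp hq
      have e1 : p.1 = q.1 := mul_left_cancel hpq
      have e2 : p.2 = q.2 := by
        have : p.1 * p.2 = p.1 * q.2 := by rw [hp.2, e1, hq.2]
        exact mul_left_cancel this
      exact Prod.ext e1 e2

open Classical in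
/-- The Brauer-Fowler bound. -/
theorem brauer_fowler_bound [Finite G] [IsSimpleGroup G] (t : G) (ht : orderOf t = 2) :
    Nat.card G ≤
      Nat.factorial (2 * (Nat.card (Subgroup.centralizer ({t} : Set G))) ^ 2) := by
  have := Fintype.ofFinite G
  obtain ⟨n, hn⟩ : ∃ n, n = Nat.card (Subgroup.centralizer ({t} : Set G)) := ⟨_, rfl⟩
  obtain ⟨g, hg⟩ : ∃ g, g = Nat.card G := ⟨_, rfl⟩
  rw [← hn, ← hg]
  obtain ⟨B, hB⟩ : ∃ B, B = 2 * n ^ 2 := ⟨_, rfl⟩
  rw [← hB]
  have hgpos : 0 < g := hg ▸ Nat.card_pos
  by_cases hA : g ≤ B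
  · exact hA.trans (Nat.self_le_factorial B)
  push Not at hA
  have hcenter : Subgroup.center G = ⊥ := by
    rcases IsSimpleGroup.eq_bot_or_eq_top_of_normal (Subgroup.center G) inferInstance with h | h
    · exact h
    · exfalso
      have htop : Subgroup.centralizer ({t} : Set G) = ⊤ := by
        rw [eq_top_iff, ← h]; exact Subgroup.center_le_centralizer _
      have hn' : n = g := by rw [hn, hg, htop]; exact Subgroup.card_top
      rw [hB, hn'] at hA
      nlinarith
  have hproper : ∀ x : G, x ≠ 1 → Subgroup.centralizer ({x} : Set G) ≠ ⊤ := by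
    intro x hx h
    apply hx
    have hxc : x ∈ Subgroup.center G := by
      rw [Subgroup.mem_center_iff]
      intro y
      have hy : y ∈ Subgroup.centralizer ({x} : Set G) := by rw [h]; trivial
      rw [Subgroup.mem_centralizer_iff] at hy
      exact (hy x rfl).symm
    rw [hcenter] at hxc
    exact Subgroup.mem_bot.mp hxc
  have hex : ∃ x : G, x ≠ 1 ∧ (Subgroup.centralizer ({x} : Set G)).index ≤ B := by
    by_contra hcon
    push Not at hcon
    set K : Finset G := Finset.univ.filter (fun g => IsConj t g) with hK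
    have hKcard : K.card * n = g := by
      have := card_conj_mul_card_centralizer t
      rw [Nat.card_eq_fintype_card, Fintype.card_subtype] at this
      rw [hn, hg]; exact this
    have hsum : K.card * K.card = ∑ x : G, ((K ×ˢ K).filter (fun p : G × G => p.1 * p.2 = x)).card := by
      rw [← Finset.card_product]
      exact Finset.card_eq_sum_card_fiberwise (fun p _ => Finset.mem_univ _)
    have hle : K.card * K.card ≤ ∑ x : G, Nat.card (Subgroup.centralizer ({x} : Set G)) := by
      rw [hsum]
      exact Finset.sum_le_sum (fun x _ => card_fiber_le_card_centralizer t ht x)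
    have hsplit : ∑ x : G, Nat.card (Subgroup.centralizer ({x} : Set G)) =
        g + ∑ x ∈ Finset.univ.erase (1 : G), Nat.card (Subgroup.centralizer ({x} : Set G)) := by
      rw [← Finset.add_sum_erase _ _ (Finset.mem_univ (1 : G))]
      congr 1
      have : Subgroup.centralizer ({(1 : G)} : Set G) = ⊤ := by
        rw [eq_top_iff]
        intro y _
        rw [Subgroup.mem_centralizer_iff]
        intro h hh
        rw [Set.mem_singleton_iff] at hh
        rw [hh, one_mul, mul_one]
      rw [this, hg]; exact Subgroup.card_top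
    have hbound : ∀ x ∈ Finset.univ.erase (1 : G),
        B * Nat.card (Subgroup.centralizer ({x} : Set G)) ≤ g - 1 := by
      intro x hx
      have hx1 : x ≠ 1 := Finset.ne_of_mem_erase hx
      have h1 := hcon x hx1
      have h2 := Subgroup.card_mul_index (Subgroup.centralizer ({x} : Set G))
      have hpos : 0 < Nat.card (Subgroup.centralizer ({x} : Set G)) := Nat.card_pos
      rw [← hg] at h2
      have h3 : Nat.card (Subgroup.centralizer ({x} : Set G)) * (B + 1) ≤ g := by
        rw [← h2]; exact Nat.mul_le_mul_left _ h1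
      rw [Nat.mul_add, mul_one] at h3
      rw [mul_comm B]
      generalize Nat.card (Subgroup.centralizer ({x} : Set G)) * B = cB at h3 ⊢
      omega
    have hsum2 : B * ∑ x ∈ Finset.univ.erase (1 : G),
        Nat.card (Subgroup.centralizer ({x} : Set G)) ≤ (g - 1) * (g - 1) := by
      rw [Finset.mul_sum]
      calc ∑ x ∈ Finset.univ.erase (1 : G), B * Nat.card (Subgroup.centralizer ({x} : Set G))
          ≤ ∑ _x ∈ Finset.univ.erase (1 : G), (g - 1) := Finset.sum_le_sum hbound
        _ = (g - 1) * (g - 1) := by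
          rw [Finset.sum_const, Finset.card_erase_of_mem (Finset.mem_univ _), Finset.card_univ,
            smul_eq_mul, ← Nat.card_eq_fintype_card, ← hg]
    have h4 : B * (K.card * K.card) ≤ B * g + (g - 1) * (g - 1) := by
      calc B * (K.card * K.card)
          ≤ B * (g + ∑ x ∈ Finset.univ.erase (1 : G),
              Nat.card (Subgroup.centralizer ({x} : Set G))) := by
            rw [← hsplit]; exact Nat.mul_le_mul_left _ hle
        _ = B * g + B * ∑ x ∈ Finset.univ.erase (1 : G),
              Nat.card (Subgroup.centralizer ({x} : Set G)) := by ring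
        _ ≤ B * g + (g - 1) * (g - 1) := Nat.add_le_add_left hsum2 _
    have h5 : B * (K.card * K.card) = 2 * g * g := by
      rw [hB, ← hKcard]; ring
    rw [h5] at h4
    obtain ⟨k, hk⟩ : ∃ k, g = k + 1 := ⟨g - 1, by omega⟩
    rw [hk] at h4 hA
    simp only [Nat.add_sub_cancel] at h4
    nlinarith
  obtain ⟨x, hx1, hxB⟩ := hex
  rw [hg]
  calc Nat.card G ≤ Nat.factorial (Subgroup.centralizer ({x} : Set G)).index :=
        card_le_factorial_index_of_simple _ (hproper x hx1)
    _ ≤ Nat.factorial B := Nat.factorial_le hxB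

end BrauerFowler

end Cfsg.Agent.Lib.Helper24
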