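import Mathlib

set_option autoImplicit false

namespace Cfsg.Agent.Lib.Helper24

section ClassCount
variable {G : Type*} [Group G]

/-- class size times centralizer order is the group order -/
theorem card_conj_mul_card_centralizer [Finite G] (x : G) :
    Nat.card {g : G // IsConj x g} * Nat.card (Subgroup.centralizer ({x} : Set G)) = Nat.card G := by
  classical
  have := Fintype.ofFinite G
  have := Fintype.ofFinite {g : G // IsConj x g}
  have hfib : ∀ y : {g : G // IsConj x g}, Nat.card {g : G // g * x * g⁻¹ = y.1}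
      = Nat.card (Subgroup.centralizer ({x} : Set G)) := by
    intro y
    obtain ⟨c, hc⟩ := isConj_iff.mp y.2
    refine Nat.card_congr ?_
    refine
      { toFun := fun g => ⟨c⁻¹ * g.1, ?_⟩
        invFun := fun z => ⟨c * z.1, ?_⟩
        left_inv := fun g => by apply Subtype.ext; simp
        right_inv := fun z => by apply Subtype.ext; simp }
    · rw [Subgroup.mem_centralizer_iff]
      intro h hh
      rw [Set.mem_singleton_iff] at hh
      subst hh
      have h1 : g.1 * h * g.1⁻¹ = c * h * c⁻¹ := g.2.trans hc.symm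
      have h2 : c⁻¹ * g.1 * h = h * (c⁻¹ * g.1) := by
        calc c⁻¹ * g.1 * h = c⁻¹ * (g.1 * h * g.1⁻¹) * g.1 := by group
          _ = c⁻¹ * (c * h * c⁻¹) * g.1 := by rw [h1]
          _ = h * (c⁻¹ * g.1) := by group
      exact h2.symm
    · have hz := z.2
      rw [Subgroup.mem_centralizer_iff] at hz
      have h1 : x * z.1 = z.1 * x := hz x rfl
      calc c * z.1 * x * (c * z.1)⁻¹ = c * (z.1 * x) * z.1⁻¹ * c⁻¹ := by group
        _ = c * (x * z.1) * z.1⁻¹ * c⁻¹ := by rw [h1]
        _ = c * x * c⁻¹ := by group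
        _ = y.1 := hc
  have e : G ≃ Σ y : {g : G // IsConj x g}, {g : G // g * x * g⁻¹ = y.1} :=
    { toFun := fun g => ⟨⟨g * x * g⁻¹, isConj_iff.mpr ⟨g, rfl⟩⟩, ⟨g, rfl⟩⟩
      invFun := fun s => s.2.1
      left_inv := fun g => rfl
      right_inv := fun s => by
        obtain ⟨⟨y, hy⟩, ⟨g, hg⟩⟩ := s
        simp only at hg
        subst hg
        rfl }
  rw [Nat.card_congr e, Nat.card_sigma, Finset.sum_congr rfl (fun y _ => hfib y),
    Finset.sum_const, Finset.card_univ, smul_eq_mul, ← Nat.card_eq_fintype_card]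

end ClassCount

end Cfsg.Agent.Lib.Helper24
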