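import Mathlib

set_option autoImplicit false
set_option linter.unusedSectionVars false

namespace Cfsg.Agent.Lib.Helper24

open Finset

section

variable {G Ω : Type*} [Group G] [Fintype G] [MulAction G Ω] [Fintype Ω] [DecidableEq Ω]

/-- number of fixed points, as an integer -/
def fixZ (g : G) : ℤ := ((univ.filter (fun ω : Ω => g • ω = ω)).card : ℤ)

theorem fixZ_eq_sum (g : G) : fixZ (Ω := Ω) g = ∑ ω : Ω, (if g • ω = ω then (1 : ℤ) else 0) := by
  unfold fixZ
  rw [Finset.card_filter]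
  push_cast
  rfl

theorem fixZ_nonneg (g : G) : 0 ≤ fixZ (Ω := Ω) g := by
  unfold fixZ; positivity

theorem fixZ_le (g : G) : fixZ (Ω := Ω) g ≤ Fintype.card Ω := by
  unfold fixZ
  exact_mod_cast Finset.card_le_univ _

theorem fixZ_one : fixZ (Ω := Ω) (1 : G) = Fintype.card Ω := by
  unfold fixZ
  simp

theorem fixZ_sq_ge (g : G) : fixZ (Ω := Ω) g ≤ fixZ (Ω := Ω) (g * g) := by
  unfold fixZ
  have : univ.filter (fun ω : Ω => g • ω = ω) ⊆ univ.filter (fun ω : Ω => (g * g) • ω = ω) := by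
    intro ω hω
    rw [mem_filter] at hω ⊢
    refine ⟨mem_univ _, ?_⟩
    rw [mul_smul, hω.2, hω.2]
  exact_mod_cast Finset.card_le_card this

/-- Burnside's lemma for a transitive action. -/
theorem sum_fixZ_eq_card [MulAction.IsPretransitive G Ω] [Nonempty Ω] :
    ∑ g : G, fixZ (Ω := Ω) g = Fintype.card G := by
  classical
  have h1 := MulAction.sum_card_fixedBy_eq_card_orbits_mul_card_group G Ω
  have h2 : Fintype.card (Quotient (MulAction.orbitRel G Ω)) = 1 := by
    have hs : Subsingleton (MulAction.orbitRel.Quotient G Ω) :=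
      (MulAction.pretransitive_iff_subsingleton_quotient G Ω).mp inferInstance
    obtain ⟨ω⟩ := (inferInstance : Nonempty Ω)
    exact Fintype.card_eq_one_iff.mpr
      ⟨(Quotient.mk'' ω : MulAction.orbitRel.Quotient G Ω), fun y => hs.elim _ _⟩
  rw [h2, one_mul] at h1
  have h3 : ∀ g : G, Fintype.card (MulAction.fixedBy Ω g)
      = (univ.filter (fun ω : Ω => g • ω = ω)).card := by
    intro g
    rw [Fintype.card_subtype]
    rfl
  unfold fixZ
  rw [← Nat.cast_sum]
  congr 1
  rw [← h1]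
  exact Finset.sum_congr rfl (fun g _ => (h3 g).symm)

/-- the key inequality `∑ fix(g²) ≤ ∑ fix(g)²`. -/
theorem sum_fixZ_sq_le : ∑ g : G, fixZ (Ω := Ω) (g * g) ≤ ∑ g : G, fixZ (Ω := Ω) g ^ 2 := by
  classical
  have hL : ∑ g : G, fixZ (Ω := Ω) (g * g)
      = ∑ ω : Ω, ∑ β : Ω, ((univ.filter (fun g : G => g • ω = β ∧ g • β = ω)).card : ℤ) := by
    simp_rw [fixZ_eq_sum]
    rw [Finset.sum_comm]
    refine Finset.sum_congr rfl (fun ω _ => ?_)
    simp_rw [Finset.card_filter]
    push_cast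
    rw [Finset.sum_comm]
    refine Finset.sum_congr rfl (fun g _ => ?_)
    rw [Finset.sum_eq_single (g • ω)]
    · simp [mul_smul]
    · intro β _ hβ
      rw [if_neg]
      intro h
      exact hβ h.1.symm
    · intro h; exact absurd (mem_univ _) h
  have hR : ∑ g : G, fixZ (Ω := Ω) g ^ 2
      = ∑ ω : Ω, ∑ β : Ω, ((univ.filter (fun g : G => g • ω = ω ∧ g • β = β)).card : ℤ) := by
    simp_rw [fixZ_eq_sum, sq, Finset.sum_mul_sum]
    rw [Finset.sum_comm]
    refine Finset.sum_congr rfl (fun ω _ => ?_)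
    rw [Finset.sum_comm]
    refine Finset.sum_congr rfl (fun β _ => ?_)
    rw [Finset.card_filter]
    push_cast
    refine Finset.sum_congr rfl (fun g _ => ?_)
    by_cases h1 : g • ω = ω <;> by_cases h2 : g • β = β <;> simp [h1, h2]
  rw [hL, hR]
  refine Finset.sum_le_sum (fun ω _ => Finset.sum_le_sum (fun β _ => ?_))
  norm_cast
  by_cases hne : (univ.filter (fun g : G => g • ω = β ∧ g • β = ω)).Nonempty
  · obtain ⟨g₀, hg₀⟩ := hne
    rw [mem_filter] at hg₀
    apply Finset.card_le_card_of_injOn (fun g => g₀⁻¹ * g)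
    · intro g hg
      have hg' := (mem_filter.mp hg).2
      simp only [coe_filter, mem_univ, true_and, Set.mem_ofPred_eq]
      constructor
      · rw [mul_smul, hg'.1, inv_smul_eq_iff, hg₀.2.1]
      · rw [mul_smul, hg'.2, inv_smul_eq_iff, hg₀.2.2]
    · intro a _ b _ hab
      exact mul_left_cancel hab
  · rw [Finset.not_nonempty_iff_eq_empty] at hne
    rw [hne]; simp


theorem forall_ne_of_fixZ_eq_zero {g : G} (h : fixZ (Ω := Ω) g = 0) : ∀ ω : Ω, g • ω ≠ ω := by
  intro ω hω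
  unfold fixZ at h
  have h1 : (univ.filter (fun ω : Ω => g • ω = ω)).card = 0 := by exact_mod_cast h
  rw [Finset.card_eq_zero] at h1
  have : ω ∈ univ.filter (fun ω : Ω => g • ω = ω) := mem_filter.mpr ⟨mem_univ _, hω⟩
  rw [h1] at this
  exact absurd this (Finset.notMem_empty _)

/-- If every derangement squares to one, every element has `0`, `1` or all points fixed. -/
theorem fixZ_trichotomy [MulAction.IsPretransitive G Ω] [Nonempty Ω]
    (hinv : ∀ g : G, (∀ ω : Ω, g • ω ≠ ω) → g * g = 1) (g : G) :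
    fixZ (Ω := Ω) g = 0 ∨ fixZ (Ω := Ω) g = 1 ∨ fixZ (Ω := Ω) g = Fintype.card Ω := by
  classical
  obtain ⟨n, hn⟩ : ∃ n : ℤ, n = Fintype.card Ω := ⟨_, rfl⟩
  obtain ⟨U, hU⟩ : ∃ U : G → ℤ, U = fun g => if fixZ (Ω := Ω) g = 0 then 0
      else (fixZ (Ω := Ω) g - 1) * (fixZ (Ω := Ω) g - n) := ⟨_, rfl⟩
  have hpt : ∀ x : G, - U x - n * fixZ (Ω := Ω) x + n
      ≤ fixZ (Ω := Ω) (x * x) - fixZ (Ω := Ω) x ^ 2 := by
    intro x
    rw [hU]
    by_cases h0 : fixZ (Ω := Ω) x = 0
    · have h1 : x * x = 1 := hinv x (forall_ne_of_fixZ_eq_zero h0)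
      simp only [h0, if_true]
      rw [h1, fixZ_one, ← hn]
      ring_nf
      exact le_refl _
    · simp only [h0, if_false]
      have h2 := fixZ_sq_ge (Ω := Ω) x
      nlinarith
  have hUle : ∀ x : G, U x ≤ 0 := by
    intro x
    rw [hU]
    by_cases h0 : fixZ (Ω := Ω) x = 0
    · simp [h0]
    · simp only [h0, if_false]
      have h1 : 1 ≤ fixZ (Ω := Ω) x := by
        have := fixZ_nonneg (Ω := Ω) x
        omega
      have h2 : fixZ (Ω := Ω) x ≤ n := hn ▸ fixZ_le x
      nlinarith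
  have hsum : ∑ x : G, (- U x - n * fixZ (Ω := Ω) x + n)
      ≤ ∑ x : G, (fixZ (Ω := Ω) (x * x) - fixZ (Ω := Ω) x ^ 2) :=
    Finset.sum_le_sum (fun x _ => hpt x)
  have hB := sum_fixZ_eq_card (G := G) (Ω := Ω)
  have hC := sum_fixZ_sq_le (G := G) (Ω := Ω)
  have hlhs : ∑ x : G, (- U x - n * fixZ (Ω := Ω) x + n) = - ∑ x : G, U x := by
    rw [Finset.sum_add_distrib, Finset.sum_sub_distrib, Finset.sum_neg_distrib,
      ← Finset.mul_sum, hB, Finset.sum_const, Finset.card_univ]
    simp only [nsmul_eq_mul]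
    ring
  have hrhs : ∑ x : G, (fixZ (Ω := Ω) (x * x) - fixZ (Ω := Ω) x ^ 2) ≤ 0 := by
    rw [Finset.sum_sub_distrib]
    linarith
  have hUsum : ∑ x : G, U x = 0 := by
    apply le_antisymm
    · exact Finset.sum_nonpos (fun x _ => hUle x)
    · linarith
  have hUzero : ∀ x ∈ (univ : Finset G), U x = 0 :=
    (Finset.sum_eq_zero_iff_of_nonpos (fun x _ => hUle x)).mp hUsum
  have hg := hUzero g (mem_univ _)
  rw [hU] at hg
  by_cases h0 : fixZ (Ω := Ω) g = 0
  · exact Or.inl h0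
  · right
    simp only [h0, if_false] at hg
    rcases mul_eq_zero.mp hg with h | h
    · left; linarith
    · right; rw [← hn]; linarith

end

end Cfsg.Agent.Lib.Helper24
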