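import Cfsg.Agent.Lib.Helper24.Extraspecial
import Cfsg.Agent.Lib.Helper11.PGroupFrattini
import Cfsg.Prelude.Def_Transfer

set_option autoImplicit false

namespace Cfsg.Agent.Lib.Helper24

section Extraspecial2

universe u

variable {E : Type u} [Group E] [Finite E]

/-- Basic elementwise facts about an extraspecial 2-group: a central involution `z` such that
the centre is `{1, z}`, all commutators and all squares lie in `{1, z}`. -/
theorem extraspecial_two_facts (hE : Cfsg.IsExtraspecial 2 E) :
    ∃ z : E, z ≠ 1 ∧ z * z = 1 ∧ (∀ g : E, g * z = z * g) ∧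
      (∀ w : E, (∀ g : E, g * w = w * g) → w = 1 ∨ w = z) ∧
      (∀ a b : E, a * b * a⁻¹ * b⁻¹ = 1 ∨ a * b * a⁻¹ * b⁻¹ = z) ∧
      (∀ a : E, a * a = 1 ∨ a * a = z) := by
  obtain ⟨⟨hP, hfr, hcomm⟩, hZ⟩ := hE
  obtain ⟨z', hz'1, hz'u⟩ := (Nat.card_eq_two_iff' (1 : Subgroup.center E)).mp hZ
  have hcases : ∀ w : E, w ∈ Subgroup.center E → w = 1 ∨ w = z'.1 := by
    intro w hw
    by_cases h1 : w = 1
    · left; exact h1
    · right
      have : (⟨w, hw⟩ : Subgroup.center E) = z' := hz'u _ (fun h0 => h1 (congrArg Subtype.val h0))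
      exact congrArg Subtype.val this
  have hz1 : z'.1 ≠ 1 := fun h0 => hz'1 (Subtype.ext h0)
  have hzc : ∀ g : E, g * z'.1 = z'.1 * g := Subgroup.mem_center_iff.mp z'.2
  have hsqmem : ∀ a : E, a * a ∈ Subgroup.center E := by
    intro a
    haveI : Fact (Nat.Prime 2) := ⟨Nat.prime_two⟩
    have := Cfsg.Agent.Lib.Helper11.pow_mem_frattini_of_isPGroup hP a
    rw [hfr, pow_two] at this
    exact this
  refine ⟨z'.1, hz1, ?_, hzc, ?_, ?_, ?_⟩
  · rcases hcases _ (hsqmem z'.1) with h | h
    · exact h
    · exfalso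
      apply hz1
      have : z'.1 * z'.1 = z'.1 * 1 := by rw [mul_one]; exact h
      exact mul_left_cancel this
  · intro w hw
    exact hcases w (Subgroup.mem_center_iff.mpr hw)
  · intro a b
    apply hcases
    rw [← hcomm, commutator_def, ← commutatorElement_def]
    exact Subgroup.commutator_mem_commutator (Subgroup.mem_top a) (Subgroup.mem_top b)
  · intro a
    exact hcases _ (hsqmem a)

/-- An involutory automorphism of an extraspecial 2-group whose fixed-point subgroup has index at
most 2 is inner. -/
theorem extraspecial_two_aut_inner (hE : Cfsg.IsExtraspecial 2 E) (α : E ≃* E)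
    (hα2 : ∀ x, α (α x) = x) (F : Subgroup E) (hF : ∀ x, x ∈ F ↔ α x = x)
    (hidx : F.index ≤ 2) : ∃ q : E, ∀ x, α x = q * x * q⁻¹ := by
  obtain ⟨z, hz1, hzz, hzc, hzu, hcomm, hsq⟩ := extraspecial_two_facts hE
  have hidx0 : F.index ≠ 0 := Subgroup.index_ne_zero_of_finite
  have hcase : F.index = 1 ∨ F.index = 2 := by omega
  rcases hcase with h1 | h2
  · refine ⟨1, fun x => ?_⟩
    have : F = ⊤ := Subgroup.index_eq_one.mp h1
    have hx : x ∈ F := by rw [this]; exact Subgroup.mem_top x
    rw [(hF x).mp hx]; simp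
  · -- an element outside F
    obtain ⟨x₀, hx₀⟩ : ∃ x₀ : E, x₀ ∉ F := by
      by_contra hall
      push Not at hall
      have : F = ⊤ := (Subgroup.eq_top_iff' _).mpr hall
      rw [this, Subgroup.index_top] at h2
      omega
    have hx₀i : x₀⁻¹ ∉ F := fun h => hx₀ (F.inv_mem_iff.mp h)
    have hcos : ∀ g : E, g ∉ F → x₀⁻¹ * g ∈ F := by
      intro g hg
      rw [Subgroup.mul_mem_iff_of_index_two h2]
      exact ⟨fun h => absurd h hx₀i, fun h => absurd h hg⟩
    have hnorm : ∀ m ∈ F, x₀ * m * x₀⁻¹ ∈ F := by
      intro m hm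
      rw [Subgroup.mul_mem_iff_of_index_two h2]
      constructor
      · intro h
        rw [Subgroup.mul_mem_iff_of_index_two h2] at h
        exact absurd (h.mpr hm) hx₀
      · intro h; exact absurd h hx₀i
    -- α z = z
    have hαz : α z = z := by
      have hcen : ∀ g : E, g * α z = α z * g := by
        intro g
        have : g = α (α g) := (hα2 g).symm
        rw [this, ← map_mul, ← map_mul, hzc]
      rcases hzu _ hcen with h | h
      · exfalso
        apply hz1
        have : α z = α 1 := by rw [h, map_one]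
        exact α.injective this
      · exact h
    have hzF : z ∈ F := (hF z).mpr hαz
    -- the two cardinalities
    have hcE : ∀ a b : E, a * b * a⁻¹ * b⁻¹ ∈ Subgroup.center E := by
      intro a b
      rcases hcomm a b with h | h
      · rw [h]; exact Subgroup.one_mem _
      · rw [h]; exact Subgroup.mem_center_iff.mpr hzc
    haveI : Fact (Nat.Prime 2) := ⟨Nat.prime_two⟩
    obtain ⟨n, hn⟩ := card_eq_prime_pow_odd 2 (Nat.card E) E rfl hE.2 hcE
    -- an element of Z(F) outside {1, z}
    obtain ⟨q, hqF, hqc, hq1, hqz⟩ :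
        ∃ q ∈ F, (∀ m ∈ F, q * m = m * q) ∧ q ≠ 1 ∧ q ≠ z := by
      by_contra hno
      push Not at hno
      have hcenF : ∀ w : F, w ∈ Subgroup.center F ↔ (w : E) = 1 ∨ (w : E) = z := by
        intro w
        constructor
        · intro hw
          by_contra hcon
          push Not at hcon
          refine hcon.2 (hno w.1 w.2 ?_ hcon.1)
          intro m hm
          have := (Subgroup.mem_center_iff.mp hw) ⟨m, hm⟩
          exact (congrArg Subtype.val this).symm
        · rintro (h | h)
          · have : w = 1 := Subtype.ext h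
            rw [this]; exact Subgroup.one_mem _
          · rw [Subgroup.mem_center_iff]
            intro g
            apply Subtype.ext
            simp only [Subgroup.coe_mul]
            rw [h]; exact hzc g.1
      have hZF : Nat.card (Subgroup.center F) = 2 := by
        rw [Nat.card_eq_two_iff' (1 : Subgroup.center F)]
        refine ⟨⟨⟨z, hzF⟩, (hcenF _).mpr (Or.inr rfl)⟩, ?_, ?_⟩
        · intro h0
          apply hz1
          have := congrArg (fun w : Subgroup.center F => ((w : F) : E)) h0
          simpa using this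
        · intro y hy
          rcases (hcenF y.1).mp y.2 with h | h
          · exfalso
            apply hy
            apply Subtype.ext
            apply Subtype.ext
            simpa using h
          · apply Subtype.ext
            apply Subtype.ext
            simpa using h
      have hcF : ∀ a b : F, a * b * a⁻¹ * b⁻¹ ∈ Subgroup.center F := by
        intro a b
        rw [hcenF]
        exact hcomm a.1 b.1
      obtain ⟨n', hn'⟩ := card_eq_prime_pow_odd 2 (Nat.card F) F rfl hZF hcF
      have h3 := Subgroup.card_mul_index F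
      rw [h2, hn', hn] at h3
      have h4 : 2 ^ (2 * n' + 1 + 1) = 2 ^ (2 * n + 1) := by rw [← h3, pow_succ]
      have := Nat.pow_right_injective (le_refl 2) h4
      omega
    -- c = x₀⁻¹ α(x₀)
    have hα_fix : ∀ m ∈ F, α m = m := fun m hm => (hF m).mp hm
    obtain ⟨c, hαx₀⟩ : ∃ c : E, α x₀ = x₀ * c := ⟨x₀⁻¹ * α x₀, by group⟩
    -- c commutes with F
    have hcF : ∀ m ∈ F, c * m = m * c := by
      intro m hm
      have h3 := hα_fix _ (hnorm m hm)
      rw [map_mul, map_mul, map_inv, hα_fix m hm, hαx₀] at h3
      -- x₀ c * m * (x₀ c)⁻¹ = x₀ * m * x₀⁻¹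
      calc c * m = x₀⁻¹ * (x₀ * c * m * (x₀ * c)⁻¹) * x₀ * c := by group
        _ = x₀⁻¹ * (x₀ * m * x₀⁻¹) * x₀ * c := by rw [h3]
        _ = m * c := by group
    -- every element outside F is x₀ * m
    have hdecomp : ∀ g : E, g ∉ F → ∃ m ∈ F, g = x₀ * m := fun g hg =>
      ⟨x₀⁻¹ * g, hcos g hg, by group⟩
    -- an element commuting with F and x₀ is central
    have hcentral : ∀ w : E, (∀ m ∈ F, w * m = m * w) → w * x₀ = x₀ * w →
        ∀ g : E, g * w = w * g := by
      intro w hwF hwx g
      by_cases hg : g ∈ F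
      · exact (hwF g hg).symm
      · obtain ⟨m, hm, rfl⟩ := hdecomp g hg
        calc x₀ * m * w = x₀ * (m * w) := by group
          _ = x₀ * (w * m) := by rw [hwF m hm]
          _ = (x₀ * w) * m := by group
          _ = (w * x₀) * m := by rw [hwx]
          _ = w * (x₀ * m) := by group
    -- c ∈ {1, z}
    have hc : c = 1 ∨ c = z := by
      by_contra hcon
      push Not at hcon
      -- c does not commute with x₀
      have hcx : c * x₀ ≠ x₀ * c := by
        intro h
        rcases hzu _ (hcentral _ hcF h) with h' | h'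
        · exact hcon.1 h'
        · exact hcon.2 h'
      -- c ∈ F
      have hcF' : c ∈ F := by
        by_contra hnF
        apply hcx
        have h5 : c⁻¹ * x₀ ∈ F := by
          rw [Subgroup.mul_mem_iff_of_index_two h2]
          exact ⟨fun h => absurd (F.inv_mem_iff.mp h) hnF, fun h => absurd h hx₀⟩
        have h6 := hcF _ h5
        calc c * x₀ = c * (c * (c⁻¹ * x₀)) := by group
          _ = c * ((c⁻¹ * x₀) * c) := by rw [h6]
          _ = x₀ * c := by group
      have hαc : α c = c := hα_fix _ hcF'
      -- c² = 1 from α² = 1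
      have hc2 : c * c = 1 := by
        have h7 : α (α x₀) = x₀ := hα2 x₀
        rw [hαx₀, map_mul, hαx₀, hαc] at h7
        have : x₀ * (c * c) = x₀ * 1 := by rw [mul_one, ← mul_assoc]; exact h7
        exact mul_left_cancel this
      -- commutator of x₀⁻¹ and c is z
      have hcz : x₀⁻¹ * c * x₀ * c⁻¹ = z := by
        rcases hcomm x₀⁻¹ c with h | h
        · exfalso
          apply hcx
          rw [inv_inv] at h
          calc c * x₀ = x₀ * (x₀⁻¹ * c * x₀ * c⁻¹) * c := by group
            _ = x₀ * c := by rw [h, mul_one]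
        · rw [inv_inv] at h; exact h
      -- x₀² is fixed by α
      have hx₀sq : α (x₀ * x₀) = x₀ * x₀ := by
        rcases hsq x₀ with h | h
        · rw [h, map_one]
        · rw [h, hαz]
      rw [map_mul, hαx₀] at hx₀sq
      -- (x₀ c)² = x₀² z
      have h9 : x₀ * c * (x₀ * c) = x₀ * x₀ * z := by
        have e1 : x₀ * c * (x₀ * c) = x₀ * x₀ * (x₀⁻¹ * c * x₀ * c⁻¹) * (c * c) := by group
        rw [e1, hcz, hc2, mul_one]
      rw [hx₀sq] at h9
      apply hz1
      have : x₀ * x₀ * 1 = x₀ * x₀ * z := by rw [mul_one]; exact h9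
      exact (mul_left_cancel this).symm
    rcases hc with hc1 | hcz
    · -- c = 1: x₀ fixed, contradiction
      exfalso
      apply hx₀
      rw [hF, hαx₀, hc1, mul_one]
    · -- c = z: α is conjugation by q
      have hαx₀' : α x₀ = x₀ * z := by rw [hαx₀, hcz]
      have hqx : q * x₀ * q⁻¹ = x₀ * z := by
        rcases hcomm q x₀ with h | h
        · exfalso
          have hqx' : q * x₀ = x₀ * q := by
            calc q * x₀ = (q * x₀ * q⁻¹ * x₀⁻¹) * x₀ * q := by group
              _ = x₀ * q := by rw [h, one_mul]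
          rcases hzu q (hcentral q hqc hqx') with h' | h'
          · exact hq1 h'
          · exact hqz h'
        · calc q * x₀ * q⁻¹ = (q * x₀ * q⁻¹ * x₀⁻¹) * x₀ := by group
            _ = z * x₀ := by rw [h]
            _ = x₀ * z := (hzc x₀).symm
      refine ⟨q, fun x => ?_⟩
      by_cases hx : x ∈ F
      · rw [hα_fix x hx, hqc x hx]; group
      · obtain ⟨m, hm, rfl⟩ := hdecomp x hx
        rw [map_mul, hαx₀', hα_fix m hm]
        have hqm : q⁻¹ * m = m * q⁻¹ := by
          have h5 := hqc m hm
          calc q⁻¹ * m = q⁻¹ * (m * q) * q⁻¹ := by group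
            _ = q⁻¹ * (q * m) * q⁻¹ := by rw [h5]
            _ = m * q⁻¹ := by group
        calc x₀ * z * m = (q * x₀ * q⁻¹) * m := by rw [hqx]
          _ = q * x₀ * (q⁻¹ * m) := by group
          _ = q * x₀ * (m * q⁻¹) := by rw [hqm]
          _ = q * (x₀ * m) * q⁻¹ := by group

end Extraspecial2

end Cfsg.Agent.Lib.Helper24
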