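import Mathlib
import Cfsg.Agent.S0116
import Cfsg.Agent.Lib.Helper2.CoprimeSylow
import Cfsg.Agent.Lib.Helper11.FrobeniusLocal
import Cfsg.Agent.Lib.Helper24.OmegaTwo
import Cfsg.Agent.Lib.Helper24.OmegaAll

set_option autoImplicit false

namespace Cfsg.Agent.Lib.Helper24

open Subgroup Cfsg.Agent.S0116

section FocalTame

variable {G : Type*} [Group G] [Finite G] {p : ℕ} [Fact p.Prime]

/-- Frattini-type factorisation `N = O^{p'}(N) N_N(S)` for a Sylow `p`-subgroup `S` of `N`. -/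
theorem exists_pElement_product_mul_normalizer (N S : Subgroup G) (hSN : S ≤ N)
    (hS : IsPGroup p S) (hsyl : ¬ p ∣ S.relIndex N) (x : G) (hx : x ∈ N) :
    ∃ m ∈ closure {m : G | m ∈ N ∧ ∃ k : ℕ, orderOf m = p ^ k},
      ∃ w ∈ N ⊓ normalizer (S : Set G), x = m * w := by
  obtain ⟨M, hMdef⟩ : ∃ M : Subgroup G,
      M = closure {m : G | m ∈ N ∧ ∃ k : ℕ, orderOf m = p ^ k} := ⟨_, rfl⟩
  rw [← hMdef]
  have hp : p.Prime := Fact.out
  have hMN : M ≤ N := by
    rw [hMdef, closure_le]; exact fun m hm => hm.1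
  have hSM : S ≤ M := by
    intro s hs
    rw [hMdef]
    apply Subgroup.subset_closure
    refine ⟨hSN hs, ?_⟩
    obtain ⟨j, hj⟩ := hS ⟨s, hs⟩
    have hj' : s ^ (p ^ j) = 1 := by
      have := congrArg Subtype.val hj; simpa using this
    obtain ⟨e, -, he⟩ := (Nat.dvd_prime_pow hp).mp (orderOf_dvd_of_pow_eq_one hj')
    exact ⟨e, he⟩
  have hNM : N ≤ normalizer (M : Set G) := by
    intro n hn
    apply mem_normalizer_of_conj_mem
    rw [hMdef]
    apply conj_mem_closure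
    rintro t ⟨htN, k, hk⟩
    refine ⟨mul_mem (mul_mem hn htN) (inv_mem hn), k, ?_⟩
    rw [← hk]
    have := orderOf_injective (MulAut.conj n).toMonoidHom (MulAut.conj n).injective t
    simpa [MulAut.conj_apply] using this
  have hidx : ¬ p ∣ (S.subgroupOf M).index := by
    intro hdvd
    apply hsyl
    rw [← Subgroup.relIndex_mul_relIndex S M N hSM hMN]
    exact Dvd.dvd.mul_right hdvd _
  have hS' : IsPGroup p (S.subgroupOf M) := hS.comap_subtype
  obtain ⟨PM, hPM⟩ : ∃ PM : Sylow p M, (PM : Subgroup M) = S.subgroupOf M :=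
    ⟨hS'.toSylow hidx, rfl⟩
  obtain ⟨m, hmM, hm⟩ := Cfsg.Agent.Lib.Helper2.sylow_orbit M PM x (hNM hx)
  rw [hPM, Subgroup.map_subgroupOf_eq_of_le hSM] at hm
  refine ⟨m, hmM, m⁻¹ * x, Subgroup.mem_inf.mpr ⟨mul_mem (inv_mem (hMN hmM)) hx, ?_⟩, by group⟩
  apply mem_normalizer_of_conj_mem
  intro s hs
  have h1 : x * s * x⁻¹ ∈ S.map (MulAut.conj x).toMonoidHom := ⟨s, hs, by simp [MulAut.conj_apply]⟩
  rw [hm] at h1
  obtain ⟨s', hs', hss'⟩ := h1
  have hss'' : m * s' * m⁻¹ = x * s * x⁻¹ := by simpa [MulAut.conj_apply] using hss'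
  have e : m⁻¹ * x * s * (m⁻¹ * x)⁻¹ = m⁻¹ * (x * s * x⁻¹) * m := by group
  rw [e, ← hss'']
  have e2 : m⁻¹ * (m * s' * m⁻¹) * m = s' := by group
  rw [e2]; exact hs'


/-- Main inductive lemma behind the Alperin–Gorenstein focal subgroup theorem. -/
theorem focal_tame_main (P : Sylow p G) (R : Subgroup G)
    (R1 : ∀ y ∈ (P : Subgroup G), ∀ n ∈ normalizer ((P : Subgroup G) : Set G),
      y⁻¹ * n⁻¹ * y * n ∈ R)
    (R2 : ∀ Q : Sylow p G, Tame P Q →
      ∀ x ∈ normalizer ((((P : Subgroup G) ⊓ (Q : Subgroup G)) : Subgroup G) : Set G),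
      (∃ k : ℕ, orderOf x = p ^ k) → ∀ y ∈ (P : Subgroup G) ⊓ (Q : Subgroup G),
      y⁻¹ * x⁻¹ * y * x ∈ R) :
    ∀ (k : ℕ) (A : Subgroup G), A ≤ (P : Subgroup G) →
      Nat.card (P : Subgroup G) - Nat.card A = k → ∀ g : G,
      cs g (A : Set G) ⊆ ((P : Subgroup G) : Set G) → ∀ y ∈ A, y⁻¹ * (g⁻¹ * y * g) ∈ R := by
  intro k
  induction k using Nat.strong_induction_on with
  | _ k ih =>
  intro A hAP hk g hg y hy
  have step : ∀ Q : Sylow p G, Tame P Q →
      Nat.card A ≤ Nat.card (((P : Subgroup G) ⊓ (Q : Subgroup G)) : Subgroup G) →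
      ∀ x ∈ normalizer ((((P : Subgroup G) ⊓ (Q : Subgroup G)) : Subgroup G) : Set G),
      ∀ y ∈ (P : Subgroup G) ⊓ (Q : Subgroup G), y⁻¹ * x⁻¹ * y * x ∈ R := by
    intro Q hT hcard x hxN y hyD
    obtain ⟨D, hD⟩ : ∃ D : Subgroup G, D = (P : Subgroup G) ⊓ (Q : Subgroup G) := ⟨_, rfl⟩
    have hT1 := hT.1
    rw [← hD] at hcard hxN hyD hT1
    by_cases hDP : D = P
    · rw [hDP] at hxN hyD
      exact R1 y hyD x hxN
    · have hDlt : D < P := lt_of_le_of_ne (hD ▸ inf_le_left) hDP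
      have hDS : D < (P : Subgroup G) ⊓ normalizer (D : Set G) :=
        Cfsg.Agent.Lib.Helper11.lt_inf_normalizer_of_lt (P : Subgroup G) D P.isPGroup' hDlt
      obtain ⟨m, hmM, w, hw, hxmw⟩ := exists_pElement_product_mul_normalizer
        (normalizer (D : Set G)) ((P : Subgroup G) ⊓ normalizer (D : Set G)) inf_le_right
        (P.isPGroup'.to_le inf_le_left) hT1 x hxN
      obtain ⟨hwN, hwS⟩ := Subgroup.mem_inf.mp hw
      have hcardS : Nat.card (P : Subgroup G) -
          Nat.card ((P : Subgroup G) ⊓ normalizer (D : Set G) : Subgroup G) < k := by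
        have h1 : Nat.card D < Nat.card ((P : Subgroup G) ⊓ normalizer (D : Set G) : Subgroup G) :=
          Cfsg.Agent.Lib.Helper11.card_lt_card_of_lt hDS
        have h2 : Nat.card ((P : Subgroup G) ⊓ normalizer (D : Set G) : Subgroup G) ≤
            Nat.card (P : Subgroup G) := Subgroup.card_le_of_le inf_le_left
        omega
      have hcsw : cs w ((((P : Subgroup G) ⊓ normalizer (D : Set G)) : Subgroup G) : Set G) ⊆
          ((P : Subgroup G) : Set G) := by
        intro z hz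
        rw [mem_cs] at hz
        have h3 := (mem_normalizer_iff.mp (inv_mem hwS) (w * z * w⁻¹)).mp hz
        have e : w⁻¹ * (w * z * w⁻¹) * w⁻¹⁻¹ = z := by group
        rw [e] at h3
        exact (Subgroup.mem_inf.mp h3).1
      have hf1 : y⁻¹ * (w⁻¹ * y * w) ∈ R :=
        ih _ hcardS _ inf_le_left rfl w hcsw y (hDS.le hyD)
      obtain ⟨T', hT'def⟩ : ∃ T' : Subgroup G, T' = closure {t : G | ∃ y ∈ D,
          ∃ m ∈ normalizer (D : Set G), (∃ k : ℕ, orderOf m = p ^ k) ∧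
            t = y⁻¹ * m⁻¹ * y * m} := ⟨_, rfl⟩
      have hT'R : T' ≤ R := by
        rw [hT'def, closure_le]
        rintro _ ⟨y, hy, m, hm, hmp, rfl⟩
        rw [hD] at hm hy
        exact R2 Q hT m hm hmp y hy
      have hT'N : ∀ n ∈ normalizer (D : Set G), ∀ t ∈ T', n * t * n⁻¹ ∈ T' := by
        intro n hn
        rw [hT'def]
        apply conj_mem_closure
        rintro _ ⟨y, hy, m, hm, ⟨j, hj⟩, rfl⟩
        refine ⟨n * y * n⁻¹, (mem_normalizer_iff.mp hn y).mp hy, n * m * n⁻¹,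
          mul_mem (mul_mem hn hm) (inv_mem hn), ⟨j, ?_⟩, by group⟩
        rw [← hj]
        have := orderOf_injective (MulAut.conj n).toMonoidHom (MulAut.conj n).injective m
        simpa [MulAut.conj_apply] using this
      have hM : ∀ m ∈ closure {m : G | m ∈ normalizer (D : Set G) ∧ ∃ k : ℕ, orderOf m = p ^ k},
          (m ∈ normalizer (D : Set G) ∧ ∀ y ∈ D, y⁻¹ * m⁻¹ * y * m ∈ T') := by
        intro m hm
        induction hm using Subgroup.closure_induction with
        | mem m hm =>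
          refine ⟨hm.1, fun y hy => ?_⟩
          rw [hT'def]
          exact Subgroup.subset_closure ⟨y, hy, m, hm.1, hm.2, rfl⟩
        | one =>
          refine ⟨one_mem _, fun y hy => ?_⟩
          have : y⁻¹ * (1 : G)⁻¹ * y * 1 = 1 := by group
          rw [this]; exact one_mem _
        | mul m₁ m₂ _ _ h₁ h₂ =>
          refine ⟨mul_mem h₁.1 h₂.1, fun y hy => ?_⟩
          have e : y⁻¹ * (m₁ * m₂)⁻¹ * y * (m₁ * m₂) =
              (y⁻¹ * m₂⁻¹ * y * m₂) * (m₂⁻¹ * (y⁻¹ * m₁⁻¹ * y * m₁) * m₂⁻¹⁻¹) := by group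
          rw [e]
          exact mul_mem (h₂.2 y hy) (hT'N _ (inv_mem h₂.1) _ (h₁.2 y hy))
        | inv m _ h =>
          refine ⟨inv_mem h.1, fun y hy => ?_⟩
          have hz : m * y * m⁻¹ ∈ D := (mem_normalizer_iff.mp h.1 y).mp hy
          have e : y⁻¹ * m⁻¹⁻¹ * y * m⁻¹ =
              ((m * y * m⁻¹)⁻¹ * m⁻¹ * (m * y * m⁻¹) * m)⁻¹ := by group
          rw [e]
          exact inv_mem (h.2 _ hz)
      have hf2 : w⁻¹ * (y⁻¹ * m⁻¹ * y * m) * w ∈ T' := by
        have := hT'N w⁻¹ (inv_mem hwN) _ ((hM m hmM).2 y hyD)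
        rwa [inv_inv] at this
      rw [hxmw]
      have e : y⁻¹ * (m * w)⁻¹ * y * (m * w) =
          (y⁻¹ * (w⁻¹ * y * w)) * (w⁻¹ * (y⁻¹ * m⁻¹ * y * m) * w) := by group
      rw [e]
      exact mul_mem hf1 (hT'R hf2)
  have chain : ∀ (l : List (Sylow p G × G)) (B : Subgroup G), Nat.card B = Nat.card A →
      IsChain P (B : Set G) l → ∀ y ∈ B, y⁻¹ * ((lprod l)⁻¹ * y * lprod l) ∈ R := by
    intro l
    induction l with
    | nil =>
      intro B _ _ y _
      rw [lprod_nil]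
      have : y⁻¹ * ((1 : G)⁻¹ * y * 1) = 1 := by group
      rw [this]; exact one_mem _
    | cons qx l ihl =>
      intro B hB hch y hyB
      obtain ⟨hT, hxN, hBD, hch'⟩ := hch
      rw [lprod_cons]
      have hcs : cs qx.2 (B : Set G) =
          ((B.map (MulAut.conj qx.2⁻¹).toMonoidHom : Subgroup G) : Set G) := by
        ext z
        rw [mem_cs]
        constructor
        · intro hz
          exact ⟨qx.2 * z * qx.2⁻¹, hz, by simp [MulAut.conj_apply]; group⟩
        · rintro ⟨b, hb, rfl⟩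
          have : qx.2 * ((MulAut.conj qx.2⁻¹).toMonoidHom b) * qx.2⁻¹ = b := by
            simp [MulAut.conj_apply]; group
          rw [this]; exact hb
      rw [hcs] at hch'
      have hB' : Nat.card (B.map (MulAut.conj qx.2⁻¹).toMonoidHom : Subgroup G) = Nat.card A := by
        rw [Subgroup.card_map_of_injective (MulAut.conj qx.2⁻¹).injective, hB]
      have hy' : qx.2⁻¹ * y * qx.2 ∈ (B.map (MulAut.conj qx.2⁻¹).toMonoidHom : Subgroup G) :=
        ⟨y, hyB, by simp [MulAut.conj_apply]⟩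
      have h2 := ihl _ hB' hch' _ hy'
      have hBD' : B ≤ (P : Subgroup G) ⊓ (qx.1 : Subgroup G) := hBD
      have h1 := step qx.1 hT (by rw [← hB]; exact Subgroup.card_le_of_le hBD') qx.2 hxN y
        (hBD' hyB)
      have e : y⁻¹ * ((qx.2 * lprod l)⁻¹ * y * (qx.2 * lprod l)) =
          (y⁻¹ * qx.2⁻¹ * y * qx.2) * ((qx.2⁻¹ * y * qx.2)⁻¹ *
            ((lprod l)⁻¹ * (qx.2⁻¹ * y * qx.2) * lprod l)) := by group
      rw [e]; exact mul_mem h1 h2
  obtain ⟨l, hl, hlg⟩ := exists_chain_set P (A : Set G) g hAP hg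
  rw [← hlg]; exact chain l A rfl hl y hy

end FocalTame

end Cfsg.Agent.Lib.Helper24
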