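import Cfsg.Agent.Lib.Helper24.IndexTwo

set_option autoImplicit false

namespace Cfsg.Agent.Lib.Helper24

theorem exists_index_two_of_cyclic_sylow_subgroup {G : Type*} [Group G] [Finite G]
    (x : G) (hx : orderOf x = 2) (C : Subgroup G) (hC : C = Subgroup.centralizer ({x} : Set G))
    (S : Sylow 2 ↥C)
    (hS : IsCyclic (S : Subgroup ↥C)) :
    ∃ H : Subgroup G, H.index = 2 := by
  have hS'p : IsPGroup 2 ((S : Subgroup C).map C.subtype) := S.2.map C.subtype
  obtain ⟨P, hP⟩ := hS'p.exists_le_sylow
  have hxC : x ∈ C := by rw [hC]; exact Subgroup.mem_centralizer_iff.mpr (by simp)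
  -- commuting
  have hcommC : ∀ g : C, Commute g (⟨x, hxC⟩ : C) := by
    intro g
    have : (g : G) ∈ Subgroup.centralizer ({x} : Set G) := by rw [← hC]; exact g.2
    rw [Subgroup.mem_centralizer_iff] at this
    apply Subtype.ext
    simpa using (this x rfl).symm
  -- zpowers x is a normal 2-subgroup of C
  have hZn : (Subgroup.zpowers (⟨x, hxC⟩ : C)).Normal := by
    constructor
    intro n hn g
    obtain ⟨k, rfl⟩ := Subgroup.mem_zpowers_iff.mp hn
    have := ((hcommC g).zpow_right k).eq
    rw [this, mul_inv_cancel_right]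
    exact Subgroup.zpow_mem_zpowers _ _
  have hxCord : orderOf (⟨x, hxC⟩ : C) = 2 := by
    exact (Subgroup.orderOf_mk x hxC).trans hx
  have hZp : IsPGroup 2 (Subgroup.zpowers (⟨x, hxC⟩ : C)) := by
    apply IsPGroup.of_card (n := 1)
    rw [Nat.card_zpowers, hxCord, pow_one]
  have hxS : (⟨x, hxC⟩ : C) ∈ (S : Subgroup C) :=
    (hZp.le_sylow_of_normal S) (Subgroup.mem_zpowers _)
  have hxS' : x ∈ (S : Subgroup C).map C.subtype := ⟨⟨x, hxC⟩, hxS, rfl⟩
  -- P ⊓ C ≤ S'
  have hPC : (P : Subgroup G) ⊓ C ≤ (S : Subgroup C).map C.subtype := by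
    have hp : IsPGroup 2 (((P : Subgroup G) ⊓ C : Subgroup G).subgroupOf C) := by
      have : IsPGroup 2 ((P : Subgroup G) ⊓ C : Subgroup G) := P.2.to_le inf_le_left
      exact this.comap_subtype
    have hle : (S : Subgroup C) ≤ ((P : Subgroup G) ⊓ C : Subgroup G).subgroupOf C := by
      intro s hs
      rw [Subgroup.mem_subgroupOf]
      exact ⟨hP ⟨s, hs, rfl⟩, s.2⟩
    have heq := S.is_maximal' hp hle
    intro g hg
    have : (⟨g, hg.2⟩ : C) ∈ ((P : Subgroup G) ⊓ C : Subgroup G).subgroupOf C := by
      rw [Subgroup.mem_subgroupOf]; exact hg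
    rw [heq] at this
    exact ⟨⟨g, hg.2⟩, this, rfl⟩
  -- S' is cyclic as a group
  have hS'cyc : IsCyclic ((S : Subgroup C).map C.subtype) := by
    exact isCyclic_of_surjective ((C.subtype).subgroupMap (S : Subgroup C))
      ((C.subtype).subgroupMap_surjective (S : Subgroup C))
  -- normalizer condition in P
  have hPS : (P : Subgroup G) ≤ (S : Subgroup C).map C.subtype := by
    by_contra hne
    have hQtop : ((S : Subgroup C).map C.subtype).subgroupOf (P : Subgroup G) < ⊤ := by
      rw [lt_top_iff_ne_top]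
      intro h
      apply hne
      intro g hg
      have : (⟨g, hg⟩ : (P : Subgroup G)) ∈
          ((S : Subgroup C).map C.subtype).subgroupOf (P : Subgroup G) := by rw [h]; trivial
      exact this
    have hnil : Group.IsNilpotent (P : Subgroup G) := P.2.isNilpotent
    have hnc := Group.normalizerCondition_of_isNilpotent (G := (P : Subgroup G)) _ hQtop
    obtain ⟨g, hgN, hgQ⟩ := Set.exists_of_ssubset hnc
    apply hgQ
    -- g normalizes Q, so g x g⁻¹ ∈ S'
    have hxQ : (⟨x, hP hxS'⟩ : (P : Subgroup G)) ∈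
        ((S : Subgroup C).map C.subtype).subgroupOf (P : Subgroup G) := hxS'
    have hconj : g * ⟨x, hP hxS'⟩ * g⁻¹ ∈
        ((S : Subgroup C).map C.subtype).subgroupOf (P : Subgroup G) :=
      (Subgroup.mem_normalizer_iff.mp hgN _).mp hxQ
    have hconj' : (g : G) * x * (g : G)⁻¹ ∈ (S : Subgroup C).map C.subtype := hconj
    -- it is an involution in S'
    have hord : orderOf ((g : G) * x * (g : G)⁻¹) = 2 := by
      have := (MulAut.conj (g : G)).orderOf_eq x
      rw [MulAut.conj_apply] at this
      exact this.trans hx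
    have heq : (⟨(g : G) * x * (g : G)⁻¹, hconj'⟩ : (S : Subgroup C).map C.subtype)
        = ⟨x, hxS'⟩ := by
      apply involution_unique_of_isCyclic
      · exact (Subgroup.orderOf_mk _ _).trans hord
      · exact (Subgroup.orderOf_mk _ _).trans hx
    have heq' : (g : G) * x * (g : G)⁻¹ = x := congrArg Subtype.val heq
    have hgC : (g : G) ∈ C := by
      rw [hC, Subgroup.mem_centralizer_iff]
      intro h hh
      rw [Set.mem_singleton_iff] at hh
      subst hh
      have := congrArg (fun t => t * (g : G)) heq'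
      simp only [inv_mul_cancel_right] at this
      exact this.symm
    exact hPC ⟨g.2, hgC⟩
  have hPeq : (P : Subgroup G) = (S : Subgroup C).map C.subtype := le_antisymm hPS hP
  have hPcyc : IsCyclic (P : Subgroup G) := by rw [hPeq]; exact hS'cyc
  have heven : Even (Nat.card G) := by
    rw [even_iff_two_dvd, ← hx]
    exact orderOf_dvd_natCard x
  exact exists_index_two_of_cyclic_sylow heven P hPcyc

end Cfsg.Agent.Lib.Helper24
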