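import Mathlib
import Cfsg.Agent.Lib.Helper5.PrimeOrdD

set_option autoImplicit false
set_option linter.style.haveILetI false
set_option linter.unusedSimpArgs false
set_option linter.unusedSectionVars false

namespace Cfsg.Agent.Lib.Helper24.InvMul

open Cfsg.Agent.Lib.Helper5.PrimeOrd

section free

variable {S : Type*} [Fintype S] [DecidableEq S] (D : S → S) (P : S → Prop) [DecidablePred P]

/-- doubling a multiset on a set of representatives -/
def dbl (ν : Multiset {x : S // P x}) : Multiset S :=
  ν.map Subtype.val + ν.map (fun x => D x.1)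

variable {D P}

theorem dbl_card (ν : Multiset {x : S // P x}) : Multiset.card (dbl D P ν) = 2 * Multiset.card ν := by
  unfold dbl
  rw [Multiset.card_add, Multiset.card_map, Multiset.card_map]
  ring

theorem dbl_inv (hD : ∀ x, D (D x) = x) (ν : Multiset {x : S // P x}) :
    (dbl D P ν).map D = dbl D P ν := by
  unfold dbl
  rw [Multiset.map_add, Multiset.map_map, Multiset.map_map, add_comm]
  congr 1
  apply Multiset.map_congr rfl
  intro x _
  exact hD _

theorem dbl_filter (hP : ∀ x, P (D x) ↔ ¬ P x) (ν : Multiset {x : S // P x}) :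
    (dbl D P ν).filter P = ν.map Subtype.val := by
  unfold dbl
  rw [Multiset.filter_add]
  have h1 : (ν.map Subtype.val).filter P = ν.map Subtype.val := by
    rw [Multiset.filter_eq_self]
    intro x hx
    rw [Multiset.mem_map] at hx
    obtain ⟨y, _, rfl⟩ := hx
    exact y.2
  have h2 : (ν.map (fun x => D x.1)).filter P = 0 := by
    rw [Multiset.filter_eq_nil]
    intro x hx
    rw [Multiset.mem_map] at hx
    obtain ⟨y, _, rfl⟩ := hx
    rw [hP]
    exact not_not.mpr y.2
  rw [h1, h2, add_zero]

theorem dbl_injective (hP : ∀ x, P (D x) ↔ ¬ P x) : Function.Injective (dbl D P) := by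
  intro ν ν' h
  have h1 := congrArg (Multiset.filter P) h
  rw [dbl_filter hP, dbl_filter hP] at h1
  exact Multiset.map_injective Subtype.val_injective h1

theorem dbl_surjective (hP : ∀ x, P (D x) ↔ ¬ P x) (μ : Multiset S)
    (hμ : μ.map D = μ) : ∃ ν : Multiset {x : S // P x}, dbl D P ν = μ := by
  have hmem : ∀ x ∈ μ.filter P, P x := fun x hx => (Multiset.mem_filter.1 hx).2
  refine ⟨(μ.filter P).pmap (fun x hx => (⟨x, hx⟩ : {x : S // P x})) hmem, ?_⟩
  unfold dbl
  have h1 : ((μ.filter P).pmap (fun x hx => (⟨x, hx⟩ : {x : S // P x})) hmem).map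
      Subtype.val = μ.filter P := by
    rw [Multiset.map_pmap, Multiset.pmap_eq_map, Multiset.map_id']
  have h2 : ((μ.filter P).pmap (fun x hx => (⟨x, hx⟩ : {x : S // P x})) hmem).map
      (fun x => D x.1) = (μ.filter P).map D := by
    rw [Multiset.map_pmap]
    rw [Multiset.pmap_eq_map]
  rw [h1, h2]
  have h3 : (μ.filter P).map D = μ.filter (fun x => ¬ P x) := by
    conv_rhs => rw [← hμ]
    rw [Multiset.filter_map]
    congr 1
    apply Multiset.filter_congr
    intro x _
    rw [Function.comp_apply, hP, not_not]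
  rw [h3, Multiset.filter_add_not]

end free

/-- the number of multisets invariant under a fixed-point-free involution -/
theorem card_invariant_free {S : Type*} [Fintype S] [DecidableEq S] (D : S → S)
    (hD : ∀ x, D (D x) = x) (hfree : ∀ x, D x ≠ x) (N : ℕ) :
    Nat.card {μ : Multiset S // μ ≠ 0 ∧ Multiset.card μ ≤ N ∧ μ.map D = μ} =
      (N / 2 + Fintype.card S / 2).choose (Fintype.card S / 2) - 1 := by
  classical
  obtain ⟨e⟩ : Nonempty (S ≃ Fin (Fintype.card S)) := ⟨Fintype.equivFin S⟩
  obtain ⟨P, hPdef⟩ : ∃ P : S → Prop, P = fun x => e x < e (D x) := ⟨_, rfl⟩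
  have hP : ∀ x, P (D x) ↔ ¬ P x := by
    intro x
    rw [hPdef]
    show e (D x) < e (D (D x)) ↔ ¬ e x < e (D x)
    rw [hD, not_lt]
    have hne : e (D x) ≠ e x := fun h => hfree x (e.injective h)
    constructor
    · intro h; exact le_of_lt h
    · intro h; exact lt_of_le_of_ne h hne
  have hcard : Fintype.card S = 2 * Fintype.card {x : S // P x} := by
    have h1 := Fintype.card_subtype_compl (fun x => P x)
    have h2 : Fintype.card {x : S // ¬ P x} = Fintype.card {x : S // P x} := by
      apply Fintype.card_congr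
      refine ⟨fun x => ⟨D x.1, ?_⟩, fun x => ⟨D x.1, ?_⟩, ?_, ?_⟩
      · rw [hP]; exact x.2
      · rw [hP]; exact not_not.mpr x.2
      · intro x; apply Subtype.ext; exact hD _
      · intro x; apply Subtype.ext; exact hD _
    have h3 : Fintype.card {x : S // P x} ≤ Fintype.card S := Fintype.card_subtype_le _
    omega
  have hT : Fintype.card {x : S // P x} = Fintype.card S / 2 := by omega
  rw [← hT, ← card_multiset_le_ne {x : S // P x} (N / 2)]
  symm
  apply Nat.card_congr
  refine Equiv.ofBijective (fun ν => ⟨dbl D P ν.1, ?_, ?_, dbl_inv hD ν.1⟩) ⟨?_, ?_⟩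
  · intro h0
    apply ν.2.1
    have := congrArg Multiset.card h0
    rw [dbl_card, Multiset.card_zero] at this
    exact Multiset.card_eq_zero.mp (by omega)
  · rw [dbl_card]
    have := ν.2.2
    omega
  · intro ν ν' h
    apply Subtype.ext
    exact dbl_injective hP (congrArg Subtype.val h)
  · rintro ⟨μ, h0, hN, hinv⟩
    obtain ⟨ν, hν⟩ := dbl_surjective hP μ hinv
    have hc : Multiset.card μ = 2 * Multiset.card ν := by rw [← hν, dbl_card]
    refine ⟨⟨ν, ?_, ?_⟩, Subtype.ext hν⟩
    · intro h
      apply h0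
      rw [← hν, h]
      rfl
    · omega

/-- the number of multisets invariant under the identity -/
theorem card_invariant_id {S : Type*} [Fintype S] (D : S → S) (hD : ∀ x, D x = x) (N : ℕ) :
    Nat.card {μ : Multiset S // μ ≠ 0 ∧ Multiset.card μ ≤ N ∧ μ.map D = μ} =
      (N + Fintype.card S).choose (Fintype.card S) - 1 := by
  rw [← card_multiset_le_ne S N]
  apply Nat.card_congr
  have hid : D = id := funext hD
  refine ⟨fun μ => ⟨μ.1, μ.2.1, μ.2.2.1⟩, fun μ => ⟨μ.1, μ.2.1, μ.2.2, ?_⟩, ?_, ?_⟩
  · rw [hid, Multiset.map_id]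
  · intro μ; rfl
  · intro μ; rfl

end Cfsg.Agent.Lib.Helper24.InvMul
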