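import Cfsg.Agent.Lib.Helper24.Dih

set_option autoImplicit false

namespace Cfsg.Agent.Lib.Helper24

section Isolated
variable {G : Type*} [Group G]

/-- two commuting involutions generate a 2-group -/
theorem isPGroup_closure_commuting_involutions {u w : G} (hu : u * u = 1) (hw : w * w = 1)
    (hc : u * w = w * u) : IsPGroup 2 (Subgroup.closure ({u, w} : Set G)) := by
  have huw : (u * w) * (u * w) = 1 := by
    calc (u * w) * (u * w) = u * (w * u) * w := by simp only [mul_assoc]
      _ = u * (u * w) * w := by rw [hc]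
      _ = (u * u) * (w * w) := by simp only [mul_assoc]
      _ = 1 := by rw [hu, hw, one_mul]
  intro x
  refine ⟨1, ?_⟩
  apply Subtype.ext
  rw [pow_one, Subgroup.coe_pow, Subgroup.coe_one, pow_two]
  obtain ⟨i, hi | hi⟩ := closure_pair_forms hu hw x.1 x.2
  · rw [hi, ← zpow_add, ← two_mul, zpow_mul, zpow_two, huw, one_zpow]
  · rw [hi]
    calc u * (u * w) ^ i * (u * (u * w) ^ i) = (u * (u * w) ^ i * u) * (u * w) ^ i := by
          simp only [mul_assoc]
      _ = 1 := by rw [conj_zpow_inv hu hw, ← zpow_add]; simp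

/-- If the only conjugate of `u` in the Sylow 2-subgroup `P` is `u`, then a conjugate of `u`
commuting with `u` equals `u`. -/
theorem eq_of_conj_commute_of_isolated [Finite G] (P : Sylow 2 G) {u : G} (hu : orderOf u = 2)
    (hiso : ∀ g : G, g * u * g⁻¹ ∈ P → g * u * g⁻¹ = u)
    (k : G) (hc : u * (k * u * k⁻¹) = (k * u * k⁻¹) * u) : k * u * k⁻¹ = u := by
  have hu2 := sq_one_of_orderOf_two hu
  have hw2 : (k * u * k⁻¹) * (k * u * k⁻¹) = 1 := by
    calc (k * u * k⁻¹) * (k * u * k⁻¹) = k * (u * u) * k⁻¹ := by group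
      _ = 1 := by rw [hu2]; group
  have hK := isPGroup_closure_commuting_involutions hu2 hw2 hc
  obtain ⟨Q, hQ⟩ := hK.exists_le_sylow
  obtain ⟨c, hcQ⟩ := MulAction.exists_smul_eq G Q P
  have huQ : u ∈ (Q : Subgroup G) := hQ (x_mem_closure_pair _ _)
  have hwQ : k * u * k⁻¹ ∈ (Q : Subgroup G) := hQ (y_mem_closure_pair _ _)
  have hmem : ∀ y : G, y ∈ (Q : Subgroup G) → c * y * c⁻¹ ∈ (P : Subgroup G) := by
    intro y hy
    have hmem' : c * y * c⁻¹ ∈ ((c • Q : Sylow 2 G) : Subgroup G) := by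
      rw [Sylow.coe_subgroup_smul]
      have : c * y * c⁻¹ = MulAut.conj c • y := by simp [MulAut.smul_def]
      rw [this]
      exact Subgroup.smul_mem_pointwise_smul _ _ _ hy
    rw [hcQ] at hmem'
    exact hmem'
  have h1 : c * u * c⁻¹ = u := hiso c (hmem u huQ)
  have h2 : (c * k) * u * (c * k)⁻¹ = u := by
    apply hiso
    have := hmem _ hwQ
    have e : c * (k * u * k⁻¹) * c⁻¹ = (c * k) * u * (c * k)⁻¹ := by group
    rwa [e] at this
  have h3 : c * (k * u * k⁻¹) * c⁻¹ = c * u * c⁻¹ := by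
    rw [h1]
    have e : c * (k * u * k⁻¹) * c⁻¹ = (c * k) * u * (c * k)⁻¹ := by group
    rw [e, h2]
  have := mul_left_cancel (mul_right_cancel h3)
  exact this

end Isolated

end Cfsg.Agent.Lib.Helper24
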