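import Mathlib
import Cfsg.Prelude.Def_Classical

/-!
# Transport of isometry groups along a field isomorphism

`isometryEquiv φ hQ : isometryGroup F QF ≃* isometryGroup K QK` for a ring isomorphism `φ : F ≃+* K`
with `QK (φ ∘ w) = φ (QF w)`.  `quadFormPlus_map` supplies the hypothesis for `quadFormPlus`.
-/

set_option autoImplicit false
set_option linter.style.haveILetI false

namespace Cfsg.Agent.Lib.Helper24
open Matrix

section transfer

variable {ι : Type} [Fintype ι] [DecidableEq ι] {F : Type*} [Field F] {K : Type*} [Field K]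

/-- the general linear groups over isomorphic fields are isomorphic. -/
def glFieldEquiv (φ : F ≃+* K) : GL ι F ≃* GL ι K where
  toFun := Matrix.GeneralLinearGroup.map φ.toRingHom
  invFun := Matrix.GeneralLinearGroup.map φ.symm.toRingHom
  left_inv g := by
    apply Matrix.GeneralLinearGroup.ext
    intro i j
    simp [Matrix.GeneralLinearGroup.map_apply]
  right_inv g := by
    apply Matrix.GeneralLinearGroup.ext
    intro i j
    simp [Matrix.GeneralLinearGroup.map_apply]
  map_mul' := map_mul _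

theorem glFieldEquiv_val (φ : F ≃+* K) (g : GL ι F) :
    ((glFieldEquiv φ g : GL ι K) : Matrix ι ι K) = (g : Matrix ι ι F).map φ := rfl

theorem mem_isometryGroup_iff' (Q : (ι → F) → F) (g : GL ι F) :
    g ∈ Cfsg.isometryGroup F Q ↔ ∀ u : ι → F, Q ((g : Matrix ι ι F) *ᵥ u) = Q u := by
  constructor
  · intro h u; exact h u u
  · intro h u _; exact h u

theorem mem_isometry_iff_map (φ : F ≃+* K) {QF : (ι → F) → F} {QK : (ι → K) → K}
    (hQ : ∀ w : ι → F, QK (φ ∘ w) = φ (QF w)) (g : GL ι F) :
    g ∈ Cfsg.isometryGroup F QF ↔ glFieldEquiv φ g ∈ Cfsg.isometryGroup K QK := by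
  have key : ∀ u : ι → F, QK (((glFieldEquiv φ g : GL ι K) : Matrix ι ι K) *ᵥ (φ ∘ u)) =
        φ (QF ((g : Matrix ι ι F) *ᵥ u)) := by
    intro u
    rw [← hQ]
    congr 1
    funext i
    rw [glFieldEquiv_val]
    exact (RingHom.map_mulVec (φ : F →+* K) _ u i).symm
  rw [mem_isometryGroup_iff', mem_isometryGroup_iff']
  constructor
  · intro h u'
    have hu : u' = φ ∘ (φ.symm ∘ u') := by
      funext i; simp
    rw [hu, key, h, hQ]
  · intro h u
    have h1 := h (φ ∘ u)
    rw [key, hQ] at h1
    exact φ.injective h1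

/-- transfer of isometry groups along a field isomorphism. -/
def isometryEquiv (φ : F ≃+* K) {QF : (ι → F) → F} {QK : (ι → K) → K}
    (hQ : ∀ w : ι → F, QK (φ ∘ w) = φ (QF w)) :
    ↥(Cfsg.isometryGroup F QF) ≃* ↥(Cfsg.isometryGroup K QK) where
  toFun g := ⟨glFieldEquiv φ g.1, (mem_isometry_iff_map φ hQ g.1).1 g.2⟩
  invFun g := ⟨(glFieldEquiv φ).symm g.1, (mem_isometry_iff_map φ hQ _).2 (by
    rw [MulEquiv.apply_symm_apply]; exact g.2)⟩
  left_inv g := by
    apply Subtype.ext
    exact (glFieldEquiv φ).symm_apply_apply g.1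
  right_inv g := by
    apply Subtype.ext
    exact (glFieldEquiv φ).apply_symm_apply g.1
  map_mul' g h := by
    apply Subtype.ext
    exact map_mul (glFieldEquiv φ) g.1 h.1

theorem quadFormPlus_map (m : ℕ) (φ : F ≃+* K) (w : Fin m ⊕ Fin m → F) :
    Cfsg.quadFormPlus m K (φ ∘ w) = φ (Cfsg.quadFormPlus m F w) := by
  unfold Cfsg.quadFormPlus
  simp [map_sum, map_mul]

end transfer

end Cfsg.Agent.Lib.Helper24
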