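import Mathlib

set_option autoImplicit false
set_option linter.style.haveILetI false

namespace Cfsg.Agent.Lib.Helper24.KHomog

open scoped Pointwise

theorem dvd_choose_of_pow_dvd {p e k i : ℕ} (hp : p.Prime) (hk : p ^ e ∣ k) (hi0 : 0 < i)
    (hi : i < p ^ e) : p ∣ k.choose i := by
  by_contra h
  have hcop : Nat.Coprime (p ^ e) (k.choose i) :=
    ((Nat.Prime.coprime_iff_not_dvd hp).2 h).pow_left e
  obtain ⟨j, rfl⟩ : ∃ j, i = j + 1 := ⟨i - 1, by omega⟩
  rcases Nat.eq_zero_or_pos k with rfl | hkpos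
  · simp at h
  obtain ⟨n, rfl⟩ : ∃ n, k = n + 1 := ⟨k - 1, by omega⟩
  have h1 := Nat.add_one_mul_choose_eq n j
  have hd : p ^ e ∣ (n + 1).choose (j + 1) * (j + 1) := by
    rw [← h1]; exact Dvd.dvd.mul_right hk _
  have h2 := hcop.dvd_of_dvd_mul_left hd
  exact absurd (Nat.le_of_dvd (by omega) h2) (by omega)

theorem coprime_choose {p e k : ℕ} (hp : p.Prime) (hk : p ^ e ∣ k) :
    Nat.Coprime (p ^ e) ((k + (p ^ e - 1)).choose (p ^ e - 1)) := by
  apply Nat.Coprime.pow_left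
  rw [Nat.Prime.coprime_iff_not_dvd hp, Nat.add_choose_eq]
  intro hdvd
  have hmem : ((0 : ℕ), p ^ e - 1) ∈ Finset.HasAntidiagonal.antidiagonal (p ^ e - 1) := by
    simp
  rw [← Finset.add_sum_erase _ _ hmem] at hdvd
  have hrest : p ∣ ∑ x ∈ (Finset.HasAntidiagonal.antidiagonal (p ^ e - 1)).erase (0, p ^ e - 1),
      k.choose x.1 * (p ^ e - 1).choose x.2 := by
    apply Finset.dvd_sum
    rintro ⟨i, j⟩ hij
    rw [Finset.mem_erase, Finset.HasAntidiagonal.mem_antidiagonal] at hij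
    obtain ⟨hne, hsum⟩ := hij
    have hi0 : 0 < i := by
      rcases Nat.eq_zero_or_pos i with rfl | h
      · exfalso; apply hne; simp at hsum; simp [hsum]
      · exact h
    have hpos : 0 < p ^ e := Nat.pos_of_ne_zero (pow_ne_zero _ hp.ne_zero)
    have hi : i < p ^ e := by simp at hsum; omega
    exact Dvd.dvd.mul_right (dvd_choose_of_pow_dvd hp hk hi0 hi) _
  have h1 := (Nat.dvd_add_left hrest).1 hdvd
  simp at h1
  exact hp.one_lt.ne' h1


section main
variable {G α : Type*} [Group G] [MulAction G α] [Fintype α] [DecidableEq α]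

theorem card_supersets {S Δ : Finset α} {k : ℕ} (hk : 1 ≤ k) (hΔ : Δ.card = k - 1) (hΔS : Δ ⊆ S) :
    ((S.powersetCard k).filter (fun Γ => Δ ⊆ Γ)).card = S.card - (k - 1) := by
  have : (S.powersetCard k).filter (fun Γ => Δ ⊆ Γ) = (S \ Δ).image (fun a => insert a Δ) := by
    ext Γ
    simp only [Finset.mem_filter, Finset.mem_powersetCard, Finset.mem_image, Finset.mem_sdiff]
    constructor
    · rintro ⟨⟨hΓS, hΓc⟩, hΔΓ⟩
      have hc : (Γ \ Δ).card = 1 := by
        rw [Finset.card_sdiff_of_subset hΔΓ, hΓc, hΔ]; omega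
      obtain ⟨a, ha⟩ := Finset.card_eq_one.1 hc
      have haΓ : a ∈ Γ \ Δ := by rw [ha]; simp
      rw [Finset.mem_sdiff] at haΓ
      refine ⟨a, ⟨hΓS haΓ.1, haΓ.2⟩, ?_⟩
      rw [← Finset.sdiff_union_of_subset hΔΓ, ha]
      ext x; simp
    · rintro ⟨a, ⟨haS, haΔ⟩, rfl⟩
      refine ⟨⟨?_, ?_⟩, Finset.subset_insert _ _⟩
      · intro x hx
        rcases Finset.mem_insert.1 hx with rfl | hx
        · exact haS
        · exact hΔS hx
      · rw [Finset.card_insert_of_notMem haΔ, hΔ]; omega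
  rw [this, Finset.card_image_of_injOn, Finset.card_sdiff_of_subset hΔS, hΔ]
  intro a ha b hb hab
  simp only [Finset.coe_sdiff, Set.mem_sdiff, Finset.mem_coe] at ha hb
  have hab' : insert a Δ = insert b Δ := hab
  have : a ∈ insert b Δ := by rw [← hab']; exact Finset.mem_insert_self _ _
  rcases Finset.mem_insert.1 this with h | h
  · exact h
  · exact absurd h ha.2

theorem homog_pred {k : ℕ} (hk : 2 ≤ k)
    (htr : ∀ Γ₁ Γ₂ : Finset α, Γ₁.card = k → Γ₂.card = k → ∃ g : G, g • Γ₁ = Γ₂)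
    (hq : ∀ q, IsPrimePow q → q ∣ k → k + q - 1 ≤ Fintype.card α)
    (Δ₀ Δ : Finset α) (h0 : Δ₀.card = k - 1) (h1 : Δ.card = k - 1) : ∃ g : G, g • Δ₀ = Δ := by
  classical
  -- n ≥ k + 1
  have hn : k + 1 ≤ Fintype.card α := by
    obtain ⟨p, hp, hpk⟩ := Nat.exists_prime_and_dvd (show k ≠ 1 by omega)
    have := hq p hp.isPrimePow hpk
    have := hp.two_le
    omega
  obtain ⟨O, hO⟩ : ∃ O : Finset (Finset α), O = Finset.univ.filter (fun D => ∃ g : G, g • Δ₀ = D) :=
    ⟨_, rfl⟩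
  have memO : ∀ D, D ∈ O ↔ ∃ g : G, g • Δ₀ = D := by
    intro D; rw [hO]; simp
  have cardO : ∀ D ∈ O, D.card = k - 1 := by
    intro D hD
    obtain ⟨g, rfl⟩ := (memO D).1 hD
    rw [Finset.card_smul_finset, h0]
  have smulO : ∀ (g : G) D, D ∈ O → g • D ∈ O := by
    intro g D hD
    obtain ⟨g', rfl⟩ := (memO D).1 hD
    exact (memO _).2 ⟨g * g', mul_smul _ _ _⟩
  -- lam
  have hle : ∀ (g : G) (Γ : Finset α),
      (O.filter (fun D => D ⊆ Γ)).card ≤ (O.filter (fun D => D ⊆ g • Γ)).card := by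
    intro g Γ
    apply Finset.card_le_card_of_injOn (fun D => g • D)
    · intro D hD
      simp only [Finset.coe_filter, Set.mem_ofPred_eq] at hD ⊢
      exact ⟨smulO g D hD.1, Finset.smul_finset_subset_smul_finset hD.2⟩
    · intro D _ D' _ h
      exact smul_left_cancel g h
  have hinv : ∀ (g : G) (Γ : Finset α),
      (O.filter (fun D => D ⊆ g • Γ)).card = (O.filter (fun D => D ⊆ Γ)).card := by
    intro g Γ
    apply le_antisymm
    · have := hle g⁻¹ (g • Γ)
      rwa [inv_smul_smul] at this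
    · exact hle g Γ
  have hconst : ∀ Γ₁ Γ₂ : Finset α, Γ₁.card = k → Γ₂.card = k →
      (O.filter (fun D => D ⊆ Γ₁)).card = (O.filter (fun D => D ⊆ Γ₂)).card := by
    intro Γ₁ Γ₂ h1 h2
    obtain ⟨g, rfl⟩ := htr Γ₁ Γ₂ h1 h2
    exact (hinv g Γ₁).symm
  -- a k-set containing Δ₀
  have hex : ∀ D : Finset α, D.card = k - 1 → ∃ a, a ∉ D := by
    intro D hD
    by_contra hcon
    push Not at hcon
    have : D = Finset.univ := Finset.eq_univ_iff_forall.2 hcon
    rw [this, Finset.card_univ] at hD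
    omega
  obtain ⟨a₀, ha₀⟩ := hex Δ₀ h0
  have hΓ₀ : (insert a₀ Δ₀).card = k := by
    rw [Finset.card_insert_of_notMem ha₀, h0]; omega
  obtain ⟨lam, hlam⟩ : ∃ lam, lam = (O.filter (fun D => D ⊆ insert a₀ Δ₀)).card := ⟨_, rfl⟩
  have hlamΓ : ∀ Γ : Finset α, Γ.card = k → (O.filter (fun D => D ⊆ Γ)).card = lam := by
    intro Γ hΓ
    rw [hlam]; exact hconst _ _ hΓ hΓ₀
  have hsub : ∀ Γ : Finset α, O.filter (fun D => D ⊆ Γ) ⊆ Γ.powersetCard (k - 1) := by
    intro Γ D hD
    rw [Finset.mem_filter] at hD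
    rw [Finset.mem_powersetCard]
    exact ⟨hD.2, cardO D hD.1⟩
  have hlam_pos : 1 ≤ lam := by
    rw [hlam, Nat.one_le_iff_ne_zero, Finset.card_ne_zero]
    exact ⟨Δ₀, Finset.mem_filter.2 ⟨(memO _).2 ⟨1, one_smul _ _⟩, Finset.subset_insert _ _⟩⟩
  have hlam_le : lam ≤ k := by
    rw [hlam]
    refine (Finset.card_le_card (hsub _)).trans ?_
    rw [Finset.card_powersetCard, hΓ₀]
    obtain ⟨j, rfl⟩ : ∃ j, k = j + 1 := ⟨k - 1, by omega⟩
    simp
  -- divisibility
  have hdiv : k ∣ lam := by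
    rw [Nat.dvd_iff_prime_pow_dvd_dvd]
    intro p e hp hpk
    rcases Nat.eq_zero_or_pos e with rfl | he
    · simp
    have hcard := hq (p ^ e) (hp.isPrimePow.pow he.ne') hpk
    have hpos : 0 < p ^ e := Nat.pos_of_ne_zero (pow_ne_zero _ hp.ne_zero)
    obtain ⟨S, -, hS⟩ := Finset.exists_subset_card_eq (s := (Finset.univ : Finset α))
      (n := k + p ^ e - 1) (by rw [Finset.card_univ]; exact hcard)
    have hdc := Finset.sum_card_bipartiteAbove_eq_sum_card_bipartiteBelow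
      (s := O.filter (fun D => D ⊆ S)) (t := S.powersetCard k) (fun D Γ => D ⊆ Γ)
    have hL : ∀ D ∈ O.filter (fun D => D ⊆ S),
        ((S.powersetCard k).bipartiteAbove (fun D Γ => D ⊆ Γ) D).card = p ^ e := by
      intro D hD
      rw [Finset.mem_filter] at hD
      unfold Finset.bipartiteAbove
      rw [card_supersets (by omega) (cardO D hD.1) hD.2, hS]
      omega
    have hR : ∀ Γ ∈ S.powersetCard k,
        ((O.filter (fun D => D ⊆ S)).bipartiteBelow (fun D Γ => D ⊆ Γ) Γ).card = lam := by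
      intro Γ hΓ
      rw [Finset.mem_powersetCard] at hΓ
      unfold Finset.bipartiteBelow
      rw [← hlamΓ Γ hΓ.2, Finset.filter_filter]
      congr 1
      apply Finset.filter_congr
      intro D _
      exact ⟨fun h => h.2, fun h => ⟨h.trans hΓ.1, h⟩⟩
    rw [Finset.sum_congr rfl hL, Finset.sum_congr rfl hR, Finset.sum_const, Finset.sum_const,
      smul_eq_mul, smul_eq_mul, Finset.card_powersetCard, hS] at hdc
    have hcop := coprime_choose hp hpk
    have hsym : (k + p ^ e - 1).choose k = (k + (p ^ e - 1)).choose (p ^ e - 1) := by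
      have : k + p ^ e - 1 = k + (p ^ e - 1) := by omega
      rw [this]
      exact Nat.choose_symm_of_eq_add rfl
    rw [hsym] at hdc
    exact hcop.dvd_of_dvd_mul_left ⟨_, hdc.symm.trans (mul_comm _ _)⟩
  have hlam_eq : lam = k := le_antisymm hlam_le (Nat.le_of_dvd (by omega) hdiv)
  -- conclusion
  obtain ⟨b, hb⟩ := hex Δ h1
  have hΓ : (insert b Δ).card = k := by
    rw [Finset.card_insert_of_notMem hb, h1]; omega
  have heq : O.filter (fun D => D ⊆ insert b Δ) = (insert b Δ).powersetCard (k - 1) := by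
    apply Finset.eq_of_subset_of_card_le (hsub _)
    rw [hlamΓ _ hΓ, hlam_eq, Finset.card_powersetCard, hΓ]
    obtain ⟨j, rfl⟩ : ∃ j, k = j + 1 := ⟨k - 1, by omega⟩
    simp
  have : Δ ∈ O.filter (fun D => D ⊆ insert b Δ) := by
    rw [heq, Finset.mem_powersetCard]
    exact ⟨Finset.subset_insert _ _, h1⟩
  exact (memO Δ).1 (Finset.mem_filter.1 this).1

end main

end Cfsg.Agent.Lib.Helper24.KHomog
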