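import Mathlib
import Cfsg.Prelude.Def_Classical

/-!
# The Klein correspondence: exterior square `SL₄(F) → O⁺₆(F)`

`ext2 g` is the 6×6 matrix of 2×2 minors of a 4×4 matrix in the ordered Plücker coordinates
`p01,p02,p03 | p23,p31,p12`; `ext2_mul` (Cauchy–Binet), `quad_ext2` (the Klein quadric
`p01 p23 + p02 p31 + p03 p12` is multiplied by `det g`), `kleinHom : SL₄(F) →* isometryGroup F (quadFormPlus 3 F)`,
`kleinHom_ne_one` (nontrivial).
-/

set_option autoImplicit false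
set_option linter.style.haveILetI false

namespace Cfsg.Agent.Lib.Helper24
namespace Klein
open Matrix

variable {R : Type*} [CommRing R]

abbrev ι := Fin 3 ⊕ Fin 3

/-- ordered pairs representing the six Plücker coordinates -/
def pr : ι → Fin 4 × Fin 4
  | Sum.inl 0 => (0, 1)
  | Sum.inl 1 => (0, 2)
  | Sum.inl 2 => (0, 3)
  | Sum.inr 0 => (2, 3)
  | Sum.inr 1 => (3, 1)
  | Sum.inr 2 => (1, 2)

def minor (g : Matrix (Fin 4) (Fin 4) R) (i j k l : Fin 4) : R := g i k * g j l - g i l * g j k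

/-- the exterior square of a 4×4 matrix -/
def ext2 (g : Matrix (Fin 4) (Fin 4) R) : Matrix ι ι R :=
  Matrix.of fun a b => minor g (pr a).1 (pr a).2 (pr b).1 (pr b).2

theorem minor_mul (g h : Matrix (Fin 4) (Fin 4) R) (i j k l : Fin 4) :
    minor (g * h) i j k l = ∑ c : ι, minor g i j (pr c).1 (pr c).2 * minor h (pr c).1 (pr c).2 k l := by
  simp only [minor, Matrix.mul_apply, Fin.sum_univ_four, Fintype.sum_sum_type, Fin.sum_univ_three, pr]
  ring

theorem ext2_mul (g h : Matrix (Fin 4) (Fin 4) R) : ext2 (g * h) = ext2 g * ext2 h := by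
  ext a b
  simp only [ext2, Matrix.of_apply, Matrix.mul_apply]
  exact minor_mul g h _ _ _ _

theorem ext2_one : ext2 (1 : Matrix (Fin 4) (Fin 4) R) = 1 := by
  ext a b
  rcases a with a | a <;> rcases b with b | b <;> fin_cases a <;> fin_cases b <;>
    simp [ext2, minor, pr, Matrix.one_apply]

theorem det_fin_four' (g : Matrix (Fin 4) (Fin 4) R) :
    g.det = g 0 0 * (g 1 1 * (g 2 2 * g 3 3 - g 2 3 * g 3 2) - g 1 2 * (g 2 1 * g 3 3 - g 2 3 * g 3 1)
        + g 1 3 * (g 2 1 * g 3 2 - g 2 2 * g 3 1))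
      - g 0 1 * (g 1 0 * (g 2 2 * g 3 3 - g 2 3 * g 3 2) - g 1 2 * (g 2 0 * g 3 3 - g 2 3 * g 3 0)
        + g 1 3 * (g 2 0 * g 3 2 - g 2 2 * g 3 0))
      + g 0 2 * (g 1 0 * (g 2 1 * g 3 3 - g 2 3 * g 3 1) - g 1 1 * (g 2 0 * g 3 3 - g 2 3 * g 3 0)
        + g 1 3 * (g 2 0 * g 3 1 - g 2 1 * g 3 0))
      - g 0 3 * (g 1 0 * (g 2 1 * g 3 2 - g 2 2 * g 3 1) - g 1 1 * (g 2 0 * g 3 2 - g 2 2 * g 3 0)
        + g 1 2 * (g 2 0 * g 3 1 - g 2 1 * g 3 0)) := by
  rw [Matrix.det_succ_row_zero]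
  simp only [Fin.sum_univ_four, Matrix.det_fin_three, Matrix.submatrix_apply, Fin.succ_zero_eq_one,
    Fin.succ_one_eq_two]
  simp [Fin.succAbove]
  ring

theorem quad_ext2 {F : Type*} [Field F] (g : Matrix (Fin 4) (Fin 4) F) (p : ι → F) :
    Cfsg.quadFormPlus 3 F (ext2 g *ᵥ p) = g.det * Cfsg.quadFormPlus 3 F p := by
  rw [det_fin_four']
  simp only [Cfsg.quadFormPlus, Matrix.mulVec, dotProduct, ext2, Matrix.of_apply, minor,
    Fintype.sum_sum_type, Fin.sum_univ_three, pr]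
  ring


section hom
variable {F : Type*} [Field F]

def ext2Hom : Matrix.SpecialLinearGroup (Fin 4) F →* Matrix ι ι F where
  toFun g := ext2 (g : Matrix (Fin 4) (Fin 4) F)
  map_one' := by rw [Matrix.SpecialLinearGroup.coe_one]; exact ext2_one
  map_mul' g h := by rw [Matrix.SpecialLinearGroup.coe_mul]; exact ext2_mul _ _

def ext2GL : Matrix.SpecialLinearGroup (Fin 4) F →* Matrix.GeneralLinearGroup ι F :=
  ext2Hom.toHomUnits

theorem ext2GL_val (g : Matrix.SpecialLinearGroup (Fin 4) F) :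
    ((ext2GL g : Matrix.GeneralLinearGroup ι F) : Matrix ι ι F) =
      ext2 (g : Matrix (Fin 4) (Fin 4) F) := rfl

def kleinHom : Matrix.SpecialLinearGroup (Fin 4) F →*
    ↥(Cfsg.isometryGroup F (Cfsg.quadFormPlus 3 F)) :=
  ext2GL.codRestrict _ (fun g => by
    intro u _
    show Cfsg.quadFormPlus 3 F (ext2 (g : Matrix (Fin 4) (Fin 4) F) *ᵥ u) = Cfsg.quadFormPlus 3 F u
    rw [quad_ext2, g.det_coe, one_mul])

theorem kleinHom_val (g : Matrix.SpecialLinearGroup (Fin 4) F) :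
    (((kleinHom g).1 : Matrix.GeneralLinearGroup ι F) : Matrix ι ι F) =
      ext2 (g : Matrix (Fin 4) (Fin 4) F) := rfl

/-- a transvection in `SL₄(F)` -/
def tv : Matrix.SpecialLinearGroup (Fin 4) F :=
  ⟨Matrix.transvection 0 1 1, Matrix.det_transvection_of_ne 0 1 (by decide) 1⟩

theorem kleinHom_ne_one : kleinHom (tv : Matrix.SpecialLinearGroup (Fin 4) F) ≠ 1 := by
  intro h
  have h1 := congrArg (fun x : ↥(Cfsg.isometryGroup F (Cfsg.quadFormPlus 3 F)) =>
    ((x.1 : Matrix.GeneralLinearGroup ι F) : Matrix ι ι F) (Sum.inl 1) (Sum.inr 2)) h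
  simp only [kleinHom_val] at h1
  have h2 : ext2 ((tv : Matrix.SpecialLinearGroup (Fin 4) F) : Matrix (Fin 4) (Fin 4) F)
      (Sum.inl 1) (Sum.inr 2) = 1 := by
    simp [ext2, minor, pr, tv, Matrix.transvection, Matrix.one_apply, Matrix.single_apply]
  rw [h2] at h1
  have h3 : (((1 : ↥(Cfsg.isometryGroup F (Cfsg.quadFormPlus 3 F))).1 :
      Matrix.GeneralLinearGroup ι F) : Matrix ι ι F) (Sum.inl 1) (Sum.inr 2) = 0 := by
    show (1 : Matrix ι ι F) (Sum.inl 1) (Sum.inr 2) = 0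
    simp
  rw [h3] at h1
  exact one_ne_zero h1

end hom

end Klein
end Cfsg.Agent.Lib.Helper24
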