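import Cfsg.Agent.Lib.Helper24.KleinSylow

set_option autoImplicit false

namespace Cfsg.Agent.Lib.Helper24

section KleinClasses
variable {G : Type*} [Group G]

theorem isConj_of_conj_eq {x y g : G} (h : g⁻¹ * x * g = y) : IsConj x y := by
  rw [isConj_iff]
  exact ⟨g⁻¹, by rw [inv_inv]; exact h⟩

theorem exists_conj_eq_of_isConj {x y : G} (h : IsConj x y) : ∃ g : G, g⁻¹ * x * g = y := by
  obtain ⟨c, hc⟩ := isConj_iff.mp h
  exact ⟨c⁻¹, by rw [inv_inv]; exact hc⟩

/-- every involution is conjugate to an element of the Sylow 2-subgroup -/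
theorem exists_conj_mem_sylow_of_involution [Finite G] (P : Sylow 2 G) (t : G)
    (ht : orderOf t = 2) : ∃ g : G, g⁻¹ * t * g ∈ (P : Subgroup G) := by
  have hpg : IsPGroup 2 (Subgroup.zpowers t) := by
    apply IsPGroup.of_card (n := 1)
    rw [Nat.card_zpowers, ht, pow_one]
  obtain ⟨Q, hQ⟩ := hpg.exists_le_sylow
  obtain ⟨g, hg⟩ := MulAction.exists_smul_eq G P Q
  refine ⟨g, ?_⟩
  rw [← mem_smul_sylow_iff, hg]
  exact hQ (Subgroup.mem_zpowers t)

theorem klein_dichotomy [Finite G] (P : Sylow 2 G) (hP : IsKleinFour (P : Subgroup G)) :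
    ((∀ x ∈ (P : Subgroup G), ∀ y ∈ (P : Subgroup G), IsConj x y → x = y) ∧
      Nat.card {C : ConjClasses G // ∃ t : G, orderOf t = 2 ∧ ConjClasses.mk t = C} = 3) ∨
    ((∀ x ∈ (P : Subgroup G), ∀ y ∈ (P : Subgroup G), x ≠ 1 → y ≠ 1 → IsConj x y) ∧
      Nat.card {C : ConjClasses G // ∃ t : G, orderOf t = 2 ∧ ConjClasses.mk t = C} = 1) := by
  obtain ⟨a, b, ha, hb, ha1, hb1, hab⟩ := klein_exists_pair (P : Subgroup G) hP
  have haa := klein_sq (P : Subgroup G) hP a ha
  have hbb := klein_sq (P : Subgroup G) hP b hb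
  have hcomm := klein_comm (P : Subgroup G) hP a b ha hb
  have hc : a * b ∈ (P : Subgroup G) := (P : Subgroup G).mul_mem ha hb
  have hc1 : a * b ≠ 1 := by
    intro h
    apply hab
    have : a = b⁻¹ := eq_inv_of_mul_eq_one_left h
    rw [this]; exact inv_eq_of_mul_eq_one_left hbb
  have hca : a * b ≠ a := by
    intro h
    apply hb1
    have : a * b = a * 1 := by rw [h, mul_one]
    exact mul_left_cancel this
  have hcb : a * b ≠ b := by
    intro h
    apply ha1
    have : a * b = 1 * b := by rw [h, one_mul]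
    exact mul_right_cancel this
  have hac : a * (a * b) = b := by rw [← mul_assoc, haa, one_mul]
  have hbc : b * (a * b) = a := by rw [hcomm, ← mul_assoc, hbb, one_mul]
  have hoa : orderOf a = 2 := orderOf_eq_prime (by rw [pow_two]; exact haa) ha1
  have hob : orderOf b = 2 := orderOf_eq_prime (by rw [pow_two]; exact hbb) hb1
  have hoc : orderOf (a * b) = 2 :=
    orderOf_eq_prime (by rw [pow_two]; exact klein_sq (P : Subgroup G) hP _ hc) hc1
  -- the set of involution classes
  have hS : {C : ConjClasses G | ∃ t : G, orderOf t = 2 ∧ ConjClasses.mk t = C} =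
      {ConjClasses.mk a, ConjClasses.mk b, ConjClasses.mk (a * b)} := by
    ext C
    simp only [Set.mem_insert_iff, Set.mem_singleton_iff]
    constructor
    · rintro ⟨t, hto, rfl⟩
      obtain ⟨g, hg⟩ := exists_conj_mem_sylow_of_involution P t hto
      have hne1 : g⁻¹ * t * g ≠ 1 := by
        intro h
        have : t = g * (g⁻¹ * t * g) * g⁻¹ := by group
        rw [h] at this
        have ht1 : t = 1 := by rw [this]; group
        rw [ht1, orderOf_one] at hto
        omega
      have hconj : ConjClasses.mk t = ConjClasses.mk (g⁻¹ * t * g) :=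
        ConjClasses.mk_eq_mk_iff_isConj.mpr (isConj_of_conj_eq rfl)
      rcases klein_cases (P : Subgroup G) hP a b _ ha hb hg ha1 hb1 hab with h | h | h | h
      · exact absurd h hne1
      · left; rw [hconj, h]
      · right; left; rw [hconj, h]
      · right; right; rw [hconj, h]
    · rintro (rfl | rfl | rfl)
      · exact ⟨a, hoa, rfl⟩
      · exact ⟨b, hob, rfl⟩
      · exact ⟨a * b, hoc, rfl⟩
  have hcardS : Nat.card {C : ConjClasses G // ∃ t : G, orderOf t = 2 ∧ ConjClasses.mk t = C}
      = Set.ncard {C : ConjClasses G | ∃ t : G, orderOf t = 2 ∧ ConjClasses.mk t = C} :=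
    Nat.card_coe_set_eq _
  rw [hcardS, hS]
  -- fusion helper
  have fus : ∀ s t : G, s ∈ (P : Subgroup G) → t ∈ (P : Subgroup G) → s ≠ 1 → t ≠ 1 → s ≠ t →
      IsConj s t → IsConj s (s * t) := by
    intro s t hs ht hs1 ht1 hst hconj
    obtain ⟨g, hg⟩ := exists_conj_eq_of_isConj hconj
    obtain ⟨k, hk⟩ := klein_fusion_step P hP s t g hs ht hs1 ht1 hst hg
    exact isConj_of_conj_eq hk
  by_cases hfuse : IsConj a b ∨ IsConj a (a * b) ∨ IsConj b (a * b)
  · right
    have hAB : IsConj a b ∧ IsConj a (a * b) := by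
      rcases hfuse with h | h | h
      · exact ⟨h, fus a b ha hb ha1 hb1 hab h⟩
      · have := fus a (a * b) ha hc ha1 hc1 hca.symm h
        rw [hac] at this
        exact ⟨this, h⟩
      · have := fus b (a * b) hb hc hb1 hc1 hcb.symm h
        rw [hbc] at this
        exact ⟨this.symm, this.symm.trans h⟩
    obtain ⟨hAB, hAC⟩ := hAB
    constructor
    · intro x hx y hy hx1 hy1
      have hxa : IsConj a x := by
        rcases klein_cases (P : Subgroup G) hP a b x ha hb hx ha1 hb1 hab with h | h | h | h
        · exact absurd h hx1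
        · rw [h]
        · rw [h]; exact hAB
        · rw [h]; exact hAC
      have hya : IsConj a y := by
        rcases klein_cases (P : Subgroup G) hP a b y ha hb hy ha1 hb1 hab with h | h | h | h
        · exact absurd h hy1
        · rw [h]
        · rw [h]; exact hAB
        · rw [h]; exact hAC
      exact hxa.symm.trans hya
    · have e1 : ConjClasses.mk b = ConjClasses.mk a :=
        (ConjClasses.mk_eq_mk_iff_isConj.mpr hAB).symm
      have e2 : ConjClasses.mk (a * b) = ConjClasses.mk a :=
        (ConjClasses.mk_eq_mk_iff_isConj.mpr hAC).symm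
      rw [e1, e2]
      simp
  · left
    push Not at hfuse
    obtain ⟨h1, h2, h3⟩ := hfuse
    constructor
    · intro x hx y hy hxy
      have one_conj : ∀ z : G, IsConj 1 z → z = 1 := by
        intro z hz
        obtain ⟨c, hc⟩ := isConj_iff.mp hz
        rw [← hc]; group
      rcases klein_cases (P : Subgroup G) hP a b x ha hb hx ha1 hb1 hab with hx' | hx' | hx' | hx'
      · rw [hx'] at hxy ⊢
        exact (one_conj y hxy).symm
      · rcases klein_cases (P : Subgroup G) hP a b y ha hb hy ha1 hb1 hab with hy' | hy' | hy' | hy'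
        · rw [hy'] at hxy ⊢
          exact one_conj x hxy.symm
        · rw [hx', hy']
        · rw [hx', hy'] at hxy; exact absurd hxy h1
        · rw [hx', hy'] at hxy; exact absurd hxy h2
      · rcases klein_cases (P : Subgroup G) hP a b y ha hb hy ha1 hb1 hab with hy' | hy' | hy' | hy'
        · rw [hy'] at hxy ⊢
          exact one_conj x hxy.symm
        · rw [hx', hy'] at hxy; exact absurd hxy.symm h1
        · rw [hx', hy']
        · rw [hx', hy'] at hxy; exact absurd hxy h3
      · rcases klein_cases (P : Subgroup G) hP a b y ha hb hy ha1 hb1 hab with hy' | hy' | hy' | hy'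
        · rw [hy'] at hxy ⊢
          exact one_conj x hxy.symm
        · rw [hx', hy'] at hxy; exact absurd hxy.symm h2
        · rw [hx', hy'] at hxy; exact absurd hxy.symm h3
        · rw [hx', hy']
    · rw [Set.ncard_eq_three]
      refine ⟨_, _, _, ?_, ?_, ?_, rfl⟩
      · intro h; exact h1 (ConjClasses.mk_eq_mk_iff_isConj.mp h)
      · intro h; exact h2 (ConjClasses.mk_eq_mk_iff_isConj.mp h)
      · intro h; exact h3 (ConjClasses.mk_eq_mk_iff_isConj.mp h)

end KleinClasses

end Cfsg.Agent.Lib.Helper24
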