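import Mathlib
import Cfsg.Agent.Lib.Helper24.IndexTwo
import Cfsg.Agent.Lib.Helper24.Dih

set_option autoImplicit false

namespace Cfsg.Agent.Lib.Helper24

/-- Hypotheses: `S` is a modular `2`-group `M_{n+1}(2)` inside `G`, with generators `a`, `b`. -/
structure ModHyp {G : Type*} [Group G] (S : Subgroup G) (n : ℕ) (a b : G) : Prop where
  hn : 3 ≤ n
  card : Nat.card S = 2 ^ (n + 1)
  ha : a ∈ S
  hb : b ∈ S
  hao : orderOf a = 2 ^ n
  hbo : orderOf b = 2
  hrel : b * a * b⁻¹ = a ^ (2 ^ (n - 1) + 1)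

namespace ModHyp

variable {G : Type*} [Group G] {S : Subgroup G} {n : ℕ} {a b : G}

/-- the central involution -/
def z (_h : ModHyp S n a b) : G := a ^ (2 ^ (n - 1))

theorem z_def (h : ModHyp S n a b) : h.z = a ^ (2 ^ (n - 1)) := rfl

theorem two_pow_n (h : ModHyp S n a b) : 2 ^ n = 2 ^ (n - 1) * 2 := by
  have := h.hn
  rw [← pow_succ]
  congr 1
  omega

theorem z_order (h : ModHyp S n a b) : orderOf h.z = 2 := by
  have hdvd : 2 ^ (n - 1) ∣ orderOf a := by rw [h.hao, h.two_pow_n]; exact dvd_mul_right _ _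
  rw [z_def, orderOf_pow_of_dvd (by positivity) hdvd, h.hao, h.two_pow_n]
  exact Nat.mul_div_cancel_left 2 (by positivity)

theorem z_sq (h : ModHyp S n a b) : h.z * h.z = 1 := sq_one_of_orderOf_two h.z_order

theorem z_ne_one (h : ModHyp S n a b) : h.z ≠ 1 := ne_one_of_orderOf_two h.z_order

theorem z_mem (h : ModHyp S n a b) : h.z ∈ S := S.pow_mem h.ha _

theorem z_mem_zpowers (h : ModHyp S n a b) : h.z ∈ Subgroup.zpowers a :=
  Subgroup.npow_mem_zpowers a _

theorem b_sq (h : ModHyp S n a b) : b * b = 1 := sq_one_of_orderOf_two h.hbo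

theorem b_inv (h : ModHyp S n a b) : b⁻¹ = b := inv_eq_self_of_orderOf_two h.hbo

theorem comm_a_z (h : ModHyp S n a b) : Commute a h.z := by
  rw [z_def]; exact Commute.pow_right (Commute.refl a) _

theorem comm_apow_z (h : ModHyp S n a b) (i : ℕ) : Commute (a ^ i) h.z :=
  Commute.pow_left h.comm_a_z i

theorem hrel' (h : ModHyp S n a b) : b * a * b⁻¹ = a * h.z := by
  rw [h.hrel, pow_succ, z_def]
  exact (h.comm_a_z).eq.symm

theorem z_pow (h : ModHyp S n a b) (i : ℕ) : h.z ^ i = if Even i then 1 else h.z := by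
  have hz2 : h.z ^ 2 = 1 := by rw [pow_two]; exact h.z_sq
  split_ifs with hi
  · obtain ⟨k, rfl⟩ := hi
    rw [← two_mul, pow_mul, hz2, one_pow]
  · obtain ⟨k, rfl⟩ := Nat.not_even_iff_odd.1 hi
    rw [pow_succ, pow_mul, hz2, one_pow, one_mul]

theorem conj_apow (h : ModHyp S n a b) (i : ℕ) : b * a ^ i * b⁻¹ = a ^ i * h.z ^ i := by
  rw [← conj_pow, h.hrel', (h.comm_a_z).mul_pow]

theorem b_apow (h : ModHyp S n a b) (i : ℕ) : b * a ^ i = a ^ i * h.z ^ i * b := by
  have := h.conj_apow i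
  calc b * a ^ i = (b * a ^ i * b⁻¹) * b := by group
    _ = a ^ i * h.z ^ i * b := by rw [this]

theorem comm_b_z (h : ModHyp S n a b) : Commute b h.z := by
  have h1 := h.conj_apow (2 ^ (n - 1))
  have heven : Even (2 ^ (n - 1)) := by
    have := h.hn
    exact (Nat.even_pow' (by omega)).2 even_two
  rw [h.z_pow, if_pos heven, mul_one, ← z_def] at h1
  show b * h.z = h.z * b
  calc b * h.z = (b * h.z * b⁻¹) * b := by group
    _ = h.z * b := by rw [h1]

theorem apow_eq_one_iff (h : ModHyp S n a b) (i : ℕ) : a ^ i = 1 ↔ 2 ^ n ∣ i := by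
  rw [← h.hao]; exact (orderOf_dvd_iff_pow_eq_one).symm

theorem b_notMem (h : ModHyp S n a b) : b ∉ Subgroup.zpowers a := by
  intro hb
  have hc : Commute b a := by
    obtain ⟨k, hk⟩ := Subgroup.mem_zpowers_iff.1 hb
    rw [← hk]
    exact (Commute.refl a).zpow_left k
  have h1 := h.hrel'
  have h2 : b * a * b⁻¹ = a := by rw [hc.eq]; group
  rw [h2] at h1
  exact h.z_ne_one (by simpa using h1.symm)

theorem index_two (h : ModHyp S n a b) : ((Subgroup.zpowers a).subgroupOf S).index = 2 := by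
  have hle : Subgroup.zpowers a ≤ S := by
    rw [Subgroup.zpowers_le]; exact h.ha
  have h1 := Subgroup.card_mul_index ((Subgroup.zpowers a).subgroupOf S)
  have h2 : Nat.card ((Subgroup.zpowers a).subgroupOf S) = 2 ^ n := by
    rw [Nat.card_congr (Subgroup.subgroupOfEquivOfLe hle).toEquiv, Nat.card_zpowers, h.hao]
  rw [h2, h.card, pow_succ] at h1
  exact Nat.eq_of_mul_eq_mul_left (by positivity) h1

/-- normal form of the elements of `S` -/
theorem exists_form (h : ModHyp S n a b) {x : G} (hx : x ∈ S) :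
    ∃ i : ℕ, x = a ^ i ∨ x = a ^ i * b := by
  have hfin : IsOfFinOrder a := by
    rw [← orderOf_pos_iff, h.hao]; positivity
  have hpow : ∀ y ∈ Subgroup.zpowers a, ∃ i : ℕ, y = a ^ i := by
    intro y hy
    rw [← hfin.mem_powers_iff_mem_zpowers] at hy
    obtain ⟨i, hi⟩ := hy
    exact ⟨i, hi.symm⟩
  by_cases hxa : x ∈ Subgroup.zpowers a
  · obtain ⟨i, hi⟩ := hpow x hxa
    exact ⟨i, Or.inl hi⟩
  · have key := Subgroup.mul_mem_iff_of_index_two h.index_two (a := ⟨x, hx⟩) (b := ⟨b, h.hb⟩)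
    simp only [Subgroup.mem_subgroupOf, Subgroup.coe_mul] at key
    have hxb : x * b ∈ Subgroup.zpowers a := key.2 ⟨fun h' => absurd h' hxa, fun h' => absurd h' h.b_notMem⟩
    obtain ⟨i, hi⟩ := hpow _ hxb
    refine ⟨i, Or.inr ?_⟩
    rw [← hi, mul_assoc, h.b_sq, mul_one]

theorem sq_form (h : ModHyp S n a b) (i : ℕ) : (a ^ i * b) ^ 2 = a ^ (2 * i) * h.z ^ i := by
  rw [pow_two]
  calc a ^ i * b * (a ^ i * b) = a ^ i * (b * a ^ i) * b := by group
    _ = a ^ i * (a ^ i * h.z ^ i * b) * b := by rw [h.b_apow]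
    _ = a ^ i * a ^ i * h.z ^ i * (b * b) := by group
    _ = a ^ (2 * i) * h.z ^ i := by rw [h.b_sq, mul_one, ← pow_add, two_mul]

theorem sq_mem_zpowers (h : ModHyp S n a b) {x : G} (hx : x ∈ S) :
    x ^ 2 ∈ Subgroup.zpowers a := by
  obtain ⟨i, rfl | rfl⟩ := h.exists_form hx
  · exact Subgroup.pow_mem _ (Subgroup.npow_mem_zpowers a i) 2
  · rw [h.sq_form]
    exact Subgroup.mul_mem _ (Subgroup.npow_mem_zpowers a _) (Subgroup.pow_mem _ h.z_mem_zpowers _)

/-- the only involution of `⟨a⟩` is `z` -/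
theorem eq_z_of_mem_zpowers (h : ModHyp S n a b) [Finite G] {x : G}
    (hx : x ∈ Subgroup.zpowers a) (hxo : orderOf x = 2) : x = h.z := by
  have h1 : orderOf (⟨x, hx⟩ : Subgroup.zpowers a) = 2 := by rw [Subgroup.orderOf_mk]; exact hxo
  have h2 : orderOf (⟨h.z, h.z_mem_zpowers⟩ : Subgroup.zpowers a) = 2 := by
    rw [Subgroup.orderOf_mk]; exact h.z_order
  have := involution_unique_of_isCyclic h1 h2
  exact congrArg Subtype.val this

/-- squares of order two are `z` -/
theorem sq_eq_z (h : ModHyp S n a b) [Finite G] {x : G} (hx : x ∈ S) (hxo : orderOf (x ^ 2) = 2) :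
    x ^ 2 = h.z :=
  h.eq_z_of_mem_zpowers (h.sq_mem_zpowers hx) hxo

/-- the involutions of `S` -/
theorem involutions (h : ModHyp S n a b) [Finite G] {x : G} (hx : x ∈ S) (hxo : orderOf x = 2) :
    x = h.z ∨ x = b ∨ x = h.z * b := by
  obtain ⟨i, rfl | rfl⟩ := h.exists_form hx
  · left
    exact h.eq_z_of_mem_zpowers (Subgroup.npow_mem_zpowers a i) hxo
  · right
    have hsq : (a ^ i * b) ^ 2 = 1 := by rw [← hxo]; exact pow_orderOf_eq_one _
    rw [h.sq_form, h.z_pow] at hsq
    have hn := h.hn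
    by_cases hi : Even i
    · rw [if_pos hi, mul_one, h.apow_eq_one_iff] at hsq
      -- 2^n ∣ 2 i, so 2^(n-1) ∣ i
      have h2 : 2 ^ (n - 1) ∣ i := by
        rw [h.two_pow_n, mul_comm] at hsq
        exact Nat.dvd_of_mul_dvd_mul_left (by norm_num) hsq
      obtain ⟨k, rfl⟩ := h2
      have hzk : a ^ (2 ^ (n - 1) * k) = h.z ^ k := by rw [pow_mul, ← z_def]
      rw [hzk, h.z_pow]
      split_ifs
      · left; rw [one_mul]
      · right; rfl
    · exfalso
      rw [if_neg hi, z_def, ← pow_add, h.apow_eq_one_iff] at hsq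
      -- 2^n ∣ 2 i + 2^(n-1) with i odd: impossible for n ≥ 3
      obtain ⟨k, rfl⟩ := Nat.not_even_iff_odd.1 hi
      have e1 : 2 ^ n = 4 * 2 ^ (n - 2) := by
        rw [show (4 : ℕ) = 2 ^ 2 by norm_num, ← pow_add]; congr 1; omega
      have e2 : 2 ^ (n - 1) = 2 * 2 ^ (n - 2) := by
        rw [← pow_succ']; congr 1; omega
      have e3 : 2 ^ (n - 2) = 2 * 2 ^ (n - 3) := by
        rw [← pow_succ']; congr 1; omega
      rw [e1, e2, e3] at hsq
      obtain ⟨c, hc⟩ := hsq
      generalize 2 ^ (n - 3) = m at hc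
      have : 2 * (2 * k + 1) + 2 * (2 * m) = 2 * (2 * k + 2 * m + 1) := by ring
      rw [this] at hc
      have : 4 * (2 * m) * c = 2 * (2 * (2 * m * c)) := by ring
      rw [this] at hc
      omega

/-- elements of `S` commuting with `b` -/
theorem exists_form_of_commute (h : ModHyp S n a b) {x : G} (hx : x ∈ S) (hc : x * b = b * x) :
    ∃ j : ℕ, x = a ^ (2 * j) ∨ x = a ^ (2 * j) * b := by
  obtain ⟨i, hi⟩ := h.exists_form hx
  have hcomm : a ^ i * b = b * a ^ i := by
    rcases hi with rfl | rfl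
    · exact hc
    · have : a ^ i * b * b = b * (a ^ i * b) := hc
      calc a ^ i * b = (a ^ i * b * b) * b⁻¹ := by group
        _ = b * (a ^ i * b) * b⁻¹ := by rw [this]
        _ = b * a ^ i := by group
  rw [h.b_apow, h.z_pow] at hcomm
  have hev : Even i := by
    by_contra hne
    rw [if_neg hne] at hcomm
    have : h.z = 1 := by
      have e : a ^ i * b = a ^ i * (h.z * b) := by rw [hcomm]; group
      have e2 := mul_left_cancel e
      have e3 : b = h.z * b := e2
      calc h.z = (h.z * b) * b⁻¹ := by group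
        _ = b * b⁻¹ := by rw [← e3]
        _ = 1 := by group
    exact h.z_ne_one this
  obtain ⟨j, rfl⟩ := hev
  refine ⟨j, ?_⟩
  rw [← two_mul] at hi
  exact hi

theorem a_sq_comm_b (h : ModHyp S n a b) (j : ℕ) : Commute (a ^ (2 * j)) b := by
  have := h.b_apow (2 * j)
  rw [h.z_pow, if_pos (even_two_mul j), mul_one] at this
  exact this.symm

/-- `a ^ (2 j)` is central in `S` -/
theorem a_sq_central (h : ModHyp S n a b) (j : ℕ) {x : G} (hx : x ∈ S) :
    Commute (a ^ (2 * j)) x := by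
  obtain ⟨i, rfl | rfl⟩ := h.exists_form hx
  · exact (Commute.refl a).pow_pow _ _
  · exact Commute.mul_right ((Commute.refl a).pow_pow _ _) (h.a_sq_comm_b j)

/-- `2 ^ (n-2)`-th powers in `C_S(b)` -/
theorem pow_of_commute (h : ModHyp S n a b) {x : G} (hx : x ∈ S) (hc : x * b = b * x) :
    x ^ (2 ^ (n - 2)) = 1 ∨ x ^ (2 ^ (n - 2)) = h.z := by
  have hn := h.hn
  have e2 : 2 ^ (n - 1) = 2 * 2 ^ (n - 2) := by
    rw [← pow_succ']; congr 1; omega
  have key : ∀ j : ℕ, (a ^ (2 * j)) ^ (2 ^ (n - 2)) = h.z ^ j := by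
    intro j
    rw [z_def, ← pow_mul, ← pow_mul, e2]
    congr 1
    ring
  have hb2 : b ^ (2 ^ (n - 2)) = 1 := by
    have e3 : 2 ^ (n - 2) = 2 * 2 ^ (n - 3) := by
      rw [← pow_succ']; congr 1; omega
    rw [e3, pow_mul, pow_two, h.b_sq, one_pow]
  obtain ⟨j, rfl | rfl⟩ := h.exists_form_of_commute hx hc
  · rw [key, h.z_pow]
    split_ifs
    · left; rfl
    · right; rfl
  · rw [(h.a_sq_comm_b j).mul_pow, key, hb2, mul_one, h.z_pow]
    split_ifs
    · left; rfl
    · right; rfl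

/-- elements of `C_S(b)` commute -/
theorem comm_of_commute (h : ModHyp S n a b) {x y : G} (hx : x ∈ S) (hcx : x * b = b * x)
    (hy : y ∈ S) (_hcy : y * b = b * y) : x * y = y * x := by
  obtain ⟨j, rfl | rfl⟩ := h.exists_form_of_commute hx hcx
  · exact (h.a_sq_central j hy).eq
  · have h1 := (h.a_sq_central j hy).eq
    have h2 : b * y = y * b := _hcy.symm
    calc a ^ (2 * j) * b * y = a ^ (2 * j) * (b * y) := by group
      _ = a ^ (2 * j) * (y * b) := by rw [h2]
      _ = (a ^ (2 * j) * y) * b := by group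
      _ = (y * a ^ (2 * j)) * b := by rw [h1]
      _ = y * (a ^ (2 * j) * b) := by group

theorem z_central (h : ModHyp S n a b) {x : G} (hx : x ∈ S) : Commute h.z x := by
  obtain ⟨i, rfl | rfl⟩ := h.exists_form hx
  · exact (h.comm_apow_z i).symm
  · exact Commute.mul_right (h.comm_apow_z i).symm h.comm_b_z.symm

theorem a_mem_of_odd_pow (h : ModHyp S n a b) (Q : Subgroup G) {i : ℕ} (hi : ¬ Even i)
    (hQ : a ^ i ∈ Q) : a ∈ Q := by
  have hcop : Nat.Coprime i (2 ^ n) :=
    Nat.Coprime.pow_right n (Nat.coprime_two_right.2 (Nat.not_even_iff_odd.1 hi))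
  obtain ⟨k, -, hk⟩ := Nat.exists_mul_mod_eq_of_coprime 1 hcop (by positivity)
  have h1 : (a ^ i) ^ k ∈ Q := Q.pow_mem hQ k
  have hn := h.hn
  have hlt : 1 < 2 ^ n := Nat.one_lt_two_pow (by omega)
  rw [← pow_mul, ← pow_mod_orderOf, h.hao, hk, Nat.mod_eq_of_lt hlt, pow_one] at h1
  exact h1

/-- a subgroup of `S` not containing `a` is abelian -/
theorem comm_of_a_notMem (h : ModHyp S n a b) (Q : Subgroup G) (hQS : Q ≤ S) (haQ : a ∉ Q) :
    ∀ x ∈ Q, ∀ y ∈ Q, x * y = y * x := by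
  have hev : ∀ i : ℕ, a ^ i ∈ Q → Even i := by
    intro i hi
    by_contra hne
    exact haQ (h.a_mem_of_odd_pow Q hne hi)
  have hn := h.hn
  intro x hx y hy
  obtain ⟨i, rfl | rfl⟩ := h.exists_form (hQS hx)
  · obtain ⟨k, rfl⟩ := hev i hx
    rw [← two_mul]
    exact (h.a_sq_central k (hQS hy)).eq
  · obtain ⟨j, rfl | rfl⟩ := h.exists_form (hQS hy)
    · obtain ⟨k, rfl⟩ := hev j hy
      rw [← two_mul]
      exact ((h.a_sq_central k (hQS hx)).eq).symm
    · -- both outside `⟨a⟩`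
      have hprod : a ^ i * b * (a ^ j * b) = a ^ (i + j) * h.z ^ j := by
        calc a ^ i * b * (a ^ j * b) = a ^ i * (b * a ^ j) * b := by group
          _ = a ^ i * (a ^ j * h.z ^ j * b) * b := by rw [h.b_apow]
          _ = a ^ i * a ^ j * h.z ^ j * (b * b) := by group
          _ = a ^ (i + j) * h.z ^ j := by rw [h.b_sq, mul_one, pow_add]
      have hprod' : a ^ j * b * (a ^ i * b) = a ^ (j + i) * h.z ^ i := by
        calc a ^ j * b * (a ^ i * b) = a ^ j * (b * a ^ i) * b := by group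
          _ = a ^ j * (a ^ i * h.z ^ i * b) * b := by rw [h.b_apow]
          _ = a ^ j * a ^ i * h.z ^ i * (b * b) := by group
          _ = a ^ (j + i) * h.z ^ i := by rw [h.b_sq, mul_one, pow_add]
      have hmem : a ^ (i + j) * h.z ^ j ∈ Q := by rw [← hprod]; exact Q.mul_mem hx hy
      have hpar : Even (i + j) := by
        have e : a ^ (i + j) * h.z ^ j = a ^ (i + j + 2 ^ (n - 1) * j) := by
          rw [pow_add a (i + j), pow_mul, ← z_def]
        rw [e] at hmem
        have h1 := hev _ hmem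
        have h2 : Even (2 ^ (n - 1) * j) :=
          Even.mul_right ((Nat.even_pow' (by omega)).2 even_two) j
        exact (Nat.even_add.1 h1).2 h2
      rw [hprod, hprod', add_comm j i]
      congr 1
      rw [h.z_pow, h.z_pow]
      have : Even i ↔ Even j := Nat.even_add.1 hpar
      simp only [this]

/-- a subgroup of `S` is abelian or all of `S` -/
theorem abelian_or_eq (h : ModHyp S n a b) (Q : Subgroup G) (hQS : Q ≤ S) :
    (∀ x ∈ Q, ∀ y ∈ Q, x * y = y * x) ∨ Q = S := by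
  by_cases haQ : a ∈ Q
  · by_cases hle : Q ≤ Subgroup.zpowers a
    · left
      intro x hx y hy
      obtain ⟨k, rfl⟩ := Subgroup.mem_zpowers_iff.1 (hle hx)
      obtain ⟨l, rfl⟩ := Subgroup.mem_zpowers_iff.1 (hle hy)
      exact ((Commute.refl a).zpow_zpow k l).eq
    · right
      obtain ⟨x, hxQ, hxa⟩ := SetLike.not_le_iff_exists.1 hle
      have hbQ : b ∈ Q := by
        obtain ⟨i, rfl | rfl⟩ := h.exists_form (hQS hxQ)
        · exact absurd (Subgroup.npow_mem_zpowers a i) hxa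
        · have : b = (a ^ i)⁻¹ * (a ^ i * b) := by group
          rw [this]
          exact Q.mul_mem (Q.inv_mem (Q.pow_mem haQ i)) hxQ
      apply le_antisymm hQS
      intro y hy
      obtain ⟨i, rfl | rfl⟩ := h.exists_form hy
      · exact Q.pow_mem haQ i
      · exact Q.mul_mem (Q.pow_mem haQ i) hbQ
  · left
    exact h.comm_of_a_notMem Q hQS haQ

end ModHyp

end Cfsg.Agent.Lib.Helper24
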