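import Mathlib
import Cfsg.Agent.Lib.Helper24.Modular
import Cfsg.Agent.Lib.Helper24.OddAct
import Cfsg.Agent.Lib.Helper24.SylowTools

set_option autoImplicit false

namespace Cfsg.Agent.Lib.Helper24

namespace ModHyp

variable {G : Type*} [Group G] {S : Subgroup G} {n : ℕ} {a b : G}

theorem zb_order (h : ModHyp S n a b) : orderOf (h.z * b) = 2 := by
  apply orderOf_eq_prime
  · rw [pow_two]
    calc h.z * b * (h.z * b) = h.z * (b * h.z) * b := by group
      _ = h.z * (h.z * b) * b := by rw [h.comm_b_z.eq]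
      _ = (h.z * h.z) * (b * b) := by group
      _ = 1 := by rw [h.z_sq, h.b_sq, one_mul]
  · intro h1
    have : b = h.z := by
      calc b = (h.z * h.z) * b := by rw [h.z_sq, one_mul]
        _ = h.z * (h.z * b) := by group
        _ = h.z := by rw [h1, mul_one]
    exact h.b_notMem (this ▸ h.z_mem_zpowers)

theorem b_ne_z (h : ModHyp S n a b) : b ≠ h.z := fun e => h.b_notMem (e ▸ h.z_mem_zpowers)

theorem zb_ne_z (h : ModHyp S n a b) : h.z * b ≠ h.z := by
  intro e
  have : b = 1 := by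
    have := mul_left_cancel (a := h.z) (b := b) (c := 1) (by rw [mul_one]; exact e)
    exact this
  exact ne_one_of_orderOf_two h.hbo this

theorem zb_ne_b (h : ModHyp S n a b) : h.z * b ≠ b := by
  intro e
  have : h.z = 1 := by
    have := mul_right_cancel (a := h.z) (b := b) (c := 1) (by rw [one_mul]; exact e)
    exact this
  exact h.z_ne_one this

/-- conjugation preserves order two -/
theorem orderOf_conj_two {g x : G} (hx : orderOf x = 2) : orderOf (g * x * g⁻¹) = 2 := by
  have : g * x * g⁻¹ = MulAut.conj g x := by simp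
  rw [this, MulEquiv.orderOf_eq]
  exact hx

/-- an odd-order element normalizing `Q ≤ S` and fixing `z` (if `z ∈ Q`) fixes all involutions
of `Q` -/
theorem inv_fixed (h : ModHyp S n a b) [Finite G] (Q : Subgroup G) (hQS : Q ≤ S) (g : G)
    (hodd : Odd (orderOf g)) (hnorm : ∀ x ∈ Q, g * x * g⁻¹ ∈ Q)
    (hz : h.z ∈ Q → g * h.z * g⁻¹ = h.z) :
    ∀ x ∈ Q, orderOf x = 2 → g * x * g⁻¹ = x := by
  intro x hxQ hxo
  by_contra hne
  have hyQ : g * x * g⁻¹ ∈ Q := hnorm x hxQ
  have hyo : orderOf (g * x * g⁻¹) = 2 := orderOf_conj_two hxo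
  have hx3 := h.involutions (hQS hxQ) hxo
  have hy3 := h.involutions (hQS hyQ) hyo
  -- `x ≠ z`
  have hxz : x ≠ h.z := by
    intro e
    apply hne
    rw [e]
    exact hz (e ▸ hxQ)
  -- `y ≠ z`
  have hyz : g * x * g⁻¹ ≠ h.z := by
    intro e
    have hzQ : h.z ∈ Q := e ▸ hyQ
    have e2 := hz hzQ
    have : g * x * g⁻¹ = g * h.z * g⁻¹ := by rw [e, e2]
    have : x = h.z := by
      have := mul_right_cancel this
      exact mul_left_cancel this
    exact hxz this
  -- so `{x, y} = {b, zb}`, `y = x * z`, `z ∈ Q`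
  have hkey : g * x * g⁻¹ = x * h.z ∧ h.z ∈ Q := by
    rcases hx3 with e | e | e
    · exact absurd e hxz
    · rcases hy3 with e' | e' | e'
      · exact absurd e' hyz
      · exact absurd (e'.trans e.symm) hne
      · refine ⟨by rw [e', e, h.comm_b_z.eq], ?_⟩
        have : h.z = (g * x * g⁻¹) * x⁻¹ := by rw [e', e]; group
        rw [this]
        exact Q.mul_mem hyQ (Q.inv_mem hxQ)
    · rcases hy3 with e' | e' | e'
      · exact absurd e' hyz
      · refine ⟨?_, ?_⟩
        · rw [e', e]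
          calc b = (h.z * h.z) * b := by rw [h.z_sq, one_mul]
            _ = h.z * (h.z * b) := by group
            _ = h.z * (b * h.z) := by rw [h.comm_b_z.eq]
            _ = h.z * b * h.z := by group
        · have : h.z = x * (g * x * g⁻¹)⁻¹ := by rw [e', e]; group
          rw [this]
          exact Q.mul_mem hxQ (Q.inv_mem hyQ)
      · exact absurd (e'.trans e.symm) hne
  obtain ⟨hy, hzQ⟩ := hkey
  have hzfix := hz hzQ
  have h2 : g * (g * x * g⁻¹) * g⁻¹ = x := by
    rw [hy]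
    calc g * (x * h.z) * g⁻¹ = (g * x * g⁻¹) * (g * h.z * g⁻¹) := by group
      _ = x * h.z * h.z := by rw [hy, hzfix]
      _ = x := by rw [mul_assoc, h.z_sq, mul_one]
  exact hne (eq_of_odd_swap hodd rfl h2).symm

/-- conjugation preserves commutation -/
theorem conj_comm {x u v : G} (huv : u * v = v * u) :
    (x * u * x⁻¹) * (x * v * x⁻¹) = (x * v * x⁻¹) * (x * u * x⁻¹) := by
  calc (x * u * x⁻¹) * (x * v * x⁻¹) = x * (u * v) * x⁻¹ := by group
    _ = x * (v * u) * x⁻¹ := by rw [huv]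
    _ = (x * v * x⁻¹) * (x * u * x⁻¹) := by group

/-- A `2`-subgroup of `C_G(z, b)` containing `z` and `b` has order at most `|C_S(b)|`. -/
theorem card_le_of_cent (h : ModHyp S n a b) [Finite G] (P : Sylow 2 G)
    (hP : (P : Subgroup G) = S) (T : Subgroup G) (hT : IsPGroup 2 T) (hzT : h.z ∈ T)
    (hbT : b ∈ T) (hTC : ∀ t ∈ T, t * h.z = h.z * t ∧ t * b = b * t) :
    Nat.card T ≤ Nat.card (S ⊓ Subgroup.centralizer {b} : Subgroup G) := by
  have : Fact (Nat.Prime 2) := ⟨Nat.prime_two⟩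
  obtain ⟨Q₁, hQ₁⟩ := hT.exists_le_sylow
  obtain ⟨x, hx⟩ := MulAction.exists_smul_eq G Q₁ P
  have hconj : ∀ t ∈ T, x * t * x⁻¹ ∈ S := by
    intro t ht
    have := conj_mem_smul_sylow Q₁ x t (hQ₁ ht)
    rw [hx, hP] at this
    exact this
  have hz' := h.involutions (hconj _ hzT) (orderOf_conj_two h.z_order)
  have hb' := h.involutions (hconj _ hbT) (orderOf_conj_two h.hbo)
  have hne : x * h.z * x⁻¹ ≠ x * b * x⁻¹ := by
    intro e
    have := mul_right_cancel e
    exact h.b_ne_z (mul_left_cancel this).symm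
  -- every conjugate commutes with `b`
  have hcb : ∀ t ∈ T, (x * t * x⁻¹) * b = b * (x * t * x⁻¹) := by
    intro t ht
    have c1 : (x * t * x⁻¹) * (x * h.z * x⁻¹) = (x * h.z * x⁻¹) * (x * t * x⁻¹) :=
      conj_comm (hTC t ht).1
    have c2 : (x * t * x⁻¹) * (x * b * x⁻¹) = (x * b * x⁻¹) * (x * t * x⁻¹) :=
      conj_comm (hTC t ht).2
    have c3 : (x * t * x⁻¹) * ((x * h.z * x⁻¹) * (x * b * x⁻¹)) =
        ((x * h.z * x⁻¹) * (x * b * x⁻¹)) * (x * t * x⁻¹) :=
      ((show Commute _ _ from c1).mul_right (show Commute _ _ from c2)).eq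
    have zzb : h.z * (h.z * b) = b := by rw [← mul_assoc, h.z_sq, one_mul]
    have zbz : h.z * b * h.z = b := by
      rw [mul_assoc, h.comm_b_z.eq, ← mul_assoc, h.z_sq, one_mul]
    rcases hz' with e | e | e
    · rcases hb' with e' | e' | e'
      · exact absurd (e.trans e'.symm) hne
      · rw [e'] at c2; exact c2
      · rw [e, e', zzb] at c3; exact c3
    · rw [e] at c1; exact c1
    · rcases hb' with e' | e' | e'
      · rw [e, e', zbz] at c3; exact c3
      · rw [e'] at c2; exact c2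
      · exact absurd (e.trans e'.symm) hne
  let f : T → (S ⊓ Subgroup.centralizer {b} : Subgroup G) := fun t =>
    ⟨x * t * x⁻¹, Subgroup.mem_inf.2 ⟨hconj t t.2, Subgroup.mem_centralizer_iff.2 (fun y hy => by
      rw [Set.mem_singleton_iff] at hy
      rw [hy]
      exact (hcb t t.2).symm)⟩⟩
  have hf : Function.Injective f := by
    intro t₁ t₂ e
    have e' : x * (t₁ : G) * x⁻¹ = x * (t₂ : G) * x⁻¹ := congrArg Subtype.val e
    have := mul_right_cancel e'
    exact Subtype.ext (mul_left_cancel this)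
  exact Nat.card_le_card_of_injective f hf

/-- Elements of `N_G(V)` fix `z`, where `V = {1, z, b, zb}`. -/
theorem normalizer_V_fixes_z (h : ModHyp S n a b) [Finite G] (P : Sylow 2 G)
    (hP : (P : Subgroup G) = S) (g : G)
    (hg' : ∀ x, (x = h.z ∨ x = b ∨ x = h.z * b) →
      (g⁻¹ * x * g = h.z ∨ g⁻¹ * x * g = b ∨ g⁻¹ * x * g = h.z * b)) :
    g * h.z * g⁻¹ = h.z := by
  have : Fact (Nat.Prime 2) := ⟨Nat.prime_two⟩
  have hn := h.hn
  set C : Subgroup G := Subgroup.centralizer ({h.z, b} : Set G) with hC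
  have hCmem : ∀ x, x ∈ C ↔ (x * h.z = h.z * x ∧ x * b = b * x) := by
    intro x
    rw [hC, Subgroup.mem_centralizer_iff]
    constructor
    · intro hx
      exact ⟨(hx h.z (by simp)).symm, (hx b (by simp)).symm⟩
    · rintro ⟨h1, h2⟩ y hy
      simp only [Set.mem_insert_iff, Set.mem_singleton_iff] at hy
      rcases hy with rfl | rfl
      · exact h1.symm
      · exact h2.symm
  set A : Subgroup G := S ⊓ C with hA
  set A' : Subgroup G := S ⊓ Subgroup.centralizer {b} with hA'
  have hA'A : A' ≤ A := by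
    intro x hx
    refine ⟨hx.1, (hCmem x).2 ⟨((h.z_central hx.1).eq).symm, ?_⟩⟩
    have := Subgroup.mem_centralizer_iff.1 hx.2 b (Set.mem_singleton b)
    exact this.symm
  have hAC : A ≤ C := inf_le_right
  have hApg : IsPGroup 2 A := by
    have : A ≤ (P : Subgroup G) := by rw [hP]; exact inf_le_left
    exact P.2.to_le this
  obtain ⟨P₀, hP₀⟩ := (hApg.comap_subtype (H := A) (K := C)).exists_le_sylow
  set T : Subgroup G := (P₀ : Subgroup C).map C.subtype with hTdef
  have hTpg : IsPGroup 2 T := P₀.2.map C.subtype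
  have hTC : T ≤ C := Subgroup.map_subtype_le _
  have hAT : A ≤ T := by
    intro x hx
    have : (⟨x, hAC hx⟩ : C) ∈ A.subgroupOf C := by rw [Subgroup.mem_subgroupOf]; exact hx
    exact ⟨⟨x, hAC hx⟩, hP₀ this, rfl⟩
  have hzA : h.z ∈ A := ⟨h.z_mem, (hCmem _).2 ⟨rfl, h.comm_b_z.eq.symm⟩⟩
  have hbA : b ∈ A := ⟨h.hb, (hCmem _).2 ⟨h.comm_b_z.eq, rfl⟩⟩
  have hcard := h.card_le_of_cent P hP T hTpg (hAT hzA) (hAT hbA)
    (fun t ht => (hCmem t).1 (hTC ht))
  have hTA' : A' = T :=
    Subgroup.eq_of_le_of_card_ge (hA'A.trans hAT) hcard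
  -- the conjugate of `A`
  set Y : Subgroup G := A.map (MulAut.conj g).toMonoidHom with hY
  have hYpg : IsPGroup 2 Y := hApg.map _
  have hzb_comm : ∀ x ∈ C, x * (h.z * b) = (h.z * b) * x := by
    intro x hx
    obtain ⟨h1, h2⟩ := (hCmem x).1 hx
    rw [← mul_assoc, h1, mul_assoc, h2, mul_assoc]
  have hYC : Y ≤ C := by
    rintro y ⟨x, hxA, rfl⟩
    have hxC : x ∈ C := hAC hxA
    obtain ⟨h1, h2⟩ := (hCmem x).1 hxC
    have h3 := hzb_comm x hxC
    have comm_of : ∀ v, (v = h.z ∨ v = b ∨ v = h.z * b) → x * v = v * x := by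
      rintro v (rfl | rfl | rfl)
      · exact h1
      · exact h2
      · exact h3
    have key : ∀ u, (u = h.z ∨ u = b ∨ u = h.z * b) →
        (g * x * g⁻¹) * u = u * (g * x * g⁻¹) := by
      intro u hu
      have hv := comm_of _ (hg' u hu)
      calc (g * x * g⁻¹) * u = g * (x * (g⁻¹ * u * g)) * g⁻¹ := by group
        _ = g * ((g⁻¹ * u * g) * x) * g⁻¹ := by rw [hv]
        _ = u * (g * x * g⁻¹) := by group
    show (MulAut.conj g) x ∈ C
    rw [MulAut.conj_apply]
    exact (hCmem _).2 ⟨key _ (Or.inl rfl), key _ (Or.inr (Or.inl rfl))⟩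
  obtain ⟨c, hcC, hc⟩ := exists_conj_le_sylow_of_subgroup C P₀ Y hYpg hYC
  -- apply to `a ^ 2`
  have ha2A : a ^ (2 * 1) ∈ A := by
    refine ⟨S.pow_mem h.ha _, (hCmem _).2 ⟨(h.comm_apow_z _).eq, (h.a_sq_comm_b 1).eq⟩⟩
  have hyY : g * a ^ (2 * 1) * g⁻¹ ∈ Y := ⟨a ^ (2 * 1), ha2A, by simp⟩
  have hw := hc _ hyY
  rw [← hTdef, ← hTA'] at hw
  have hwS := hw.1
  have hwb : c * (g * a ^ (2 * 1) * g⁻¹) * c⁻¹ * b = b * (c * (g * a ^ (2 * 1) * g⁻¹) * c⁻¹) := by
    have := Subgroup.mem_centralizer_iff.1 hw.2 b (Set.mem_singleton b)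
    exact this.symm
  have hpw := h.pow_of_commute hwS hwb
  have hza : (a ^ (2 * 1)) ^ (2 ^ (n - 2)) = h.z := by
    rw [← pow_mul, z_def, mul_one, ← pow_succ']
    congr 2
    omega
  have hpow : (c * (g * a ^ (2 * 1) * g⁻¹) * c⁻¹) ^ (2 ^ (n - 2)) = c * (g * h.z * g⁻¹) * c⁻¹ := by
    rw [conj_pow, conj_pow, hza]
  rw [hpow] at hpw
  obtain ⟨hc1, -⟩ := (hCmem c).1 hcC
  rcases hpw with e | e
  · exfalso
    apply h.z_ne_one
    have : g * h.z * g⁻¹ = 1 := by
      have : c * (g * h.z * g⁻¹) * c⁻¹ = c * 1 * c⁻¹ := by rw [e]; group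
      have := mul_right_cancel this
      exact mul_left_cancel this
    have : g * h.z * g⁻¹ = g * 1 * g⁻¹ := by rw [this]; group
    have := mul_right_cancel this
    exact mul_left_cancel this
  · calc g * h.z * g⁻¹ = c⁻¹ * (c * (g * h.z * g⁻¹) * c⁻¹) * c := by group
      _ = c⁻¹ * h.z * c := by rw [e]
      _ = c⁻¹ * (h.z * c) := by group
      _ = c⁻¹ * (c * h.z) := by rw [hc1]
      _ = h.z := by group

/-- The local Frobenius condition for a modular Sylow `2`-subgroup. -/
theorem local_main (h : ModHyp S n a b) [Finite G] (P : Sylow 2 G)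
    (hP : (P : Subgroup G) = S) (Q : Subgroup G) (hQS : Q ≤ S) (g : G)
    (hg : g ∈ Subgroup.normalizer (Q : Set G)) (hodd : Odd (orderOf g)) :
    g ∈ Subgroup.centralizer (Q : Set G) := by
  have hnorm : ∀ x ∈ Q, g * x * g⁻¹ ∈ Q := fun x hx => (Subgroup.mem_normalizer_iff.1 hg x).1 hx
  have hnorm' : ∀ x ∈ Q, g⁻¹ * x * g ∈ Q := by
    intro x hx
    have := (Subgroup.mem_normalizer_iff.1 hg (g⁻¹ * x * g)).2
    apply this
    have e : g * (g⁻¹ * x * g) * g⁻¹ = x := by group
    rw [e]; exact hx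
  have hQpg : IsPGroup 2 Q := by
    have : Q ≤ (P : Subgroup G) := by rw [hP]; exact hQS
    exact P.2.to_le this
  -- `g` fixes `z`
  have hz : h.z ∈ Q → g * h.z * g⁻¹ = h.z := by
    intro hzQ
    by_cases hbQ : b ∈ Q
    · apply h.normalizer_V_fixes_z P hP g
      intro x hx
      have hxQ : x ∈ Q := by
        rcases hx with rfl | rfl | rfl
        · exact hzQ
        · exact hbQ
        · exact Q.mul_mem hzQ hbQ
      have hxo : orderOf x = 2 := by
        rcases hx with rfl | rfl | rfl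
        · exact h.z_order
        · exact h.hbo
        · exact h.zb_order
      have h1 : orderOf (g⁻¹ * x * g) = 2 := by
        have := orderOf_conj_two (g := g⁻¹) hxo
        rwa [inv_inv] at this
      exact h.involutions (hQS (hnorm' x hxQ)) h1
    · have h1 := h.involutions (hQS (hnorm _ hzQ)) (orderOf_conj_two h.z_order)
      rcases h1 with e | e | e
      · exact e
      · exfalso; apply hbQ; rw [← e]; exact hnorm _ hzQ
      · exfalso; apply hbQ
        have : b = h.z⁻¹ * (g * h.z * g⁻¹) := by rw [e]; group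
        rw [this]
        exact Q.mul_mem (Q.inv_mem hzQ) (hnorm _ hzQ)
  have hinv := h.inv_fixed Q hQS g hodd hnorm hz
  rw [Subgroup.mem_centralizer_iff]
  rcases h.abelian_or_eq Q hQS with hab | hQeq
  · intro x hx
    have := odd_centralizes_abelian_two_group hodd Q hQpg hab hnorm hinv x hx
    calc x * g = (g * x * g⁻¹) * g := by rw [this]
      _ = g * x := by group
  · -- `Q = S`
    subst hQeq
    have hgz : g * h.z * g⁻¹ = h.z := hz h.z_mem
    have hgb : g * b * g⁻¹ = b := hinv b h.hb h.hbo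
    -- the abelian subgroup `C_S(b)`
    set A : Subgroup G := Q ⊓ Subgroup.centralizer {b} with hA
    have hAmem : ∀ x, x ∈ A ↔ x ∈ Q ∧ x * b = b * x := by
      intro x
      rw [hA, Subgroup.mem_inf, Subgroup.mem_centralizer_iff]
      constructor
      · rintro ⟨h1, h2⟩
        exact ⟨h1, (h2 b (Set.mem_singleton b)).symm⟩
      · rintro ⟨h1, h2⟩
        refine ⟨h1, fun y hy => ?_⟩
        rw [Set.mem_singleton_iff] at hy
        rw [hy]; exact h2.symm
    have hApg : IsPGroup 2 A := hQpg.to_le inf_le_left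
    have hAab : ∀ x ∈ A, ∀ y ∈ A, x * y = y * x := by
      intro x hx y hy
      obtain ⟨hx1, hx2⟩ := (hAmem x).1 hx
      obtain ⟨hy1, hy2⟩ := (hAmem y).1 hy
      exact h.comm_of_commute hx1 hx2 hy1 hy2
    have hAnorm : ∀ x ∈ A, g * x * g⁻¹ ∈ A := by
      intro x hx
      obtain ⟨hx1, hx2⟩ := (hAmem x).1 hx
      refine (hAmem _).2 ⟨hnorm x hx1, ?_⟩
      have := conj_comm (x := g) hx2
      rw [hgb] at this
      exact this
    have hAinv : ∀ x ∈ A, orderOf x = 2 → g * x * g⁻¹ = x := fun x hx hxo =>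
      hinv x ((hAmem x).1 hx).1 hxo
    have hAcent := odd_centralizes_abelian_two_group hodd A hApg hAab hAnorm hAinv
    -- `c = a⁻¹ * (g a g⁻¹) ∈ A`
    obtain ⟨c, hc⟩ : ∃ c, c = a⁻¹ * (g * a * g⁻¹) := ⟨_, rfl⟩
    have hcQ : c ∈ Q := by rw [hc]; exact Q.mul_mem (Q.inv_mem h.ha) (hnorm a h.ha)
    have hcb : c * b = b * c := by
      have h1 : b * (g * a * g⁻¹) * b⁻¹ = (g * a * g⁻¹) * h.z := by
        calc b * (g * a * g⁻¹) * b⁻¹ = (g * b * g⁻¹) * (g * a * g⁻¹) * (g * b * g⁻¹)⁻¹ := by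
              rw [hgb]
          _ = g * (b * a * b⁻¹) * g⁻¹ := by group
          _ = g * (a * h.z) * g⁻¹ := by rw [h.hrel']
          _ = (g * a * g⁻¹) * (g * h.z * g⁻¹) := by group
          _ = (g * a * g⁻¹) * h.z := by rw [hgz]
      have h2 : b * c * b⁻¹ = c := by
        have hzc : h.z * c = c * h.z := (h.z_central hcQ).eq
        calc b * c * b⁻¹ = (b * a * b⁻¹)⁻¹ * (b * (g * a * g⁻¹) * b⁻¹) := by rw [hc]; group
          _ = (a * h.z)⁻¹ * ((g * a * g⁻¹) * h.z) := by rw [h.hrel', h1]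
          _ = h.z⁻¹ * (a⁻¹ * (g * a * g⁻¹)) * h.z := by group
          _ = h.z⁻¹ * c * h.z := by rw [hc]
          _ = h.z⁻¹ * (c * h.z) := by group
          _ = h.z⁻¹ * (h.z * c) := by rw [hzc]
          _ = c := by group
      calc c * b = (b * c * b⁻¹) * b := by rw [h2]
        _ = b * c := by group
    have hcA : c ∈ A := (hAmem c).2 ⟨hcQ, hcb⟩
    have hgc : g * c * g⁻¹ = c := hAcent c hcA
    have hga : g * a * g⁻¹ = a * c := by rw [hc]; group
    have hc2 : ∃ j : ℕ, c ^ (2 ^ j) = 1 := by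
      obtain ⟨j, hj⟩ := (IsPGroup.iff_orderOf.1 hQpg) ⟨c, hcQ⟩
      refine ⟨j, ?_⟩
      have : orderOf c = 2 ^ j := by rw [← hj]; exact (Subgroup.orderOf_mk c hcQ).symm
      rw [← this]; exact pow_orderOf_eq_one c
    have hc1 : c = 1 := eq_one_of_odd_stab hodd hga hgc hc2
    rw [hc1, mul_one] at hga
    have hcomm_a : a * g = g * a := by
      calc a * g = (g * a * g⁻¹) * g := by rw [hga]
        _ = g * a := by group
    have hcomm_b : b * g = g * b := by
      calc b * g = (g * b * g⁻¹) * g := by rw [hgb]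
        _ = g * b := by group
    intro x hx
    obtain ⟨i, rfl | rfl⟩ := h.exists_form hx
    · exact ((show Commute a g from hcomm_a).pow_left i).eq
    · exact (((show Commute a g from hcomm_a).pow_left i).mul_left
        (show Commute b g from hcomm_b)).eq

end ModHyp

end Cfsg.Agent.Lib.Helper24
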