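import Mathlib

set_option autoImplicit false
set_option linter.style.haveILetI false
set_option linter.unusedSimpArgs false
set_option linter.unusedSectionVars false

namespace Cfsg.Agent.Lib.Helper24.NsPt

open Matrix QuadraticMap

variable {F : Type*} [Field F] [Fintype F] {V : Type*} [AddCommGroup V] [Module F V]
  [Finite V]

/-- nonsingular points times `q - 1` is the number of nonsingular vectors -/
theorem card_points_mul (Q : QuadraticForm F V) :
    Nat.card {W : Submodule F V // Module.finrank F ↥W = 1 ∧ ∃ v ∈ W, Q v ≠ 0} *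
      (Fintype.card F - 1) = Nat.card {v : V // Q v ≠ 0} := by
  classical
  have hgen : ∀ W : {W : Submodule F V // Module.finrank F ↥W = 1 ∧ ∃ v ∈ W, Q v ≠ 0},
      ∃ v ∈ W.1, Q v ≠ 0 := fun W => W.2.2
  choose gen hgenW hgenQ using hgen
  have hne : ∀ v : V, Q v ≠ 0 → v ≠ 0 := by
    rintro v hv rfl
    exact hv (QuadraticMap.map_zero Q)
  have hall : ∀ (W : {W : Submodule F V // Module.finrank F ↥W = 1 ∧ ∃ v ∈ W, Q v ≠ 0})
      (w : V), w ∈ W.1 → w ≠ 0 → ∀ u ∈ W.1, ∃ c : F, c • w = u := by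
    intro W w hw hw0 u hu
    have h1 := (finrank_eq_one_iff_of_nonzero' (⟨w, hw⟩ : ↥W.1)
      (by intro h; exact hw0 (congrArg Subtype.val h))).mp W.2.1 ⟨u, hu⟩
    obtain ⟨c, hc⟩ := h1
    exact ⟨c, congrArg Subtype.val hc⟩
  have hQsmul : ∀ (c : F) (v : V), Q (c • v) = c * c * Q v := by
    intro c v
    rw [QuadraticMap.map_smul, smul_eq_mul]
  obtain ⟨Φ, hΦ⟩ : ∃ Φ : {W : Submodule F V // Module.finrank F ↥W = 1 ∧ ∃ v ∈ W, Q v ≠ 0} × Fˣ →
      {v : V // Q v ≠ 0}, ∀ x, (Φ x).1 = (x.2 : F) • gen x.1 :=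
    ⟨fun x => ⟨(x.2 : F) • gen x.1, by
      rw [hQsmul]
      exact mul_ne_zero (mul_ne_zero x.2.ne_zero x.2.ne_zero) (hgenQ x.1)⟩, fun x => rfl⟩
  have hbij : Function.Bijective Φ := by
    constructor
    · rintro ⟨W, c⟩ ⟨W', c'⟩ h
      have h1 : (c : F) • gen W = (c' : F) • gen W' := by
        rw [← hΦ ⟨W, c⟩, ← hΦ ⟨W', c'⟩, h]
      have hg' : gen W' = ((c' : F)⁻¹ * c) • gen W := by
        rw [mul_smul, h1, smul_smul, inv_mul_cancel₀ c'.ne_zero, one_smul]
      have hg : gen W = ((c : F)⁻¹ * c') • gen W' := by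
        rw [mul_smul, ← h1, smul_smul, inv_mul_cancel₀ c.ne_zero, one_smul]
      have hWW : W = W' := by
        apply Subtype.ext
        apply le_antisymm
        · intro u hu
          obtain ⟨a, rfl⟩ := hall W (gen W) (hgenW W) (hne _ (hgenQ W)) u hu
          rw [hg]
          exact W'.1.smul_mem _ (W'.1.smul_mem _ (hgenW W'))
        · intro u hu
          obtain ⟨a, rfl⟩ := hall W' (gen W') (hgenW W') (hne _ (hgenQ W')) u hu
          rw [hg']
          exact W.1.smul_mem _ (W.1.smul_mem _ (hgenW W))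
      subst hWW
      have h3 : ((c : F) - c') • gen W = 0 := by
        rw [sub_smul, h1, sub_self]
      rcases smul_eq_zero.mp h3 with h4 | h4
      · have : c = c' := Units.ext (sub_eq_zero.mp h4)
        rw [this]
      · exact absurd h4 (hne _ (hgenQ W))
    · rintro ⟨v, hv⟩
      have hv0 := hne v hv
      obtain ⟨W, hW⟩ : ∃ W : {W : Submodule F V // Module.finrank F ↥W = 1 ∧
          ∃ v ∈ W, Q v ≠ 0}, W.1 = Submodule.span F {v} :=
        ⟨⟨Submodule.span F {v}, finrank_span_singleton hv0, v,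
          Submodule.mem_span_singleton_self v, hv⟩, rfl⟩
      have h1 : gen W ∈ Submodule.span F {v} := by
        rw [← hW]
        exact hgenW W
      obtain ⟨a, ha⟩ := Submodule.mem_span_singleton.mp h1
      have ha0 : a ≠ 0 := by
        rintro rfl
        rw [zero_smul] at ha
        exact hne _ (hgenQ W) ha.symm
      refine ⟨⟨W, Units.mk0 a⁻¹ (inv_ne_zero ha0)⟩, ?_⟩
      apply Subtype.ext
      rw [hΦ]
      show a⁻¹ • gen W = v
      rw [← ha, smul_smul, inv_mul_cancel₀ ha0, one_smul]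
  rw [← Nat.card_congr (Equiv.ofBijective Φ hbij), Nat.card_prod, Nat.card_eq_fintype_card (α := Fˣ),
    Fintype.card_units]

/-- nonsingular and singular vectors -/
theorem card_nonsing_add {ι : Type} [Fintype ι] (Q : QuadraticForm F (ι → F)) :
    Nat.card {v : ι → F // Q v ≠ 0} + Nat.card {v : ι → F // Q v = 0} =
      Fintype.card F ^ Fintype.card ι := by
  classical
  rw [Nat.card_eq_fintype_card, Nat.card_eq_fintype_card, Fintype.card_subtype_compl]
  have h1 : Fintype.card (ι → F) = Fintype.card F ^ Fintype.card ι := Fintype.card_fun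
  have := Fintype.card_subtype_le (fun v : ι → F => Q v = 0)
  omega

end Cfsg.Agent.Lib.Helper24.NsPt
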