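import Mathlib
import Cfsg.Agent.Lib.Helper24.AdjGenC

set_option autoImplicit false
set_option linter.style.haveILetI false
set_option linter.unusedSimpArgs false
set_option linter.unusedSectionVars false

namespace Cfsg.Agent.Lib.Helper24.OConj

open Matrix QuadraticMap Cfsg.Agent.Lib.Helper24.AdjGen

variable {ι : Type} [Fintype ι] [DecidableEq ι] {F : Type*} [Field F]
  (Q : QuadraticForm F (ι → F))

/-- the Gram matrix of the polar form -/
noncomputable def gram : Matrix ι ι F := LinearMap.BilinForm.toMatrix' (polarBilin Q)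

theorem polar_eq (v w : ι → F) : polar (⇑Q) v w = v ⬝ᵥ gram Q *ᵥ w := by
  have h1 : Matrix.toBilin' (gram Q) = polarBilin Q := Matrix.toBilin'_toMatrix' _
  have h2 := Matrix.toBilin'_apply' (gram Q) v w
  rw [h1] at h2
  exact h2

theorem gram_transpose : (gram Q)ᵀ = gram Q := by
  ext i j
  unfold gram
  rw [Matrix.transpose_apply, LinearMap.BilinForm.toMatrix'_apply,
    LinearMap.BilinForm.toMatrix'_apply]
  exact polar_comm _ _ _

theorem gram_det (hQ : (polarBilin Q).Nondegenerate) : (gram Q).det ≠ 0 :=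
  Matrix.nondegenerate_iff_det_ne_zero.mp (LinearMap.BilinForm.Nondegenerate.toMatrix' hQ)

theorem gram_mul_inv (hQ : (polarBilin Q).Nondegenerate) : gram Q * (gram Q)⁻¹ = 1 :=
  Matrix.mul_nonsing_inv _ (isUnit_iff_ne_zero.mpr (gram_det Q hQ))

theorem gram_inv_mul (hQ : (polarBilin Q).Nondegenerate) : (gram Q)⁻¹ * gram Q = 1 :=
  Matrix.nonsing_inv_mul _ (isUnit_iff_ne_zero.mpr (gram_det Q hQ))

/-- the adjoint with respect to the polar form -/
noncomputable def adjO (x : Matrix ι ι F) : Matrix ι ι F := (gram Q)⁻¹ * xᵀ * gram Q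

theorem isAdj (hQ : (polarBilin Q).Nondegenerate) : IsAdj (adjO Q) where
  mul x y := by
    unfold adjO
    rw [Matrix.transpose_mul]
    calc (gram Q)⁻¹ * (yᵀ * xᵀ) * gram Q
        = (gram Q)⁻¹ * yᵀ * 1 * xᵀ * gram Q := by simp only [Matrix.mul_assoc, Matrix.one_mul]
      _ = (gram Q)⁻¹ * yᵀ * gram Q * ((gram Q)⁻¹ * xᵀ * gram Q) := by
          rw [← gram_mul_inv Q hQ]; simp only [Matrix.mul_assoc]
  add x y := by
    unfold adjO
    rw [Matrix.transpose_add, Matrix.mul_add, Matrix.add_mul]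
  smul c x := by
    unfold adjO
    rw [Matrix.transpose_smul, Matrix.mul_smul, Matrix.smul_mul]
  one := by
    unfold adjO
    rw [Matrix.transpose_one, Matrix.mul_one, gram_inv_mul Q hQ]
  invol x := by
    unfold adjO
    rw [Matrix.transpose_mul, Matrix.transpose_mul, Matrix.transpose_transpose,
      Matrix.transpose_nonsing_inv, gram_transpose]
    calc (gram Q)⁻¹ * (gram Q * (x * (gram Q)⁻¹)) * gram Q
        = ((gram Q)⁻¹ * gram Q) * x * ((gram Q)⁻¹ * gram Q) := by simp only [Matrix.mul_assoc]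
      _ = x := by rw [gram_inv_mul Q hQ, Matrix.one_mul, Matrix.mul_one]

theorem polar_adj (hQ : (polarBilin Q).Nondegenerate) (x : Matrix ι ι F) (v w : ι → F) :
    polar (⇑Q) (x *ᵥ v) w = polar (⇑Q) v (adjO Q x *ᵥ w) := by
  rw [polar_eq, polar_eq]
  have h : gram Q * adjO Q x = xᵀ * gram Q := by
    unfold adjO
    rw [← Matrix.mul_assoc, ← Matrix.mul_assoc, gram_mul_inv Q hQ, Matrix.one_mul]
  rw [Matrix.mulVec_mulVec, h, ← Matrix.mulVec_mulVec, Matrix.dotProduct_transpose_mulVec,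
    dotProduct_comm]

theorem mat_eq_of_polar (hQ : (polarBilin Q).Nondegenerate) (M M' : Matrix ι ι F)
    (h : ∀ v w, polar (⇑Q) v (M *ᵥ w) = polar (⇑Q) v (M' *ᵥ w)) : M = M' := by
  rw [Matrix.ext_iff_mulVec]
  intro w
  rw [← sub_eq_zero]
  apply hQ.2
  intro v
  show polar (⇑Q) v (M *ᵥ w - M' *ᵥ w) = 0
  rw [polar_sub_right, h v w, sub_self]

theorem polar_mulVec_of_isometry {A : Matrix ι ι F} (hA : ∀ v, Q (A *ᵥ v) = Q v) (v w : ι → F) :
    polar (⇑Q) (A *ᵥ v) (A *ᵥ w) = polar (⇑Q) v w := by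
  unfold QuadraticMap.polar
  rw [← Matrix.mulVec_add, hA, hA, hA]

theorem adj_mul_self (hQ : (polarBilin Q).Nondegenerate) {A : Matrix ι ι F}
    (hA : ∀ v, Q (A *ᵥ v) = Q v) : adjO Q A * A = 1 := by
  apply mat_eq_of_polar Q hQ
  intro v w
  rw [← Matrix.mulVec_mulVec, ← polar_adj Q hQ, polar_mulVec_of_isometry Q hA, Matrix.one_mulVec]

end Cfsg.Agent.Lib.Helper24.OConj
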