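import Mathlib
import Cfsg.Agent.Lib.Helper24.OConjA
import Cfsg.Agent.Lib.Helper24.AdjGenD
import Cfsg.Agent.Lib.Helper19.WittQuad

set_option autoImplicit false
set_option linter.style.haveILetI false
set_option linter.unusedSimpArgs false
set_option linter.unusedSectionVars false

namespace Cfsg.Agent.Lib.Helper24.OConj

open Matrix QuadraticMap Cfsg.Agent.Lib.Helper24.AdjGen

variable {ι : Type} [Fintype ι] [DecidableEq ι] {F : Type*} [Field F]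
  (Q : QuadraticForm F (ι → F))

theorem Q_sub (a b : ι → F) : Q (a - b) = Q a + Q b - polar (⇑Q) a b := by
  have h1 : Q (a + -b) = Q a + Q (-b) + polar (⇑Q) a (-b) := QuadraticMap.map_add (⇑Q) a (-b)
  rw [sub_eq_add_neg, h1, QuadraticMap.map_neg, polar_neg_right]
  ring

/-- `Q` is preserved by a partial isometry of the polar form commuting suitably -/
theorem Q_of_polar {u₁ A B y₁ e₀ : Matrix ι ι F}
    (hA : ∀ v, Q (A *ᵥ v) = Q v) (hB : ∀ v, Q (B *ᵥ v) = Q v)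
    (hF1 : u₁ * A = B * u₁)
    (hpol : ∀ v w, polar (⇑Q) (u₁ *ᵥ v) (u₁ *ᵥ (e₀ *ᵥ w)) = polar (⇑Q) v (e₀ *ᵥ w))
    (hy₁ : (A - 1) * y₁ = e₀) (hy₁c : y₁ * e₀ = e₀ * y₁) (hee₀ : e₀ * e₀ = e₀) (w : ι → F) :
    Q (u₁ *ᵥ (e₀ *ᵥ w)) = Q (e₀ *ᵥ w) := by
  by_cases h2 : (2 : F) = 0
  · -- characteristic two
    obtain ⟨w', hw'def⟩ : ∃ w', w' = e₀ *ᵥ (y₁ *ᵥ w) := ⟨_, rfl⟩
    have hw : e₀ *ᵥ w = A *ᵥ w' - w' := by
      have h1 : (A - 1) * (e₀ * y₁) = e₀ := by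
        rw [← hy₁c, ← mul_assoc, hy₁, hee₀]
      calc e₀ *ᵥ w = ((A - 1) * (e₀ * y₁)) *ᵥ w := by rw [h1]
        _ = (A - 1) *ᵥ w' := by
            rw [hw'def, Matrix.mulVec_mulVec, Matrix.mulVec_mulVec, mul_assoc]
        _ = A *ᵥ w' - w' := by rw [Matrix.sub_mulVec, Matrix.one_mulVec]
    have hu : u₁ *ᵥ (e₀ *ᵥ w) = B *ᵥ (u₁ *ᵥ w') - u₁ *ᵥ w' := by
      rw [hw, Matrix.mulVec_sub, Matrix.mulVec_mulVec, hF1, ← Matrix.mulVec_mulVec]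
    have hp : polar (⇑Q) (B *ᵥ (u₁ *ᵥ w')) (u₁ *ᵥ w') = polar (⇑Q) (A *ᵥ w') w' := by
      rw [Matrix.mulVec_mulVec, ← hF1, ← Matrix.mulVec_mulVec, hw'def]
      exact hpol _ _
    have h2' : ∀ t : F, t + t = 0 := fun t => by rw [← two_mul, h2, zero_mul]
    rw [hu, Q_sub, hB, hp, hw, Q_sub, hA, h2', h2']
  · -- odd characteristic
    have h1 : polar (⇑Q) (u₁ *ᵥ (e₀ *ᵥ w)) (u₁ *ᵥ (e₀ *ᵥ w)) = polar (⇑Q) (e₀ *ᵥ w) (e₀ *ᵥ w) :=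
      hpol _ _
    rw [polar_self, polar_self, two_nsmul, two_nsmul, ← two_mul, ← two_mul] at h1
    exact mul_left_cancel₀ h2 h1

/-- semisimple isometries of odd order conjugate under `GL` are conjugate by an isometry -/
theorem main [Finite F] (hQ : (polarBilin Q).Nondegenerate) {A B c : Matrix ι ι F} {N : ℕ}
    (hA : ∀ v, Q (A *ᵥ v) = Q v) (hB : ∀ v, Q (B *ᵥ v) = Q v) (hc : IsUnit c)
    (hcAB : c * A = B * c) (hAN : A ^ N = 1) (hN : (N : F) ≠ 0) (hodd : Odd N) :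
    ∃ g : (ι → F) ≃ₗ[F] (ι → F), (∀ v, Q (g v) = Q v) ∧ ∀ v, g (A *ᵥ v) = B *ᵥ (g v) := by
  have hadj := isAdj Q hQ
  have hAsp : A * adjO Q A = 1 := mul_eq_one_comm.mp (adj_mul_self Q hQ hA)
  have hBsp : B * adjO Q B = 1 := mul_eq_one_comm.mp (adj_mul_self Q hQ hB)
  have hBN : B ^ N = 1 := pow_eq_one_of_conj hc hcAB hAN
  obtain ⟨u₁, y₁, r, hF1, hF2, hF3, hr1, hr2, hy₁, hy₁c⟩ :=
    exists_u1 hadj hAsp hBsp hc hcAB hAN hN hodd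
  obtain ⟨e₁, he₁def⟩ : ∃ e₁, e₁ = avg A N := ⟨_, rfl⟩
  obtain ⟨eB₁, heB₁def⟩ : ∃ eB₁, eB₁ = avg B N := ⟨_, rfl⟩
  rw [← he₁def] at hF2 hF3 hr1 hy₁ hy₁c
  rw [← heB₁def] at hF3 hr2
  have he₁adj : adjO Q e₁ = e₁ := he₁def ▸ adj_avg hadj hAN hN rfl hAsp
  have heB₁adj : adjO Q eB₁ = eB₁ := heB₁def ▸ adj_avg hadj hBN hN rfl hBsp
  have hee₁ : e₁ * e₁ = e₁ := he₁def ▸ avg_idem hAN hN
  have hAe₁ : A * e₁ = e₁ := he₁def ▸ mul_avg hAN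
  have he₁A : e₁ * A = e₁ := he₁def ▸ avg_mul hAN
  have hBeB₁ : B * eB₁ = eB₁ := heB₁def ▸ mul_avg hBN
  obtain ⟨e₀, he₀def⟩ : ∃ e₀, e₀ = 1 - e₁ := ⟨_, rfl⟩
  obtain ⟨eB, heBdef⟩ : ∃ eB, eB = 1 - eB₁ := ⟨_, rfl⟩
  rw [← he₀def] at hF2 hF3 hr1 hy₁ hy₁c
  rw [← heBdef] at hF3 hr2
  have he₀adj : adjO Q e₀ = e₀ := by rw [he₀def, hadj.sub, hadj.one, he₁adj]
  have heBadj : adjO Q eB = eB := by rw [heBdef, hadj.sub, hadj.one, heB₁adj]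
  have hee₀ : e₀ * e₀ = e₀ := he₀def ▸ one_sub_idem hee₁
  have he₀e₁ : e₀ * e₁ = 0 := by rw [he₀def, sub_mul, one_mul, hee₁, sub_self]
  have hAe₀ : e₀ * A = A * e₀ := by
    rw [he₀def, sub_mul, mul_sub, one_mul, mul_one, hAe₁, he₁A]
  have hsum : ∀ v : ι → F, e₀ *ᵥ v + e₁ *ᵥ v = v := by
    intro v
    rw [← Matrix.add_mulVec, he₀def, sub_add_cancel, Matrix.one_mulVec]
  -- the polar form is preserved on the range of `e₀`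
  have hpol : ∀ v w, polar (⇑Q) (u₁ *ᵥ v) (u₁ *ᵥ (e₀ *ᵥ w)) = polar (⇑Q) v (e₀ *ᵥ w) := by
    intro v w
    rw [polar_adj Q hQ, Matrix.mulVec_mulVec, Matrix.mulVec_mulVec, hF2]
  have hQu : ∀ w, Q (u₁ *ᵥ (e₀ *ᵥ w)) = Q (e₀ *ᵥ w) :=
    Q_of_polar Q hA hB hF1 hpol hy₁ hy₁c hee₀
  -- the restricted map
  obtain ⟨X, hXdef⟩ : ∃ X : Submodule F (ι → F), X = LinearMap.range (Matrix.mulVecLin e₀) :=
    ⟨_, rfl⟩
  have hXmem : ∀ w, e₀ *ᵥ w ∈ X := fun w => by rw [hXdef]; exact ⟨w, rfl⟩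
  have hXfix : ∀ x : X, e₀ *ᵥ (x : ι → F) = x := by
    intro x
    have hx : (x : ι → F) ∈ LinearMap.range (Matrix.mulVecLin e₀) := hXdef ▸ x.2
    obtain ⟨w, hw⟩ := hx
    rw [← hw, Matrix.mulVecLin_apply, Matrix.mulVec_mulVec, hee₀]
  obtain ⟨f, hfdef⟩ : ∃ f : X →ₗ[F] (ι → F), ∀ x : X, f x = u₁ *ᵥ (x : ι → F) :=
    ⟨(Matrix.mulVecLin u₁).domRestrict X, fun x => rfl⟩
  have hfinj : Function.Injective f := by
    rw [injective_iff_map_eq_zero]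
    intro x hx
    rw [hfdef] at hx
    apply Subtype.ext
    apply hQ.2
    intro v
    show polar (⇑Q) v (x : ι → F) = 0
    rw [← hXfix x, ← hpol, hXfix x, hx, polar_zero_right]
  obtain ⟨φ, hφdef⟩ : ∃ φ : X ≃ₗ[F] LinearMap.range f, ∀ x, (φ x : ι → F) = f x :=
    ⟨LinearEquiv.ofInjective f hfinj, fun x => rfl⟩
  have hφ : ∀ x : X, Q (φ x : ι → F) = Q (x : ι → F) := by
    intro x
    rw [hφdef, hfdef, ← hXfix x]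
    exact hQu _
  obtain ⟨g, hgQ, hgX⟩ := Cfsg.Agent.Lib.Helper19.WittQuad.witt_extend Q hQ X _ φ hφ
  have hgX' : ∀ w, g (e₀ *ᵥ w) = u₁ *ᵥ (e₀ *ᵥ w) := by
    intro w
    have := hgX ⟨e₀ *ᵥ w, hXmem w⟩
    rw [hφdef, hfdef] at this
    exact this
  have hgpol : ∀ v w, polar (⇑Q) (g v) (g w) = polar (⇑Q) v w :=
    Cfsg.Agent.Lib.Helper19.WittQuad.polar_of_isometry Q g.toLinearMap hgQ
  refine ⟨g, hgQ, ?_⟩
  -- the part on the fixed space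
  have hfixB : ∀ v, B *ᵥ (g (e₁ *ᵥ v)) = g (e₁ *ᵥ v) := by
    intro v
    have hz : eB *ᵥ (g (e₁ *ᵥ v)) = 0 := by
      apply hQ.2
      intro y
      show polar (⇑Q) y (eB *ᵥ (g (e₁ *ᵥ v))) = 0
      rw [← heBadj, ← polar_adj Q hQ]
      have h1 : eB *ᵥ y = g (e₀ *ᵥ (r *ᵥ (eB *ᵥ y))) := by
        calc eB *ᵥ y = (u₁ * (e₀ * r) * eB) *ᵥ y := by rw [hr1, hr2]
          _ = u₁ *ᵥ (e₀ *ᵥ (r *ᵥ (eB *ᵥ y))) := by
              simp only [Matrix.mulVec_mulVec, mul_assoc]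
          _ = g (e₀ *ᵥ (r *ᵥ (eB *ᵥ y))) := (hgX' _).symm
      rw [h1, hgpol, polar_adj Q hQ, he₀adj, Matrix.mulVec_mulVec _ e₀ e₁, he₀e₁,
        Matrix.zero_mulVec, polar_zero_right]
    have hz' : eB₁ *ᵥ (g (e₁ *ᵥ v)) = g (e₁ *ᵥ v) := by
      have h1 : eB₁ = 1 - eB := by rw [heBdef, sub_sub_cancel]
      rw [h1, Matrix.sub_mulVec, hz, Matrix.one_mulVec, sub_zero]
    rw [← hz', Matrix.mulVec_mulVec, hBeB₁]
  intro v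
  have h1 : A *ᵥ v = e₀ *ᵥ (A *ᵥ (e₀ *ᵥ v)) + e₁ *ᵥ v := by
    have h3 : e₀ * A * e₀ = A * e₀ := by rw [hAe₀, mul_assoc, hee₀]
    rw [Matrix.mulVec_mulVec, Matrix.mulVec_mulVec, h3, ← Matrix.mulVec_mulVec]
    nth_rewrite 1 [← hsum v]
    rw [Matrix.mulVec_add, Matrix.mulVec_mulVec _ A e₁, hAe₁]
  have h2 : g (e₀ *ᵥ (A *ᵥ (e₀ *ᵥ v))) = B *ᵥ (g (e₀ *ᵥ v)) := by
    rw [hgX', hgX', Matrix.mulVec_mulVec _ e₀ A, hAe₀, ← Matrix.mulVec_mulVec _ A e₀,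
      Matrix.mulVec_mulVec _ e₀ e₀, hee₀, Matrix.mulVec_mulVec _ u₁ A, hF1,
      ← Matrix.mulVec_mulVec]
  rw [h1, map_add, h2, ← hfixB v, ← Matrix.mulVec_add, ← map_add, hsum]

end Cfsg.Agent.Lib.Helper24.OConj
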