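import Mathlib
import Cfsg.Prelude.Def_Classical
import Cfsg.Agent.Lib.Helper24.OConjB

set_option autoImplicit false
set_option linter.style.haveILetI false
set_option linter.unusedSimpArgs false
set_option linter.unusedSectionVars false

namespace Cfsg.Agent.Lib.Helper24.OConj

open Matrix QuadraticMap

variable {ι : Type} [Fintype ι] [DecidableEq ι] {F : Type*} [Field F]

/-- the invertible matrix of a linear equivalence -/
noncomputable def glOf (g : (ι → F) ≃ₗ[F] (ι → F)) : Matrix.GeneralLinearGroup ι F :=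
  ⟨LinearMap.toMatrix' g.toLinearMap, LinearMap.toMatrix' g.symm.toLinearMap, by
      rw [← LinearMap.toMatrix'_comp]
      have : g.toLinearMap.comp g.symm.toLinearMap = LinearMap.id := by
        apply LinearMap.ext; intro x; simp
      rw [this, LinearMap.toMatrix'_id], by
      rw [← LinearMap.toMatrix'_comp]
      have : g.symm.toLinearMap.comp g.toLinearMap = LinearMap.id := by
        apply LinearMap.ext; intro x; simp
      rw [this, LinearMap.toMatrix'_id]⟩

theorem glOf_mulVec (g : (ι → F) ≃ₗ[F] (ι → F)) (v : ι → F) :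
    ((glOf g : Matrix.GeneralLinearGroup ι F) : Matrix ι ι F) *ᵥ v = g v := by
  show (LinearMap.toMatrix' g.toLinearMap) *ᵥ v = g v
  rw [LinearMap.toMatrix'_mulVec]
  rfl

theorem mem_iso_iff (Q : (ι → F) → F) (g : Matrix.GeneralLinearGroup ι F) :
    g ∈ Cfsg.isometryGroup F Q ↔ ∀ u, Q ((g : Matrix ι ι F) *ᵥ u) = Q u :=
  ⟨fun h u => h u u, fun h u _ => h u⟩

theorem conj_of_equiv (Q : (ι → F) → F) (A B : ↥(Cfsg.isometryGroup F Q))
    (g : (ι → F) ≃ₗ[F] (ι → F)) (hgQ : ∀ v, Q (g v) = Q v)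
    (hgAB : ∀ v, g (((A : Matrix.GeneralLinearGroup ι F) : Matrix ι ι F) *ᵥ v)
      = ((B : Matrix.GeneralLinearGroup ι F) : Matrix ι ι F) *ᵥ (g v)) : IsConj A B := by
  have hU : glOf g ∈ Cfsg.isometryGroup F Q := by
    rw [mem_iso_iff]
    intro u
    rw [glOf_mulVec, hgQ]
  rw [isConj_iff]
  refine ⟨⟨glOf g, hU⟩, ?_⟩
  rw [mul_inv_eq_iff_eq_mul]
  apply Subtype.ext
  apply Units.ext
  show ((glOf g : Matrix.GeneralLinearGroup ι F) : Matrix ι ι F)
      * ((A : Matrix.GeneralLinearGroup ι F) : Matrix ι ι F)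
    = ((B : Matrix.GeneralLinearGroup ι F) : Matrix ι ι F)
      * ((glOf g : Matrix.GeneralLinearGroup ι F) : Matrix ι ι F)
  rw [Matrix.ext_iff_mulVec]
  intro v
  rw [← Matrix.mulVec_mulVec, ← Matrix.mulVec_mulVec, glOf_mulVec, glOf_mulVec, hgAB]

end Cfsg.Agent.Lib.Helper24.OConj
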