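import Mathlib

set_option autoImplicit false
set_option linter.style.haveILetI false
set_option linter.unusedSimpArgs false
set_option linter.unusedSectionVars false

namespace Cfsg.Agent.Lib.Helper24.Pal

open Polynomial

variable {F : Type*} [Field F]

theorem reverse_natDegree' {g : F[X]} (h0 : g.coeff 0 ≠ 0) : g.reverse.natDegree = g.natDegree := by
  have htd : g.natTrailingDegree = 0 := by
    rw [Polynomial.natTrailingDegree_eq_zero]; right; exact h0
  rw [reverse_natDegree, htd, Nat.sub_zero]

theorem reverse_reverse' {g : F[X]} (h0 : g.coeff 0 ≠ 0) : g.reverse.reverse = g := by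
  ext n
  rw [coeff_reverse, coeff_reverse, reverse_natDegree' h0, revAt_invol]

theorem reverse_C_mul' (c : F) (g : F[X]) : (C c * g).reverse = C c * g.reverse := by
  rw [reverse_mul_of_domain, reverse_C]

theorem reverse_cancel {u s : F[X]} (hu : u ≠ 0) (hur : u.reverse = u)
    (h : (u * s).reverse = u * s) : s.reverse = s := by
  rw [reverse_mul_of_domain, hur] at h
  exact mul_left_cancel₀ hu h

theorem eval_one_reverse (g : F[X]) : g.reverse.eval 1 = g.eval 1 := by
  letI : Invertible (1 : F) := invertibleOne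
  have h := eval₂_reverse_mul_pow (RingHom.id F) (1 : F) g
  rw [invOf_one, one_pow, mul_one, eval₂_id, eval₂_id] at h
  exact h

/-- a monic polynomial equal to its reverse has constant coefficient one -/
theorem coeff_zero_of_pal {f : F[X]} (hm : f.Monic) (hr : f.reverse = f) : f.coeff 0 = 1 := by
  have := coeff_zero_reverse f
  rw [hr, hm.leadingCoeff] at this
  exact this

/-- the pairing argument: a polynomial of odd degree with `r = -c * reverse r`, `c^2 = 1`,
vanishes at `c` -/
theorem eval_eq_zero_of_odd {r : F[X]} {c : F} (hc : c * c = 1) {k : ℕ}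
    (hdeg : r.natDegree = 2 * k + 1) (hr : r = C (-c) * r.reverse) : r.eval c = 0 := by
  have hco : ∀ i, i ≤ 2 * k + 1 → r.coeff (2 * k + 1 - i) = -c * r.coeff i := by
    intro i hi
    have h1 : r.coeff (2 * k + 1 - i) = (C (-c) * r.reverse).coeff (2 * k + 1 - i) := by
      rw [← hr]
    rw [h1, coeff_C_mul, coeff_reverse, hdeg, revAt_le (Nat.sub_le _ _),
      Nat.sub_sub_self hi]
  rw [eval_eq_sum_range, hdeg]
  have h2 : 2 * k + 1 + 1 = (k + 1) + (k + 1) := by ring
  rw [h2, Finset.sum_range_add]
  have h3 : ∑ x ∈ Finset.range (k + 1), r.coeff (k + 1 + x) * c ^ (k + 1 + x) =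
      ∑ j ∈ Finset.range (k + 1), r.coeff (k + 1 + (k + 1 - 1 - j)) * c ^ (k + 1 + (k + 1 - 1 - j)) :=
    (Finset.sum_range_reflect (fun x => r.coeff (k + 1 + x) * c ^ (k + 1 + x)) (k + 1)).symm
  rw [h3, ← Finset.sum_add_distrib]
  apply Finset.sum_eq_zero
  intro j hj
  rw [Finset.mem_range] at hj
  have h4 : k + 1 + (k + 1 - 1 - j) = 2 * k + 1 - j := by omega
  rw [h4, hco j (by omega)]
  have h5 : c ^ (2 * k + 1 - j) * c = c ^ j * (c * c) ^ (k + 1 - j) := by
    rw [← pow_two, ← pow_mul, ← pow_succ, ← pow_add]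
    congr 1
    omega
  rw [hc, one_pow, mul_one] at h5
  calc r.coeff j * c ^ j + -c * r.coeff j * c ^ (2 * k + 1 - j)
      = r.coeff j * c ^ j - r.coeff j * (c ^ (2 * k + 1 - j) * c) := by ring
    _ = 0 := by rw [h5]; ring

end Cfsg.Agent.Lib.Helper24.Pal
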