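import Mathlib
import Cfsg.Agent.Lib.Helper24.PalA

set_option autoImplicit false
set_option linter.style.haveILetI false
set_option linter.unusedSimpArgs false
set_option linter.unusedSectionVars false

namespace Cfsg.Agent.Lib.Helper24.Pal

open Polynomial Matrix

variable {F : Type*} [Field F]

/-- `f` is the characteristic polynomial of a matrix of order prime to `p` preserving a
nondegenerate alternating form (given as `c - cᵀ`) -/
def SpReal (F : Type*) [Field F] (p : ℕ) (f : F[X]) : Prop :=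
  ∃ (ι : Type) (_ : Fintype ι) (_ : DecidableEq ι) (c P : Matrix ι ι F),
    IsUnit (c - cᵀ) ∧ Pᵀ * (c - cᵀ) * P = c - cᵀ ∧ P.charpoly = f ∧
      ∃ m : ℕ, ¬ p ∣ m ∧ P ^ m = 1

theorem spReal_one (p : ℕ) (hp : p.Prime) : SpReal F p 1 := by
  refine ⟨Empty, inferInstance, inferInstance, 0, 1, ?_, ?_, ?_, 1, ?_, ?_⟩
  · have : (0 - (0 : Matrix Empty Empty F)ᵀ) = 1 := Subsingleton.elim _ _
    rw [this]
    exact isUnit_one
  · exact Subsingleton.elim _ _
  · exact Matrix.charpoly_isEmpty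
  · exact hp.one_lt.ne' ∘ Nat.dvd_one.1
  · exact pow_one _

theorem spReal_mul {p : ℕ} (hp : p.Prime) {f₁ f₂ : F[X]} (h₁ : SpReal F p f₁)
    (h₂ : SpReal F p f₂) : SpReal F p (f₁ * f₂) := by
  obtain ⟨ι₁, _, _, c₁, P₁, hu₁, hi₁, hf₁, m₁, hm₁, hP₁⟩ := h₁
  obtain ⟨ι₂, _, _, c₂, P₂, hu₂, hi₂, hf₂, m₂, hm₂, hP₂⟩ := h₂
  obtain ⟨b₁, hb₁⟩ := hu₁.exists_right_inv
  obtain ⟨b₂, hb₂⟩ := hu₂.exists_right_inv
  have hsub : fromBlocks c₁ 0 0 c₂ - (fromBlocks c₁ 0 0 c₂)ᵀ =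
      fromBlocks (c₁ - c₁ᵀ) 0 0 (c₂ - c₂ᵀ) := by
    rw [fromBlocks_transpose]
    ext (i | i) (j | j) <;> simp
  refine ⟨ι₁ ⊕ ι₂, inferInstance, inferInstance, fromBlocks c₁ 0 0 c₂, fromBlocks P₁ 0 0 P₂,
    ?_, ?_, ?_, m₁ * m₂, ?_, ?_⟩
  · rw [hsub]
    apply IsUnit.of_mul_eq_one (fromBlocks b₁ 0 0 b₂)
    rw [fromBlocks_multiply]
    simp only [Matrix.mul_zero, Matrix.zero_mul, add_zero, zero_add, hb₁, hb₂, fromBlocks_one]
  · rw [hsub, fromBlocks_transpose, fromBlocks_multiply, fromBlocks_multiply]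
    simp only [Matrix.mul_zero, Matrix.zero_mul, add_zero, zero_add, transpose_zero, hi₁, hi₂]
  · rw [charpoly_fromBlocks_zero₁₂, hf₁, hf₂]
  · intro h
    rcases (Nat.Prime.dvd_mul hp).1 h with h | h
    · exact hm₁ h
    · exact hm₂ h
  · rw [fromBlocks_diagonal_pow, pow_mul, hP₁, one_pow, mul_comm, pow_mul, hP₂, one_pow,
      fromBlocks_one]

/-- the hyperbolic construction -/
theorem spReal_hyp {p : ℕ} {d : ℕ} (P : Matrix (Fin d) (Fin d) F) {m : ℕ} (hm : ¬ p ∣ m)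
    (hP : P ^ m = 1) :
    SpReal F p (P.charpoly * (C (P.charpoly.coeff 0)⁻¹ * P.charpoly.reverse)) := by
  have hm1 : 1 ≤ m := by
    rcases Nat.eq_zero_or_pos m with h | h
    · exact absurd (h ▸ dvd_zero p) hm
    · exact h
  obtain ⟨k, hk⟩ : ∃ k, m = k + 1 := ⟨m - 1, by omega⟩
  obtain ⟨Q, hQ⟩ : ∃ Q, Q = P ^ k := ⟨_, rfl⟩
  have hPQ : P * Q = 1 := by rw [hQ, ← pow_succ', ← hk, hP]
  have hQP : Q * P = 1 := by rw [hQ, ← pow_succ, ← hk, hP]
  have hsub : fromBlocks (0 : Matrix (Fin d) (Fin d) F) (1 : Matrix (Fin d) (Fin d) F)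
        (0 : Matrix (Fin d) (Fin d) F) (0 : Matrix (Fin d) (Fin d) F) -
      (fromBlocks (0 : Matrix (Fin d) (Fin d) F) (1 : Matrix (Fin d) (Fin d) F)
        (0 : Matrix (Fin d) (Fin d) F) (0 : Matrix (Fin d) (Fin d) F))ᵀ =
      fromBlocks 0 1 (-1) 0 := by
    rw [fromBlocks_transpose]
    ext (i | i) (j | j) <;> simp
  refine ⟨Fin d ⊕ Fin d, inferInstance, inferInstance,
    fromBlocks (0 : Matrix (Fin d) (Fin d) F) (1 : Matrix (Fin d) (Fin d) F)
        (0 : Matrix (Fin d) (Fin d) F) (0 : Matrix (Fin d) (Fin d) F),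
    fromBlocks P 0 0 Qᵀ, ?_, ?_, ?_, m, hm, ?_⟩
  · rw [hsub]
    apply IsUnit.of_mul_eq_one (fromBlocks 0 (-1) 1 0)
    rw [fromBlocks_multiply]
    simp only [Matrix.mul_zero, Matrix.zero_mul, add_zero, zero_add, Matrix.mul_one,
      Matrix.neg_mul, Matrix.mul_neg, neg_neg, Matrix.one_mul, fromBlocks_one, neg_zero]
  · rw [hsub, fromBlocks_transpose, fromBlocks_multiply, fromBlocks_multiply]
    simp only [Matrix.mul_zero, Matrix.zero_mul, add_zero, zero_add, transpose_zero,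
      Matrix.mul_one, Matrix.mul_neg, Matrix.neg_mul, transpose_transpose, Matrix.one_mul,
      neg_zero]
    rw [← transpose_mul, hQP, transpose_one]
  · rw [charpoly_fromBlocks_zero₁₂, charpoly_transpose]
    congr 1
    have hinv : P⁻¹ = Q := Matrix.inv_eq_right_inv hPQ
    have hPu : IsUnit P := IsUnit.of_mul_eq_one Q hPQ
    rw [← hinv, Matrix.charpoly_inv P hPu, ← Matrix.reverse_charpoly, Ring.inverse_eq_inv',
      Matrix.det_eq_sign_charpoly_coeff, Fintype.card_fin, mul_inv, C_mul, ← inv_pow, C_pow]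
    have h1 : ((-1 : F[X]) ^ d) * (C ((-1 : F)⁻¹) ^ d * C (P.charpoly.coeff 0)⁻¹) =
        C (P.charpoly.coeff 0)⁻¹ := by
      have : (-1 : F)⁻¹ = -1 := by norm_num
      rw [this, C_neg, C_1, ← mul_assoc, ← mul_pow]
      norm_num
    congr 1
  · rw [fromBlocks_diagonal_pow, hP, ← transpose_pow, hQ, ← pow_mul, mul_comm, pow_mul, hP,
      one_pow, transpose_one, fromBlocks_one]

end Cfsg.Agent.Lib.Helper24.Pal
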