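import Mathlib
import Cfsg.Agent.Lib.Helper27.SympDecomp

set_option autoImplicit false
set_option linter.style.haveILetI false
set_option linter.unusedSimpArgs false
set_option linter.unusedSectionVars false

namespace Cfsg.Agent.Lib.Helper24.SpConj

open Matrix Cfsg Cfsg.Agent.Lib.Helper27.SympTransv

variable {F : Type*} [Field F] {m : ℕ}

/-- the adjoint of a matrix with respect to the standard symplectic form -/
def adj (x : Matrix (Fin m ⊕ Fin m) (Fin m ⊕ Fin m) F) : Matrix (Fin m ⊕ Fin m) (Fin m ⊕ Fin m) F :=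
  -(Matrix.J (Fin m) F * xᵀ * Matrix.J (Fin m) F)

theorem JJ : Matrix.J (Fin m) F * Matrix.J (Fin m) F = -1 := Matrix.J_squared (Fin m) F

theorem adj_mul (x y : Matrix (Fin m ⊕ Fin m) (Fin m ⊕ Fin m) F) : adj (x * y) = adj y * adj x := by
  unfold adj
  rw [Matrix.transpose_mul]
  have h : (Matrix.J (Fin m) F * yᵀ * Matrix.J (Fin m) F) * (Matrix.J (Fin m) F * xᵀ * Matrix.J (Fin m) F)
      = Matrix.J (Fin m) F * yᵀ * (Matrix.J (Fin m) F * Matrix.J (Fin m) F) * xᵀ * Matrix.J (Fin m) F := by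
    simp only [Matrix.mul_assoc]
  rw [neg_mul_neg, h, JJ]
  simp only [Matrix.mul_neg, Matrix.neg_mul, Matrix.mul_one, Matrix.mul_assoc]

theorem adj_adj (x : Matrix (Fin m ⊕ Fin m) (Fin m ⊕ Fin m) F) : adj (adj x) = x := by
  unfold adj
  rw [Matrix.transpose_neg, Matrix.transpose_mul, Matrix.transpose_mul, Matrix.transpose_transpose,
    Matrix.J_transpose]
  have h : Matrix.J (Fin m) F * -(-Matrix.J (Fin m) F * (x * -Matrix.J (Fin m) F)) * Matrix.J (Fin m) F
      = -((Matrix.J (Fin m) F * Matrix.J (Fin m) F) * x * (Matrix.J (Fin m) F * Matrix.J (Fin m) F)) := by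
    simp only [Matrix.mul_neg, Matrix.neg_mul, Matrix.mul_assoc, neg_neg]
  rw [h, JJ]
  simp

theorem adj_one : adj (1 : Matrix (Fin m ⊕ Fin m) (Fin m ⊕ Fin m) F) = 1 := by
  unfold adj
  rw [Matrix.transpose_one, Matrix.mul_one, JJ, neg_neg]

theorem adj_zero : adj (0 : Matrix (Fin m ⊕ Fin m) (Fin m ⊕ Fin m) F) = 0 := by
  unfold adj
  simp

theorem adj_add (x y : Matrix (Fin m ⊕ Fin m) (Fin m ⊕ Fin m) F) : adj (x + y) = adj x + adj y := by
  unfold adj
  rw [Matrix.transpose_add, Matrix.mul_add, Matrix.add_mul, neg_add]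

theorem adj_neg (x : Matrix (Fin m ⊕ Fin m) (Fin m ⊕ Fin m) F) : adj (-x) = -adj x := by
  unfold adj
  rw [Matrix.transpose_neg, Matrix.mul_neg, Matrix.neg_mul]

theorem adj_sub (x y : Matrix (Fin m ⊕ Fin m) (Fin m ⊕ Fin m) F) : adj (x - y) = adj x - adj y := by
  rw [sub_eq_add_neg, adj_add, adj_neg, ← sub_eq_add_neg]

theorem adj_smul (c : F) (x : Matrix (Fin m ⊕ Fin m) (Fin m ⊕ Fin m) F) :
    adj (c • x) = c • adj x := by
  unfold adj
  rw [Matrix.transpose_smul, Matrix.mul_smul, Matrix.smul_mul, smul_neg]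

theorem adj_algebraMap (c : F) :
    adj (algebraMap F (Matrix (Fin m ⊕ Fin m) (Fin m ⊕ Fin m) F) c) = algebraMap F _ c := by
  rw [Algebra.algebraMap_eq_smul_one, adj_smul, adj_one]

theorem adj_sum {ι : Type*} (s : Finset ι) (f : ι → Matrix (Fin m ⊕ Fin m) (Fin m ⊕ Fin m) F) :
    adj (∑ i ∈ s, f i) = ∑ i ∈ s, adj (f i) := by
  classical
  induction s using Finset.induction_on with
  | empty => simp [adj_zero]
  | insert a s ha ih => rw [Finset.sum_insert ha, Finset.sum_insert ha, adj_add, ih]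

theorem adj_pow (x : Matrix (Fin m ⊕ Fin m) (Fin m ⊕ Fin m) F) (k : ℕ) : adj (x ^ k) = adj x ^ k := by
  induction k with
  | zero => rw [pow_zero, pow_zero, adj_one]
  | succ k ih => rw [pow_succ, adj_mul, ih, pow_succ']

theorem mem_sp_iff (A : Matrix (Fin m ⊕ Fin m) (Fin m ⊕ Fin m) F) :
    A ∈ Matrix.symplecticGroup (Fin m) F ↔ A * adj A = 1 := by
  rw [SymplecticGroup.mem_iff]
  unfold adj
  constructor
  · intro h
    rw [Matrix.mul_neg, ← Matrix.mul_assoc, ← Matrix.mul_assoc, h, JJ, neg_neg]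
  · intro h
    have h1 : A * Matrix.J (Fin m) F * Aᵀ * Matrix.J (Fin m) F = -1 := by
      rw [Matrix.mul_neg, ← Matrix.mul_assoc, ← Matrix.mul_assoc] at h
      exact neg_eq_iff_eq_neg.mp h
    calc A * Matrix.J (Fin m) F * Aᵀ
        = -(A * Matrix.J (Fin m) F * Aᵀ * (Matrix.J (Fin m) F * Matrix.J (Fin m) F)) := by
          rw [JJ]; simp
      _ = -((A * Matrix.J (Fin m) F * Aᵀ * Matrix.J (Fin m) F) * Matrix.J (Fin m) F) := by
          simp only [Matrix.mul_assoc]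
      _ = Matrix.J (Fin m) F := by rw [h1]; simp

theorem mem_sp_iff' (A : Matrix (Fin m ⊕ Fin m) (Fin m ⊕ Fin m) F) :
    A ∈ Matrix.symplecticGroup (Fin m) F ↔ adj A * A = 1 := by
  rw [mem_sp_iff, mul_eq_one_comm]

/-- adjointness -/
theorem sf_adj (x : Matrix (Fin m ⊕ Fin m) (Fin m ⊕ Fin m) F) (v w : Fin m ⊕ Fin m → F) :
    sympForm m F (x *ᵥ v) w = sympForm m F v (adj x *ᵥ w) := by
  unfold sympForm
  have h : Matrix.J (Fin m) F * adj x = xᵀ * Matrix.J (Fin m) F := by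
    unfold adj
    rw [Matrix.mul_neg, ← Matrix.mul_assoc, ← Matrix.mul_assoc, JJ]
    simp
  rw [Matrix.mulVec_mulVec, h, ← Matrix.mulVec_mulVec, Matrix.dotProduct_transpose_mulVec,
    dotProduct_comm]

theorem mat_eq_of_sf (M M' : Matrix (Fin m ⊕ Fin m) (Fin m ⊕ Fin m) F)
    (h : ∀ v w, sympForm m F v (M *ᵥ w) = sympForm m F v (M' *ᵥ w)) : M = M' := by
  rw [Matrix.ext_iff_mulVec]
  intro w
  by_contra hne
  have hu : M *ᵥ w - M' *ᵥ w ≠ 0 := sub_ne_zero.mpr hne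
  obtain ⟨a, -, ha⟩ := nondegOn_top (M *ᵥ w - M' *ᵥ w) Submodule.mem_top hu
  apply ha
  rw [sf_swap, sf_sub_right, h a w, sub_self, neg_zero]

end Cfsg.Agent.Lib.Helper24.SpConj
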