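import Mathlib
import Cfsg.Agent.Lib.Helper24.SpConjA

set_option autoImplicit false
set_option linter.style.haveILetI false
set_option linter.unusedSimpArgs false
set_option linter.unusedSectionVars false

namespace Cfsg.Agent.Lib.Helper24.SpConj

open Matrix Cfsg

variable {F : Type*} [Field F] {m : ℕ}

/-- the averaging idempotent of a matrix of finite order -/
noncomputable def avg (T : Matrix (Fin m ⊕ Fin m) (Fin m ⊕ Fin m) F) (k : ℕ) :
    Matrix (Fin m ⊕ Fin m) (Fin m ⊕ Fin m) F :=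
  ((k : F)⁻¹) • ∑ i ∈ Finset.range k, T ^ i

theorem mul_sum_pow {T : Matrix (Fin m ⊕ Fin m) (Fin m ⊕ Fin m) F} {k : ℕ} (hT : T ^ k = 1) :
    T * ∑ i ∈ Finset.range k, T ^ i = ∑ i ∈ Finset.range k, T ^ i := by
  have h1 : T * ∑ i ∈ Finset.range k, T ^ i = ∑ i ∈ Finset.range k, T ^ (i + 1) := by
    rw [Finset.mul_sum]
    exact Finset.sum_congr rfl (fun i _ => (pow_succ' T i).symm)
  have h2 := Finset.sum_range_succ' (fun i => T ^ i) k
  have h3 := Finset.sum_range_succ (fun i => T ^ i) k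
  rw [h3] at h2
  simp only [hT, pow_zero] at h2
  rw [h1]
  exact (add_right_cancel h2).symm

theorem mul_avg {T : Matrix (Fin m ⊕ Fin m) (Fin m ⊕ Fin m) F} {k : ℕ} (hT : T ^ k = 1) :
    T * avg T k = avg T k := by
  unfold avg
  rw [Matrix.mul_smul, mul_sum_pow hT]

theorem avg_comm (T : Matrix (Fin m ⊕ Fin m) (Fin m ⊕ Fin m) F) (k : ℕ) :
    avg T k * T = T * avg T k := by
  unfold avg
  rw [Matrix.mul_smul, Matrix.smul_mul, Finset.mul_sum, Finset.sum_mul]
  congr 1
  exact Finset.sum_congr rfl (fun i _ => by rw [← pow_succ, ← pow_succ'])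

theorem avg_mul {T : Matrix (Fin m ⊕ Fin m) (Fin m ⊕ Fin m) F} {k : ℕ} (hT : T ^ k = 1) :
    avg T k * T = avg T k := by
  rw [avg_comm, mul_avg hT]

theorem pow_mul_avg {T : Matrix (Fin m ⊕ Fin m) (Fin m ⊕ Fin m) F} {k : ℕ} (hT : T ^ k = 1)
    (i : ℕ) : T ^ i * avg T k = avg T k := by
  induction i with
  | zero => rw [pow_zero, one_mul]
  | succ i ih => rw [pow_succ, mul_assoc, mul_avg hT, ih]

theorem avg_mul_of_fix {T X : Matrix (Fin m ⊕ Fin m) (Fin m ⊕ Fin m) F} {k : ℕ}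
    (hk : (k : F) ≠ 0) (hX : T * X = X) : avg T k * X = X := by
  have h0 : ∀ i : ℕ, T ^ i * X = X := by
    intro i
    induction i with
    | zero => rw [pow_zero, one_mul]
    | succ i ih => rw [pow_succ, mul_assoc, hX, ih]
  unfold avg
  rw [Matrix.smul_mul, Finset.sum_mul, Finset.sum_congr rfl (fun i _ => h0 i), Finset.sum_const,
    Finset.card_range, ← Nat.cast_smul_eq_nsmul F, smul_smul, inv_mul_cancel₀ hk, one_smul]

theorem avg_idem {T : Matrix (Fin m ⊕ Fin m) (Fin m ⊕ Fin m) F} {k : ℕ} (hT : T ^ k = 1)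
    (hk : (k : F) ≠ 0) : avg T k * avg T k = avg T k :=
  avg_mul_of_fix hk (mul_avg hT)

theorem avg_mem (T : Matrix (Fin m ⊕ Fin m) (Fin m ⊕ Fin m) F) (k : ℕ)
    (S : Subalgebra F (Matrix (Fin m ⊕ Fin m) (Fin m ⊕ Fin m) F)) (hT : T ∈ S) : avg T k ∈ S := by
  unfold avg
  exact S.smul_mem (S.sum_mem (fun i _ => S.pow_mem hT i)) _

/-- `adj` of the averaging idempotent -/
theorem adj_avg {T T' : Matrix (Fin m ⊕ Fin m) (Fin m ⊕ Fin m) F} {k : ℕ} (hT : T ^ k = 1)
    (hk : (k : F) ≠ 0) (hT' : adj T = T') (hTT' : T * T' = 1) : adj (avg T k) = avg T k := by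
  have hT'T : T' * T = 1 := mul_eq_one_comm.mp hTT'
  have h0 : adj (avg T k) = avg T' k := by
    unfold avg
    rw [adj_smul, adj_sum]
    congr 1
    exact Finset.sum_congr rfl (fun i _ => by rw [adj_pow, hT'])
  rw [h0]
  have hT'k : T' ^ k = 1 := by
    calc T' ^ k = T' ^ k * T ^ k := by rw [hT, mul_one]
      _ = (T' * T) ^ k := by
          rw [(Commute.mul_pow (show Commute T' T from hT'T.trans hTT'.symm) k)]
      _ = 1 := by rw [hT'T, one_pow]
  -- T' e = e
  have h1 : T' * avg T k = avg T k := by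
    calc T' * avg T k = T' * (T * avg T k) := by rw [mul_avg hT]
      _ = avg T k := by rw [← mul_assoc, hT'T, one_mul]
  have h2 : T * avg T' k = avg T' k := by
    calc T * avg T' k = T * (T' * avg T' k) := by rw [mul_avg hT'k]
      _ = avg T' k := by rw [← mul_assoc, hTT', one_mul]
  have h3 : avg T' k * avg T k = avg T k := avg_mul_of_fix hk h1
  have h5 : adj (avg T' k) = avg T k := by
    rw [← h0, adj_adj]
  have h6 := congrArg adj h3
  rw [adj_mul, h0, h5] at h6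
  exact h6.symm.trans h3

/-- the complementary inverse: `(T - 1) y = 1 - avg T k` -/
theorem exists_compl {T : Matrix (Fin m ⊕ Fin m) (Fin m ⊕ Fin m) F} {k : ℕ} (hT : T ^ k = 1)
    (hk : (k : F) ≠ 0) (S : Subalgebra F (Matrix (Fin m ⊕ Fin m) (Fin m ⊕ Fin m) F)) (hTS : T ∈ S) :
    ∃ y ∈ S, (T - 1) * y = 1 - avg T k := by
  refine ⟨-((k : F)⁻¹ • ∑ i ∈ Finset.range k, ∑ j ∈ Finset.range i, T ^ j), ?_, ?_⟩
  · exact S.neg_mem (S.smul_mem (S.sum_mem (fun i _ => S.sum_mem (fun j _ => S.pow_mem hTS j))) _)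
  · have h1 : (T - 1) * ∑ i ∈ Finset.range k, ∑ j ∈ Finset.range i, T ^ j
        = ∑ i ∈ Finset.range k, (T ^ i - 1) := by
      rw [Finset.mul_sum]
      exact Finset.sum_congr rfl (fun i _ => mul_geom_sum T i)
    rw [Matrix.mul_neg, Matrix.mul_smul, h1, Finset.sum_sub_distrib, Finset.sum_const,
      Finset.card_range, smul_sub, ← Nat.cast_smul_eq_nsmul F, smul_smul, inv_mul_cancel₀ hk,
      one_smul]
    unfold avg
    abel

end Cfsg.Agent.Lib.Helper24.SpConj
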