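import Mathlib
import Cfsg.Agent.Lib.Helper24.SpConjA

set_option autoImplicit false
set_option linter.style.haveILetI false
set_option linter.unusedSimpArgs false
set_option linter.unusedSectionVars false

namespace Cfsg.Agent.Lib.Helper24.SpConj

open Matrix Cfsg Cfsg.Agent.Lib.Helper27.SympTransv

variable {F : Type*} [Field F] {m : ℕ}

theorem nondegOn_range {e : Matrix (Fin m ⊕ Fin m) (Fin m ⊕ Fin m) F} (he : adj e = e)
    (hee : e * e = e) : NondegOn (LinearMap.range (Matrix.mulVecLin e)) := by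
  intro u hu hu0
  obtain ⟨v, rfl⟩ := hu
  obtain ⟨a, -, ha⟩ := nondegOn_top (Matrix.mulVecLin e v) Submodule.mem_top hu0
  refine ⟨Matrix.mulVecLin e a, ⟨a, rfl⟩, ?_⟩
  intro h0
  apply ha
  rw [Matrix.mulVecLin_apply] at h0 ⊢
  rw [← hee, ← Matrix.mulVec_mulVec, sf_adj, he]
  exact h0

theorem mem_range_fix {e : Matrix (Fin m ⊕ Fin m) (Fin m ⊕ Fin m) F} (hee : e * e = e)
    {u : Fin m ⊕ Fin m → F} (hu : u ∈ LinearMap.range (Matrix.mulVecLin e)) : e *ᵥ u = u := by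
  obtain ⟨v, rfl⟩ := hu
  rw [Matrix.mulVecLin_apply, Matrix.mulVec_mulVec, hee]

/-- the corner lemma -/
theorem corner {c e e' : Matrix (Fin m ⊕ Fin m) (Fin m ⊕ Fin m) F} (hc : IsUnit c)
    (he : adj e = e) (hee : e * e = e) (he' : adj e' = e') (hee' : e' * e' = e')
    (hce : c * e = e' * c) :
    ∃ x : Matrix (Fin m ⊕ Fin m) (Fin m ⊕ Fin m) F,
      e * x = x ∧ x * e = x ∧ adj x * x = e * (adj c * c) := by
  classical
  obtain ⟨W, hWdef⟩ : ∃ W : Submodule F (Fin m ⊕ Fin m → F),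
      W = LinearMap.range (Matrix.mulVecLin e) := ⟨_, rfl⟩
  obtain ⟨W', hW'def⟩ : ∃ W' : Submodule F (Fin m ⊕ Fin m → F),
      W' = LinearMap.range (Matrix.mulVecLin e') := ⟨_, rfl⟩
  have hW : NondegOn W := hWdef ▸ nondegOn_range he hee
  have hW' : NondegOn W' := hW'def ▸ nondegOn_range he' hee'
  -- c maps W onto W'
  obtain ⟨c', hcc'⟩ := hc.exists_right_inv
  have hc'c : c' * c = 1 := mul_eq_one_comm.mp hcc'
  have hcinj : Function.Injective (Matrix.mulVecLin c) := by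
    intro v w hvw
    rw [Matrix.mulVecLin_apply, Matrix.mulVecLin_apply] at hvw
    have := congrArg (fun t => c' *ᵥ t) hvw
    simpa [Matrix.mulVec_mulVec, hc'c] using this
  have hcsurj : LinearMap.range (Matrix.mulVecLin c) = ⊤ := by
    rw [LinearMap.range_eq_top]
    intro v
    refine ⟨c' *ᵥ v, ?_⟩
    rw [Matrix.mulVecLin_apply, Matrix.mulVec_mulVec, hcc', Matrix.one_mulVec]
  have hmap : W.map (Matrix.mulVecLin c) = W' := by
    rw [hWdef, hW'def, ← LinearMap.range_comp, ← Matrix.mulVecLin_mul, hce, Matrix.mulVecLin_mul,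
      LinearMap.range_comp_of_range_eq_top _ hcsurj]
  have hrank : Module.finrank F W = Module.finrank F W' := by
    rw [← hmap]
    exact (Submodule.equivMapOfInjective _ hcinj W).finrank_eq
  obtain ⟨k, hk⟩ := exists_half W hW
  obtain ⟨e₁, he₁⟩ := exists_sympCoord W hW k hk
  obtain ⟨e₂, he₂⟩ := exists_sympCoord W' hW' k (hrank ▸ hk)
  have hmem : ∀ v, Matrix.mulVecLin (e' * c) v ∈ W' := by
    intro v
    rw [hW'def, Matrix.mulVecLin_mul]
    exact ⟨_, rfl⟩
  obtain ⟨r, hr⟩ : ∃ r : (Fin m ⊕ Fin m → F) →ₗ[F] ↥W', ∀ v, (r v).1 = (e' * c) *ᵥ v :=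
    ⟨LinearMap.codRestrict W' (Matrix.mulVecLin (e' * c)) hmem, fun v => rfl⟩
  obtain ⟨g, hgdef⟩ : ∃ g : (Fin m ⊕ Fin m → F) →ₗ[F] (Fin m ⊕ Fin m → F),
      ∀ v, g v = (e₁ (e₂.symm (r v))).1 :=
    ⟨W.subtype ∘ₗ (e₁.toLinearMap ∘ₗ (e₂.symm.toLinearMap ∘ₗ r)), fun v => rfl⟩
  have hgW : ∀ v, g v ∈ W := fun v => by rw [hgdef]; exact Subtype.property _
  have hx : ∀ v, LinearMap.toMatrix' g *ᵥ v = g v := fun v => LinearMap.toMatrix'_mulVec g v
  have hsf : ∀ v w, sympForm m F (g v) (g w)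
      = sympForm m F ((e' * c) *ᵥ v) ((e' * c) *ᵥ w) := by
    intro v w
    rw [hgdef, hgdef, he₁, ← he₂, LinearEquiv.apply_symm_apply, LinearEquiv.apply_symm_apply,
      hr, hr]
  refine ⟨LinearMap.toMatrix' g, ?_, ?_, ?_⟩
  · rw [Matrix.ext_iff_mulVec]
    intro v
    rw [← Matrix.mulVec_mulVec, hx]
    exact mem_range_fix hee (hWdef ▸ hgW v)
  · rw [Matrix.ext_iff_mulVec]
    intro v
    rw [← Matrix.mulVec_mulVec, hx, hx, hgdef, hgdef]
    have : r (e *ᵥ v) = r v := by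
      apply Subtype.ext
      rw [hr, hr, Matrix.mulVec_mulVec, mul_assoc, hce, ← mul_assoc, hee']
    rw [this]
  · apply mat_eq_of_sf
    intro v w
    rw [← Matrix.mulVec_mulVec, ← sf_adj, hx, hx, hsf]
    have hcomm : adj c * c * e = e * (adj c * c) := by
      have h1 : adj c * e' = e * adj c := by
        calc adj c * e' = adj (e' * c) := by rw [adj_mul, he']
          _ = adj (c * e) := by rw [hce]
          _ = e * adj c := by rw [adj_mul, he]
      rw [mul_assoc, hce, ← mul_assoc, h1, mul_assoc]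
    calc sympForm m F ((e' * c) *ᵥ v) ((e' * c) *ᵥ w)
        = sympForm m F (e' *ᵥ (c *ᵥ v)) ((e' * c) *ᵥ w) := by
          rw [Matrix.mulVec_mulVec]
      _ = sympForm m F (c *ᵥ v) ((e' * (e' * c)) *ᵥ w) := by
          rw [sf_adj, he', Matrix.mulVec_mulVec]
      _ = sympForm m F (c *ᵥ v) (c *ᵥ (e *ᵥ w)) := by
          rw [← mul_assoc, hee', ← hce, Matrix.mulVec_mulVec]
      _ = sympForm m F v ((adj c * c * e) *ᵥ w) := by
          rw [sf_adj, Matrix.mulVec_mulVec, Matrix.mulVec_mulVec]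
      _ = _ := by rw [hcomm]

end Cfsg.Agent.Lib.Helper24.SpConj
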