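import Mathlib
import Cfsg.Agent.Lib.Helper24.SpConjB
import Cfsg.Agent.Lib.Helper24.SpConjD

set_option autoImplicit false
set_option linter.style.haveILetI false
set_option linter.unusedSimpArgs false
set_option linter.unusedSectionVars false

namespace Cfsg.Agent.Lib.Helper24.SpConj

open Matrix Cfsg

variable {F : Type*} [Field F] {m : ℕ}

theorem cross {e e' x y : Matrix (Fin m ⊕ Fin m) (Fin m ⊕ Fin m) F} (he : adj e = e)
    (hx : e * x = x) (hy : e' * y = y) (hee' : e * e' = 0) : adj x * y = 0 := by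
  rw [← hx, ← hy, adj_mul, he, mul_assoc, ← mul_assoc e, hee', zero_mul, mul_zero]

theorem block3 {e₁ e₂ e₃ x₁ x₂ x₃ : Matrix (Fin m ⊕ Fin m) (Fin m ⊕ Fin m) F}
    (h1 : adj e₁ = e₁) (h2 : adj e₂ = e₂) (h3 : adj e₃ = e₃)
    (h12 : e₁ * e₂ = 0) (h13 : e₁ * e₃ = 0) (h21 : e₂ * e₁ = 0) (h23 : e₂ * e₃ = 0)
    (h31 : e₃ * e₁ = 0) (h32 : e₃ * e₂ = 0)
    (hx₁ : e₁ * x₁ = x₁) (hx₂ : e₂ * x₂ = x₂) (hx₃ : e₃ * x₃ = x₃) :
    adj (x₁ + x₂ + x₃) * (x₁ + x₂ + x₃) = adj x₁ * x₁ + adj x₂ * x₂ + adj x₃ * x₃ := by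
  have c12 := cross h1 hx₁ hx₂ h12
  have c13 := cross h1 hx₁ hx₃ h13
  have c21 := cross h2 hx₂ hx₁ h21
  have c23 := cross h2 hx₂ hx₃ h23
  have c31 := cross h3 hx₃ hx₁ h31
  have c32 := cross h3 hx₃ hx₂ h32
  simp only [adj_add, add_mul, mul_add, c12, c13, c21, c23, c31, c32, add_zero, zero_add]

theorem comm_block {e x A : Matrix (Fin m ⊕ Fin m) (Fin m ⊕ Fin m) F} {ε : F}
    (hAe : A * e = ε • e) (heA : e * A = ε • e) (hx : e * x = x) (hx' : x * e = x) :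
    x * A = A * x := by
  calc x * A = x * (e * A) := by rw [← mul_assoc, hx']
    _ = ε • x := by rw [heA, Matrix.mul_smul, hx']
    _ = (A * e) * x := by rw [hAe, Matrix.smul_mul, hx]
    _ = A * x := by rw [mul_assoc, hx]

theorem dcalc_odd {R : Type*} [CommRing R] (A A' y₁ y₂ e₁ e₂ : R) (hAA' : A * A' = 1)
    (hy₁ : (A - 1) * y₁ = 1 - e₁) (hy₂ : (-A - 1) * y₂ = 1 - e₂) (h12 : e₁ * e₂ = 0) :
    (A - A') * (-(A * y₁ * y₂)) = 1 - (e₁ + e₂) := by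
  linear_combination (y₁ * y₂) * hAA' + ((-A - 1) * y₂) * hy₁ + (1 - e₁) * hy₂ + h12

theorem dcalc_two {R : Type*} [CommRing R] (A A' y₁ e₁ : R) (hAA' : A * A' = 1)
    (hy₁ : (A - 1) * y₁ = 1 - e₁) (hee : e₁ * e₁ = e₁) (h2 : (2 : R) = 0) :
    (A - A') * (A * y₁ * y₁) = 1 - (e₁ + 0) := by
  linear_combination (-(y₁ * y₁)) * hAA' + ((A - 1) * y₁ * y₁) * h2
    + ((A - 1) * y₁ + (1 - e₁)) * hy₁ + hee

theorem conj_pow {A B c : Matrix (Fin m ⊕ Fin m) (Fin m ⊕ Fin m) F} (h : c * A = B * c) (i : ℕ) :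
    c * A ^ i = B ^ i * c := by
  induction i with
  | zero => rw [pow_zero, pow_zero, mul_one, one_mul]
  | succ i ih => rw [pow_succ, ← mul_assoc, ih, mul_assoc, h, ← mul_assoc, ← pow_succ]

theorem conj_avg {A B c : Matrix (Fin m ⊕ Fin m) (Fin m ⊕ Fin m) F} (h : c * A = B * c) (k : ℕ) :
    c * avg A k = avg B k * c := by
  unfold avg
  rw [Matrix.mul_smul, Matrix.smul_mul, Finset.mul_sum, Finset.sum_mul]
  congr 1
  exact Finset.sum_congr rfl (fun i _ => conj_pow h i)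

theorem corner_avg {A B c : Matrix (Fin m ⊕ Fin m) (Fin m ⊕ Fin m) F} {k : ℕ} (hc : IsUnit c)
    (hcAB : c * A = B * c) (hAk : A ^ k = 1) (hk : (k : F) ≠ 0) (hAsp : A * adj A = 1)
    (hBsp : B * adj B = 1) :
    ∃ x : Matrix (Fin m ⊕ Fin m) (Fin m ⊕ Fin m) F,
      avg A k * x = x ∧ x * avg A k = x ∧ adj x * x = avg A k * (adj c * c) := by
  have hBk : B ^ k = 1 := by
    have h1 := conj_pow hcAB k
    rw [hAk, mul_one] at h1
    obtain ⟨c', hcc'⟩ := hc.exists_right_inv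
    calc B ^ k = B ^ k * (c * c') := by rw [hcc', mul_one]
      _ = (B ^ k * c) * c' := by rw [mul_assoc]
      _ = 1 := by rw [← h1, hcc']
  exact corner hc (adj_avg hAk hk rfl hAsp) (avg_idem hAk hk) (adj_avg hBk hk rfl hBsp)
    (avg_idem hBk hk) (conj_avg hcAB k)

end Cfsg.Agent.Lib.Helper24.SpConj
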