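import Mathlib
import Cfsg.Agent.Lib.Helper24.SpConjC
import Cfsg.Agent.Lib.Helper24.SpConjE

set_option autoImplicit false
set_option linter.style.haveILetI false
set_option linter.unusedSimpArgs false
set_option linter.unusedSectionVars false

namespace Cfsg.Agent.Lib.Helper24.SpConj

open Matrix Cfsg

variable {F : Type*} [Field F] {m : ℕ}

/-- the final assembly -/
theorem assemble {A A' h e₁ e₂ x₁ x₂ x₀ : Matrix (Fin m ⊕ Fin m) (Fin m ⊕ Fin m) F}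
    (hA' : adj A = A') (hAA' : A * A' = 1) (hAh : A * h = h * A) (hh : adj h = h)
    (he₁S : e₁ ∈ spAlg A A' h) (he₂S : e₂ ∈ spAlg A A' h)
    (he₁ : adj e₁ = e₁) (he₂ : adj e₂ = e₂) (hee₁ : e₁ * e₁ = e₁) (hee₂ : e₂ * e₂ = e₂)
    (h12 : e₁ * e₂ = 0) {ε₁ ε₂ : F} (hA₁ : A * e₁ = ε₁ • e₁) (hA₂ : A * e₂ = ε₂ • e₂)
    (hx₁ : e₁ * x₁ = x₁) (hx₁' : x₁ * e₁ = x₁) (hxx₁ : adj x₁ * x₁ = e₁ * h)
    (hx₂ : e₂ * x₂ = x₂) (hx₂' : x₂ * e₂ = x₂) (hxx₂ : adj x₂ * x₂ = e₂ * h)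
    (hx₀S : x₀ ∈ spAlg A A' h) (hx₀ : (1 - (e₁ + e₂)) * (x₀ * adj x₀ - h) = 0) :
    ∃ x : Matrix (Fin m ⊕ Fin m) (Fin m ⊕ Fin m) F, adj x * x = h ∧ x * A = A * x := by
  have hcomm : ∀ {a b : Matrix (Fin m ⊕ Fin m) (Fin m ⊕ Fin m) F}, a ∈ spAlg A A' h →
      b ∈ spAlg A A' h → a * b = b * a := fun ha hb => spAlg_comm hAA' hAh ha hb
  have hAS := A_mem A A' h
  have h21 : e₂ * e₁ = 0 := (hcomm he₂S he₁S).trans h12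
  obtain ⟨e₃, he₃def⟩ : ∃ e₃ : Matrix (Fin m ⊕ Fin m) (Fin m ⊕ Fin m) F, e₃ = 1 - (e₁ + e₂) :=
    ⟨_, rfl⟩
  have he₃S : e₃ ∈ spAlg A A' h := by
    rw [he₃def]
    exact sub_mem (one_mem _) (add_mem he₁S he₂S)
  have he₃ : adj e₃ = e₃ := by rw [he₃def, adj_sub, adj_one, adj_add, he₁, he₂]
  have h13 : e₁ * e₃ = 0 := by
    rw [he₃def, mul_sub, mul_add, mul_one, hee₁, h12, add_zero, sub_self]
  have h23 : e₂ * e₃ = 0 := by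
    rw [he₃def, mul_sub, mul_add, mul_one, hee₂, h21, zero_add, sub_self]
  have h31 : e₃ * e₁ = 0 := (hcomm he₃S he₁S).trans h13
  have h32 : e₃ * e₂ = 0 := (hcomm he₃S he₂S).trans h23
  have hee₃ : e₃ * e₃ = e₃ := by
    calc e₃ * e₃ = (1 - (e₁ + e₂)) * e₃ := by rw [← he₃def]
      _ = e₃ := by rw [sub_mul, one_mul, add_mul, h13, h23, add_zero, sub_zero]
  have hadjS : adj x₀ ∈ spAlg A A' h := spAlg_adj hA' hh hx₀S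
  rw [← he₃def] at hx₀
  have hx₃ : e₃ * (e₃ * x₀) = e₃ * x₀ := by rw [← mul_assoc, hee₃]
  have hx₃' : (e₃ * x₀) * e₃ = e₃ * x₀ := by
    rw [mul_assoc, hcomm hx₀S he₃S, ← mul_assoc, hee₃]
  have hxx₃ : adj (e₃ * x₀) * (e₃ * x₀) = e₃ * h := by
    rw [adj_mul, he₃, mul_assoc, hx₃, ← mul_assoc, hcomm hadjS he₃S, mul_assoc, hcomm hadjS hx₀S]
    rw [mul_sub] at hx₀
    exact sub_eq_zero.mp hx₀
  refine ⟨x₁ + x₂ + e₃ * x₀, ?_, ?_⟩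
  · rw [block3 he₁ he₂ he₃ h12 h13 h21 h23 h31 h32 hx₁ hx₂ hx₃, hxx₁, hxx₂, hxx₃, ← add_mul,
      ← add_mul, he₃def]
    rw [add_sub_cancel, one_mul]
  · have hA₁' : e₁ * A = ε₁ • e₁ := (hcomm he₁S hAS).trans hA₁
    have hA₂' : e₂ * A = ε₂ • e₂ := (hcomm he₂S hAS).trans hA₂
    rw [add_mul, add_mul, mul_add, mul_add, comm_block hA₁ hA₁' hx₁ hx₁',
      comm_block hA₂ hA₂' hx₂ hx₂', hcomm (mul_mem he₃S hx₀S) hAS]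

end Cfsg.Agent.Lib.Helper24.SpConj
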