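import Mathlib
import Cfsg.Agent.Lib.Helper24.SpConjF

set_option autoImplicit false
set_option linter.style.haveILetI false
set_option linter.unusedSimpArgs false
set_option linter.unusedSectionVars false

namespace Cfsg.Agent.Lib.Helper24.SpConj

open Matrix Cfsg

variable {F : Type*} [Field F] {m : ℕ}

theorem dcalc_two' {R : Type*} [CommRing R] (A A' y₁ e₁ : R) (hAA' : A * A' = 1)
    (hy₁ : (A - 1) * y₁ = 1 - e₁) (hee : e₁ * e₁ = e₁) (h2 : (1 : R) + 1 = 0) :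
    (A - A') * (A * y₁ * y₁) = 1 - (e₁ + 0) := by
  have h2' : (2 : R) = 0 := by rw [← one_add_one_eq_two]; exact h2
  exact dcalc_two A A' y₁ e₁ hAA' hy₁ hee h2'

/-- the square root commuting with `A`, odd characteristic -/
theorem key_odd [Finite F] {A A' B c h : Matrix (Fin m ⊕ Fin m) (Fin m ⊕ Fin m) F} {N : ℕ}
    (hA' : adj A = A') (hAA' : A * A' = 1) (hBsp : B * adj B = 1) (hc : IsUnit c)
    (hcAB : c * A = B * c) (hAN : A ^ N = 1) (hN : (N : F) ≠ 0) (hdef : h = adj c * c)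
    (hh : adj h = h) (hu : IsUnit h) (hAh : A * h = h * A) (h2 : (2 : F) ≠ 0) :
    ∃ x : Matrix (Fin m ⊕ Fin m) (Fin m ⊕ Fin m) F, adj x * x = h ∧ x * A = A * x := by
  have hAsp : A * adj A = 1 := by rw [hA']; exact hAA'
  have hAS := A_mem A A' h
  have hA'S := A'_mem A A' h
  have hnAS : -A ∈ spAlg A A' h := neg_mem hAS
  obtain ⟨k, hkdef⟩ : ∃ k : ℕ, k = 2 * N := ⟨_, rfl⟩
  have hAk : A ^ k = 1 := by rw [hkdef, mul_comm, pow_mul, hAN, one_pow]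
  have hk : (k : F) ≠ 0 := by
    rw [hkdef, Nat.cast_mul, Nat.cast_ofNat]
    exact mul_ne_zero h2 hN
  have hnAk : (-A) ^ k = 1 := by
    rw [Even.neg_pow (hkdef ▸ even_two_mul N), hAk]
  obtain ⟨e₁, he₁def⟩ : ∃ e₁, e₁ = avg A k := ⟨_, rfl⟩
  obtain ⟨e₂, he₂def⟩ : ∃ e₂, e₂ = avg (-A) k := ⟨_, rfl⟩
  have he₁S : e₁ ∈ spAlg A A' h := he₁def ▸ avg_mem A k _ hAS
  have he₂S : e₂ ∈ spAlg A A' h := he₂def ▸ avg_mem (-A) k _ hnAS
  have he₁ : adj e₁ = e₁ := he₁def ▸ adj_avg hAk hk hA' hAA'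
  have hnsp : (-A) * (-A') = 1 := by rw [neg_mul_neg, hAA']
  have he₂ : adj e₂ = e₂ := he₂def ▸ adj_avg hnAk hk (by rw [adj_neg, hA']) hnsp
  have hee₁ : e₁ * e₁ = e₁ := he₁def ▸ avg_idem hAk hk
  have hee₂ : e₂ * e₂ = e₂ := he₂def ▸ avg_idem hnAk hk
  have hAe₁ : A * e₁ = e₁ := he₁def ▸ mul_avg hAk
  have he₁A : e₁ * A = e₁ := he₁def ▸ avg_mul hAk
  have hAe₂ : A * e₂ = -e₂ := by
    have := mul_avg hnAk
    rw [← he₂def, neg_mul] at this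
    exact neg_eq_iff_eq_neg.mp this
  have hA₁ : A * e₁ = (1 : F) • e₁ := by rw [one_smul]; exact hAe₁
  have hA₂ : A * e₂ = (-1 : F) • e₂ := by rw [neg_smul, one_smul]; exact hAe₂
  have h12 : e₁ * e₂ = 0 := by
    have h3 : e₁ * e₂ = -(e₁ * e₂) := by
      calc e₁ * e₂ = (e₁ * A) * e₂ := by rw [he₁A]
        _ = e₁ * (A * e₂) := mul_assoc _ _ _
        _ = -(e₁ * e₂) := by rw [hAe₂, mul_neg]
    have h4 : (2 : F) • (e₁ * e₂) = 0 := by
      rw [two_smul]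
      nth_rewrite 1 [h3]
      exact neg_add_cancel _
    exact (smul_eq_zero.mp h4).resolve_left h2
  have h21 : e₂ * e₁ = 0 := (spAlg_comm hAA' hAh he₂S he₁S).trans h12
  obtain ⟨y₁, hy₁S, hy₁⟩ := exists_compl hAk hk (spAlg A A' h) hAS
  obtain ⟨y₂, hy₂S, hy₂⟩ := exists_compl hnAk hk (spAlg A A' h) hnAS
  rw [← he₁def] at hy₁
  rw [← he₂def] at hy₂
  have hdS : -(A * y₁ * y₂) ∈ spAlg A A' h := neg_mem (mul_mem (mul_mem hAS hy₁S) hy₂S)
  have hd : (A - A') * (-(A * y₁ * y₂)) = 1 - (e₁ + e₂) := by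
    letI : CommRing ↥(spAlg A A' h) := Algebra.adjoinCommRingOfComm F (gen_comm hAA' hAh)
    have := dcalc_odd (⟨A, hAS⟩ : ↥(spAlg A A' h)) ⟨A', hA'S⟩ ⟨y₁, hy₁S⟩ ⟨y₂, hy₂S⟩ ⟨e₁, he₁S⟩
      ⟨e₂, he₂S⟩ (Subtype.ext hAA') (Subtype.ext hy₁) (Subtype.ext hy₂) (Subtype.ext h12)
    exact congrArg Subtype.val this
  have hfS : e₁ + e₂ ∈ spAlg A A' h := add_mem he₁S he₂S
  have hf : adj (e₁ + e₂) = e₁ + e₂ := by rw [adj_add, he₁, he₂]
  have hff : (e₁ + e₂) * (e₁ + e₂) = e₁ + e₂ := by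
    rw [add_mul, mul_add, mul_add, hee₁, hee₂, h12, h21, add_zero, zero_add]
  obtain ⟨x₀, hx₀S, hx₀⟩ := exists_x0 hA' hAA' hAh hh hu hfS hf hff hdS hd
  obtain ⟨x₁, hx₁, hx₁', hxx₁⟩ := corner_avg hc hcAB hAk hk hAsp hBsp
  have hcAB' : c * (-A) = (-B) * c := by rw [mul_neg, neg_mul, hcAB]
  have hnAsp : (-A) * adj (-A) = 1 := by rw [adj_neg, hA']; exact hnsp
  have hnBsp : (-B) * adj (-B) = 1 := by rw [adj_neg, neg_mul_neg]; exact hBsp
  obtain ⟨x₂, hx₂, hx₂', hxx₂⟩ := corner_avg hc hcAB' hnAk hk hnAsp hnBsp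
  rw [← he₁def] at hx₁ hx₁' hxx₁
  rw [← he₂def] at hx₂ hx₂' hxx₂
  rw [← hdef] at hxx₁ hxx₂
  exact assemble hA' hAA' hAh hh he₁S he₂S he₁ he₂ hee₁ hee₂ h12 hA₁ hA₂ hx₁ hx₁' hxx₁
    hx₂ hx₂' hxx₂ hx₀S hx₀

/-- the square root commuting with `A`, characteristic two -/
theorem key_two [Finite F] {A A' B c h : Matrix (Fin m ⊕ Fin m) (Fin m ⊕ Fin m) F} {N : ℕ}
    (hA' : adj A = A') (hAA' : A * A' = 1) (hBsp : B * adj B = 1) (hc : IsUnit c)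
    (hcAB : c * A = B * c) (hAN : A ^ N = 1) (hN : (N : F) ≠ 0) (hdef : h = adj c * c)
    (hh : adj h = h) (hu : IsUnit h) (hAh : A * h = h * A) (h2 : (2 : F) = 0) :
    ∃ x : Matrix (Fin m ⊕ Fin m) (Fin m ⊕ Fin m) F, adj x * x = h ∧ x * A = A * x := by
  have hAsp : A * adj A = 1 := by rw [hA']; exact hAA'
  have hAS := A_mem A A' h
  have hA'S := A'_mem A A' h
  obtain ⟨e₁, he₁def⟩ : ∃ e₁, e₁ = avg A N := ⟨_, rfl⟩
  have he₁S : e₁ ∈ spAlg A A' h := he₁def ▸ avg_mem A N _ hAS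
  have he₁ : adj e₁ = e₁ := he₁def ▸ adj_avg hAN hN hA' hAA'
  have hee₁ : e₁ * e₁ = e₁ := he₁def ▸ avg_idem hAN hN
  have hAe₁ : A * e₁ = e₁ := he₁def ▸ mul_avg hAN
  have hA₁ : A * e₁ = (1 : F) • e₁ := by rw [one_smul]; exact hAe₁
  have hA₂ : A * (0 : Matrix (Fin m ⊕ Fin m) (Fin m ⊕ Fin m) F) = (0 : F) • 0 := by
    rw [mul_zero, smul_zero]
  obtain ⟨y₁, hy₁S, hy₁⟩ := exists_compl hAN hN (spAlg A A' h) hAS
  rw [← he₁def] at hy₁
  have hdS : A * y₁ * y₁ ∈ spAlg A A' h := mul_mem (mul_mem hAS hy₁S) hy₁S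
  have h11 : (1 : Matrix (Fin m ⊕ Fin m) (Fin m ⊕ Fin m) F) + 1 = 0 := by
    have : (1 : Matrix (Fin m ⊕ Fin m) (Fin m ⊕ Fin m) F) + 1 = (2 : F) • 1 := by
      rw [two_smul]
    rw [this, h2, zero_smul]
  have hd : (A - A') * (A * y₁ * y₁) = 1 - (e₁ + 0) := by
    letI : CommRing ↥(spAlg A A' h) := Algebra.adjoinCommRingOfComm F (gen_comm hAA' hAh)
    have := dcalc_two' (⟨A, hAS⟩ : ↥(spAlg A A' h)) ⟨A', hA'S⟩ ⟨y₁, hy₁S⟩ ⟨e₁, he₁S⟩
      (Subtype.ext hAA') (Subtype.ext hy₁) (Subtype.ext hee₁) (Subtype.ext h11)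
    exact congrArg Subtype.val this
  have h0S : (0 : Matrix (Fin m ⊕ Fin m) (Fin m ⊕ Fin m) F) ∈ spAlg A A' h := zero_mem _
  have hfS : e₁ + 0 ∈ spAlg A A' h := add_mem he₁S h0S
  have hf : adj (e₁ + 0) = e₁ + 0 := by rw [adj_add, he₁, adj_zero]
  have hff : (e₁ + 0) * (e₁ + 0) = e₁ + 0 := by
    rw [add_zero, hee₁]
  obtain ⟨x₀, hx₀S, hx₀⟩ := exists_x0 hA' hAA' hAh hh hu hfS hf hff hdS hd
  obtain ⟨x₁, hx₁, hx₁', hxx₁⟩ := corner_avg hc hcAB hAN hN hAsp hBsp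
  rw [← he₁def] at hx₁ hx₁' hxx₁
  rw [← hdef] at hxx₁
  exact assemble hA' hAA' hAh hh he₁S h0S he₁ adj_zero hee₁ (mul_zero 0) (mul_zero e₁) hA₁ hA₂
    hx₁ hx₁' hxx₁ (mul_zero 0) (mul_zero 0) (by rw [mul_zero, zero_mul]) hx₀S hx₀

/-- semisimple symplectic matrices conjugate under `GL` are conjugate under `Sp` -/
theorem main [Finite F] {A B c : Matrix (Fin m ⊕ Fin m) (Fin m ⊕ Fin m) F} {N : ℕ}
    (hAsp : A * adj A = 1) (hBsp : B * adj B = 1) (hc : IsUnit c)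
    (hcAB : c * A = B * c) (hAN : A ^ N = 1) (hN : (N : F) ≠ 0) :
    ∃ u : Matrix (Fin m ⊕ Fin m) (Fin m ⊕ Fin m) F, adj u * u = 1 ∧ u * A = B * u := by
  obtain ⟨A', hA'⟩ : ∃ A', adj A = A' := ⟨_, rfl⟩
  have hAA' : A * A' = 1 := hA' ▸ hAsp
  have hA'A : A' * A = 1 := mul_eq_one_comm.mp hAA'
  obtain ⟨h, hdef⟩ : ∃ h, h = adj c * c := ⟨_, rfl⟩
  have hh : adj h = h := by rw [hdef, adj_mul, adj_adj]
  obtain ⟨c', hcc'⟩ := hc.exists_right_inv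
  have hc'c : c' * c = 1 := mul_eq_one_comm.mp hcc'
  have hu : IsUnit h := by
    apply IsUnit.of_mul_eq_one (c' * adj c')
    rw [hdef]
    calc adj c * c * (c' * adj c') = adj c * (c * c') * adj c' := by simp only [mul_assoc]
      _ = adj (c' * c) := by rw [hcc', mul_one, adj_mul]
      _ = 1 := by rw [hc'c, adj_one]
  have hBB' : adj B * B = 1 := mul_eq_one_comm.mp hBsp
  have h1 : adj c * B = A * adj c := by
    have h2 : A' * adj c = adj c * adj B := by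
      rw [← hA', ← adj_mul, ← adj_mul, hcAB]
    calc adj c * B = (A * A') * adj c * B := by rw [hAA', one_mul]
      _ = A * (A' * adj c) * B := by simp only [mul_assoc]
      _ = A * adj c * (adj B * B) := by rw [h2]; simp only [mul_assoc]
      _ = A * adj c := by rw [hBB', mul_one]
  have hAh : A * h = h * A := by
    rw [hdef, ← mul_assoc, ← h1, mul_assoc, ← hcAB, mul_assoc]
  have key : ∃ x : Matrix (Fin m ⊕ Fin m) (Fin m ⊕ Fin m) F, adj x * x = h ∧ x * A = A * x := by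
    by_cases h2 : (2 : F) = 0
    · exact key_two hA' hAA' hBsp hc hcAB hAN hN hdef hh hu hAh h2
    · exact key_odd hA' hAA' hBsp hc hcAB hAN hN hdef hh hu hAh h2
  obtain ⟨x, hx1, hx2⟩ := key
  obtain ⟨h', hhh'⟩ := hu.exists_right_inv
  have hh'h : h' * h = 1 := mul_eq_one_comm.mp hhh'
  have hx'x : (h' * adj x) * x = 1 := by rw [mul_assoc, hx1, hh'h]
  obtain ⟨x', hx'def⟩ : ∃ x', x' = h' * adj x := ⟨_, rfl⟩
  rw [← hx'def] at hx'x
  have hxx' : x * x' = 1 := mul_eq_one_comm.mp hx'x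
  have hx'A : x' * A = A * x' := by
    calc x' * A = x' * A * (x * x') := by rw [hxx', mul_one]
      _ = x' * (A * x) * x' := by simp only [mul_assoc]
      _ = (x' * x) * A * x' := by rw [← hx2]; simp only [mul_assoc]
      _ = A * x' := by rw [hx'x, one_mul]
  refine ⟨c * x', ?_, ?_⟩
  · calc adj (c * x') * (c * x') = adj x' * (adj c * c) * x' := by
          rw [adj_mul]; simp only [mul_assoc]
      _ = adj x' * (adj x * x) * x' := by rw [← hdef, hx1]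
      _ = adj (x * x') * (x * x') := by rw [adj_mul]; simp only [mul_assoc]
      _ = 1 := by rw [hxx', adj_one, one_mul]
  · rw [mul_assoc, hx'A, ← mul_assoc, hcAB, mul_assoc]

end Cfsg.Agent.Lib.Helper24.SpConj
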