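import Mathlib
import Cfsg.Agent.Lib.Helper24.SpConjG
import Cfsg.Agent.Lib.Helper5.SSClassE

set_option autoImplicit false
set_option linter.style.haveILetI false
set_option linter.unusedSimpArgs false
set_option linter.unusedSectionVars false

namespace Cfsg.Agent.Lib.Helper24.SpConj

open Matrix Cfsg

/-- semisimple matrices (over any finite index type) with the same characteristic polynomial
are conjugate by an invertible matrix -/
theorem exists_unit_conj {F : Type*} [Field F] {ι : Type*} [Fintype ι] [DecidableEq ι] {p : ℕ}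
    [CharP F p] (A B : Matrix ι ι F) {N M : ℕ} (hAN : A ^ N = 1) (hN : ¬ p ∣ N) (hBM : B ^ M = 1)
    (hM : ¬ p ∣ M) (hc : A.charpoly = B.charpoly) :
    ∃ c : Matrix ι ι F, IsUnit c ∧ c * A = B * c := by
  have hA : Module.End.IsSemisimple (Matrix.toLinAlgEquiv' A) := by
    apply Cfsg.Agent.Lib.Helper5.SSClass.isSemisimple_of_pow_eq_one (p := p) _ N _ hN
    rw [← map_pow, hAN, map_one]
  have hB : Module.End.IsSemisimple (Matrix.toLinAlgEquiv' B) := by
    apply Cfsg.Agent.Lib.Helper5.SSClass.isSemisimple_of_pow_eq_one (p := p) _ M _ hM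
    rw [← map_pow, hBM, map_one]
  obtain ⟨E, hE⟩ := Cfsg.Agent.Lib.Helper5.SSClass.exists_conj_of_charpoly_eq
    (Matrix.toLinAlgEquiv' A) (Matrix.toLinAlgEquiv' B) hA hB (by
      show (Matrix.toLin' A).charpoly = (Matrix.toLin' B).charpoly
      rw [Matrix.charpoly_toLin', Matrix.charpoly_toLin', hc])
  obtain ⟨G, hGdef⟩ : ∃ G : Matrix ι ι F, G = LinearMap.toMatrix' (E : (ι → F) →ₗ[F] (ι → F)) :=
    ⟨_, rfl⟩
  obtain ⟨G', hG'def⟩ : ∃ G' : Matrix ι ι F,
      G' = LinearMap.toMatrix' (E.symm : (ι → F) →ₗ[F] (ι → F)) := ⟨_, rfl⟩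
  have h1 : G * G' = 1 := by
    rw [hGdef, hG'def, ← LinearMap.toMatrix'_comp]
    simp
  refine ⟨G, IsUnit.of_mul_eq_one G' h1, ?_⟩
  apply Matrix.toLin'.injective
  rw [Matrix.toLin'_mul, Matrix.toLin'_mul, hGdef, Matrix.toLin'_toMatrix']
  apply LinearMap.ext
  intro v
  exact hE v

end Cfsg.Agent.Lib.Helper24.SpConj
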