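import Mathlib
import Cfsg.Agent.Lib.Helper24.GUConjE
import Cfsg.Agent.Lib.Helper27.UGeom3

set_option autoImplicit false
set_option linter.style.haveILetI false
set_option linter.unusedSimpArgs false
set_option linter.unusedSectionVars false

namespace Cfsg.Agent.Lib.Helper24.UDet

open Matrix Cfsg
open Cfsg.Agent.Lib.Helper27.Unitary
open Cfsg.Agent.Lib.Helper19.PSUGraph
open Cfsg.Agent.Lib.Helper24.GUConj

variable {n : ℕ} {K : Type*} [Field K] [Fintype K] {q : ℕ}

/-- adjointness of `st` for the Hermitian form -/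
theorem hf_st (hK : Fintype.card K = q ^ 2) (x : Matrix (Fin n) (Fin n) K) (u v : Fin n → K) :
    hermForm n K q (x *ᵥ u) v = hermForm n K q u (st q x *ᵥ v) := by
  rw [hf_def, hf_def]
  have h1 : ∀ j, (st q x *ᵥ v) j ^ q = ∑ i, x i j * v i ^ q := by
    intro j
    rw [Matrix.mulVec, dotProduct, cj_sum hK]
    apply Finset.sum_congr rfl
    intro i _
    rw [st_apply, mul_pow, cj_cj hK]
  simp_rw [h1]
  simp only [Matrix.mulVec, dotProduct, Finset.sum_mul, Finset.mul_sum]
  rw [Finset.sum_comm]
  apply Finset.sum_congr rfl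
  intro j _
  apply Finset.sum_congr rfl
  intro i _
  ring

theorem st_eq_of_hf (hK : Fintype.card K = q ^ 2) (x x' : Matrix (Fin n) (Fin n) K)
    (h : ∀ u v, hermForm n K q (x *ᵥ u) v = hermForm n K q u (x' *ᵥ v)) : st q x = x' := by
  rw [Matrix.ext_iff_mulVec]
  intro v
  rw [← sub_eq_zero]
  apply hf_nondeg' hK
  intro u
  rw [hf_sub_right hK, ← hf_st hK, h u v, sub_self]

theorem st_neg (hK : Fintype.card K = q ^ 2) (x : Matrix (Fin n) (Fin n) K) :
    st q (-x) = -st q x := by
  ext i j
  simp only [st_apply, Matrix.neg_apply]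
  exact cj_neg hK _

theorem st_sub (hK : Fintype.card K = q ^ 2) (x y : Matrix (Fin n) (Fin n) K) :
    st q (x - y) = st q x - st q y := by
  rw [sub_eq_add_neg, st_add hK, st_neg hK, ← sub_eq_add_neg]

theorem det_st (hK : Fintype.card K = q ^ 2) (x : Matrix (Fin n) (Fin n) K) :
    (st q x).det = x.det ^ q := by
  unfold st
  rw [Matrix.det_transpose, cjM_eq hK]
  have := (RingHom.map_det (Cfsg.Agent.Lib.Helper27.Unitary.conjHom hK) x).symm
  rw [Cfsg.Agent.Lib.Helper27.Unitary.conjHom_apply] at this
  exact this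

/-- a normal invertible matrix gives a unitary one -/
theorem unitary_of_normal (hK : Fintype.card K = q ^ 2) {w w' : Matrix (Fin n) (Fin n) K}
    (hww' : w * w' = 1) (hn : w * st q w = st q w * w) :
    st q (w * st q w') * (w * st q w') = 1 ∧ (w * st q w').det = w.det * (w'.det) ^ q := by
  have hw'w : w' * w = 1 := mul_eq_one_comm.mp hww'
  have h1 : st q w' * st q w = 1 := by rw [← st_mul hK, hww', st_one hK]
  have h2 : st q w * st q w' = 1 := mul_eq_one_comm.mp h1
  constructor
  · rw [st_mul hK, st_st hK]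
    calc w' * st q w * (w * st q w') = w' * (st q w * w) * st q w' := by simp only [mul_assoc]
      _ = w' * (w * st q w) * st q w' := by rw [hn]
      _ = (w' * w) * (st q w * st q w') := by simp only [mul_assoc]
      _ = 1 := by rw [hw'w, h2, one_mul]
  · rw [Matrix.det_mul, det_st hK]

end Cfsg.Agent.Lib.Helper24.UDet
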