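import Mathlib
import Cfsg.Agent.Lib.Helper24.UDetA

set_option autoImplicit false
set_option linter.style.haveILetI false
set_option linter.unusedSimpArgs false
set_option linter.unusedSectionVars false

namespace Cfsg.Agent.Lib.Helper24.UDet

open Matrix Cfsg
open Cfsg.Agent.Lib.Helper27.Unitary
open Cfsg.Agent.Lib.Helper24.GUConj

variable {n : ℕ} {K : Type*} [Field K] [Fintype K] {q : ℕ}

/-- invariance of a subspace under a matrix -/
def Inv (A : Matrix (Fin n) (Fin n) K) (L : Submodule K (Fin n → K)) : Prop :=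
  ∀ v ∈ L, A *ᵥ v ∈ L

theorem Inv.pow {A : Matrix (Fin n) (Fin n) K} {L : Submodule K (Fin n → K)} (h : Inv A L)
    (k : ℕ) : Inv (A ^ k) L := by
  induction k with
  | zero => intro v hv; rw [pow_zero, Matrix.one_mulVec]; exact hv
  | succ k ih =>
    intro v hv
    rw [pow_succ, ← Matrix.mulVec_mulVec]
    exact ih _ (h v hv)

theorem Inv.inf {A : Matrix (Fin n) (Fin n) K} {L L' : Submodule K (Fin n → K)} (h : Inv A L)
    (h' : Inv A L') : Inv A (L ⊓ L') := fun v hv => ⟨h v hv.1, h' v hv.2⟩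

theorem inv_bot (A : Matrix (Fin n) (Fin n) K) : Inv A (⊥ : Submodule K (Fin n → K)) := by
  intro v hv
  rw [Submodule.mem_bot] at hv
  rw [hv, Matrix.mulVec_zero]
  exact Submodule.zero_mem _

theorem inv_top (A : Matrix (Fin n) (Fin n) K) : Inv A (⊤ : Submodule K (Fin n → K)) :=
  fun _ _ => Submodule.mem_top

/-- the orthogonal complement of an invariant subspace is invariant under the adjoint inverse -/
theorem Inv.uperp (hK : Fintype.card K = q ^ 2) {A A' : Matrix (Fin n) (Fin n) K}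
    {L : Submodule K (Fin n → K)} (hst : st q A = A') (h' : Inv A' L) : Inv A (uperp q L) := by
  intro x hx w hw
  rw [hf_st hK, hst]
  exact hx _ (h' w hw)

theorem uperp_sup (hK : Fintype.card K = q ^ 2) (S T : Submodule K (Fin n → K)) :
    uperp q (S ⊔ T) = uperp q S ⊓ uperp q T := by
  apply le_antisymm
  · exact le_inf (uperp_anti le_sup_left) (uperp_anti le_sup_right)
  · intro x hx w hw
    obtain ⟨s, hs, t, ht, rfl⟩ := Submodule.mem_sup.mp hw
    rw [hf_add_right hK, hx.1 s hs, hx.2 t ht, add_zero]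

theorem uperp_bot (hK : Fintype.card K = q ^ 2) :
    uperp q (⊥ : Submodule K (Fin n → K)) = ⊤ := by
  rw [eq_top_iff]
  intro x _ w hw
  rw [Submodule.mem_bot] at hw
  rw [hw, hf_zero_right hK]

theorem le_uperp_symm (hK : Fintype.card K = q ^ 2) {S T : Submodule K (Fin n → K)}
    (h : S ≤ uperp q T) : T ≤ uperp q S := by
  intro t ht s hs
  exact hf_eq_zero_swap hK (h hs t ht)

/-- minimal nonzero invariant subspaces -/
def IsMinInv (A : Matrix (Fin n) (Fin n) K) (L : Submodule K (Fin n → K)) : Prop :=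
  L ≠ ⊥ ∧ Inv A L ∧ ∀ L' : Submodule K (Fin n → K), Inv A L' → L' ≤ L → L' = ⊥ ∨ L' = L

theorem exists_minInv_aux (A : Matrix (Fin n) (Fin n) K) :
    ∀ (d : ℕ) (W : Submodule K (Fin n → K)), Module.finrank K W = d → Inv A W → W ≠ ⊥ →
      ∃ L : Submodule K (Fin n → K), L ≤ W ∧ IsMinInv A L := by
  intro d
  induction d using Nat.strong_induction_on with
  | _ d ih =>
    intro W hd hW hW0
    by_cases hmin : ∀ L' : Submodule K (Fin n → K), Inv A L' → L' ≤ W → L' = ⊥ ∨ L' = W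
    · exact ⟨W, le_refl W, hW0, hW, hmin⟩
    · push Not at hmin
      obtain ⟨L', hL', hle, hne0, hneW⟩ := hmin
      have hlt : Module.finrank K L' < d := by
        rw [← hd]
        exact Submodule.finrank_lt_finrank_of_lt (lt_of_le_of_ne hle hneW)
      obtain ⟨L, hLle, hL⟩ := ih _ hlt L' rfl hL' hne0
      exact ⟨L, hLle.trans hle, hL⟩

theorem exists_minInv (A : Matrix (Fin n) (Fin n) K) (W : Submodule K (Fin n → K))
    (hW : Inv A W) (hW0 : W ≠ ⊥) : ∃ L : Submodule K (Fin n → K), L ≤ W ∧ IsMinInv A L :=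
  exists_minInv_aux A _ W rfl hW hW0

theorem unondeg_of_disjoint {L : Submodule K (Fin n → K)} (h : L ⊓ uperp q L = ⊥) :
    UNondeg q L := by
  intro u hu hu'
  have : u ∈ L ⊓ uperp q L := ⟨hu, fun w hw => hu' w hw⟩
  rw [h, Submodule.mem_bot] at this
  exact this

/-- the decomposition used for the normal idempotent -/
theorem exists_pair (hK : Fintype.card K = q ^ 2) (hn : 1 ≤ n) {A A' : Matrix (Fin n) (Fin n) K}
    (hst : st q A = A') {k : ℕ} (hA' : A' = A ^ k)
    (hss : ∀ W : Submodule K (Fin n → K), Inv A W →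
      ∃ W' : Submodule K (Fin n → K), Inv A W' ∧ IsCompl W W') :
    ∃ L M : Submodule K (Fin n → K), IsMinInv A L ∧ Inv A M ∧ IsCompl L M ∧
      (M = uperp q L ∨ (L ≤ uperp q L ∧ uperp q M ≤ M)) := by
  have hinvU : ∀ {L : Submodule K (Fin n → K)}, Inv A L → Inv A (uperp q L) := by
    intro L hL
    exact Inv.uperp hK hst (hA' ▸ hL.pow k)
  have htop : (⊤ : Submodule K (Fin n → K)) ≠ ⊥ := by
    haveI : Nonempty (Fin n) := ⟨⟨0, hn⟩⟩
    haveI : Nontrivial (Fin n → K) := inferInstance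
    exact top_ne_bot
  obtain ⟨L₁, -, hL₁⟩ := exists_minInv A ⊤ (inv_top A) htop
  by_cases h1 : L₁ ⊓ uperp q L₁ = ⊥
  · exact ⟨L₁, uperp q L₁, hL₁, hinvU hL₁.2.1, unondeg_isCompl hK (unondeg_of_disjoint h1),
      Or.inl rfl⟩
  · have hL₁iso : L₁ ≤ uperp q L₁ := by
      rcases hL₁.2.2 _ (hL₁.2.1.inf (hinvU hL₁.2.1)) inf_le_left with h | h
      · exact absurd h h1
      · exact inf_eq_left.mp h
    obtain ⟨W, hWinv, hWc⟩ := hss _ (hinvU hL₁.2.1)
    have hW0 : W ≠ ⊥ := by
      intro hW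
      rw [hW] at hWc
      have h2 : uperp q L₁ = ⊤ := by
        have := hWc.sup_eq_top
        rwa [sup_bot_eq] at this
      have h3 : L₁ = ⊥ := by
        rw [← uperp_uperp hK L₁, h2]
        rw [eq_bot_iff]
        intro x hx
        rw [Submodule.mem_bot]
        exact hf_nondeg hK x (fun v => hx v Submodule.mem_top)
      exact hL₁.1 h3
    obtain ⟨L₂, hL₂W, hL₂⟩ := exists_minInv A W hWinv hW0
    have hd2 : L₂ ⊓ uperp q L₁ = ⊥ := by
      rw [eq_bot_iff]
      calc L₂ ⊓ uperp q L₁ ≤ W ⊓ uperp q L₁ := inf_le_inf_right _ hL₂W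
        _ = uperp q L₁ ⊓ W := inf_comm _ _
        _ = ⊥ := hWc.inf_eq_bot
    by_cases h2 : L₂ ⊓ uperp q L₂ = ⊥
    · exact ⟨L₂, uperp q L₂, hL₂, hinvU hL₂.2.1, unondeg_isCompl hK (unondeg_of_disjoint h2),
        Or.inl rfl⟩
    · have hL₂iso : L₂ ≤ uperp q L₂ := by
        rcases hL₂.2.2 _ (hL₂.2.1.inf (hinvU hL₂.2.1)) inf_le_left with h | h
        · exact absurd h h2
        · exact inf_eq_left.mp h
      refine ⟨L₁, uperp q L₂, hL₁, hinvU hL₂.2.1, ⟨?_, ?_⟩, Or.inr ⟨hL₁iso, ?_⟩⟩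
      · rw [disjoint_iff]
        rcases hL₁.2.2 _ (hL₁.2.1.inf (hinvU hL₂.2.1)) inf_le_left with h | h
        · exact h
        · exfalso
          have h3 : L₁ ≤ uperp q L₂ := inf_eq_left.mp h
          have h4 : L₂ ≤ uperp q L₁ := le_uperp_symm hK h3
          have h5 : L₂ = ⊥ := by rw [← hd2]; exact (inf_eq_left.mpr h4).symm
          exact hL₂.1 h5
      · rw [codisjoint_iff]
        have h3 : uperp q (L₁ ⊔ uperp q L₂) = ⊥ := by
          rw [uperp_sup hK, uperp_uperp hK, inf_comm]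
          exact hd2
        rw [← uperp_uperp hK (L₁ ⊔ uperp q L₂), h3, uperp_bot hK]
      · rw [uperp_uperp hK]
        exact hL₂iso

end Cfsg.Agent.Lib.Helper24.UDet
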