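import Mathlib
import Cfsg.Agent.Lib.Helper24.UDetB

set_option autoImplicit false
set_option linter.style.haveILetI false
set_option linter.unusedSimpArgs false
set_option linter.unusedSectionVars false

namespace Cfsg.Agent.Lib.Helper24.UDet

open Matrix Cfsg
open Cfsg.Agent.Lib.Helper27.Unitary
open Cfsg.Agent.Lib.Helper24.GUConj

variable {n : ℕ} {K : Type*} [Field K] [Fintype K] {q : ℕ}

/-- the matrix of the projection onto `L` along `M` -/
theorem exists_proj {L M : Submodule K (Fin n → K)} (h : IsCompl L M) :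
    ∃ e : Matrix (Fin n) (Fin n) K, (∀ v, e *ᵥ v ∈ L) ∧ (∀ v ∈ L, e *ᵥ v = v) ∧
      (∀ v ∈ M, e *ᵥ v = 0) ∧ (∀ v, v - e *ᵥ v ∈ M) := by
  obtain ⟨π, hπ⟩ : ∃ π : (Fin n → K) →ₗ[K] (Fin n → K),
      π = L.subtype ∘ₗ Submodule.projectionOnto L M h := ⟨_, rfl⟩
  have hx : ∀ v, LinearMap.toMatrix' π *ᵥ v = π v := fun v => LinearMap.toMatrix'_mulVec π v
  have h1 : ∀ v ∈ L, π v = v := by
    intro v hv
    rw [hπ, LinearMap.comp_apply, Submodule.subtype_apply]
    have := Submodule.projectionOnto_apply_left h ⟨v, hv⟩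
    rw [this]
  have h2 : ∀ v ∈ M, π v = 0 := by
    intro v hv
    rw [hπ, LinearMap.comp_apply, Submodule.subtype_apply]
    have := (Submodule.projectionOnto_apply_eq_zero_iff h).mpr hv
    rw [this]
    rfl
  have h0 : ∀ v, π v ∈ L := by
    intro v
    rw [hπ, LinearMap.comp_apply, Submodule.subtype_apply]
    exact Subtype.property _
  refine ⟨LinearMap.toMatrix' π, ?_, ?_, ?_, ?_⟩
  · intro v; rw [hx]; exact h0 v
  · intro v hv; rw [hx]; exact h1 v hv
  · intro v hv; rw [hx]; exact h2 v hv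
  · intro v
    rw [hx]
    have hv : v ∈ L ⊔ M := by rw [h.sup_eq_top]; trivial
    obtain ⟨l, hl, m, hm, rfl⟩ := Submodule.mem_sup.mp hv
    rw [map_add, h1 l hl, h2 m hm, add_zero, add_sub_cancel_left]
    exact hm

/-- properties of the projection matrix -/
theorem proj_props {L M : Submodule K (Fin n → K)} {e A : Matrix (Fin n) (Fin n) K}
    (h0 : ∀ v, e *ᵥ v ∈ L) (h1 : ∀ v ∈ L, e *ᵥ v = v) (h2 : ∀ v ∈ M, e *ᵥ v = 0)
    (h3 : ∀ v, v - e *ᵥ v ∈ M) (hL : Inv A L) (hM : Inv A M) :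
    e * e = e ∧ e * A = A * e := by
  constructor
  · rw [Matrix.ext_iff_mulVec]
    intro v
    rw [← Matrix.mulVec_mulVec]
    exact h1 _ (h0 v)
  · rw [Matrix.ext_iff_mulVec]
    intro v
    rw [← Matrix.mulVec_mulVec, ← Matrix.mulVec_mulVec]
    have hv : v = e *ᵥ v + (v - e *ᵥ v) := by abel
    have h4 : A *ᵥ v = A *ᵥ (e *ᵥ v) + A *ᵥ (v - e *ᵥ v) := by
      rw [← Matrix.mulVec_add, ← hv]
    rw [h4, Matrix.mulVec_add, h1 _ (hL _ (h0 v)), h2 _ (hM _ (h3 v)), add_zero]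

/-- Case A: orthogonal projection is self-adjoint -/
theorem proj_selfadj (hK : Fintype.card K = q ^ 2) {L : Submodule K (Fin n → K)}
    {e : Matrix (Fin n) (Fin n) K}
    (h0 : ∀ v, e *ᵥ v ∈ L) (h3 : ∀ v, v - e *ᵥ v ∈ uperp q L) : st q e = e := by
  apply st_eq_of_hf hK
  intro u v
  have hu : u = e *ᵥ u + (u - e *ᵥ u) := by abel
  have hv : v = e *ᵥ v + (v - e *ᵥ v) := by abel
  have e1 : hermForm n K q (e *ᵥ u) v = hermForm n K q (e *ᵥ u) (e *ᵥ v) := by
    nth_rewrite 1 [hv]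
    rw [hf_add_right hK, (mem_uperp' hK).mp (h3 v) _ (h0 u), add_zero]
  have e2 : hermForm n K q u (e *ᵥ v) = hermForm n K q (e *ᵥ u) (e *ᵥ v) := by
    nth_rewrite 1 [hu]
    rw [hf_add_left, h3 u _ (h0 v), add_zero]
  rw [e1, e2]

/-- Case B: the projection and its adjoint annihilate each other -/
theorem proj_isotropic (hK : Fintype.card K = q ^ 2) {L M : Submodule K (Fin n → K)}
    {e : Matrix (Fin n) (Fin n) K}
    (h0 : ∀ v, e *ᵥ v ∈ L) (h2 : ∀ v ∈ M, e *ᵥ v = 0)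
    (hL : L ≤ uperp q L) (hM : uperp q M ≤ M) : e * st q e = 0 ∧ st q e * e = 0 := by
  constructor
  · rw [Matrix.ext_iff_mulVec]
    intro v
    rw [← Matrix.mulVec_mulVec, Matrix.zero_mulVec]
    apply h2
    apply hM
    rw [mem_uperp' hK]
    intro m hm
    rw [← hf_st hK, h2 m hm, hf_zero_left]
  · rw [Matrix.ext_iff_mulVec]
    intro v
    rw [← Matrix.mulVec_mulVec, Matrix.zero_mulVec]
    apply hf_nondeg' hK
    intro u
    rw [← hf_st hK]
    exact hL (h0 u) _ (h0 v)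

end Cfsg.Agent.Lib.Helper24.UDet
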