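import Mathlib
import Cfsg.Agent.Lib.Helper24.UDetC

set_option autoImplicit false
set_option linter.style.haveILetI false
set_option linter.unusedSimpArgs false
set_option linter.unusedSectionVars false

namespace Cfsg.Agent.Lib.Helper24.UDet

open Matrix Cfsg Polynomial Module
open Cfsg.Agent.Lib.Helper27.Unitary
open Cfsg.Agent.Lib.Helper24.GUConj

/-- for an endomorphism of a space over a finite field without proper invariant subspaces, every
scalar is the determinant of a polynomial in it -/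
theorem exists_poly_det {F : Type*} [Field F] [Finite F] {V : Type*} [AddCommGroup V]
    [Module F V] [Module.Finite F V] (a : Module.End F V)
    (hs : IsSimpleModule F[X] (AEval' a)) (lam : F) :
    ∃ p : F[X], LinearMap.det (aeval a p) = lam := by
  haveI : Finite V := Module.finite_of_finite F
  haveI : Finite (AEval' a) := Finite.of_equiv V (AEval'.of a).toEquiv
  obtain ⟨I, hI, ⟨e⟩⟩ := isSimpleModule_iff_quot_maximal.mp hs
  letI := Ideal.Quotient.field I
  haveI : Finite (F[X] ⧸ I) := Finite.of_equiv (AEval' a) e.toEquiv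
  obtain ⟨u, hu⟩ := FiniteField.norm_surjective F (F[X] ⧸ I) lam
  obtain ⟨p, rfl⟩ := Ideal.Quotient.mk_surjective u
  refine ⟨p, ?_⟩
  obtain ⟨E, hE⟩ : ∃ E : V ≃ₗ[F] (F[X] ⧸ I), E = (AEval'.of a).trans (e.restrictScalars F) :=
    ⟨_, rfl⟩
  have h1 : aeval a p = (E.symm : (F[X] ⧸ I) →ₗ[F] V) ∘ₗ
      (Algebra.lmul F (F[X] ⧸ I) (Ideal.Quotient.mk I p)) ∘ₗ (E : V →ₗ[F] (F[X] ⧸ I)) := by
    apply LinearMap.ext
    intro z
    apply E.injective
    simp only [LinearMap.coe_comp, LinearEquiv.coe_coe, Function.comp_apply,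
      LinearEquiv.apply_symm_apply]
    rw [hE]
    show e (AEval'.of a (aeval a p z)) = (Ideal.Quotient.mk I p) * e (AEval'.of a z)
    have h2 : AEval'.of a (aeval a p z) = p • AEval'.of a z := AEval.of_aeval_smul a p z
    rw [h2, map_smul, Algebra.smul_def]
    rfl
  have h2 := LinearMap.det_conj (Algebra.lmul F (F[X] ⧸ I) (Ideal.Quotient.mk I p)) E.symm
  rw [LinearEquiv.symm_symm] at h2
  rw [h1, h2, ← Algebra.norm_apply, hu]

variable {n : ℕ} {K : Type*} [Field K] [Fintype K] {q : ℕ}

/-- the restriction of a matrix to an invariant subspace -/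
noncomputable def resEnd (A : Matrix (Fin n) (Fin n) K) (L : Submodule K (Fin n → K))
    (hL : Inv A L) : Module.End K L :=
  (Matrix.toLin' A).restrict (fun v hv => by rw [Matrix.toLin'_apply]; exact hL v hv)

theorem resEnd_apply (A : Matrix (Fin n) (Fin n) K) (L : Submodule K (Fin n → K))
    (hL : Inv A L) (v : L) : ((resEnd A L hL v : L) : Fin n → K) = A *ᵥ (v : Fin n → K) := by
  unfold resEnd
  rw [LinearMap.coe_restrict_apply, Matrix.toLin'_apply]

/-- compatibility of polynomial evaluation with restriction -/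
theorem aeval_resEnd (A : Matrix (Fin n) (Fin n) K) (L : Submodule K (Fin n → K))
    (hL : Inv A L) (p : K[X]) :
    ∀ v : L, ((aeval (resEnd A L hL) p v : L) : Fin n → K) = (aeval A p) *ᵥ (v : Fin n → K) := by
  induction p using Polynomial.induction_on with
  | C c =>
    intro v
    rw [aeval_C, aeval_C, Module.algebraMap_end_apply, Submodule.coe_smul,
      Matrix.algebraMap_eq_diagonal]
    ext i
    rw [Matrix.mulVec_diagonal]
    rfl
  | add p r hp hr =>
    intro v
    rw [map_add, map_add, LinearMap.add_apply, Submodule.coe_add, hp, hr, Matrix.add_mulVec]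
  | monomial k c ih =>
    intro v
    have e1 : aeval (resEnd A L hL) (C c * X ^ (k + 1)) =
        aeval (resEnd A L hL) (C c * X ^ k) * resEnd A L hL := by
      rw [pow_succ, ← mul_assoc, map_mul, aeval_X]
    have e2 : aeval A (C c * X ^ (k + 1)) = aeval A (C c * X ^ k) * A := by
      rw [pow_succ, ← mul_assoc, map_mul, aeval_X]
    rw [e1, e2, Module.End.mul_apply, ih, resEnd_apply, Matrix.mulVec_mulVec]

/-- a minimal invariant subspace gives a simple module -/
theorem simple_of_minInv {A : Matrix (Fin n) (Fin n) K} {L : Submodule K (Fin n → K)}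
    (hL : IsMinInv A L) : IsSimpleModule K[X] (AEval' (resEnd A L hL.2.1)) := by
  obtain ⟨a, ha⟩ : ∃ a : Module.End K L, a = resEnd A L hL.2.1 := ⟨_, rfl⟩
  rw [← ha]
  have hnt : Nontrivial (AEval' a) := by
    obtain ⟨v, hv, hv0⟩ := (Submodule.ne_bot_iff L).mp hL.1
    refine ⟨⟨AEval'.of a ⟨v, hv⟩, 0, ?_⟩⟩
    intro h
    apply hv0
    have := (AEval'.of a).injective (h.trans (map_zero _).symm)
    exact congrArg Subtype.val this
  refine (isSimpleModule_iff _ _).mpr ⟨fun m => ?_⟩
  obtain ⟨L', hL'⟩ : ∃ L' : Submodule K (Fin n → K), L' = Submodule.map L.subtype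
      (Submodule.comap (AEval'.of a : L →ₗ[K] AEval' a) (m.restrictScalars K)) := ⟨_, rfl⟩
  have hmem : ∀ l : L, (l : Fin n → K) ∈ L' ↔ AEval'.of a l ∈ m := by
    intro l
    rw [hL']
    constructor
    · rintro ⟨l', hl', hll'⟩
      have : l' = l := Subtype.ext hll'
      rw [← this]
      exact hl'
    · intro h
      exact ⟨l, h, rfl⟩
  have hle : L' ≤ L := by
    rw [hL']
    rintro _ ⟨l, -, rfl⟩
    exact l.2
  have hinv : Inv A L' := by
    intro v hv
    have hvL : v ∈ L := hle hv
    have h1 := (hmem ⟨v, hvL⟩).mp hv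
    have h2 : A *ᵥ v = ((a ⟨v, hvL⟩ : L) : Fin n → K) := by
      rw [ha, resEnd_apply]
    rw [h2, hmem, ← AEval'.X_smul_of]
    exact m.smul_mem _ h1
  rcases hL.2.2 L' hinv hle with h | h
  · left
    rw [eq_bot_iff]
    intro x hx
    obtain ⟨l, rfl⟩ := (AEval'.of a).surjective x
    have := (hmem l).mpr hx
    rw [h, Submodule.mem_bot] at this
    have hl : l = 0 := Subtype.ext this
    rw [hl, map_zero]
    exact Submodule.zero_mem _
  · right
    rw [eq_top_iff]
    intro x _
    obtain ⟨l, rfl⟩ := (AEval'.of a).surjective x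
    apply (hmem l).mp
    rw [h]
    exact l.2

/-- the determinant of a map acting on `L` through `c` and trivially on `M` -/
theorem det_of_compl {L M : Submodule K (Fin n → K)} (h : IsCompl L M)
    {e t : Matrix (Fin n) (Fin n) K} (h1 : ∀ v ∈ L, e *ᵥ v = v) (h2 : ∀ v ∈ M, e *ᵥ v = 0)
    (c : Module.End K L) (hc : ∀ v : L, ((c v : L) : Fin n → K) = t *ᵥ (v : Fin n → K)) :
    (1 + (t - 1) * e).det = LinearMap.det c := by
  obtain ⟨P, hP⟩ : ∃ P : (L × M) ≃ₗ[K] (Fin n → K), P = Submodule.prodEquivOfIsCompl L M h :=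
    ⟨_, rfl⟩
  have hPa : ∀ (l : L) (m : M), P (l, m) = (l : Fin n → K) + (m : Fin n → K) := by
    intro l m
    rw [hP, Submodule.coe_prodEquivOfIsCompl']
  have h3 : Matrix.toLin' (1 + (t - 1) * e) = (P : (L × M) →ₗ[K] (Fin n → K)) ∘ₗ
      (LinearMap.prodMap c LinearMap.id) ∘ₗ (P.symm : (Fin n → K) →ₗ[K] (L × M)) := by
    apply LinearMap.ext
    intro v
    obtain ⟨⟨l, m⟩, rfl⟩ := P.surjective v
    simp only [LinearMap.coe_comp, LinearEquiv.coe_coe, Function.comp_apply,
      LinearEquiv.symm_apply_apply, LinearMap.prodMap_apply, LinearMap.id_apply]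
    rw [hPa, hPa, Matrix.toLin'_apply, Matrix.add_mulVec, Matrix.one_mulVec,
      ← Matrix.mulVec_mulVec, Matrix.mulVec_add, h1 _ l.2, h2 _ m.2, add_zero,
      Matrix.sub_mulVec, Matrix.one_mulVec, hc]
    abel
  rw [← LinearMap.det_toLin', h3, LinearMap.det_conj, LinearMap.det_prodMap, LinearMap.det_id,
    mul_one]

/-- every scalar is the determinant of a centralizing element supported on a minimal invariant
subspace -/
theorem exists_det_on_min {A : Matrix (Fin n) (Fin n) K} {L M : Submodule K (Fin n → K)}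
    (hL : IsMinInv A L) (h : IsCompl L M)
    {e : Matrix (Fin n) (Fin n) K} (h1 : ∀ v ∈ L, e *ᵥ v = v) (h2 : ∀ v ∈ M, e *ᵥ v = 0)
    (mu : K) : ∃ p : K[X], (1 + (aeval A p - 1) * e).det = mu := by
  obtain ⟨p, hp⟩ := exists_poly_det (resEnd A L hL.2.1) (simple_of_minInv hL) mu
  refine ⟨p, ?_⟩
  rw [det_of_compl h h1 h2 (aeval (resEnd A L hL.2.1) p) (aeval_resEnd A L hL.2.1 p), hp]

end Cfsg.Agent.Lib.Helper24.UDet
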