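import Mathlib
import Cfsg.Agent.Lib.Helper24.UDetD
import Cfsg.Agent.Lib.Helper24.NormSurjD
import Cfsg.Agent.Lib.Helper5.SSClassE

set_option autoImplicit false
set_option linter.style.haveILetI false
set_option linter.unusedSimpArgs false
set_option linter.unusedSectionVars false

namespace Cfsg.Agent.Lib.Helper24.UDet

open Matrix Cfsg Polynomial Module
open Cfsg.Agent.Lib.Helper27.Unitary
open Cfsg.Agent.Lib.Helper24.GUConj

theorem commute_aeval {F R : Type*} [Field F] [Ring R] [Algebra F R] {A x : R}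
    (h : Commute A x) (p : F[X]) : Commute (aeval A p) x := by
  rw [Polynomial.aeval_eq_sum_range]
  apply Commute.sum_left
  intro i _
  exact (h.pow_left i).smul_left _

theorem comm4 {R : Type*} [Ring R] {t e t' e' : R} (h1 : Commute t t') (h2 : Commute t e')
    (h3 : Commute e t') (h4 : Commute e e') :
    Commute (1 + (t - 1) * e) (1 + e' * (t' - 1)) := by
  have a1 : Commute (t - 1) e' := h2.sub_left (Commute.one_left _)
  have a2 : Commute (t - 1) (t' - 1) :=
    (h1.sub_left (Commute.one_left _)).sub_right (Commute.one_right _)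
  have a3 : Commute e (t' - 1) := h3.sub_right (Commute.one_right _)
  have b1 : Commute (t - 1) (1 + e' * (t' - 1)) :=
    (Commute.one_right _).add_right (a1.mul_right a2)
  have b2 : Commute e (1 + e' * (t' - 1)) :=
    (Commute.one_right _).add_right (h4.mul_right a3)
  exact (Commute.one_left _).add_left (b1.mul_left b2)

variable {n : ℕ} {K : Type*} [Field K] [Fintype K] {q : ℕ}

/-- invariant subspaces of matrices of order prime to the characteristic have invariant
complements -/
theorem exists_inv_compl (p : ℕ) [CharP K p] {A : Matrix (Fin n) (Fin n) K} {N : ℕ}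
    (hN : A ^ N = 1) (hpN : ¬ p ∣ N) (W : Submodule K (Fin n → K)) (hW : Inv A W) :
    ∃ W' : Submodule K (Fin n → K), Inv A W' ∧ IsCompl W W' := by
  have hfN : (Matrix.toLin' A) ^ N = 1 := by
    rw [← Matrix.toLin'_pow, hN, Matrix.toLin'_one]
    rfl
  have hss := Cfsg.Agent.Lib.Helper5.SSClass.isSemisimple_of_pow_eq_one (p := p)
    (Matrix.toLin' A) N hfN hpN
  rw [Module.End.isSemisimple_iff] at hss
  have hW' : W ∈ Module.End.invtSubmodule (Matrix.toLin' A) := by
    rw [Module.End.mem_invtSubmodule_iff_forall_mem_of_mem]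
    intro v hv
    rw [Matrix.toLin'_apply]
    exact hW v hv
  obtain ⟨W', hW'inv, hc⟩ := hss W hW'
  refine ⟨W', ?_, hc⟩
  rw [Module.End.mem_invtSubmodule_iff_forall_mem_of_mem] at hW'inv
  intro v hv
  have := hW'inv v hv
  rwa [Matrix.toLin'_apply] at this

/-- the determinant maps the unitary centralizer of a unitary matrix of order prime to the
characteristic onto the elements of norm one -/
theorem exists_unitary_det (hK : Fintype.card K = q ^ 2) (hn : 1 ≤ n) (p : ℕ) [CharP K p]
    {A : Matrix (Fin n) (Fin n) K} (hA : st q A * A = 1) {N : ℕ} (hN : A ^ N = 1)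
    (hpN : ¬ p ∣ N) (lam : K) (hlam : lam * lam ^ q = 1) :
    ∃ y : Matrix (Fin n) (Fin n) K, st q y * y = 1 ∧ y * A = A * y ∧ y.det = lam := by
  -- the adjoint of `A` is a power of `A`
  have hN1 : 1 ≤ N := by
    rcases Nat.eq_zero_or_pos N with h | h
    · exact absurd (h ▸ dvd_zero p) hpN
    · exact h
  obtain ⟨k, hk⟩ : ∃ k, N = k + 1 := ⟨N - 1, by omega⟩
  have hAk : A * A ^ k = 1 := by rw [← pow_succ', ← hk, hN]
  have hkA : A ^ k * A = 1 := by rw [← pow_succ, ← hk, hN]
  have hst : st q A = A ^ k := by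
    calc st q A = st q A * (A * A ^ k) := by rw [hAk, mul_one]
      _ = (st q A * A) * A ^ k := by rw [mul_assoc]
      _ = A ^ k := by rw [hA, one_mul]
  have hstk : st q (A ^ k) = A := by rw [← hst, st_st hK]
  -- the decomposition
  obtain ⟨L, M, hL, hM, hLM, hcase⟩ := exists_pair hK hn hst rfl
    (fun W hW => exists_inv_compl p hN hpN W hW)
  obtain ⟨e, h0, h1, h2, h3⟩ := exists_proj hLM
  obtain ⟨hee, heA⟩ := proj_props h0 h1 h2 h3 hL.2.1 hM
  -- Hilbert 90
  obtain ⟨ζ, hζ⟩ := exists_not_fixed hK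
  have hζ0 : ζ - ζ ^ q ≠ 0 := sub_ne_zero.mpr (Ne.symm hζ)
  have hω : IsUnit (ζ - Cfsg.Agent.Lib.Helper27.Unitary.conjHom hK ζ) := by rw [Cfsg.Agent.Lib.Helper27.Unitary.conjHom_apply]; exact hζ0.isUnit
  have hlam' : lam * Cfsg.Agent.Lib.Helper27.Unitary.conjHom hK lam = 1 := by rw [Cfsg.Agent.Lib.Helper27.Unitary.conjHom_apply]; exact hlam
  obtain ⟨mu, hmuU, hmu⟩ := Cfsg.Agent.Lib.Helper24.NormSurj.hilbert90 (Cfsg.Agent.Lib.Helper27.Unitary.conjHom hK)
    (Cfsg.Agent.Lib.Helper27.Unitary.conjHom_conjHom hK) ζ hω lam hlam'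
  rw [Cfsg.Agent.Lib.Helper27.Unitary.conjHom_apply] at hmu
  have hmu0 : mu ≠ 0 := hmuU.ne_zero
  -- the normal element
  obtain ⟨P, hP⟩ := exists_det_on_min hL hLM h1 h2 mu
  obtain ⟨t, ht⟩ : ∃ t, t = aeval A P := ⟨_, rfl⟩
  rw [← ht] at hP
  obtain ⟨w, hw⟩ : ∃ w, w = 1 + (t - 1) * e := ⟨_, rfl⟩
  rw [← hw] at hP
  have hwdet : IsUnit w.det := by rw [hP]; exact hmu0.isUnit
  have hww' : w * w⁻¹ = 1 := Matrix.mul_nonsing_inv w hwdet
  have hw'w : w⁻¹ * w = 1 := Matrix.nonsing_inv_mul w hwdet
  -- commutation relations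
  have cAe : Commute A e := heA.symm
  have cAse : Commute A (st q e) := by
    have h5 : st q e * A ^ k = A ^ k * st q e := by
      rw [← hst, ← st_mul hK, ← st_mul hK, heA]
    show A * st q e = st q e * A
    calc A * st q e = A * st q e * (A ^ k * A) := by rw [hkA, mul_one]
      _ = A * (st q e * A ^ k) * A := by simp only [mul_assoc]
      _ = A * (A ^ k * st q e) * A := by rw [h5]
      _ = (A * A ^ k) * st q e * A := by simp only [mul_assoc]
      _ = st q e * A := by rw [hAk, one_mul]
  have cte : Commute t e := by rw [ht]; exact commute_aeval cAe P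
  have ctse : Commute t (st q e) := by rw [ht]; exact commute_aeval cAse P
  have ctAk : Commute t (A ^ k) := by
    rw [ht]; exact commute_aeval (Commute.pow_right (Commute.refl A) k) P
  have cAst : Commute A (st q t) := by
    show A * st q t = st q t * A
    rw [← hstk, ← st_mul hK, ← st_mul hK, ctAk.eq]
  have ctst : Commute t (st q t) := by rw [ht]; rw [ht] at cAst; exact commute_aeval cAst P
  have cest : Commute e (st q t) := by
    show e * st q t = st q t * e
    have := congrArg (st q) ctse.eq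
    rw [st_mul hK, st_mul hK, st_st hK] at this
    exact this
  have cese : Commute e (st q e) := by
    rcases hcase with hc | ⟨hc1, hc2⟩
    · have : st q e = e := by
        apply proj_selfadj hK h0
        rw [← hc]
        exact h3
      rw [this]
    · obtain ⟨z1, z2⟩ := proj_isotropic hK h0 h2 hc1 hc2
      show e * st q e = st q e * e
      rw [z1, z2]
  have hstw : st q w = 1 + st q e * (st q t - 1) := by
    rw [hw, st_add hK, st_one hK, st_mul hK, st_sub hK, st_one hK]
  have hnorm : w * st q w = st q w * w := by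
    rw [hstw, hw]
    exact (comm4 ctst ctse cest cese).eq
  obtain ⟨hy1, hy2⟩ := unitary_of_normal hK hww' hnorm
  refine ⟨w * st q w⁻¹, hy1, ?_, ?_⟩
  · -- commutation with `A`
    have cwA : Commute w A := by
      rw [hw]
      have c1 : Commute t A := by rw [ht]; exact commute_aeval (Commute.refl A) P
      exact (Commute.one_left _).add_left
        ((c1.sub_left (Commute.one_left _)).mul_left cAe.symm)
    have cwAk : w * A ^ k = A ^ k * w := (cwA.pow_right k).eq
    have cw'Ak : w⁻¹ * A ^ k = A ^ k * w⁻¹ := by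
      calc w⁻¹ * A ^ k = w⁻¹ * A ^ k * (w * w⁻¹) := by rw [hww', mul_one]
        _ = w⁻¹ * (A ^ k * w) * w⁻¹ := by simp only [mul_assoc]
        _ = w⁻¹ * (w * A ^ k) * w⁻¹ := by rw [cwAk]
        _ = (w⁻¹ * w) * A ^ k * w⁻¹ := by simp only [mul_assoc]
        _ = A ^ k * w⁻¹ := by rw [hw'w, one_mul]
    have csw'A : st q w⁻¹ * A = A * st q w⁻¹ := by
      have := congrArg (st q) cw'Ak
      rw [st_mul hK, st_mul hK, hstk] at this
      exact this.symm
    rw [mul_assoc, csw'A, ← mul_assoc, cwA.eq, mul_assoc]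
  · rw [hy2, hP]
    have hdw' : (w⁻¹).det = mu⁻¹ := by
      have := congrArg Matrix.det hww'
      rw [Matrix.det_mul, Matrix.det_one, hP] at this
      exact eq_inv_of_mul_eq_one_right this
    rw [hdw', inv_pow]
    have hmuq : mu ^ q ≠ 0 := pow_ne_zero q hmu0
    field_simp
    rw [mul_comm]
    exact hmu

end Cfsg.Agent.Lib.Helper24.UDet
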