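import Mathlib
import Cfsg.Agent.Lib.Helper24.PalB
import Cfsg.Agent.Lib.Helper24.UDetE
import Cfsg.Agent.Lib.Helper24.SpConjH
import Cfsg.Agent.Lib.Helper5.SSRealB

set_option autoImplicit false
set_option linter.style.haveILetI false
set_option linter.unusedSimpArgs false
set_option linter.unusedSectionVars false

namespace Cfsg.Agent.Lib.Helper24.Pal

open Polynomial Matrix
open Cfsg.Agent.Lib.Helper24.UDet

variable {F : Type*} [Field F] [Fintype F]

/-- a matrix of order prime to `p` with irreducible characteristic polynomial has no proper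
invariant subspaces -/
theorem inv_trivial_of_irreducible {d : ℕ} (p : ℕ) [CharP F p] {P : Matrix (Fin d) (Fin d) F}
    {m : ℕ} (hP : P ^ m = 1) (hm : ¬ p ∣ m) (hirr : Irreducible P.charpoly)
    (W : Submodule F (Fin d → F)) (hW : Inv P W) : W = ⊥ ∨ W = ⊤ := by
  obtain ⟨W', hW', hc⟩ := exists_inv_compl p hP hm W hW
  obtain ⟨E, hE⟩ : ∃ E : (W × W') ≃ₗ[F] (Fin d → F), E = Submodule.prodEquivOfIsCompl W W' hc :=
    ⟨_, rfl⟩
  have hEa : ∀ (w : W) (w' : W'), E (w, w') = (w : Fin d → F) + (w' : Fin d → F) := by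
    intro w w'
    rw [hE, Submodule.coe_prodEquivOfIsCompl']
  have hconj : Matrix.toLin' P =
      E.conj (LinearMap.prodMap (resEnd P W hW) (resEnd P W' hW')) := by
    apply LinearMap.ext
    intro v
    obtain ⟨⟨w, w'⟩, rfl⟩ := E.surjective v
    rw [LinearEquiv.conj_apply]
    simp only [LinearMap.coe_comp, LinearEquiv.coe_coe, Function.comp_apply,
      LinearEquiv.symm_apply_apply, LinearMap.prodMap_apply]
    rw [hEa, hEa, Matrix.toLin'_apply, Matrix.mulVec_add, resEnd_apply, resEnd_apply]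
  have hcp : P.charpoly = (resEnd P W hW).charpoly * (resEnd P W' hW').charpoly := by
    rw [← Matrix.charpoly_toLin', hconj, LinearEquiv.charpoly_conj, LinearMap.charpoly_prodMap]
  rcases hirr.isUnit_or_isUnit hcp with h | h
  · left
    have h1 := Polynomial.natDegree_eq_zero_of_isUnit h
    rw [LinearMap.charpoly_natDegree] at h1
    exact Submodule.finrank_eq_zero.mp h1
  · right
    have h1 := Polynomial.natDegree_eq_zero_of_isUnit h
    rw [LinearMap.charpoly_natDegree] at h1
    have h2 : W' = ⊥ := Submodule.finrank_eq_zero.mp h1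
    have h3 := hc.sup_eq_top
    rw [h2, sup_bot_eq] at h3
    exact h3

/-- the characteristic polynomial of the inverse -/
theorem charpoly_of_inv {d : ℕ} {P Q : Matrix (Fin d) (Fin d) F} (hPQ : P * Q = 1) :
    Q.charpoly = C (P.charpoly.coeff 0)⁻¹ * P.charpoly.reverse := by
  have hinv : P⁻¹ = Q := Matrix.inv_eq_right_inv hPQ
  have hPu : IsUnit P := IsUnit.of_mul_eq_one Q hPQ
  rw [← hinv, Matrix.charpoly_inv P hPu, ← Matrix.reverse_charpoly, Ring.inverse_eq_inv',
    Matrix.det_eq_sign_charpoly_coeff, Fintype.card_fin, mul_inv, C_mul, ← inv_pow, C_pow]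
  have h1 : ((-1 : F[X]) ^ d) * (C ((-1 : F)⁻¹) ^ d * C (P.charpoly.coeff 0)⁻¹) =
      C (P.charpoly.coeff 0)⁻¹ := by
    have : (-1 : F)⁻¹ = -1 := by norm_num
    rw [this, C_neg, C_1, ← mul_assoc, ← mul_pow]
    norm_num
  rw [h1]

/-- an irreducible palindromic polynomial of degree at least two is symplectically realizable -/
theorem spReal_irr {p : ℕ} [CharP F p] (hp : p.Prime) {π : F[X]} (hmon : π.Monic)
    (hirr : Irreducible π) (hrev : π.reverse = π) (hdeg : 2 ≤ π.natDegree) : SpReal F p π := by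
  have h0 : π.coeff 0 = 1 := coeff_zero_of_pal hmon hrev
  obtain ⟨d, hd⟩ : ∃ d, π.natDegree = d := ⟨_, rfl⟩
  obtain ⟨P, m, hPc, hm, hPm⟩ := Cfsg.Agent.Lib.Helper5.SSClass.exists_matrix_of_monic hp
    d π hd hmon (by rw [h0]; exact one_ne_zero)
  have hm1 : 1 ≤ m := by
    rcases Nat.eq_zero_or_pos m with h | h
    · exact absurd (h ▸ dvd_zero p) hm
    · exact h
  obtain ⟨k, hk⟩ : ∃ k, m = k + 1 := ⟨m - 1, by omega⟩
  obtain ⟨Q, hQ⟩ : ∃ Q, Q = P ^ k := ⟨_, rfl⟩
  have hPQ : P * Q = 1 := by rw [hQ, ← pow_succ', ← hk, hPm]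
  have hQP : Q * P = 1 := by rw [hQ, ← pow_succ, ← hk, hPm]
  have hQc : Qᵀ.charpoly = P.charpoly := by
    rw [charpoly_transpose, charpoly_of_inv hPQ, hPc, h0, inv_one, C_1, one_mul, hrev]
  have hQm : Qᵀ ^ m = 1 := by
    rw [← transpose_pow, hQ, ← pow_mul, mul_comm, pow_mul, hPm, one_pow, transpose_one]
  obtain ⟨c, hcu, hc⟩ := Cfsg.Agent.Lib.Helper24.SpConj.exists_unit_conj (p := p) P Qᵀ hPm hm
    hQm hm hQc.symm
  have hinv : Pᵀ * c * P = c := by
    rw [mul_assoc, hc, ← mul_assoc, ← transpose_mul, hQP, transpose_one, one_mul]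
  have hirrP : Irreducible P.charpoly := by rw [hPc]; exact hirr
  -- the key step
  have key : ∀ c' : Matrix (Fin d) (Fin d) F, Pᵀ * c' * P = c' →
      c' - c'ᵀ ≠ 0 → SpReal F p π := by
    intro c' hc' hne
    have hc'T : Pᵀ * c'ᵀ * P = c'ᵀ := by
      have := congrArg transpose hc'
      rw [transpose_mul, transpose_mul, transpose_transpose, ← mul_assoc] at this
      exact this
    have ha : Pᵀ * (c' - c'ᵀ) * P = c' - c'ᵀ := by
      rw [Matrix.mul_sub, Matrix.sub_mul, hc', hc'T]
    have haP : (c' - c'ᵀ) * P = Qᵀ * (c' - c'ᵀ) := by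
      calc (c' - c'ᵀ) * P = (Qᵀ * Pᵀ) * (c' - c'ᵀ) * P := by
            rw [← transpose_mul, hPQ, transpose_one, Matrix.one_mul]
        _ = Qᵀ * (Pᵀ * (c' - c'ᵀ) * P) := by simp only [Matrix.mul_assoc]
        _ = Qᵀ * (c' - c'ᵀ) := by rw [ha]
    have hW : Inv P (LinearMap.ker (Matrix.toLin' (c' - c'ᵀ))) := by
      intro v hv
      rw [LinearMap.mem_ker, Matrix.toLin'_apply] at hv ⊢
      rw [Matrix.mulVec_mulVec, haP, ← Matrix.mulVec_mulVec, hv, Matrix.mulVec_zero]
    have hunit : IsUnit (c' - c'ᵀ) := by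
      rcases inv_trivial_of_irreducible p hPm hm hirrP _ hW with h | h
      · rw [LinearMap.ker_eq_bot] at h
        rw [← Matrix.mulVec_injective_iff_isUnit]
        intro v w hvw
        apply h
        rw [Matrix.toLin'_apply, Matrix.toLin'_apply]
        exact hvw
      · exfalso
        apply hne
        rw [LinearMap.ker_eq_top] at h
        have := congrArg LinearMap.toMatrix' h
        rw [LinearMap.toMatrix'_toLin'] at this
        rw [this]
        exact map_zero _
    exact ⟨Fin d, inferInstance, inferInstance, c', P, hunit, ha, hPc, m, hm, hPm⟩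
  by_cases h1 : c - cᵀ = 0
  · by_cases h2 : c * P - (c * P)ᵀ = 0
    · exfalso
      have e1 : cᵀ = c := (sub_eq_zero.mp h1).symm
      have e2 : c * P = Pᵀ * c := by
        have := sub_eq_zero.mp h2
        rw [transpose_mul, e1] at this
        exact this
      have e3 : c * (P * P) = c * 1 := by
        rw [Matrix.mul_one, ← Matrix.mul_assoc, e2, hinv]
      obtain ⟨ci, hci⟩ := hcu.exists_left_inv
      have e4 : P * P = 1 := by
        have := congrArg (fun x => ci * x) e3
        simp only [← Matrix.mul_assoc, hci, Matrix.one_mul] at this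
        exact this
      -- polynomial contradiction
      have hnd : ¬ π ∣ (X - C 1) * (X + C 1) := by
        intro hd
        rcases hirr.prime.dvd_or_dvd hd with h | h
        · have := Polynomial.natDegree_le_of_dvd h (X_sub_C_ne_zero 1)
          rw [natDegree_X_sub_C] at this
          omega
        · have := Polynomial.natDegree_le_of_dvd h (X_add_C_ne_zero 1)
          rw [natDegree_X_add_C] at this
          omega
      have hcop : IsCoprime π ((X - C 1) * (X + C 1)) := hirr.coprime_iff_not_dvd.mpr hnd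
      obtain ⟨u, v, huv⟩ := hcop
      have h5 := congrArg (aeval P) huv
      have h6 : aeval P π = 0 := by rw [← hPc]; exact Matrix.aeval_self_charpoly P
      have h7 : aeval P ((X - C 1) * (X + C 1) : F[X]) = 0 := by
        have : ((X - C 1) * (X + C 1) : F[X]) = X * X - 1 := by rw [C_1]; ring
        rw [this, map_sub, map_mul, aeval_X, map_one, e4, sub_self]
      rw [map_add, map_mul, map_mul, h6, h7, mul_zero, mul_zero, add_zero, map_one] at h5
      haveI : Nonempty (Fin d) := ⟨⟨0, by omega⟩⟩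
      exact zero_ne_one h5
    · exact key (c * P) (by rw [← Matrix.mul_assoc, hinv]) h2
  · exact key c hinv h1

end Cfsg.Agent.Lib.Helper24.Pal
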