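import Mathlib
import Cfsg.Agent.Lib.Helper24.PalB
import Cfsg.Agent.Lib.Helper27.SympCoord

set_option autoImplicit false
set_option linter.style.haveILetI false
set_option linter.unusedSimpArgs false
set_option linter.unusedSectionVars false

namespace Cfsg.Agent.Lib.Helper24.Pal

open Polynomial Matrix Cfsg
open Cfsg.Agent.Lib.Helper27.SympTransv

variable {F : Type*} [Field F]

/-- symplectic coordinates for an abstract nondegenerate alternating form -/
theorem exists_coord {V : Type*} [AddCommGroup V] [Module F V] [FiniteDimensional F V]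
    (B : LinearMap.BilinForm F V) (hA : B.IsAlt) (hN : ∀ x, (∀ y, B x y = 0) → x = 0) :
    ∃ (k : ℕ) (e : (Fin k ⊕ Fin k → F) ≃ₗ[F] V), ∀ x y, B (e x) (e y) = sympForm k F x y := by
  classical
  obtain ⟨m', k', b, r1, r2, r3, r4⟩ := Cfsg.Agent.S0752.result B hA
  have hk' : k' = 0 := by
    by_contra hne
    have hpos : 0 < k' := Nat.pos_of_ne_zero hne
    have h0 := b.ne_zero (Sum.inr ⟨0, hpos⟩)
    exact h0 (hN _ (r4 ⟨0, hpos⟩))
  subst hk'
  have hsw : ∀ x y, B y x = - B x y := by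
    intro x y
    have h := hA (x + y)
    simp only [map_add, LinearMap.add_apply, hA x, hA y] at h
    linear_combination h
  obtain ⟨b', hb'⟩ : ∃ b' : Module.Basis (Fin m' ⊕ Fin m') F V, b' =
    b.reindex ((Equiv.sumEmpty (Fin m' ⊕ Fin m') (Fin 0)).trans (Equiv.sumComm (Fin m') (Fin m')))
    := ⟨_, rfl⟩
  have hb'l : ∀ i, b' (Sum.inl i) = b (Sum.inl (Sum.inr i)) := by
    intro i
    rw [hb', Module.Basis.reindex_apply]
    rfl
  have hb'r : ∀ i, b' (Sum.inr i) = b (Sum.inl (Sum.inl i)) := by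
    intro i
    rw [hb', Module.Basis.reindex_apply]
    rfl
  obtain ⟨e, he⟩ : ∃ e : (Fin m' ⊕ Fin m' → F) ≃ₗ[F] V, e = b'.equivFun.symm := ⟨_, rfl⟩
  have hes : ∀ s, e (Pi.single s 1) = b' s := by
    intro s
    rw [he, Module.Basis.equivFun_symm_apply, Finset.sum_eq_single s]
    · rw [Pi.single_eq_same, one_smul]
    · intro t _ hts
      rw [Pi.single_eq_of_ne hts, zero_smul]
    · intro h
      exact absurd (Finset.mem_univ s) h
  refine ⟨m', e, ?_⟩
  have hBB : B.comp e.toLinearMap e.toLinearMap = sympB m' F := by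
    apply LinearMap.BilinForm.ext_basis (Pi.basisFun F (Fin m' ⊕ Fin m'))
    intro s t
    rw [Pi.basisFun_apply, Pi.basisFun_apply, LinearMap.BilinForm.comp_apply, sympB_apply]
    change B (e (Pi.single s 1)) (e (Pi.single t 1)) = _
    rw [hes, hes]
    rcases s with i | i <;> rcases t with j | j
    · rw [hb'l, hb'l, r3, sf_single_inl, Pi.single_apply, if_neg (by simp)]
    · rw [hb'l, hb'r, hsw, r1, sf_single_inr, Pi.single_apply]
      simp only [Sum.inl.injEq]
    · rw [hb'r, hb'l, r1, sf_single_inl, Pi.single_apply]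
      simp only [Sum.inr.injEq]
      by_cases h : i = j
      · rw [if_pos h, if_pos h.symm]
      · rw [if_neg h, if_neg (Ne.symm h)]
    · rw [hb'r, hb'r, r2, sf_single_inr, Pi.single_apply, if_neg (by simp), neg_zero]
  intro x y
  rw [← sympB_apply, ← hBB, LinearMap.BilinForm.comp_apply]
  rfl

/-- a symplectically realizable polynomial is the characteristic polynomial of an element of the
standard symplectic group -/
theorem exists_sp_of_spReal {p : ℕ} {f : F[X]} (h : SpReal F p f) :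
    ∃ (k : ℕ) (g : Matrix.symplecticGroup (Fin k) F),
      (g : Matrix (Fin k ⊕ Fin k) (Fin k ⊕ Fin k) F).charpoly = f ∧ f.natDegree = 2 * k ∧
      ∃ m, ¬ p ∣ m ∧ (g : Matrix (Fin k ⊕ Fin k) (Fin k ⊕ Fin k) F) ^ m = 1 := by
  classical
  obtain ⟨ι, _, _, c, P, hu, hinv, hf, m, hm, hPm⟩ := h
  obtain ⟨a, ha⟩ : ∃ a, a = c - cᵀ := ⟨_, rfl⟩
  rw [← ha] at hu hinv
  obtain ⟨B, hBdef⟩ : ∃ B : LinearMap.BilinForm F (ι → F), B = Matrix.toBilin' a := ⟨_, rfl⟩
  have hB : ∀ x y, B x y = x ⬝ᵥ a *ᵥ y := by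
    intro x y
    rw [hBdef]
    exact Matrix.toBilin'_apply' a x y
  have hA : B.IsAlt := by
    intro v
    rw [hB, ha, Matrix.sub_mulVec, dotProduct_sub]
    have : v ⬝ᵥ cᵀ *ᵥ v = v ⬝ᵥ c *ᵥ v := by
      rw [dotProduct_comm, Matrix.mulVec_transpose, ← Matrix.dotProduct_mulVec]
    rw [this, sub_self]
  have hN : ∀ x, (∀ y, B x y = 0) → x = 0 := by
    intro x hx
    have h1 : x ᵥ* a = 0 := by
      funext i
      have := hx (Pi.single i 1)
      rw [hB, Matrix.dotProduct_mulVec, dotProduct_single, mul_one] at this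
      exact this
    obtain ⟨ai, hai⟩ := hu.exists_right_inv
    have h2 : x = (x ᵥ* a) ᵥ* ai := by
      rw [Matrix.vecMul_vecMul, hai, Matrix.vecMul_one]
    rw [h2, h1, Matrix.zero_vecMul]
  have hBP : ∀ v w, B (P *ᵥ v) (P *ᵥ w) = B v w := by
    intro v w
    rw [hB, hB]
    have h1 : (P *ᵥ v) ⬝ᵥ a *ᵥ (P *ᵥ w) = v ⬝ᵥ Pᵀ *ᵥ (a *ᵥ (P *ᵥ w)) := by
      rw [Matrix.dotProduct_mulVec v, Matrix.vecMul_transpose]
    rw [h1, Matrix.mulVec_mulVec, Matrix.mulVec_mulVec, hinv]
  obtain ⟨k, e, he⟩ := exists_coord B hA hN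
  obtain ⟨L, hL⟩ : ∃ L : (Fin k ⊕ Fin k → F) →ₗ[F] (Fin k ⊕ Fin k → F),
      L = e.symm.conj (Matrix.toLin' P) := ⟨_, rfl⟩
  have hLx : ∀ x, L x = e.symm (P *ᵥ e x) := by
    intro x
    rw [hL, LinearEquiv.conj_apply]
    simp only [LinearMap.coe_comp, LinearEquiv.coe_coe, Function.comp_apply,
      LinearEquiv.symm_symm, Matrix.toLin'_apply]
  obtain ⟨A, hAdef⟩ : ∃ A : Matrix (Fin k ⊕ Fin k) (Fin k ⊕ Fin k) F, A = LinearMap.toMatrix' L :=
    ⟨_, rfl⟩
  have hAx : ∀ x, A *ᵥ x = L x := by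
    intro x
    rw [hAdef, LinearMap.toMatrix'_mulVec]
  have hAmem : A ∈ Matrix.symplecticGroup (Fin k) F := by
    apply Cfsg.Agent.S0270.mem_symplectic_of_preserves
    intro u v
    rw [hAx, hAx, hLx, hLx, ← he, LinearEquiv.apply_symm_apply, LinearEquiv.apply_symm_apply,
      hBP, he]
  refine ⟨k, ⟨A, hAmem⟩, ?_, ?_, m, hm, ?_⟩
  · show A.charpoly = f
    rw [hAdef, ← LinearMap.toMatrix_eq_toMatrix', LinearMap.charpoly_toMatrix, hL,
      LinearEquiv.charpoly_conj, Matrix.charpoly_toLin', hf]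
  · rw [← hf, Matrix.charpoly_natDegree_eq_dim]
    have h1 := e.finrank_eq
    rw [Module.finrank_fintype_fun_eq_card, Module.finrank_fintype_fun_eq_card,
      Fintype.card_sum, Fintype.card_fin] at h1
    omega
  · show A ^ m = 1
    have hpow : ∀ j : ℕ, ∀ x, (L ^ j) x = e.symm ((P ^ j) *ᵥ e x) := by
      intro j
      induction j with
      | zero =>
        intro x
        rw [pow_zero, pow_zero, Matrix.one_mulVec, LinearEquiv.symm_apply_apply]
        rfl
      | succ j ih =>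
        intro x
        rw [pow_succ, Module.End.mul_apply, ih, hLx, LinearEquiv.apply_symm_apply,
          Matrix.mulVec_mulVec, ← pow_succ]
    have hLm : L ^ m = 1 := by
      apply LinearMap.ext
      intro x
      rw [hpow, hPm, Matrix.one_mulVec, LinearEquiv.symm_apply_apply]
      rfl
    have hA' : A = LinearMap.toMatrixAlgEquiv' L := by rw [hAdef]; rfl
    rw [hA', ← map_pow, hLm, map_one]

end Cfsg.Agent.Lib.Helper24.Pal
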