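import Mathlib
import Cfsg.Agent.Lib.Helper24.PalC
import Cfsg.Agent.Lib.Helper24.PalE

set_option autoImplicit false
set_option linter.style.haveILetI false
set_option linter.unusedSimpArgs false
set_option linter.unusedSectionVars false

namespace Cfsg.Agent.Lib.Helper24.Pal

open Polynomial Matrix

variable {F : Type*} [Field F] [Fintype F]

/-- every monic palindromic polynomial of even degree is symplectically realizable -/
theorem spReal_of_pal {p : ℕ} [CharP F p] (hp : p.Prime) :
    ∀ (n : ℕ) (f : F[X]), f.Monic → f.reverse = f → f.natDegree = 2 * n → SpReal F p f := by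
  intro n
  induction n using Nat.strong_induction_on with
  | _ n ih =>
    intro f hmon hrev hdeg
    rcases Nat.eq_zero_or_pos n with hn0 | hnpos
    · subst hn0
      have : f = 1 := hmon.natDegree_eq_zero.mp (by rw [hdeg])
      rw [this]
      exact spReal_one p hp
    have hf0 : f.coeff 0 = 1 := coeff_zero_of_pal hmon hrev
    have hnu : ¬ IsUnit f := not_isUnit_of_natDegree_pos f (by rw [hdeg]; omega)
    obtain ⟨π, hπm, hπi, r, hfr⟩ := exists_monic_irreducible_factor f hnu
    have hcoef : π.coeff 0 * r.coeff 0 = 1 := by rw [← mul_coeff_zero, ← hfr, hf0]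
    have hπ0 : π.coeff 0 ≠ 0 := left_ne_zero_of_mul_eq_one hcoef
    have hrm : r.Monic := hπm.of_mul_monic_left (hfr ▸ hmon)
    have hdπ : 1 ≤ π.natDegree := hπi.natDegree_pos
    have hdsum : π.natDegree + r.natDegree = 2 * n := by
      rw [← hπm.natDegree_mul hrm, ← hfr, hdeg]
    obtain ⟨π', hπ'def⟩ : ∃ π', π' = C (π.coeff 0)⁻¹ * π.reverse := ⟨_, rfl⟩
    have htd : π.natTrailingDegree = 0 := by
      rw [Polynomial.natTrailingDegree_eq_zero]; right; exact hπ0
    have hπ'm : π'.Monic := by
      rw [hπ'def, Monic, leadingCoeff_mul, leadingCoeff_C, reverse_leadingCoeff, trailingCoeff,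
        htd, inv_mul_cancel₀ hπ0]
    have hπ'd : π'.natDegree = π.natDegree := by
      rw [hπ'def, natDegree_C_mul (inv_ne_zero hπ0), reverse_natDegree' hπ0]
    have hfrev : f = π.reverse * r.reverse := by
      rw [← reverse_mul_of_domain, ← hfr, hrev]
    have hCC : C (π.coeff 0)⁻¹ * C (π.coeff 0) = (1 : F[X]) := by
      rw [← C_mul, inv_mul_cancel₀ hπ0, C_1]
    have hπ'f : π' ∣ f := by
      refine ⟨C (π.coeff 0) * r.reverse, ?_⟩
      calc f = (C (π.coeff 0)⁻¹ * C (π.coeff 0)) * (π.reverse * r.reverse) := by
            rw [hCC, one_mul]; exact hfrev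
        _ = π' * (C (π.coeff 0) * r.reverse) := by rw [hπ'def]; ring
    by_cases hdvd : π * π' ∣ f
    · -- Case A
      obtain ⟨s, hs⟩ := hdvd
      have hum : (π * π').Monic := hπm.mul hπ'm
      have hsm : s.Monic := hum.of_mul_monic_left (hs ▸ hmon)
      have hurev : (π * π').reverse = π * π' := by
        rw [hπ'def, reverse_mul_of_domain, reverse_C_mul', reverse_reverse' hπ0]
        ring
      have hsrev : s.reverse = s := reverse_cancel hum.ne_zero hurev (by rw [← hs]; exact hrev)
      have hsd := hum.natDegree_mul hsm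
      rw [← hs, hdeg, hπm.natDegree_mul hπ'm, hπ'd] at hsd
      have hsdeg : s.natDegree = 2 * (n - π.natDegree) := by omega
      obtain ⟨P, m, hPc, hm, hPm⟩ := Cfsg.Agent.Lib.Helper5.SSClass.exists_matrix_of_monic hp
        π.natDegree π rfl hπm hπ0
      have h1 : SpReal F p (π * π') := by
        have := spReal_hyp (p := p) P hm hPm
        rw [hPc] at this
        rw [hπ'def]
        exact this
      have h2 : SpReal F p s := ih (n - π.natDegree) (by omega) s hsm hsrev hsdeg
      rw [hs]
      exact spReal_mul hp h1 h2
    · -- Case B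
      have hππ' : π' = π := by
        by_contra hne
        have hnd : ¬ π ∣ π' := fun h =>
          hne (eq_of_monic_of_dvd_of_natDegree_le hπm hπ'm h (by rw [hπ'd]))
        have hcop : IsCoprime π π' := hπi.coprime_iff_not_dvd.mpr hnd
        exact hdvd (hcop.mul_dvd ⟨r, hfr⟩ hπ'f)
      have hrevπ : π.reverse = C (π.coeff 0) * π := by
        have h1 : C (π.coeff 0) * π' = C (π.coeff 0) * π := by rw [hππ']
        rw [hπ'def, ← mul_assoc, mul_comm (C (π.coeff 0)), hCC, one_mul] at h1
        exact h1
      have hsq : π.coeff 0 * π.coeff 0 = 1 := by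
        have h1 := congrArg (fun x => x.coeff 0) hrevπ
        simp only [coeff_zero_reverse, coeff_C_mul, hπm.leadingCoeff] at h1
        exact h1.symm
      have hrr : r = C (π.coeff 0) * r.reverse := by
        have h1 : π.reverse * r.reverse = π * r := by rw [← hfrev, hfr]
        rw [hrevπ] at h1
        have h2 : π * (C (π.coeff 0) * r.reverse) = π * r := by rw [← h1]; ring
        exact (mul_left_cancel₀ hπm.ne_zero h2).symm
      have hdeg2 : 2 ≤ π.natDegree := by
        by_contra hlt
        have hd1 : π.natDegree = 1 := by omega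
        have hπX : π = X + C (π.coeff 0) := hπm.eq_X_add_C hd1
        have hrdeg : r.natDegree = 2 * (n - 1) + 1 := by omega
        have hev : r.eval (-(π.coeff 0)) = 0 := by
          apply eval_eq_zero_of_odd (c := -(π.coeff 0)) (by rw [neg_mul_neg]; exact hsq) hrdeg
          rw [neg_neg]
          exact hrr
        have hdv : π ∣ r := by
          have h1 : X - C (-(π.coeff 0)) ∣ r := dvd_iff_isRoot.mpr hev
          rw [C_neg, sub_neg_eq_add, ← hπX] at h1
          exact h1
        obtain ⟨t, ht⟩ := hdv
        apply hdvd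
        rw [hππ']
        exact ⟨t, by rw [hfr, ht]; ring⟩
      have hπ01 : π.coeff 0 = 1 := by
        by_contra hne
        have h1 := eval_one_reverse π
        rw [hrevπ, eval_mul, eval_C] at h1
        have h2 : (π.coeff 0 - 1) * π.eval 1 = 0 := by linear_combination h1
        have h3 : π.eval 1 = 0 := by
          rcases mul_eq_zero.mp h2 with h | h
          · exact absurd (sub_eq_zero.mp h) hne
          · exact h
        have h4 : X - C 1 ∣ π := dvd_iff_isRoot.mpr h3
        obtain ⟨t, ht⟩ := h4
        rcases hπi.isUnit_or_isUnit ht with h | h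
        · exact not_isUnit_X_sub_C 1 h
        · have h5 := natDegree_eq_zero_of_isUnit h
          have h6 : π.natDegree = 1 + t.natDegree := by
            rw [ht, natDegree_mul (X_sub_C_ne_zero 1) (h.ne_zero), natDegree_X_sub_C]
          omega
      have hπrev : π.reverse = π := by rw [hrevπ, hπ01, C_1, one_mul]
      have h1 : SpReal F p π := spReal_irr hp hπm hπi hπrev hdeg2
      obtain ⟨k, -, -, hk, -⟩ := exists_sp_of_spReal h1
      have hrrev : r.reverse = r := by
        rw [hπ01, C_1, one_mul] at hrr
        exact hrr.symm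
      have hrdeg : r.natDegree = 2 * (n - k) := by omega
      have h2 : SpReal F p r := ih (n - k) (by omega) r hrm hrrev hrdeg
      rw [hfr]
      exact spReal_mul hp h1 h2

end Cfsg.Agent.Lib.Helper24.Pal
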