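import Mathlib
import Cfsg.Agent.Lib.Helper24.PalD
import Cfsg.Agent.Lib.Helper5.SSPoly

set_option autoImplicit false
set_option linter.style.haveILetI false
set_option linter.unusedSimpArgs false
set_option linter.unusedSectionVars false

namespace Cfsg.Agent.Lib.Helper24.Pal

open Polynomial Matrix

variable {F : Type*} [Field F]

/-- the characteristic polynomial of the inverse, for a general index type -/
theorem charpoly_of_inv' {ι : Type*} [Fintype ι] [DecidableEq ι] {P Q : Matrix ι ι F}
    (hPQ : P * Q = 1) : Q.charpoly = C (P.charpoly.coeff 0)⁻¹ * P.charpoly.reverse := by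
  have hinv : P⁻¹ = Q := Matrix.inv_eq_right_inv hPQ
  have hPu : IsUnit P := IsUnit.of_mul_eq_one Q hPQ
  rw [← hinv, Matrix.charpoly_inv P hPu, ← Matrix.reverse_charpoly, Ring.inverse_eq_inv',
    Matrix.det_eq_sign_charpoly_coeff, mul_inv, C_mul, ← inv_pow, C_pow]
  have h1 : ((-1 : F[X]) ^ Fintype.card ι) *
      (C ((-1 : F)⁻¹) ^ Fintype.card ι * C (P.charpoly.coeff 0)⁻¹) =
      C (P.charpoly.coeff 0)⁻¹ := by
    have : (-1 : F)⁻¹ = -1 := by norm_num
    rw [this, C_neg, C_1, ← mul_assoc, ← mul_pow]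
    norm_num
  rw [h1]

/-- the characteristic polynomial of a symplectic matrix is palindromic -/
theorem sp_charpoly_reverse {n : ℕ} (g : Matrix.symplecticGroup (Fin n) F) :
    (g : Matrix (Fin n ⊕ Fin n) (Fin n ⊕ Fin n) F).charpoly.reverse =
      (g : Matrix (Fin n ⊕ Fin n) (Fin n ⊕ Fin n) F).charpoly := by
  obtain ⟨A, hA⟩ : ∃ A : Matrix (Fin n ⊕ Fin n) (Fin n ⊕ Fin n) F, A = g.1 := ⟨_, rfl⟩
  show g.1.charpoly.reverse = g.1.charpoly
  rw [← hA]
  have hdet : A.det = 1 := by rw [hA]; exact SymplecticGroup.det_eq_one g.2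
  have h0 : A.charpoly.coeff 0 = 1 := by
    have h1 := Matrix.det_eq_sign_charpoly_coeff A
    rw [hdet, Fintype.card_sum, Fintype.card_fin, ← two_mul, pow_mul] at h1
    simp only [even_two, Even.neg_pow, one_pow, one_mul] at h1
    exact h1.symm
  have hmul : A * ((-Matrix.J (Fin n) F) * Aᵀ * Matrix.J (Fin n) F) = 1 := by
    have h1 : g * g⁻¹ = 1 := mul_inv_cancel g
    have h2 := congrArg Subtype.val h1
    rw [hA]
    exact h2
  have h3 := charpoly_of_inv' hmul
  rw [h0, inv_one, C_1, one_mul] at h3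
  rw [← h3, Matrix.charpoly_mul_comm, ← Matrix.mul_assoc, Matrix.mul_neg,
    Matrix.J_squared, neg_neg, Matrix.one_mul, Matrix.charpoly_transpose]

theorem pal_iff_coeff {χ : F[X]} {N : ℕ} (hd : χ.natDegree = N) :
    χ.reverse = χ ↔ ∀ k ≤ N, χ.coeff (N - k) = χ.coeff k := by
  constructor
  · intro h k hk
    have h1 : χ.reverse.coeff k = χ.coeff k := by rw [h]
    rw [coeff_reverse, hd, revAt_le hk] at h1
    exact h1
  · intro h
    ext k
    rw [coeff_reverse, hd]
    by_cases hk : k ≤ N
    · rw [revAt_le hk]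
      exact h k hk
    · rw [revAt_eq_self_of_lt (not_le.mp hk)]

/-- extension by zero -/
noncomputable def ext0 {n : ℕ} (b : Fin n → F) (j : ℕ) : F := if h : j < n then b ⟨j, h⟩ else 0

theorem ext0_apply {n : ℕ} (b : Fin n → F) (j : Fin n) : ext0 b j = b j := by
  unfold ext0
  rw [dif_pos j.2]

/-- the coefficients of the palindromic polynomial with prescribed lower half -/
noncomputable def palCoef (n : ℕ) (b : Fin n → F) (k : ℕ) : F :=
  if k = 0 then 1 else if k ≤ n then ext0 b (k - 1)
  else if k < 2 * n then ext0 b (2 * n - k - 1) else 0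

theorem palCoef_zero (n : ℕ) (b : Fin n → F) : palCoef n b 0 = 1 := by
  unfold palCoef
  rw [if_pos rfl]

theorem palCoef_low (n : ℕ) (b : Fin n → F) {k : ℕ} (h1 : 1 ≤ k) (h2 : k ≤ n) :
    palCoef n b k = ext0 b (k - 1) := by
  unfold palCoef
  rw [if_neg (by omega), if_pos h2]

theorem palCoef_high (n : ℕ) (b : Fin n → F) {k : ℕ} (h1 : n < k) (h2 : k < 2 * n) :
    palCoef n b k = ext0 b (2 * n - k - 1) := by
  unfold palCoef
  rw [if_neg (by omega), if_neg (by omega), if_pos h2]

theorem palCoef_succ (n : ℕ) (b : Fin n → F) (j : Fin n) : palCoef n b (j + 1) = b j := by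
  have hj := j.2
  rw [palCoef_low n b (by omega) (by omega), Nat.add_sub_cancel, ext0_apply]

theorem palCoef_symm (n : ℕ) (b : Fin n → F) {k : ℕ} (h0 : 0 < k) (hk : k < 2 * n) :
    palCoef n b (2 * n - k) = palCoef n b k := by
  rcases Nat.lt_trichotomy k n with h1 | h1 | h1
  · rw [palCoef_high n b (by omega) (by omega), palCoef_low n b (by omega) (by omega)]
    congr 1
    omega
  · have : 2 * n - k = k := by omega
    rw [this]
  · rw [palCoef_low n b (by omega) (by omega), palCoef_high n b (by omega) (by omega)]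

/-- the palindromic polynomial with prescribed lower half -/
noncomputable def palPoly (n : ℕ) (b : Fin n → F) : F[X] :=
  Cfsg.Agent.Lib.Helper5.SSClass.toPoly (fun i : Fin (2 * n) => palCoef n b i)

theorem palPoly_monic (n : ℕ) (b : Fin n → F) : (palPoly n b).Monic :=
  Cfsg.Agent.Lib.Helper5.SSClass.toPoly_monic _

theorem palPoly_natDegree (n : ℕ) (b : Fin n → F) : (palPoly n b).natDegree = 2 * n :=
  Cfsg.Agent.Lib.Helper5.SSClass.toPoly_natDegree _

theorem palPoly_coeff (n : ℕ) (b : Fin n → F) {k : ℕ} (hk : k < 2 * n) :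
    (palPoly n b).coeff k = palCoef n b k :=
  Cfsg.Agent.Lib.Helper5.SSClass.toPoly_coeff (fun i : Fin (2 * n) => palCoef n b i) ⟨k, hk⟩

theorem palPoly_coeff_top (n : ℕ) (b : Fin n → F) : (palPoly n b).coeff (2 * n) = 1 := by
  have := (palPoly_monic n b).coeff_natDegree
  rw [palPoly_natDegree] at this
  exact this

theorem palPoly_reverse (n : ℕ) (b : Fin n → F) : (palPoly n b).reverse = palPoly n b := by
  rw [pal_iff_coeff (palPoly_natDegree n b)]
  intro k hk
  rcases Nat.eq_zero_or_pos k with h0 | h0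
  · subst h0
    rw [Nat.sub_zero, palPoly_coeff_top]
    rcases Nat.eq_zero_or_pos n with hn | hn
    · subst hn
      exact (palPoly_coeff_top 0 b).symm
    · rw [palPoly_coeff n b (by omega), palCoef_zero]
  · rcases Nat.lt_or_ge k (2 * n) with h1 | h1
    · rw [palPoly_coeff n b (by omega), palPoly_coeff n b h1, palCoef_symm n b h0 h1]
    · have hk2 : k = 2 * n := le_antisymm hk h1
      subst hk2
      rw [Nat.sub_self, palPoly_coeff_top, palPoly_coeff n b (by omega), palCoef_zero]

/-- the number of monic palindromic polynomials of degree `2n` -/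
theorem card_pal [Finite F] (n : ℕ) :
    Nat.card {χ : F[X] // χ.Monic ∧ χ.natDegree = 2 * n ∧ χ.reverse = χ} = Nat.card F ^ n := by
  have e : {χ : F[X] // χ.Monic ∧ χ.natDegree = 2 * n ∧ χ.reverse = χ} ≃ (Fin n → F) := by
    refine Equiv.ofBijective (fun χ j => χ.1.coeff (j + 1)) ⟨?_, ?_⟩
    · rintro ⟨χ₁, hm₁, hd₁, hr₁⟩ ⟨χ₂, hm₂, hd₂, hr₂⟩ h
      apply Subtype.ext
      show χ₁ = χ₂
      have hlow : ∀ k, 1 ≤ k → k ≤ n → χ₁.coeff k = χ₂.coeff k := by
        intro k h1 h2
        have := congrFun h ⟨k - 1, by omega⟩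
        simp only at this
        rw [Nat.sub_add_cancel h1] at this
        exact this
      have hs₁ := (pal_iff_coeff hd₁).mp hr₁
      have hs₂ := (pal_iff_coeff hd₂).mp hr₂
      ext k
      rcases Nat.eq_zero_or_pos k with h0 | h0
      · subst h0
        rw [coeff_zero_of_pal hm₁ hr₁, coeff_zero_of_pal hm₂ hr₂]
      rcases Nat.lt_or_ge (2 * n) k with h1 | h1
      · rw [coeff_eq_zero_of_natDegree_lt (by omega), coeff_eq_zero_of_natDegree_lt (by omega)]
      rcases Nat.lt_or_ge n k with h2 | h2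
      · have a₁ := hs₁ (2 * n - k) (by omega)
        have a₂ := hs₂ (2 * n - k) (by omega)
        rw [Nat.sub_sub_self h1] at a₁ a₂
        rcases Nat.lt_or_ge k (2 * n) with h3 | h3
        · rw [a₁, a₂]
          exact hlow _ (by omega) (by omega)
        · have hk2 : k = 2 * n := le_antisymm h1 h3
          subst hk2
          have c₁ := hm₁.coeff_natDegree
          have c₂ := hm₂.coeff_natDegree
          rw [hd₁] at c₁
          rw [hd₂] at c₂
          rw [c₁, c₂]
      · exact hlow k h0 h2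
    · intro b
      refine ⟨⟨palPoly n b, palPoly_monic n b, palPoly_natDegree n b, palPoly_reverse n b⟩, ?_⟩
      funext j
      show (palPoly n b).coeff (j + 1) = b j
      have hj := j.2
      rw [palPoly_coeff n b (by omega), palCoef_succ]
  rw [Nat.card_congr e, Nat.card_fun, Nat.card_eq_fintype_card (α := Fin n), Fintype.card_fin]

end Cfsg.Agent.Lib.Helper24.Pal
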