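import Mathlib
import Cfsg.Agent.Lib.Helper24.PalF
import Cfsg.Agent.S2389

set_option autoImplicit false
set_option linter.style.haveILetI false
set_option linter.unusedSimpArgs false
set_option linter.unusedSectionVars false

namespace Cfsg.Agent.Lib.Helper24.Pal

open Polynomial Matrix

variable {F : Type*} [Field F] [Fintype F]

/-- conjugate symplectic matrices have the same characteristic polynomial -/
theorem sp_charpoly_eq_of_isConj {n : ℕ} {g h : ↥(Matrix.symplecticGroup (Fin n) F)}
    (hc : IsConj g h) :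
    (g : Matrix (Fin n ⊕ Fin n) (Fin n ⊕ Fin n) F).charpoly =
      (h : Matrix (Fin n ⊕ Fin n) (Fin n ⊕ Fin n) F).charpoly := by
  rw [isConj_iff] at hc
  obtain ⟨u, hu⟩ := hc
  have h1 : h.1 = u.1 * g.1 * (u⁻¹).1 := by
    rw [← hu]
    rfl
  have h2 : (u⁻¹).1 * u.1 = 1 := congrArg Subtype.val (inv_mul_cancel u)
  show g.1.charpoly = h.1.charpoly
  rw [h1, Matrix.charpoly_mul_comm, ← Matrix.mul_assoc, h2, Matrix.one_mul]

/-- the number of classes of elements of order prime to `p` in the symplectic group -/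
theorem card_sp_classes {q : ℕ} (hq : Fintype.card F = q) (p : ℕ) [Fact p.Prime] [CharP F p]
    (n : ℕ) :
    Nat.card {c : ConjClasses ↥(Matrix.symplecticGroup (Fin n) F) //
      ∃ g : ↥(Matrix.symplecticGroup (Fin n) F), ConjClasses.mk g = c ∧ (orderOf g).Coprime p} =
      q ^ n := by
  have hp : p.Prime := Fact.out
  have e : {c : ConjClasses ↥(Matrix.symplecticGroup (Fin n) F) //
      ∃ g : ↥(Matrix.symplecticGroup (Fin n) F), ConjClasses.mk g = c ∧ (orderOf g).Coprime p} ≃
      {χ : F[X] // χ.Monic ∧ χ.natDegree = 2 * n ∧ χ.reverse = χ} := by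
    refine Equiv.ofBijective (fun c => ⟨((Classical.choose c.2 :
      ↥(Matrix.symplecticGroup (Fin n) F)) :
      Matrix (Fin n ⊕ Fin n) (Fin n ⊕ Fin n) F).charpoly, Matrix.charpoly_monic _, ?_, ?_⟩) ⟨?_, ?_⟩
    · rw [Matrix.charpoly_natDegree_eq_dim, Fintype.card_sum, Fintype.card_fin]
      ring
    · exact sp_charpoly_reverse _
    · rintro ⟨c, hc⟩ ⟨c', hc'⟩ h
      have h1 := Classical.choose_spec hc
      have h2 := Classical.choose_spec hc'
      have h3 : ((Classical.choose hc : ↥(Matrix.symplecticGroup (Fin n) F)) :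
          Matrix (Fin n ⊕ Fin n) (Fin n ⊕ Fin n) F).charpoly =
          ((Classical.choose hc' : ↥(Matrix.symplecticGroup (Fin n) F)) :
          Matrix (Fin n ⊕ Fin n) (Fin n ⊕ Fin n) F).charpoly := congrArg Subtype.val h
      have h4 := Cfsg.Agent.S2389.result p n _ _ h1.2 h2.2 h3
      apply Subtype.ext
      show c = c'
      rw [← h1.1, ← h2.1, ConjClasses.mk_eq_mk_iff_isConj]
      exact h4
    · rintro ⟨χ, hm, hd, hr⟩
      obtain ⟨k, g, hg, hk, m, hm', hgm⟩ := exists_sp_of_spReal (spReal_of_pal hp n χ hm hr hd)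
      have hkn : k = n := by omega
      subst hkn
      have hgo : (orderOf g).Coprime p := by
        have h1 : g ^ m = 1 := Subtype.ext (by
          rw [SubmonoidClass.coe_pow]
          exact hgm)
        have h2 : orderOf g ∣ m := orderOf_dvd_of_pow_eq_one h1
        rw [Nat.coprime_comm, Nat.Prime.coprime_iff_not_dvd hp]
        intro h3
        exact hm' (dvd_trans h3 h2)
      have hex : ∃ g' : ↥(Matrix.symplecticGroup (Fin k) F),
          ConjClasses.mk g' = ConjClasses.mk g ∧ (orderOf g').Coprime p := ⟨g, rfl, hgo⟩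
      refine ⟨⟨ConjClasses.mk g, hex⟩, ?_⟩
      apply Subtype.ext
      show ((Classical.choose hex : ↥(Matrix.symplecticGroup (Fin k) F)) :
          Matrix (Fin k ⊕ Fin k) (Fin k ⊕ Fin k) F).charpoly = χ
      rw [← hg]
      have hconj : IsConj (Classical.choose hex) g := by
        rw [← ConjClasses.mk_eq_mk_iff_isConj]
        exact (Classical.choose_spec hex).1
      exact sp_charpoly_eq_of_isConj hconj
  rw [Nat.card_congr e, card_pal, Nat.card_eq_fintype_card, hq]

end Cfsg.Agent.Lib.Helper24.Pal
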