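import Mathlib
import Cfsg.Agent.Lib.Helper5.PrimeOrdF

set_option autoImplicit false
set_option linter.style.haveILetI false
set_option linter.unusedSimpArgs false
set_option linter.unusedSectionVars false

namespace Cfsg.Agent.Lib.Helper24.Star

open Polynomial Cfsg.Agent.Lib.Helper5.PrimeOrd

section irr

variable {F : Type*} [Field F] (D : F[X] →* F[X])
  (h1 : ∀ g : F[X], g.coeff 0 ≠ 0 → (D g).natDegree = g.natDegree)
  (h2 : ∀ g : F[X], g.coeff 0 ≠ 0 → Associated (D (D g)) g)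
  (h3 : ∀ g : F[X], g.coeff 0 ≠ 0 → (D g).coeff 0 ≠ 0)

include h1 h2 h3 in
/-- a degree-preserving involutive (up to units) multiplicative map preserves irreducibility -/
theorem irreducible_of_dual {f : F[X]} (hf : Irreducible f) (h0 : f.coeff 0 ≠ 0) :
    Irreducible (D f) := by
  have hunit : ∀ a : F[X], a.coeff 0 ≠ 0 → IsUnit (D a) → IsUnit a := by
    intro a ha hu
    have hd : (D a).natDegree = 0 := natDegree_eq_zero_of_isUnit hu
    rw [h1 a ha] at hd
    rw [Polynomial.isUnit_iff]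
    refine ⟨a.coeff 0, isUnit_iff_ne_zero.mpr ha, ?_⟩
    exact (eq_C_of_natDegree_eq_zero hd).symm
  constructor
  · intro hu
    exact hf.not_isUnit (hunit f h0 hu)
  · intro a b hab
    have h00 : (D f).coeff 0 ≠ 0 := h3 f h0
    rw [hab, mul_coeff_zero] at h00
    have ha0 : a.coeff 0 ≠ 0 := left_ne_zero_of_mul h00
    have hb0 : b.coeff 0 ≠ 0 := right_ne_zero_of_mul h00
    have hirr : Irreducible (D (D f)) := (h2 f h0).symm.irreducible hf
    rw [hab, map_mul] at hirr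
    rcases hirr.isUnit_or_isUnit rfl with hu | hu
    · left
      exact hunit a ha0 hu
    · right
      exact hunit b hb0 hu

end irr

section count

variable {F : Type*} [Field F] (S : Finset F[X]) (Q : F[X]) (i n : ℕ)
  (hS1 : ∀ f ∈ S, Irreducible f ∧ f.Monic ∧ f.natDegree = i ∧ f ∣ Q ∧ f ≠ X - 1)
  (hS2 : ∀ f : F[X], Irreducible f → f.Monic → f ∣ Q → f = X - 1 ∨ f ∈ S)
  (hQ : (X - 1 : F[X]) ∣ Q) (hi : 0 < i)
  (D : F[X] →* F[X]) (hDX : D (X - 1) = X - 1) (hDS : ∀ f ∈ S, D f ∈ S)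

/-- the induced map on the set of factors -/
noncomputable def DS : S → S := fun f => ⟨D f.1, hDS f.1 f.2⟩

include hDX in
theorem D_phi (μ : Multiset S) :
    D (phi S i n μ) = phi S i n (μ.map (DS S D hDS)) := by
  unfold phi
  rw [map_mul, map_pow, hDX, map_multiset_prod, Multiset.card_map, Multiset.map_map,
    Multiset.map_map]
  rfl

include hS1 hDX in
theorem D_phi_eq_iff (μ : Multiset S) :
    D (phi S i n μ) = phi S i n μ ↔ μ.map (DS S D hDS) = μ := by
  rw [D_phi S i n D hDX hDS]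
  constructor
  · intro h
    exact phi_injective S Q i n hS1 _ _ h
  · intro h
    rw [h]

include hS1 hS2 hQ hi hDX in
/-- counting the invariant smooth polynomials -/
theorem card_smooth_invariant :
    Nat.card {χ : F[X] // χ.Monic ∧ χ.natDegree = n ∧ Smooth Q χ ∧ ¬ Smooth (X - 1) χ ∧
      D χ = χ} =
      Nat.card {μ : Multiset S // μ ≠ 0 ∧ Multiset.card μ ≤ n / i ∧
        μ.map (DS S D hDS) = μ} := by
  symm
  apply Nat.card_congr
  refine Equiv.ofBijective (fun μ => ⟨phi S i n μ.1, phi_monic S Q i n hS1 μ.1,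
    phi_natDegree S Q i n hS1 μ.1 μ.2.2.1, phi_smooth S Q i n hS1 hQ μ.1,
    phi_not_smooth S Q i n hS1 μ.1 μ.2.1,
    (D_phi_eq_iff S Q i n hS1 D hDX hDS μ.1).mpr μ.2.2.2⟩) ⟨?_, ?_⟩
  · intro μ μ' h
    apply Subtype.ext
    exact phi_injective S Q i n hS1 _ _ (congrArg Subtype.val h)
  · rintro ⟨χ, h1, h2, h3, h4, h5⟩
    obtain ⟨μ, hμ1, hμ2, hμ3⟩ := phi_surjective S Q i n hS1 hS2 hi χ h1 h2 h3 h4
    refine ⟨⟨μ, hμ1, hμ2, ?_⟩, Subtype.ext hμ3⟩
    rw [← D_phi_eq_iff S Q i n hS1 D hDX hDS, hμ3]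
    exact h5

end count

end Cfsg.Agent.Lib.Helper24.Star
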