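import Mathlib
import Cfsg.Agent.Lib.Helper24.PalA

set_option autoImplicit false
set_option linter.style.haveILetI false
set_option linter.unusedSimpArgs false
set_option linter.unusedSectionVars false

namespace Cfsg.Agent.Lib.Helper24.Star

open Polynomial Cfsg.Agent.Lib.Helper24.Pal

variable {F : Type*} [Field F]

/-- the normalised reciprocal polynomial -/
noncomputable def star (f : F[X]) : F[X] := C (f.coeff 0)⁻¹ * f.reverse

theorem star_mul (f g : F[X]) : star (f * g) = star f * star g := by
  unfold star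
  rw [mul_coeff_zero, mul_inv, C_mul, reverse_mul_of_domain]
  ring

theorem reverse_one' : (1 : F[X]).reverse = 1 := by
  rw [← C_1, reverse_C]

theorem star_one : star (1 : F[X]) = 1 := by
  unfold star
  rw [reverse_one', coeff_one_zero, inv_one, C_1, one_mul]

/-- `star` as a monoid homomorphism -/
noncomputable def starHom : F[X] →* F[X] where
  toFun := star
  map_one' := star_one
  map_mul' := star_mul

theorem starHom_apply (f : F[X]) : starHom f = star f := rfl

theorem reverse_X_pow_sub_one {r : ℕ} : (X ^ r - 1 : F[X]).reverse = 1 - X ^ r := by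
  have h1 : (X ^ r - 1 : F[X]) = X ^ r + C (-1) := by
    rw [C_neg, C_1]
    ring
  rw [h1, reverse_add_C, natDegree_X_pow]
  have h2 : (X ^ r : F[X]).reverse = 1 := by
    have := reverse_mul_X_pow (1 : F[X]) r
    rw [one_mul] at this
    rw [this]
    exact reverse_one'
  rw [h2, C_neg, C_1]
  ring

theorem star_X_pow_sub_one {r : ℕ} (hr : 0 < r) : star (X ^ r - 1 : F[X]) = X ^ r - 1 := by
  unfold star
  rw [reverse_X_pow_sub_one]
  have h0 : (X ^ r - 1 : F[X]).coeff 0 = -1 := by
    rw [coeff_sub, coeff_X_pow, coeff_one_zero, if_neg hr.ne]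
    ring
  rw [h0]
  have : (-1 : F)⁻¹ = -1 := by norm_num
  rw [this, C_neg, C_1]
  ring

theorem star_X_sub_one : star (X - 1 : F[X]) = X - 1 := by
  have := star_X_pow_sub_one (F := F) (r := 1) one_pos
  rwa [pow_one] at this

theorem star_natDegree {f : F[X]} (h0 : f.coeff 0 ≠ 0) : (star f).natDegree = f.natDegree := by
  unfold star
  rw [natDegree_C_mul (inv_ne_zero h0), reverse_natDegree' h0]

theorem star_coeff_zero (f : F[X]) : (star f).coeff 0 = (f.coeff 0)⁻¹ * f.leadingCoeff := by
  unfold star
  rw [coeff_C_mul, coeff_zero_reverse]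

theorem star_coeff_zero_ne {f : F[X]} (h0 : f.coeff 0 ≠ 0) : (star f).coeff 0 ≠ 0 := by
  rw [star_coeff_zero]
  have hf : f ≠ 0 := by
    intro h
    rw [h] at h0
    simp at h0
  exact mul_ne_zero (inv_ne_zero h0) (leadingCoeff_ne_zero.mpr hf)

theorem star_star {f : F[X]} (h0 : f.coeff 0 ≠ 0) : star (star f) = C (f.leadingCoeff)⁻¹ * f := by
  have hf : f ≠ 0 := by
    intro h
    rw [h] at h0
    simp at h0
  have hl : f.leadingCoeff ≠ 0 := leadingCoeff_ne_zero.mpr hf
  have h1 : (star f).reverse = C (f.coeff 0)⁻¹ * f := by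
    unfold star
    rw [reverse_C_mul', reverse_reverse' h0]
  have e : star (star f) = C ((star f).coeff 0)⁻¹ * (star f).reverse := rfl
  rw [e, h1, star_coeff_zero, mul_inv, inv_inv, ← mul_assoc, ← C_mul, mul_assoc,
    mul_comm (f.leadingCoeff)⁻¹, ← mul_assoc, mul_inv_cancel₀ h0, one_mul]

theorem star_star_of_monic {f : F[X]} (hm : f.Monic) (h0 : f.coeff 0 ≠ 0) : star (star f) = f := by
  rw [star_star h0, hm.leadingCoeff, inv_one, C_1, one_mul]

theorem star_monic {f : F[X]} (h0 : f.coeff 0 ≠ 0) : (star f).Monic := by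
  have htd : f.natTrailingDegree = 0 := by
    rw [Polynomial.natTrailingDegree_eq_zero]; right; exact h0
  unfold star
  rw [Monic, leadingCoeff_mul, leadingCoeff_C, reverse_leadingCoeff, trailingCoeff, htd,
    inv_mul_cancel₀ h0]

theorem star_assoc {f : F[X]} (h0 : f.coeff 0 ≠ 0) : Associated (star (star f)) f := by
  have hf : f ≠ 0 := by
    intro h
    rw [h] at h0
    simp at h0
  have hl : f.leadingCoeff ≠ 0 := leadingCoeff_ne_zero.mpr hf
  rw [star_star h0]
  have hu : IsUnit (C (f.leadingCoeff)⁻¹ : F[X]) :=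
    Polynomial.isUnit_C.mpr (isUnit_iff_ne_zero.mpr (inv_ne_zero hl))
  exact (associated_isUnit_mul_left_iff hu).mpr (Associated.refl f)

/-- a palindromic monic polynomial is fixed by `star` -/
theorem star_eq_of_pal {f : F[X]} (hm : f.Monic) (hr : f.reverse = f) : star f = f := by
  unfold star
  rw [coeff_zero_of_pal hm hr, inv_one, C_1, one_mul, hr]

/-- a `star`-fixed polynomial not vanishing at `1` is palindromic -/
theorem pal_of_star_eq {f : F[X]} (h0 : f.coeff 0 ≠ 0) (hs : star f = f)
    (h1 : f.eval 1 ≠ 0) : f.reverse = f := by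
  have hrev : f.reverse = C (f.coeff 0) * f := by
    have h3 : C (f.coeff 0) * star f = C (f.coeff 0) * f := by rw [hs]
    unfold star at h3
    rw [← mul_assoc, ← C_mul, mul_inv_cancel₀ h0, C_1, one_mul] at h3
    exact h3
  have h2 := eval_one_reverse f
  rw [hrev, eval_mul, eval_C] at h2
  have h3 : f.coeff 0 = 1 := by
    have : (f.coeff 0 - 1) * f.eval 1 = 0 := by rw [sub_mul, h2, one_mul, sub_self]
    rcases mul_eq_zero.mp this with h | h
    · exact sub_eq_zero.mp h
    · exact absurd h h1
  rw [hrev, h3, C_1, one_mul]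

end Cfsg.Agent.Lib.Helper24.Star
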