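import Mathlib
import Cfsg.Agent.Lib.Helper24.StarA
import Cfsg.Agent.Lib.Helper24.StarB

set_option autoImplicit false
set_option linter.style.haveILetI false
set_option linter.unusedSimpArgs false
set_option linter.unusedSectionVars false

namespace Cfsg.Agent.Lib.Helper24.Star

open Polynomial Cfsg.Agent.Lib.Helper5.PrimeOrd Cfsg.Agent.Lib.Helper24.Pal

section general

variable {F : Type*} [Field F]

theorem star_irreducible {f : F[X]} (hf : Irreducible f) (h0 : f.coeff 0 ≠ 0) :
    Irreducible (star f) :=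
  irreducible_of_dual starHom (fun _ h => star_natDegree h) (fun _ h => star_assoc h)
    (fun _ h => star_coeff_zero_ne h) hf h0

theorem star_dvd {f g : F[X]} (h : f ∣ g) : star f ∣ star g := by
  obtain ⟨k, rfl⟩ := h
  rw [star_mul]
  exact dvd_mul_right _ _

/-- Frobenius on values of polynomials over a finite field -/
theorem aeval_pow_card [Fintype F] {K : Type*} [CommRing K] [Algebra F K] (g : F[X]) (x : K) :
    aeval (x ^ Fintype.card F) g = (aeval x g) ^ Fintype.card F := by
  rw [← map_pow, ← FiniteField.expand_card, expand_aeval]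

theorem aeval_pow_card_pow [Fintype F] {K : Type*} [CommRing K] [Algebra F K] (g : F[X]) (x : K)
    (hx : aeval x g = 0) (k : ℕ) : aeval (x ^ (Fintype.card F ^ k)) g = 0 := by
  induction k with
  | zero => simpa using hx
  | succ k ih =>
    rw [pow_succ, pow_mul, aeval_pow_card, ih, zero_pow Fintype.card_ne_zero]

theorem pow_eq_zero_iff_of_pos_aux {K : Type*} [Field K] {x : K} {n : ℕ} (h : x ^ n = 0) :
    x = 0 := by
  rcases Nat.eq_zero_or_pos n with h4 | h4
  · rw [h4, pow_zero] at h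
    exact absurd h one_ne_zero
  · exact (pow_eq_zero_iff h4.ne').mp h

/-- the reverse vanishes at the inverse of a root -/
theorem aeval_reverse_inv {K : Type*} [Field K] [Algebra F K] (g : F[X]) (x : K) (hx : x ≠ 0)
    (h : aeval x⁻¹ g = 0) : aeval x g.reverse = 0 := by
  have hx' : x⁻¹ ≠ 0 := inv_ne_zero hx
  letI : Invertible (x⁻¹) := invertibleOfNonzero hx'
  have h1 := eval₂_reverse_mul_pow (algebraMap F K) (x⁻¹) g
  rw [invOf_eq_inv, inv_inv] at h1
  have h2 : eval₂ (algebraMap F K) x⁻¹ g = 0 := h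
  rw [h2] at h1
  rcases mul_eq_zero.mp h1 with h3 | h3
  · exact h3
  · exact absurd (pow_eq_zero_iff_of_pos_aux h3) hx'

end general

section cyc

variable {F : Type*} [Field F] [Fintype F] (p : ℕ) [Fact p.Prime] [CharP F p]

theorem dvd_X_pow_sub_one_of_mem {r : ℕ} (hr : r.Prime) (f : F[X]) (hf : f ∈ cycFactors F r) :
    f ∣ X ^ r - 1 := by
  haveI : Fact r.Prime := ⟨hr⟩
  have h2 := (mem_cycFactors_iff r f).mp hf
  rw [← cyclotomic_prime_mul_X_sub_one F r]
  exact h2.2.2.trans (dvd_mul_right _ _)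

theorem coeff_zero_ne_of_mem {r : ℕ} (hr : r.Prime) (f : F[X]) (hf : f ∈ cycFactors F r) :
    f.coeff 0 ≠ 0 := by
  intro h0
  have h1 := dvd_X_pow_sub_one_of_mem hr f hf
  have h2 := eval_dvd (x := (0 : F)) h1
  rw [← coeff_zero_eq_eval_zero, h0] at h2
  simp only [eval_sub, eval_pow, eval_X, eval_one, zero_pow hr.ne_zero, zero_sub, zero_dvd_iff,
    neg_eq_zero, one_ne_zero] at h2

theorem star_mem {r : ℕ} (hr : r.Prime) (hrp : r ≠ p) (f : F[X]) (hf : f ∈ cycFactors F r) :
    star f ∈ cycFactors F r := by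
  have h0 := coeff_zero_ne_of_mem hr f hf
  have h2 := (mem_cycFactors_iff r f).mp hf
  have hd : star f ∣ X ^ r - 1 := by
    have := star_dvd (dvd_X_pow_sub_one_of_mem hr f hf)
    rwa [star_X_pow_sub_one hr.pos] at this
  rcases factor_cases hr (star f) (star_irreducible h2.1 h0) (star_monic h0) hd with h | h
  · exfalso
    apply ne_X_sub_one_of_mem p hr hrp f hf
    rw [← star_star_of_monic h2.2.1 h0, h, star_X_sub_one]
  · exact h

/-- for odd degree no factor is self-reciprocal -/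
theorem star_ne_of_odd {r : ℕ} (hr : r.Prime) (hr2 : r ≠ 2) (hrp : r ≠ p) (f : F[X])
    (hf : f ∈ cycFactors F r) (hodd : Odd f.natDegree) : star f ≠ f := by
  intro hs
  have h0 := coeff_zero_ne_of_mem hr f hf
  have h2 := (mem_cycFactors_iff r f).mp hf
  obtain ⟨c, hc⟩ : ∃ c, c = f.coeff 0 := ⟨_, rfl⟩
  have hrev : f.reverse = C c * f := by
    have h3 : C (f.coeff 0) * star f = C (f.coeff 0) * f := by rw [hs]
    unfold star at h3
    rw [← mul_assoc, ← C_mul, mul_inv_cancel₀ h0, C_1, one_mul] at h3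
    rw [hc]
    exact h3
  have hcc : c * c = 1 := by
    have h3 := coeff_zero_reverse f
    rw [hrev, coeff_C_mul, h2.2.1.leadingCoeff, ← hc] at h3
    exact h3
  have hf' : f = C (-(-c)) * f.reverse := by
    rw [hrev, neg_neg, ← mul_assoc, ← C_mul, hcc, C_1, one_mul]
  obtain ⟨k, hk⟩ := hodd
  have hroot : f.eval (-c) = 0 :=
    eval_eq_zero_of_odd (c := -c) (by rw [neg_mul_neg]; exact hcc) hk hf'
  have hdvd : (X - C (-c)) ∣ f := dvd_iff_isRoot.mpr hroot
  have hass : Associated (X - C (-c)) f :=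
    (irreducible_X_sub_C (-c)).associated_of_dvd h2.1 hdvd
  have hfe : f = X - C (-c) :=
    (eq_of_monic_of_associated (monic_X_sub_C (-c)) h2.2.1 hass).symm
  have hc1 : c = 1 ∨ c = -1 := mul_self_eq_one_iff.mp hcc
  rcases hc1 with h1 | h1
  · -- f = X + 1
    have hd := dvd_X_pow_sub_one_of_mem hr f hf
    rw [hfe, dvd_iff_isRoot, IsRoot.def, h1] at hd
    simp only [eval_sub, eval_pow, eval_X, eval_one] at hd
    rw [Odd.neg_one_pow (hr.odd_of_ne_two hr2)] at hd
    have h11 : (-1 : F) = 1 := by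
      have : (-1 : F) - 1 = 0 := hd
      linear_combination this
    apply ne_X_sub_one_of_mem p hr hrp f hf
    rw [hfe, h1, h11, C_1]
  · apply ne_X_sub_one_of_mem p hr hrp f hf
    rw [hfe, h1, neg_neg, C_1]

/-- for even degree every factor is self-reciprocal -/
theorem star_eq_of_even {r q i : ℕ} (hr : r.Prime) (hF : Fintype.card F = q)
    (hi : i = orderOf (q : ZMod r)) (hi0 : 0 < i) (hev : Even i) (f : F[X])
    (hf : f ∈ cycFactors F r) : star f = f := by
  haveI : Fact r.Prime := ⟨hr⟩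
  have h0 := coeff_zero_ne_of_mem hr f hf
  have h2 := (mem_cycFactors_iff r f).mp hf
  haveI : Fact (Irreducible f) := ⟨h2.1⟩
  obtain ⟨j, hj⟩ := hev
  have hj0 : 0 < j := by omega
  -- r divides q^j + 1
  have hdiv : r ∣ q ^ j + 1 := by
    have ha2 : ((q : ZMod r) ^ j) * ((q : ZMod r) ^ j) = 1 := by
      rw [← pow_add, ← hj, hi, pow_orderOf_eq_one]
    have ha1 : (q : ZMod r) ^ j ≠ 1 := by
      intro h1
      have := orderOf_dvd_of_pow_eq_one h1
      rw [← hi] at this
      have := Nat.le_of_dvd hj0 this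
      omega
    rcases mul_self_eq_one_iff.mp ha2 with h | h
    · exact absurd h ha1
    · rw [← ZMod.natCast_eq_zero_iff]
      push_cast
      rw [h]
      ring
  obtain ⟨s, hs⟩ := hdiv
  obtain ⟨ζ, hζ⟩ : ∃ ζ : AdjoinRoot f, ζ = AdjoinRoot.root f := ⟨_, rfl⟩
  have hζf : aeval ζ f = 0 := by
    rw [hζ, AdjoinRoot.aeval_eq, AdjoinRoot.mk_self]
  have hζr : ζ ^ r = 1 := by
    have h3 : aeval ζ (X ^ r - 1 : F[X]) = 0 :=
      aeval_eq_zero_of_dvd_aeval_eq_zero (dvd_X_pow_sub_one_of_mem hr f hf) hζf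
    rw [map_sub, map_pow, aeval_X, map_one, sub_eq_zero] at h3
    exact h3
  have hζ0 : ζ ≠ 0 := by
    intro h
    rw [h, zero_pow hr.ne_zero] at hζr
    exact zero_ne_one hζr
  have hinv : ζ ^ (q ^ j) = ζ⁻¹ := by
    apply eq_inv_of_mul_eq_one_left
    rw [← pow_succ, hs, pow_mul, hζr, one_pow]
  have h3 : aeval ζ⁻¹ f = 0 := by
    rw [← hinv, ← hF]
    exact aeval_pow_card_pow f ζ hζf j
  have h4 : aeval ζ f.reverse = 0 := aeval_reverse_inv f ζ hζ0 h3
  have h5 : aeval ζ (star f) = 0 := by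
    unfold star
    rw [map_mul, h4, mul_zero]
  have h6 : f ∣ star f := by
    rw [hζ, AdjoinRoot.aeval_eq, AdjoinRoot.mk_eq_zero] at h5
    exact h5
  exact eq_of_monic_of_dvd_of_natDegree_le h2.2.1 (star_monic h0) h6
    (by rw [star_natDegree h0])

end cyc

end Cfsg.Agent.Lib.Helper24.Star
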