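import Mathlib
import Cfsg.Agent.Lib.Helper24.StarC
import Cfsg.Agent.Lib.Helper24.InvMulA

set_option autoImplicit false
set_option linter.style.haveILetI false
set_option linter.unusedSimpArgs false
set_option linter.unusedSectionVars false

namespace Cfsg.Agent.Lib.Helper24.InvMul

/-- a multiset invariant under a fixed-point-free involution has even size -/
theorem even_card_of_invariant_free {S : Type*} [Fintype S] [DecidableEq S] (D : S → S)
    (hD : ∀ x, D (D x) = x) (hfree : ∀ x, D x ≠ x) (μ : Multiset S) (hμ : μ.map D = μ) :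
    Even (Multiset.card μ) := by
  classical
  obtain ⟨e⟩ : Nonempty (S ≃ Fin (Fintype.card S)) := ⟨Fintype.equivFin S⟩
  obtain ⟨P, hPdef⟩ : ∃ P : S → Prop, P = fun x => e x < e (D x) := ⟨_, rfl⟩
  have hP : ∀ x, P (D x) ↔ ¬ P x := by
    intro x
    rw [hPdef]
    show e (D x) < e (D (D x)) ↔ ¬ e x < e (D x)
    rw [hD, not_lt]
    have hne : e (D x) ≠ e x := fun h => hfree x (e.injective h)
    constructor
    · intro h; exact le_of_lt h
    · intro h; exact lt_of_le_of_ne h hne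
  obtain ⟨ν, hν⟩ := dbl_surjective hP μ hμ
  rw [← hν, dbl_card]
  exact even_two_mul _

end Cfsg.Agent.Lib.Helper24.InvMul

namespace Cfsg.Agent.Lib.Helper24.Star

open Polynomial Cfsg.Agent.Lib.Helper5.PrimeOrd Cfsg.Agent.Lib.Helper24.Pal

section pal

variable {F : Type*} [Field F] (S : Finset F[X]) (Q : F[X]) (i m : ℕ)
  (hS1 : ∀ f ∈ S, Irreducible f ∧ f.Monic ∧ f.natDegree = i ∧ f ∣ Q ∧ f ≠ X - 1)
  (hS2 : ∀ f : F[X], Irreducible f → f.Monic → f ∣ Q → f = X - 1 ∨ f ∈ S)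
  (hS0 : ∀ f ∈ S, f.coeff 0 ≠ 0)
  (hi : 0 < i)
  (hDS : ∀ f ∈ S, starHom f ∈ S)
  (hpar : Even i ∨ ∀ μ : Multiset S, μ.map (DS S starHom hDS) = μ → Even (Multiset.card μ))

theorem star_X_sub_one_pow_even {a : ℕ} (ha : Even a) :
    ((X - 1 : F[X]) ^ a).reverse = (X - 1) ^ a := by
  have h1 : starHom ((X - 1 : F[X]) ^ a) = (X - 1) ^ a := by
    rw [map_pow, starHom_apply, star_X_sub_one]
  have h0 : ((X - 1 : F[X]) ^ a).coeff 0 = 1 := by
    rw [coeff_zero_eq_eval_zero, eval_pow, eval_sub, eval_X, eval_one, zero_sub, ha.neg_one_pow]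
  rw [starHom_apply] at h1
  unfold star at h1
  rw [h0, inv_one, C_1, one_mul] at h1
  exact h1

include hS1 hS2 hS0 hi hpar in
/-- for smooth polynomials of even degree, palindromic is the same as `star`-fixed -/
theorem pal_of_star_fixed (χ : F[X]) (hm : χ.Monic) (hd : χ.natDegree = 2 * m) (hs : Smooth Q χ)
    (hns : ¬ Smooth (X - 1) χ) (hst : starHom χ = χ) : χ.reverse = χ := by
  obtain ⟨μ, -, hμc, hμφ⟩ := phi_surjective S Q i (2 * m) hS1 hS2 hi χ hm hd hs hns
  have hinv : μ.map (DS S starHom hDS) = μ := by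
    rw [← D_phi_eq_iff S Q i (2 * m) hS1 starHom star_X_sub_one hDS, hμφ]
    exact hst
  obtain ⟨ψ, hψ⟩ : ∃ ψ : F[X], ψ = (μ.map (fun f : S => (f : F[X]))).prod := ⟨_, rfl⟩
  have hχ : χ = (X - 1) ^ (2 * m - i * Multiset.card μ) * ψ := by
    rw [← hμφ, hψ]
    rfl
  have hψs : star ψ = ψ := by
    rw [← starHom_apply, hψ, map_multiset_prod, Multiset.map_map]
    conv_rhs => rw [← hinv]
    rw [Multiset.map_map]
    rfl
  have hψm : ψ.Monic := by
    rw [hψ]
    apply monic_multiset_prod_of_monic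
    intro f _
    exact (hS1 f.1 f.2).2.1
  have hψ0 : ψ.coeff 0 ≠ 0 := by
    rw [coeff_zero_eq_eval_zero, hψ, eval_multiset_prod, Multiset.map_map]
    apply Multiset.prod_ne_zero
    intro h
    rw [Multiset.mem_map] at h
    obtain ⟨f, _, hf⟩ := h
    rw [Function.comp_apply, ← coeff_zero_eq_eval_zero] at hf
    exact hS0 f.1 f.2 hf
  have hψ1 : ψ.eval 1 ≠ 0 := by
    rw [hψ, eval_multiset_prod, Multiset.map_map]
    apply Multiset.prod_ne_zero
    intro h
    rw [Multiset.mem_map] at h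
    obtain ⟨f, _, hf⟩ := h
    rw [Function.comp_apply] at hf
    have hS := hS1 f.1 f.2
    have h1 : (X - 1 : F[X]) = X - C 1 := by simp
    have hdvd : (X - C 1) ∣ (f : F[X]) := dvd_iff_isRoot.mpr hf
    have hass : Associated (X - C 1) (f : F[X]) :=
      (irreducible_X_sub_C 1).associated_of_dvd hS.1 hdvd
    have := eq_of_monic_of_associated (monic_X_sub_C 1) hS.2.1 hass
    rw [← h1] at this
    exact hS.2.2.2.2 this.symm
  have hψr : ψ.reverse = ψ := pal_of_star_eq hψ0 hψs hψ1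
  have hle : Multiset.card μ * i ≤ 2 * m := Nat.mul_le_of_le_div i _ _ hμc
  have heven : Even (2 * m - i * Multiset.card μ) := by
    have h2 : Even (i * Multiset.card μ) := by
      rcases hpar with h | h
      · exact h.mul_right _
      · exact (h μ hinv).mul_left _
    rw [Nat.even_sub (by rw [mul_comm]; exact hle)]
    exact ⟨fun _ => h2, fun _ => even_two_mul m⟩
  rw [hχ, reverse_mul_of_domain, star_X_sub_one_pow_even heven, hψr]

include hS1 hS2 hS0 hi hpar in
/-- counting the palindromic smooth polynomials -/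
theorem card_smooth_pal (hQ : (X - 1 : F[X]) ∣ Q) :
    Nat.card {χ : F[X] // χ.Monic ∧ χ.natDegree = 2 * m ∧ Smooth Q χ ∧ ¬ Smooth (X - 1) χ ∧
      χ.reverse = χ} =
      Nat.card {μ : Multiset S // μ ≠ 0 ∧ Multiset.card μ ≤ 2 * m / i ∧
        μ.map (DS S starHom hDS) = μ} := by
  rw [← card_smooth_invariant S Q i (2 * m) hS1 hS2 hQ hi starHom star_X_sub_one hDS]
  apply Nat.card_congr
  refine ⟨fun χ => ⟨χ.1, χ.2.1, χ.2.2.1, χ.2.2.2.1, χ.2.2.2.2.1, ?_⟩,
    fun χ => ⟨χ.1, χ.2.1, χ.2.2.1, χ.2.2.2.1, χ.2.2.2.2.1, ?_⟩, ?_, ?_⟩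
  · rw [starHom_apply]
    exact star_eq_of_pal χ.2.1 χ.2.2.2.2.2
  · exact pal_of_star_fixed S Q i m hS1 hS2 hS0 hi hDS hpar χ.1 χ.2.1 χ.2.2.1 χ.2.2.2.1
      χ.2.2.2.2.1 χ.2.2.2.2.2
  · intro χ; rfl
  · intro χ; rfl

end pal

end Cfsg.Agent.Lib.Helper24.Star
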