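import Mathlib
import Cfsg.Agent.Lib.Helper24.StarD
import Cfsg.Agent.Lib.Helper24.PalG

set_option autoImplicit false
set_option linter.style.haveILetI false
set_option linter.unusedSimpArgs false
set_option linter.unusedSectionVars false

namespace Cfsg.Agent.Lib.Helper24.Star

open Polynomial Matrix Cfsg.Agent.Lib.Helper5.PrimeOrd Cfsg.Agent.Lib.Helper24.Pal

section mat

variable {F : Type*} [Field F] (p : ℕ) [Fact p.Prime] [CharP F p]

/-- a matrix of order prime to `p` has `r`-th power one iff its characteristic polynomial is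
`X^r - 1`-smooth -/
theorem mat_pow_eq_one_iff_smooth {ι : Type*} [Fintype ι] [DecidableEq ι] (A : Matrix ι ι F)
    {N : ℕ} (hN : ¬ p ∣ N) (hAN : A ^ N = 1) (r : ℕ) (hr : 0 < r) :
    A ^ r = 1 ↔ Smooth (X ^ r - 1) A.charpoly := by
  have key : ∀ k : ℕ, A ^ k = 1 ↔ aeval A (X ^ k - 1 : F[X]) = 0 := by
    intro k
    rw [map_sub, map_pow, aeval_X, map_one, sub_eq_zero]
  constructor
  · intro h f hf hfc
    exact dvd_of_dvd_charpoly A f hf hfc _ ((key r).mp h)
  · intro h
    rw [key]
    have hN0 : (N : F) ≠ 0 := by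
      intro h0
      exact hN ((CharP.cast_eq_zero_iff F p N).mp h0)
    have hsep : (X ^ N - 1 : F[X]).Separable := by
      have := separable_X_pow_sub_C (1 : F) hN0 one_ne_zero
      rwa [C_1] at this
    have hmin : minpoly F A ∣ X ^ N - 1 := minpoly.dvd F A ((key N).mp hAN)
    have hsq : Squarefree (minpoly F A) := hsep.squarefree.squarefree_of_dvd hmin
    have hQ : (X ^ r - 1 : F[X]) ≠ 0 := X_pow_sub_C_ne_zero hr 1
    have hdvd : minpoly F A ∣ X ^ r - 1 := by
      apply dvd_of_squarefree_smooth _ _ hQ hsq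
      intro f hf hfd
      exact h f hf (hfd.trans (Matrix.minpoly_dvd_charpoly _))
    exact aeval_eq_zero_of_dvd_aeval_eq_zero hdvd (minpoly.aeval _ _)

end mat

section sp

variable {F : Type*} [Field F] [Fintype F] (p : ℕ) [Fact p.Prime] [CharP F p]

/-- classes of elements of prime order `r ≠ p` in the symplectic group correspond to palindromic
smooth polynomials -/
theorem card_sp_classes_eq_polys (m r : ℕ) (hr : r.Prime) (hrp : r ≠ p) :
    Nat.card {C : ConjClasses ↥(Matrix.symplecticGroup (Fin m) F) //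
      ∃ g : Matrix.symplecticGroup (Fin m) F, ConjClasses.mk g = C ∧ orderOf g = r} =
    Nat.card {χ : F[X] // χ.Monic ∧ χ.natDegree = 2 * m ∧ Smooth (X ^ r - 1) χ ∧
      ¬ Smooth (X - 1) χ ∧ χ.reverse = χ} := by
  have hp : p.Prime := Fact.out
  haveI : Fact r.Prime := ⟨hr⟩
  have hcop : r.Coprime p := (Nat.coprime_primes hr hp).mpr hrp
  have hrp' : ¬ p ∣ r := by
    intro h
    exact hrp ((Nat.prime_dvd_prime_iff_eq hp hr).mp h).symm
  -- the matrix of a group element
  have hpow : ∀ (g : Matrix.symplecticGroup (Fin m) F) (k : ℕ),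
      g ^ k = 1 ↔ (g : Matrix (Fin m ⊕ Fin m) (Fin m ⊕ Fin m) F) ^ k = 1 := by
    intro g k
    constructor
    · intro h
      have := congrArg Subtype.val h
      rwa [SubmonoidClass.coe_pow] at this
    · intro h
      apply Subtype.ext
      rw [SubmonoidClass.coe_pow]
      exact h
  have hsm : ∀ (g : Matrix.symplecticGroup (Fin m) F) (N : ℕ), ¬ p ∣ N → g ^ N = 1 →
      ∀ k : ℕ, 0 < k → (g ^ k = 1 ↔
        Smooth (X ^ k - 1) (g : Matrix (Fin m ⊕ Fin m) (Fin m ⊕ Fin m) F).charpoly) := by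
    intro g N hN hgN k hk
    rw [hpow]
    exact mat_pow_eq_one_iff_smooth p _ hN ((hpow g N).mp hgN) k hk
  apply Nat.card_congr
  refine Equiv.ofBijective (fun c => ⟨((Classical.choose c.2 :
      ↥(Matrix.symplecticGroup (Fin m) F)) :
      Matrix (Fin m ⊕ Fin m) (Fin m ⊕ Fin m) F).charpoly, Matrix.charpoly_monic _, ?_, ?_, ?_,
      sp_charpoly_reverse _⟩) ⟨?_, ?_⟩
  · rw [Matrix.charpoly_natDegree_eq_dim, Fintype.card_sum, Fintype.card_fin]
    ring
  · have h1 := (Classical.choose_spec c.2).2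
    have h2 := (orderOf_eq_prime_iff.mp h1).1
    exact (hsm _ r hrp' h2 r hr.pos).mp h2
  · have h1 := (Classical.choose_spec c.2).2
    have h2 := (orderOf_eq_prime_iff.mp h1).1
    have h3 := hsm _ r hrp' h2 1 one_pos
    rw [pow_one, pow_one] at h3
    rw [← h3]
    exact (orderOf_eq_prime_iff.mp h1).2
  · rintro ⟨c, hc⟩ ⟨c', hc'⟩ h
    have h1 := Classical.choose_spec hc
    have h2 := Classical.choose_spec hc'
    have h3 : ((Classical.choose hc : ↥(Matrix.symplecticGroup (Fin m) F)) :
        Matrix (Fin m ⊕ Fin m) (Fin m ⊕ Fin m) F).charpoly =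
        ((Classical.choose hc' : ↥(Matrix.symplecticGroup (Fin m) F)) :
        Matrix (Fin m ⊕ Fin m) (Fin m ⊕ Fin m) F).charpoly := congrArg Subtype.val h
    have h4 := Cfsg.Agent.S2389.result p m _ _ (by rw [h1.2]; exact hcop)
      (by rw [h2.2]; exact hcop) h3
    apply Subtype.ext
    show c = c'
    rw [← h1.1, ← h2.1, ConjClasses.mk_eq_mk_iff_isConj]
    exact h4
  · rintro ⟨χ, hm, hd, hs, hns, hrev⟩
    obtain ⟨k, g, hg, hk, N, hN, hgN⟩ := exists_sp_of_spReal (spReal_of_pal hp m χ hm hrev hd)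
    have hkm : k = m := by omega
    subst hkm
    have hgN' : g ^ N = 1 := (hpow g N).mpr hgN
    have hgr : orderOf g = r := by
      rw [orderOf_eq_prime_iff]
      constructor
      · rw [hsm g N hN hgN' r hr.pos, hg]
        exact hs
      · have h3 := hsm g N hN hgN' 1 one_pos
        rw [pow_one, pow_one] at h3
        rw [Ne, h3, hg]
        exact hns
    have hex : ∃ g' : ↥(Matrix.symplecticGroup (Fin k) F),
        ConjClasses.mk g' = ConjClasses.mk g ∧ orderOf g' = r := ⟨g, rfl, hgr⟩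
    refine ⟨⟨ConjClasses.mk g, hex⟩, ?_⟩
    apply Subtype.ext
    show ((Classical.choose hex : ↥(Matrix.symplecticGroup (Fin k) F)) :
        Matrix (Fin k ⊕ Fin k) (Fin k ⊕ Fin k) F).charpoly = χ
    rw [← hg]
    have hconj : IsConj (Classical.choose hex) g := by
      rw [← ConjClasses.mk_eq_mk_iff_isConj]
      exact (Classical.choose_spec hex).1
    exact sp_charpoly_eq_of_isConj hconj

/-- the number of classes of elements of odd prime order `r ≠ p` in `Sp_2m(q)` -/
theorem card_sp_prime_order_classes {q : ℕ} (hF : Fintype.card F = q) (m r i t : ℕ)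
    (hr : r.Prime) (hr2 : r ≠ 2) (hrp : r ≠ p) (hi : i = orderOf (q : ZMod r))
    (ht : t * i = r - 1) :
    Nat.card {C : ConjClasses ↥(Matrix.symplecticGroup (Fin m) F) //
      ∃ g : Matrix.symplecticGroup (Fin m) F, ConjClasses.mk g = C ∧ orderOf g = r} =
      if Odd i then Nat.choose (m / i + t / 2) (t / 2) - 1
      else Nat.choose (2 * m / i + t) t - 1 := by
  classical
  haveI : Fact r.Prime := ⟨hr⟩
  have hi0 : 0 < i := by
    rcases Nat.eq_zero_or_pos i with h | h
    · rw [h, mul_zero] at ht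
      have := hr.two_le
      omega
    · exact h
  have h1 : (X - 1 : F[X]) ∣ X ^ r - 1 := by
    rw [← cyclotomic_prime_mul_X_sub_one F r]
    exact dvd_mul_left _ _
  have hcyc : cyclotomic r F ∣ X ^ r - 1 := by
    rw [← cyclotomic_prime_mul_X_sub_one F r]
    exact dvd_mul_right _ _
  have hS1 : ∀ f ∈ cycFactors F r, Irreducible f ∧ f.Monic ∧ f.natDegree = i ∧
      f ∣ (X ^ r - 1 : F[X]) ∧ f ≠ X - 1 := by
    intro f hf
    have h2 := (mem_cycFactors_iff r f).mp hf
    exact ⟨h2.1, h2.2.1, natDegree_of_mem_cycFactors p hr hrp hF hi f hf, h2.2.2.trans hcyc,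
      ne_X_sub_one_of_mem p hr hrp f hf⟩
  have hS2 : ∀ f : F[X], Irreducible f → f.Monic → f ∣ (X ^ r - 1 : F[X]) →
      f = X - 1 ∨ f ∈ cycFactors F r := fun f hf hm hd => factor_cases hr f hf hm hd
  have hS0 : ∀ f ∈ cycFactors F r, f.coeff 0 ≠ 0 := fun f hf => coeff_zero_ne_of_mem hr f hf
  have hDS : ∀ f ∈ cycFactors F r, starHom f ∈ cycFactors F r :=
    fun f hf => star_mem p hr hrp f hf
  have hinvol : ∀ x : ↥(cycFactors F r), DS (cycFactors F r) starHom hDS
      (DS (cycFactors F r) starHom hDS x) = x := by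
    intro x
    apply Subtype.ext
    show star (star x.1) = x.1
    exact star_star_of_monic (hS1 x.1 x.2).2.1 (hS0 x.1 x.2)
  have hcardS : Fintype.card ↥(cycFactors F r) = t := by
    rw [Fintype.card_coe, card_cycFactors p hr hrp hF hi ht]
  rw [card_sp_classes_eq_polys p m r hr hrp]
  by_cases hodd : Odd i
  · rw [if_pos hodd]
    have hfree : ∀ x : ↥(cycFactors F r), DS (cycFactors F r) starHom hDS x ≠ x := by
      intro x h
      have h2 : star x.1 = x.1 := congrArg Subtype.val h
      have hdeg := (hS1 x.1 x.2).2.2.1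
      exact star_ne_of_odd p hr hr2 hrp x.1 x.2 (by rw [hdeg]; exact hodd) h2
    have hpar : Even i ∨ ∀ μ : Multiset ↥(cycFactors F r),
        μ.map (DS (cycFactors F r) starHom hDS) = μ → Even (Multiset.card μ) :=
      Or.inr (fun μ hμ => Cfsg.Agent.Lib.Helper24.InvMul.even_card_of_invariant_free _ hinvol
        hfree μ hμ)
    rw [card_smooth_pal (cycFactors F r) (X ^ r - 1) i m hS1 hS2 hS0 hi0 hDS hpar h1,
      Cfsg.Agent.Lib.Helper24.InvMul.card_invariant_free _ hinvol hfree, hcardS]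
    have : 2 * m / i / 2 = m / i := by
      rw [Nat.div_div_eq_div_mul, mul_comm i 2, Nat.mul_div_mul_left _ _ (by norm_num : 0 < 2)]
    rw [this]
  · rw [if_neg hodd]
    have hev : Even i := Nat.not_odd_iff_even.mp hodd
    have hfix : ∀ x : ↥(cycFactors F r), DS (cycFactors F r) starHom hDS x = x := by
      intro x
      apply Subtype.ext
      show star x.1 = x.1
      exact star_eq_of_even hr hF hi hi0 hev x.1 x.2
    rw [card_smooth_pal (cycFactors F r) (X ^ r - 1) i m hS1 hS2 hS0 hi0 hDS (Or.inl hev) h1,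
      Cfsg.Agent.Lib.Helper24.InvMul.card_invariant_id _ hfix, hcardS]

end sp

end Cfsg.Agent.Lib.Helper24.Star
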