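import Mathlib
import Cfsg.Agent.Lib.Helper24.PalC
import Cfsg.Agent.Lib.Helper24.StarE

set_option autoImplicit false
set_option linter.style.haveILetI false
set_option linter.unusedSimpArgs false
set_option linter.unusedSectionVars false

namespace Cfsg.Agent.Lib.Helper24.ORe

open Polynomial Matrix
open Cfsg.Agent.Lib.Helper24.UDet Cfsg.Agent.Lib.Helper24.Pal

variable {F : Type*} [Field F] [Fintype F]

/-- `f` is the characteristic polynomial of a matrix of order prime to `p` preserving a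
nondegenerate symmetric form -/
def OReal (F : Type*) [Field F] (p : ℕ) (f : F[X]) : Prop :=
  ∃ (ι : Type) (_ : Fintype ι) (_ : DecidableEq ι) (h P : Matrix ι ι F),
    hᵀ = h ∧ IsUnit h ∧ Pᵀ * h * P = h ∧ P.charpoly = f ∧ ∃ m : ℕ, ¬ p ∣ m ∧ P ^ m = 1

theorem oReal_one (p : ℕ) (hp : p.Prime) : OReal F p 1 := by
  refine ⟨Empty, inferInstance, inferInstance, 1, 1, ?_, isUnit_one, ?_, ?_, 1, ?_, ?_⟩
  · exact Subsingleton.elim _ _
  · exact Subsingleton.elim _ _
  · exact Matrix.charpoly_isEmpty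
  · exact hp.one_lt.ne' ∘ Nat.dvd_one.1
  · exact pow_one _

theorem oReal_mul {p : ℕ} (hp : p.Prime) {f₁ f₂ : F[X]} (h₁ : OReal F p f₁)
    (h₂ : OReal F p f₂) : OReal F p (f₁ * f₂) := by
  obtain ⟨ι₁, _, _, c₁, P₁, hs₁, hu₁, hi₁, hf₁, m₁, hm₁, hP₁⟩ := h₁
  obtain ⟨ι₂, _, _, c₂, P₂, hs₂, hu₂, hi₂, hf₂, m₂, hm₂, hP₂⟩ := h₂
  obtain ⟨b₁, hb₁⟩ := hu₁.exists_right_inv
  obtain ⟨b₂, hb₂⟩ := hu₂.exists_right_inv
  refine ⟨ι₁ ⊕ ι₂, inferInstance, inferInstance, fromBlocks c₁ 0 0 c₂, fromBlocks P₁ 0 0 P₂,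
    ?_, ?_, ?_, ?_, m₁ * m₂, ?_, ?_⟩
  · simp only [fromBlocks_transpose, hs₁, hs₂, transpose_zero]
  · apply IsUnit.of_mul_eq_one (fromBlocks b₁ 0 0 b₂)
    rw [fromBlocks_multiply]
    simp only [Matrix.mul_zero, Matrix.zero_mul, add_zero, zero_add, hb₁, hb₂, fromBlocks_one]
  · rw [fromBlocks_transpose, fromBlocks_multiply, fromBlocks_multiply]
    simp only [Matrix.mul_zero, Matrix.zero_mul, add_zero, zero_add, transpose_zero, hi₁, hi₂]
  · rw [charpoly_fromBlocks_zero₁₂, hf₁, hf₂]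
  · intro h
    rcases (Nat.Prime.dvd_mul hp).1 h with h | h
    · exact hm₁ h
    · exact hm₂ h
  · rw [fromBlocks_diagonal_pow, pow_mul, hP₁, one_pow, mul_comm, pow_mul, hP₂, one_pow,
      fromBlocks_one]

/-- the hyperbolic construction -/
theorem oReal_hyp {p : ℕ} {d : ℕ} (P : Matrix (Fin d) (Fin d) F) {m : ℕ} (hm : ¬ p ∣ m)
    (hP : P ^ m = 1) :
    OReal F p (P.charpoly * (C (P.charpoly.coeff 0)⁻¹ * P.charpoly.reverse)) := by
  have hm1 : 1 ≤ m := by
    rcases Nat.eq_zero_or_pos m with h | h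
    · exact absurd (h ▸ dvd_zero p) hm
    · exact h
  obtain ⟨k, hk⟩ : ∃ k, m = k + 1 := ⟨m - 1, by omega⟩
  obtain ⟨Q, hQ⟩ : ∃ Q, Q = P ^ k := ⟨_, rfl⟩
  have hPQ : P * Q = 1 := by rw [hQ, ← pow_succ', ← hk, hP]
  have hQP : Q * P = 1 := by rw [hQ, ← pow_succ, ← hk, hP]
  refine ⟨Fin d ⊕ Fin d, inferInstance, inferInstance,
    fromBlocks (0 : Matrix (Fin d) (Fin d) F) (1 : Matrix (Fin d) (Fin d) F)
        (1 : Matrix (Fin d) (Fin d) F) (0 : Matrix (Fin d) (Fin d) F),
    fromBlocks P 0 0 Qᵀ, ?_, ?_, ?_, ?_, m, hm, ?_⟩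
  · rw [fromBlocks_transpose, transpose_zero, transpose_one]
  · apply IsUnit.of_mul_eq_one (fromBlocks 0 1 1 0)
    rw [fromBlocks_multiply]
    simp only [Matrix.mul_zero, Matrix.zero_mul, add_zero, zero_add, Matrix.mul_one,
      fromBlocks_one]
  · rw [fromBlocks_transpose, fromBlocks_multiply, fromBlocks_multiply]
    simp only [Matrix.mul_zero, Matrix.zero_mul, add_zero, zero_add, transpose_zero,
      Matrix.mul_one, transpose_transpose, Matrix.one_mul]
    rw [← transpose_mul, hQP, transpose_one]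
  · rw [charpoly_fromBlocks_zero₁₂, charpoly_transpose, charpoly_of_inv hPQ]
  · rw [fromBlocks_diagonal_pow, hP, ← transpose_pow, hQ, ← pow_mul, mul_comm, pow_mul, hP,
      one_pow, transpose_one, fromBlocks_one]

/-- one-dimensional blocks -/
theorem oReal_unit {p : ℕ} (hp2 : ¬ p ∣ 2) (a : F) (ha : a * a = 1) :
    OReal F p (X - C a) := by
  refine ⟨Unit, inferInstance, inferInstance, 1, Matrix.diagonal (fun _ => a), transpose_one,
    isUnit_one, ?_, ?_, 2, hp2, ?_⟩
  · rw [Matrix.diagonal_transpose, Matrix.mul_one, Matrix.diagonal_mul_diagonal, ha,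
      Matrix.diagonal_one]
  · rw [Matrix.charpoly_diagonal, Finset.univ_unique, Finset.prod_singleton]
  · rw [Matrix.diagonal_pow, ← Matrix.diagonal_one]
    congr 1
    funext i
    rw [Pi.pow_apply, pow_two, ha]

/-- an irreducible self-reciprocal polynomial of degree at least two is orthogonally realizable -/
theorem oReal_irr {p : ℕ} [CharP F p] (hp : p.Prime) {π : F[X]} (hmon : π.Monic)
    (hirr : Irreducible π) (h0 : π.coeff 0 ≠ 0)
    (hrev : C (π.coeff 0)⁻¹ * π.reverse = π) (hdeg : 2 ≤ π.natDegree) : OReal F p π := by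
  obtain ⟨d, hd⟩ : ∃ d, π.natDegree = d := ⟨_, rfl⟩
  obtain ⟨P, m, hPc, hm, hPm⟩ := Cfsg.Agent.Lib.Helper5.SSClass.exists_matrix_of_monic hp
    d π hd hmon h0
  have hm1 : 1 ≤ m := by
    rcases Nat.eq_zero_or_pos m with h | h
    · exact absurd (h ▸ dvd_zero p) hm
    · exact h
  obtain ⟨k, hk⟩ : ∃ k, m = k + 1 := ⟨m - 1, by omega⟩
  obtain ⟨Q, hQ⟩ : ∃ Q, Q = P ^ k := ⟨_, rfl⟩
  have hPQ : P * Q = 1 := by rw [hQ, ← pow_succ', ← hk, hPm]
  have hQP : Q * P = 1 := by rw [hQ, ← pow_succ, ← hk, hPm]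
  have hQc : Qᵀ.charpoly = P.charpoly := by
    rw [charpoly_transpose, charpoly_of_inv hPQ, hPc, hrev]
  have hQm : Qᵀ ^ m = 1 := by
    rw [← transpose_pow, hQ, ← pow_mul, mul_comm, pow_mul, hPm, one_pow, transpose_one]
  obtain ⟨c, hcu, hc⟩ := Cfsg.Agent.Lib.Helper24.SpConj.exists_unit_conj (p := p) P Qᵀ hPm hm
    hQm hm hQc.symm
  have hinv : Pᵀ * c * P = c := by
    rw [mul_assoc, hc, ← mul_assoc, ← transpose_mul, hQP, transpose_one, one_mul]
  have hirrP : Irreducible P.charpoly := by rw [hPc]; exact hirr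
  -- the key step
  have key : ∀ c' : Matrix (Fin d) (Fin d) F, Pᵀ * c' * P = c' →
      c' + c'ᵀ ≠ 0 → OReal F p π := by
    intro c' hc' hne
    have hc'T : Pᵀ * c'ᵀ * P = c'ᵀ := by
      have := congrArg transpose hc'
      rw [transpose_mul, transpose_mul, transpose_transpose, ← mul_assoc] at this
      exact this
    have ha : Pᵀ * (c' + c'ᵀ) * P = c' + c'ᵀ := by
      rw [Matrix.mul_add, Matrix.add_mul, hc', hc'T]
    have haP : (c' + c'ᵀ) * P = Qᵀ * (c' + c'ᵀ) := by
      calc (c' + c'ᵀ) * P = (Qᵀ * Pᵀ) * (c' + c'ᵀ) * P := by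
            rw [← transpose_mul, hPQ, transpose_one, Matrix.one_mul]
        _ = Qᵀ * (Pᵀ * (c' + c'ᵀ) * P) := by simp only [Matrix.mul_assoc]
        _ = Qᵀ * (c' + c'ᵀ) := by rw [ha]
    have hW : Inv P (LinearMap.ker (Matrix.toLin' (c' + c'ᵀ))) := by
      intro v hv
      rw [LinearMap.mem_ker, Matrix.toLin'_apply] at hv ⊢
      rw [Matrix.mulVec_mulVec, haP, ← Matrix.mulVec_mulVec, hv, Matrix.mulVec_zero]
    have hunit : IsUnit (c' + c'ᵀ) := by
      rcases inv_trivial_of_irreducible p hPm hm hirrP _ hW with h | h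
      · rw [LinearMap.ker_eq_bot] at h
        rw [← Matrix.mulVec_injective_iff_isUnit]
        intro v w hvw
        apply h
        rw [Matrix.toLin'_apply, Matrix.toLin'_apply]
        exact hvw
      · exfalso
        apply hne
        rw [LinearMap.ker_eq_top] at h
        have := congrArg LinearMap.toMatrix' h
        rw [LinearMap.toMatrix'_toLin'] at this
        rw [this]
        exact map_zero _
    refine ⟨Fin d, inferInstance, inferInstance, c' + c'ᵀ, P, ?_, hunit, ha, hPc, m, hm, hPm⟩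
    rw [transpose_add, transpose_transpose, add_comm]
  by_cases h1 : c + cᵀ = 0
  · by_cases h2 : c * P + (c * P)ᵀ = 0
    · exfalso
      have e1 : cᵀ = -c := (eq_neg_of_add_eq_zero_right h1)
      have e2 : c * P = Pᵀ * c := by
        have := eq_neg_of_add_eq_zero_left h2
        rw [transpose_mul, e1, Matrix.mul_neg, neg_neg] at this
        exact this
      have e3 : c * (P * P) = c * 1 := by
        rw [Matrix.mul_one, ← Matrix.mul_assoc, e2, hinv]
      obtain ⟨ci, hci⟩ := hcu.exists_left_inv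
      have e4 : P * P = 1 := by
        have := congrArg (fun x => ci * x) e3
        simp only [← Matrix.mul_assoc, hci, Matrix.one_mul] at this
        exact this
      -- polynomial contradiction
      have hnd : ¬ π ∣ (X - C 1) * (X + C 1) := by
        intro hd'
        rcases hirr.prime.dvd_or_dvd hd' with h | h
        · have := Polynomial.natDegree_le_of_dvd h (X_sub_C_ne_zero 1)
          rw [natDegree_X_sub_C] at this
          omega
        · have := Polynomial.natDegree_le_of_dvd h (X_add_C_ne_zero 1)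
          rw [natDegree_X_add_C] at this
          omega
      have hcop : IsCoprime π ((X - C 1) * (X + C 1)) := hirr.coprime_iff_not_dvd.mpr hnd
      obtain ⟨u, v, huv⟩ := hcop
      have h5 := congrArg (aeval P) huv
      have h6 : aeval P π = 0 := by rw [← hPc]; exact Matrix.aeval_self_charpoly P
      have h7 : aeval P ((X - C 1) * (X + C 1) : F[X]) = 0 := by
        have : ((X - C 1) * (X + C 1) : F[X]) = X * X - 1 := by rw [C_1]; ring
        rw [this, map_sub, map_mul, aeval_X, map_one, e4, sub_self]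
      rw [map_add, map_mul, map_mul, h6, h7, mul_zero, mul_zero, add_zero, map_one] at h5
      haveI : Nonempty (Fin d) := ⟨⟨0, by omega⟩⟩
      exact zero_ne_one h5
    · exact key (c * P) (by rw [← Matrix.mul_assoc, hinv]) h2
  · exact key c hinv h1

end Cfsg.Agent.Lib.Helper24.ORe
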