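import Mathlib
import Cfsg.Agent.Lib.Helper24.ORealA

set_option autoImplicit false
set_option linter.style.haveILetI false
set_option linter.unusedSimpArgs false
set_option linter.unusedSectionVars false

namespace Cfsg.Agent.Lib.Helper24.ORe

open Polynomial Matrix
open Cfsg.Agent.Lib.Helper24.UDet Cfsg.Agent.Lib.Helper24.Pal

variable {F : Type*} [Field F] [Fintype F]

theorem coeff_zero_ne_of_star {f : F[X]} (hm : f.Monic) (hs : Helper24.Star.star f = f) :
    f.coeff 0 ≠ 0 := by
  intro h0
  unfold Helper24.Star.star at hs
  rw [h0, _root_.inv_zero, C_0, zero_mul] at hs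
  exact hm.ne_zero hs.symm

/-- every monic self-reciprocal polynomial is orthogonally realizable (odd characteristic) -/
theorem oReal_of_star {p : ℕ} [CharP F p] (hp : p.Prime) (hp2 : ¬ p ∣ 2) :
    ∀ (n : ℕ) (f : F[X]), f.Monic → Helper24.Star.star f = f → f.natDegree = n →
      OReal F p f := by
  intro n
  induction n using Nat.strong_induction_on with
  | _ n ih =>
    intro f hmon hstar hdeg
    rcases Nat.eq_zero_or_pos n with hn0 | hnpos
    · subst hn0
      have : f = 1 := hmon.natDegree_eq_zero.mp hdeg
      rw [this]
      exact oReal_one p hp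
    have hf0 : f.coeff 0 ≠ 0 := coeff_zero_ne_of_star hmon hstar
    have hnu : ¬ IsUnit f := not_isUnit_of_natDegree_pos f (by rw [hdeg]; omega)
    obtain ⟨π, hπm, hπi, r, hfr⟩ := exists_monic_irreducible_factor f hnu
    have hcoef : π.coeff 0 * r.coeff 0 ≠ 0 := by rw [← mul_coeff_zero, ← hfr]; exact hf0
    have hπ0 : π.coeff 0 ≠ 0 := left_ne_zero_of_mul hcoef
    have hr0 : r.coeff 0 ≠ 0 := right_ne_zero_of_mul hcoef
    have hrm : r.Monic := hπm.of_mul_monic_left (hfr ▸ hmon)
    have hdπ : 1 ≤ π.natDegree := hπi.natDegree_pos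
    have hdsum : π.natDegree + r.natDegree = n := by
      rw [← hπm.natDegree_mul hrm, ← hfr, hdeg]
    obtain ⟨π', hπ'def⟩ : ∃ π', π' = Helper24.Star.star π := ⟨_, rfl⟩
    have hπ'm : π'.Monic := by rw [hπ'def]; exact Helper24.Star.star_monic hπ0
    have hπ'd : π'.natDegree = π.natDegree := by
      rw [hπ'def]; exact Helper24.Star.star_natDegree hπ0
    have hπ'f : π' ∣ f := by
      rw [hπ'def, ← hstar, hfr, Helper24.Star.star_mul]
      exact dvd_mul_right _ _
    have hss : Helper24.Star.star π' = π := by
      rw [hπ'def]; exact Helper24.Star.star_star_of_monic hπm hπ0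
    by_cases hdvd : π * π' ∣ f
    · -- Case A
      obtain ⟨s, hs⟩ := hdvd
      have hum : (π * π').Monic := hπm.mul hπ'm
      have hsm : s.Monic := hum.of_mul_monic_left (hs ▸ hmon)
      have hustar : Helper24.Star.star (π * π') = π * π' := by
        rw [Helper24.Star.star_mul, hss, ← hπ'def, mul_comm]
      have hsstar : Helper24.Star.star s = s := by
        have h1 : Helper24.Star.star f = (π * π') * Helper24.Star.star s := by
          rw [hs, Helper24.Star.star_mul, hustar]
        rw [hstar, hs] at h1
        exact (mul_left_cancel₀ hum.ne_zero h1).symm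
      have hsd := hum.natDegree_mul hsm
      rw [← hs, hdeg, hπm.natDegree_mul hπ'm, hπ'd] at hsd
      obtain ⟨P, m, hPc, hm, hPm⟩ := Cfsg.Agent.Lib.Helper5.SSClass.exists_matrix_of_monic hp
        π.natDegree π rfl hπm hπ0
      have h1 : OReal F p (π * π') := by
        have := oReal_hyp (p := p) P hm hPm
        rw [hPc] at this
        rw [hπ'def]
        exact this
      have h2 : OReal F p s := ih s.natDegree (by omega) s hsm hsstar rfl
      rw [hs]
      exact oReal_mul hp h1 h2
    · -- Case B
      have hππ' : π' = π := by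
        by_contra hne
        have hnd : ¬ π ∣ π' := fun h =>
          hne (eq_of_monic_of_dvd_of_natDegree_le hπm hπ'm h (by rw [hπ'd]))
        have hcop : IsCoprime π π' := hπi.coprime_iff_not_dvd.mpr hnd
        exact hdvd (hcop.mul_dvd ⟨r, hfr⟩ hπ'f)
      have hπstar : Helper24.Star.star π = π := by rw [← hπ'def, hππ']
      have hrstar : Helper24.Star.star r = r := by
        have h1 : Helper24.Star.star f = π * Helper24.Star.star r := by
          rw [hfr, Helper24.Star.star_mul, hπstar]
        rw [hstar, hfr] at h1
        exact (mul_left_cancel₀ hπm.ne_zero h1).symm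
      have h2 : OReal F p r := ih r.natDegree (by omega) r hrm hrstar rfl
      have h1 : OReal F p π := by
        by_cases hdeg2 : 2 ≤ π.natDegree
        · exact oReal_irr hp hπm hπi hπ0 hπstar hdeg2
        · have hd1 : π.natDegree = 1 := by omega
          have hπX : π = X + C (π.coeff 0) := hπm.eq_X_add_C hd1
          have hsq : π.coeff 0 * π.coeff 0 = 1 := by
            have h3 := congrArg (fun g => g.coeff 0) hπstar
            simp only [Helper24.Star.star_coeff_zero, hπm.leadingCoeff, mul_one] at h3
            have h5 := inv_mul_cancel₀ hπ0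
            rw [h3] at h5
            exact h5
          have h4 := oReal_unit (p := p) hp2 (-(π.coeff 0)) (by rw [neg_mul_neg]; exact hsq)
          rw [C_neg, sub_neg_eq_add, ← hπX] at h4
          exact h4
      rw [hfr]
      exact oReal_mul hp h1 h2

end Cfsg.Agent.Lib.Helper24.ORe
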