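import Mathlib
import Cfsg.Agent.Lib.Helper24.ORealB
import Cfsg.Agent.Lib.Helper24.OConjC
import Cfsg.Agent.Lib.Helper19.QuadStd

set_option autoImplicit false
set_option linter.style.haveILetI false
set_option linter.unusedSimpArgs false
set_option linter.unusedSectionVars false

namespace Cfsg.Agent.Lib.Helper24.ORe

open Polynomial Matrix Cfsg QuadraticMap
open Cfsg.Agent.Lib.Helper19.QuadWitt Cfsg.Agent.Lib.Helper19.QuadStd
open Cfsg.Agent.Lib.Helper24.OConj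

variable {F : Type*} [Field F] [Fintype F]

/-- an orthogonally realizable polynomial of degree `2m+1` is the characteristic polynomial of an
element of the standard odd-dimensional orthogonal group -/
theorem exists_o_of_oReal {p : ℕ} (h2 : (2 : F) ≠ 0) {f : F[X]} {m : ℕ}
    (hdeg : f.natDegree = 2 * m + 1) (h : OReal F p f) :
    ∃ g : ↥(Cfsg.isometryGroup F (Cfsg.quadFormOdd m F)),
      ((g : GL (Unit ⊕ (Fin m ⊕ Fin m)) F) :
        Matrix (Unit ⊕ (Fin m ⊕ Fin m)) (Unit ⊕ (Fin m ⊕ Fin m)) F).charpoly = f ∧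
      ∃ N, ¬ p ∣ N ∧ ((g : GL (Unit ⊕ (Fin m ⊕ Fin m)) F) :
        Matrix (Unit ⊕ (Fin m ⊕ Fin m)) (Unit ⊕ (Fin m ⊕ Fin m)) F) ^ N = 1 := by
  classical
  obtain ⟨ι, _, _, a, P, hs, hu, hinv, hf, N, hN, hPN⟩ := h
  obtain ⟨B, hBdef⟩ : ∃ B : LinearMap.BilinForm F (ι → F), B = Matrix.toBilin' a := ⟨_, rfl⟩
  have hB : ∀ x y, B x y = x ⬝ᵥ a *ᵥ y := by
    intro x y
    rw [hBdef]
    exact Matrix.toBilin'_apply' a x y
  have hBsymm : ∀ x y, B x y = B y x := by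
    intro x y
    rw [hB, hB, dotProduct_comm, ← Matrix.vecMul_transpose, hs, ← Matrix.dotProduct_mulVec,
      dotProduct_comm]
  obtain ⟨Qh, hQhdef⟩ : ∃ Qh : QuadraticForm F (ι → F), Qh = B.toQuadraticMap := ⟨_, rfl⟩
  have hQh : ∀ x, Qh x = B x x := by
    intro x
    rw [hQhdef]
    exact LinearMap.BilinMap.toQuadraticMap_apply B x
  have hpolar : ∀ x y, polar ⇑Qh x y = 2 * B x y := by
    intro x y
    rw [hQhdef, LinearMap.BilinMap.polar_toQuadraticMap, hBsymm y x]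
    ring
  have hnd : (polarBilin Qh).Nondegenerate := by
    apply nondegenerate_of_sep
    intro v hv
    have h1 : v ᵥ* a = 0 := by
      funext i
      have := hv (Pi.single i 1)
      rw [hpolar, hB, Matrix.dotProduct_mulVec, dotProduct_single, mul_one] at this
      rcases mul_eq_zero.mp this with h | h
      · exact absurd h h2
      · exact h
    obtain ⟨ai, hai⟩ := hu.exists_right_inv
    have h3 : v = (v ᵥ* a) ᵥ* ai := by
      rw [Matrix.vecMul_vecMul, hai, Matrix.vecMul_one]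
    rw [h3, h1, Matrix.zero_vecMul]
  have hBP : ∀ v w, B (P *ᵥ v) (P *ᵥ w) = B v w := by
    intro v w
    rw [hB, hB]
    have h1 : (P *ᵥ v) ⬝ᵥ a *ᵥ (P *ᵥ w) = v ⬝ᵥ Pᵀ *ᵥ (a *ᵥ (P *ᵥ w)) := by
      rw [Matrix.dotProduct_mulVec v, Matrix.vecMul_transpose]
    rw [h1, Matrix.mulVec_mulVec, Matrix.mulVec_mulVec, hinv]
  have hQP : ∀ v, Qh (P *ᵥ v) = Qh v := by
    intro v
    rw [hQh, hQh, hBP]
  have hcard : Fintype.card ι = 2 * m + 1 := by
    rw [← hdeg, ← hf, Matrix.charpoly_natDegree_eq_dim]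
  have hV : Module.finrank F (ι → F) = 2 * m + 1 := by
    rw [Module.finrank_fintype_fun_eq_card, hcard]
  obtain ⟨e, f', x, hH, hx, hQx⟩ := odd_structure hnd hV
  obtain ⟨c, hcdef⟩ : ∃ c : F, c = Qh x := ⟨_, rfl⟩
  have hc : c ≠ 0 := by rw [hcdef]; exact hQx
  obtain ⟨T, hTdef⟩ : ∃ T : (Unit ⊕ (Fin m ⊕ Fin m) → F) →ₗ[F] (ι → F),
      T = Fintype.linearCombination F
        (Sum.elim (fun _ : Unit => x) (Sum.elim (fun i => c • e i) f')) := ⟨_, rfl⟩
  have hT : ∀ w, Qh (T w) = c * stdOdd m F w := by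
    intro w
    obtain ⟨r, hr⟩ : ∃ r : Unit ⊕ (Fin m ⊕ Fin m) → F, r = fun s =>
        Sum.elim (fun u => w (Sum.inl u))
          (Sum.elim (fun i => c * w (Sum.inr (Sum.inl i))) (fun i => w (Sum.inr (Sum.inr i)))) s :=
      ⟨_, rfl⟩
    have h1 : T w = ∑ s, r s • Sum.elim (fun _ : Unit => x) (Sum.elim e f') s := by
      rw [hTdef, Fintype.linearCombination_apply, Fintype.sum_sum_type, Fintype.sum_sum_type,
        Fintype.sum_sum_type, Fintype.sum_sum_type, hr]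
      simp only [Sum.elim_inl, Sum.elim_inr, smul_smul]
      congr 2
      apply Finset.sum_congr rfl
      intro i _
      rw [mul_comm]
    rw [h1, Q_fam_odd hH hx, stdOdd_apply, ← hcdef, hr]
    unfold Cfsg.quadFormOdd
    simp only [Sum.elim_inl, Sum.elim_inr]
    rw [mul_add, Finset.mul_sum]
    rw [add_comm]
    congr 1
    · ring
    · apply Finset.sum_congr rfl
      intro i _
      ring
  have hdim : Module.finrank F (Unit ⊕ (Fin m ⊕ Fin m) → F) = Module.finrank F (ι → F) := by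
    rw [hV, Module.finrank_fintype_fun_eq_card]
    simp only [Fintype.card_sum, Fintype.card_fin, Fintype.card_unit]
    omega
  obtain ⟨TE, hTE⟩ : ∃ TE : (Unit ⊕ (Fin m ⊕ Fin m) → F) ≃ₗ[F] (ι → F), ∀ w, TE w = T w :=
    ⟨similarityEquiv (Q := stdOdd m F) (Q' := Qh) (stdOdd_nondeg m h2) T hc hT hdim,
      fun w => rfl⟩
  have hTQ : ∀ w, Cfsg.quadFormOdd m F w = c⁻¹ * Qh (TE w) := by
    intro w
    rw [hTE, hT, ← mul_assoc, inv_mul_cancel₀ hc, one_mul, stdOdd_apply]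
  obtain ⟨L, hL⟩ : ∃ L : (Unit ⊕ (Fin m ⊕ Fin m) → F) →ₗ[F] (Unit ⊕ (Fin m ⊕ Fin m) → F),
      L = TE.symm.conj (Matrix.toLin' P) := ⟨_, rfl⟩
  have hLx : ∀ w, L w = TE.symm (P *ᵥ TE w) := by
    intro w
    rw [hL, LinearEquiv.conj_apply]
    simp only [LinearMap.coe_comp, LinearEquiv.coe_coe, Function.comp_apply,
      LinearEquiv.symm_symm, Matrix.toLin'_apply]
  obtain ⟨A, hAdef⟩ : ∃ A : Matrix (Unit ⊕ (Fin m ⊕ Fin m)) (Unit ⊕ (Fin m ⊕ Fin m)) F,
      A = LinearMap.toMatrix' L := ⟨_, rfl⟩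
  have hAx : ∀ w, A *ᵥ w = L w := by
    intro w
    rw [hAdef, LinearMap.toMatrix'_mulVec]
  have hpow : ∀ j : ℕ, ∀ w, (L ^ j) w = TE.symm ((P ^ j) *ᵥ TE w) := by
    intro j
    induction j with
    | zero =>
      intro w
      rw [pow_zero, pow_zero, Matrix.one_mulVec, LinearEquiv.symm_apply_apply]
      rfl
    | succ j ih =>
      intro w
      rw [pow_succ, Module.End.mul_apply, ih, hLx, LinearEquiv.apply_symm_apply,
        Matrix.mulVec_mulVec, ← pow_succ]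
  have hLN : L ^ N = 1 := by
    apply LinearMap.ext
    intro w
    rw [hpow, hPN, Matrix.one_mulVec, LinearEquiv.symm_apply_apply]
    rfl
  have hA' : A = LinearMap.toMatrixAlgEquiv' L := by rw [hAdef]; rfl
  have hAN : A ^ N = 1 := by rw [hA', ← map_pow, hLN, map_one]
  have hN1 : 1 ≤ N := by
    rcases Nat.eq_zero_or_pos N with h | h
    · exact absurd (h ▸ dvd_zero p) hN
    · exact h
  obtain ⟨k, hk⟩ : ∃ k, N = k + 1 := ⟨N - 1, by omega⟩
  obtain ⟨U, hU⟩ : ∃ U : GL (Unit ⊕ (Fin m ⊕ Fin m)) F, U.1 = A :=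
    ⟨⟨A, A ^ k, by rw [← pow_succ', ← hk, hAN], by rw [← pow_succ, ← hk, hAN]⟩, rfl⟩
  have hUmem : U ∈ Cfsg.isometryGroup F (Cfsg.quadFormOdd m F) := by
    rw [mem_iso_iff]
    intro u
    show Cfsg.quadFormOdd m F (U.1 *ᵥ u) = _
    rw [hU, hAx, hTQ, hLx, LinearEquiv.apply_symm_apply, hQP, ← hTQ]
  refine ⟨⟨U, hUmem⟩, ?_, N, hN, ?_⟩
  · show U.1.charpoly = f
    rw [hU, hAdef, ← LinearMap.toMatrix_eq_toMatrix', LinearMap.charpoly_toMatrix, hL,
      LinearEquiv.charpoly_conj, Matrix.charpoly_toLin', hf]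
  · show U.1 ^ N = 1
    rw [hU, hAN]

end Cfsg.Agent.Lib.Helper24.ORe
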