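import Mathlib
import Cfsg.Agent.Lib.Helper24.ORealC
import Cfsg.Agent.Lib.Helper24.PalF

set_option autoImplicit false
set_option linter.style.haveILetI false
set_option linter.unusedSimpArgs false
set_option linter.unusedSectionVars false

namespace Cfsg.Agent.Lib.Helper24.ORe

open Polynomial Matrix Cfsg QuadraticMap
open Cfsg.Agent.Lib.Helper19.QuadWitt Cfsg.Agent.Lib.Helper19.QuadStd
open Cfsg.Agent.Lib.Helper24.OConj Cfsg.Agent.Lib.Helper24.Pal
open Cfsg.Agent.Lib.Helper5.PrimeOrd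

variable {F : Type*} [Field F] [Fintype F]

/-- the characteristic polynomial of an isometry is self-reciprocal -/
theorem o_charpoly_star {ι : Type} [Fintype ι] [DecidableEq ι] (Q : QuadraticForm F (ι → F))
    (hQ : (polarBilin Q).Nondegenerate) {A : Matrix ι ι F} (hA : ∀ v, Q (A *ᵥ v) = Q v) :
    Helper24.Star.star A.charpoly = A.charpoly := by
  have h1 := adj_mul_self Q hQ hA
  have h2 : A * adjO Q A = 1 := mul_eq_one_comm.mp h1
  have h3 := charpoly_of_inv' h2
  unfold Helper24.Star.star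
  rw [← h3]
  unfold adjO
  rw [Matrix.mul_assoc, Matrix.charpoly_mul_comm, Matrix.mul_assoc, gram_mul_inv Q hQ,
    Matrix.mul_one, Matrix.charpoly_transpose]

/-- classes of elements of odd prime order `r ≠ p` in the odd-dimensional orthogonal group
correspond to self-reciprocal smooth polynomials -/
theorem card_oodd_classes_eq_polys (p : ℕ) [Fact p.Prime] [CharP F p] (h2 : (2 : F) ≠ 0)
    (m r : ℕ) (hr : r.Prime) (hr2 : r ≠ 2) (hrp : r ≠ p) :
    Nat.card {C : ConjClasses ↥(Cfsg.isometryGroup F (Cfsg.quadFormOdd m F)) //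
      ∃ g : ↥(Cfsg.isometryGroup F (Cfsg.quadFormOdd m F)),
        ConjClasses.mk g = C ∧ orderOf g = r} =
    Nat.card {χ : F[X] // χ.Monic ∧ χ.natDegree = 2 * m + 1 ∧ Smooth (X ^ r - 1) χ ∧
      ¬ Smooth (X - 1) χ ∧ Helper24.Star.starHom χ = χ} := by
  have hp : p.Prime := Fact.out
  haveI : Fact r.Prime := ⟨hr⟩
  have hrp' : ¬ p ∣ r := by
    intro h
    exact hrp ((Nat.prime_dvd_prime_iff_eq hp hr).mp h).symm
  have hp2 : ¬ p ∣ 2 := by
    intro h
    apply h2
    have := (CharP.cast_eq_zero_iff F p 2).mpr h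
    exact_mod_cast this
  have hrF : ((r : ℕ) : F) ≠ 0 := by
    rw [Ne, CharP.cast_eq_zero_iff F p]
    exact hrp'
  have hrodd : Odd r := hr.eq_two_or_odd'.resolve_left hr2
  have hQnd := stdOdd_nondeg (F := F) m h2
  have hiso : ∀ (g : ↥(Cfsg.isometryGroup F (Cfsg.quadFormOdd m F))) v,
      stdOdd m F (g.1.1 *ᵥ v) = stdOdd m F v := by
    intro g v
    rw [stdOdd_apply, stdOdd_apply]
    exact (mem_iso_iff _ g.1).mp g.2 v
  have hpow : ∀ (g : ↥(Cfsg.isometryGroup F (Cfsg.quadFormOdd m F))) (k : ℕ),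
      g ^ k = 1 ↔ g.1.1 ^ k = 1 := by
    intro g k
    constructor
    · intro h
      have h1 := congrArg (fun x : ↥(Cfsg.isometryGroup F (Cfsg.quadFormOdd m F)) =>
        (x.1.1 : Matrix _ _ F)) h
      simp only [Subgroup.coe_pow, Units.val_pow_eq_pow_val] at h1
      exact h1
    · intro h
      apply Subtype.ext
      apply Units.ext
      rw [Subgroup.coe_pow, Units.val_pow_eq_pow_val]
      exact h
  have hsm : ∀ (g : ↥(Cfsg.isometryGroup F (Cfsg.quadFormOdd m F))) (N : ℕ), ¬ p ∣ N →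
      g ^ N = 1 → ∀ k : ℕ, 0 < k → (g ^ k = 1 ↔ Smooth (X ^ k - 1) g.1.1.charpoly) := by
    intro g N hN hgN k hk
    rw [hpow]
    exact Helper24.Star.mat_pow_eq_one_iff_smooth p _ hN ((hpow g N).mp hgN) k hk
  have hconjcp : ∀ {g h : ↥(Cfsg.isometryGroup F (Cfsg.quadFormOdd m F))}, IsConj g h →
      g.1.1.charpoly = h.1.1.charpoly := by
    intro g h hc
    rw [isConj_iff] at hc
    obtain ⟨u, hu⟩ := hc
    have h1 : h.1.1 = u.1.1 * g.1.1 * (u⁻¹).1.1 := by
      rw [← hu]
      rfl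
    have h2' : (u⁻¹).1.1 * u.1.1 = 1 := by
      have := congrArg (fun x : ↥(Cfsg.isometryGroup F (Cfsg.quadFormOdd m F)) =>
        (x.1.1 : Matrix _ _ F)) (inv_mul_cancel u)
      exact this
    rw [h1, Matrix.charpoly_mul_comm, ← Matrix.mul_assoc, h2', Matrix.one_mul]
  apply Nat.card_congr
  refine Equiv.ofBijective (fun c => ⟨(Classical.choose c.2 :
    ↥(Cfsg.isometryGroup F (Cfsg.quadFormOdd m F))).1.1.charpoly,
    Matrix.charpoly_monic _, ?_, ?_, ?_, ?_⟩) ⟨?_, ?_⟩
  · rw [Matrix.charpoly_natDegree_eq_dim]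
    simp only [Fintype.card_sum, Fintype.card_fin, Fintype.card_unit]
    omega
  · have h1 := (Classical.choose_spec c.2).2
    have h3 := (orderOf_eq_prime_iff.mp h1).1
    exact (hsm _ r hrp' h3 r hr.pos).mp h3
  · have h1 := (Classical.choose_spec c.2).2
    have h3 := (orderOf_eq_prime_iff.mp h1).1
    have h4 := hsm _ r hrp' h3 1 one_pos
    rw [pow_one, pow_one] at h4
    rw [← h4]
    exact (orderOf_eq_prime_iff.mp h1).2
  · rw [Helper24.Star.starHom_apply]
    exact o_charpoly_star (stdOdd m F) hQnd (hiso _)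
  · rintro ⟨c, hc⟩ ⟨c', hc'⟩ h
    have h1 := Classical.choose_spec hc
    have h1' := Classical.choose_spec hc'
    obtain ⟨g, hg⟩ : ∃ g : ↥(Cfsg.isometryGroup F (Cfsg.quadFormOdd m F)),
      g = Classical.choose hc := ⟨_, rfl⟩
    obtain ⟨g', hg'⟩ : ∃ g' : ↥(Cfsg.isometryGroup F (Cfsg.quadFormOdd m F)),
      g' = Classical.choose hc' := ⟨_, rfl⟩
    rw [← hg] at h1
    rw [← hg'] at h1'
    have h3 : g.1.1.charpoly = g'.1.1.charpoly := by
      rw [hg, hg']
      exact congrArg Subtype.val h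
    have hgr : g.1.1 ^ r = 1 := (hpow g r).mp (orderOf_eq_prime_iff.mp h1.2).1
    have hgr' : g'.1.1 ^ r = 1 := (hpow g' r).mp (orderOf_eq_prime_iff.mp h1'.2).1
    obtain ⟨c₀, hcu, hcab⟩ := Cfsg.Agent.Lib.Helper24.SpConj.exists_unit_conj (p := p)
      g.1.1 g'.1.1 hgr hrp' hgr' hrp' h3
    obtain ⟨φ, hφQ, hφAB⟩ := OConj.main (stdOdd m F) hQnd (hiso g) (hiso g') hcu hcab hgr hrF
      hrodd
    have hconj : IsConj g g' := by
      apply conj_of_equiv (Cfsg.quadFormOdd m F) g g' φ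
      · intro v
        rw [← stdOdd_apply, ← stdOdd_apply]
        exact hφQ v
      · exact hφAB
    apply Subtype.ext
    show c = c'
    rw [← h1.1, ← h1'.1, ConjClasses.mk_eq_mk_iff_isConj]
    exact hconj
  · rintro ⟨χ, hm, hd, hs, hns, hsd⟩
    rw [Helper24.Star.starHom_apply] at hsd
    have hur : OReal F p χ := oReal_of_star hp hp2 (2 * m + 1) χ hm hsd hd
    obtain ⟨g, hgc, N, hN, hgN'⟩ := exists_o_of_oReal h2 hd hur
    have hgN : g ^ N = 1 := by
      rw [hpow]
      exact hgN'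
    have hgr : orderOf g = r := by
      rw [orderOf_eq_prime_iff]
      constructor
      · rw [hsm g N hN hgN r hr.pos, hgc]
        exact hs
      · have h3 := hsm g N hN hgN 1 one_pos
        rw [pow_one, pow_one] at h3
        rw [Ne, h3, hgc]
        exact hns
    have hex : ∃ g' : ↥(Cfsg.isometryGroup F (Cfsg.quadFormOdd m F)),
        ConjClasses.mk g' = ConjClasses.mk g ∧ orderOf g' = r := ⟨g, rfl, hgr⟩
    refine ⟨⟨ConjClasses.mk g, hex⟩, ?_⟩
    apply Subtype.ext
    show (Classical.choose hex : ↥(Cfsg.isometryGroup F (Cfsg.quadFormOdd m F))).1.1.charpoly = χ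
    rw [← hgc]
    have hconj : IsConj (Classical.choose hex) g := by
      rw [← ConjClasses.mk_eq_mk_iff_isConj]
      exact (Classical.choose_spec hex).1
    exact hconjcp hconj

end Cfsg.Agent.Lib.Helper24.ORe
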