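import Mathlib
import Cfsg.Agent.Lib.Helper24.ORealD

set_option autoImplicit false
set_option linter.style.haveILetI false
set_option linter.unusedSimpArgs false
set_option linter.unusedSectionVars false

namespace Cfsg.Agent.Lib.Helper24.ORe

open Polynomial Matrix Cfsg
open Cfsg.Agent.Lib.Helper5.PrimeOrd
open Cfsg.Agent.Lib.Helper24.Star

variable {F : Type*} [Field F] [Fintype F]

theorem card_oodd_prime_order_classes (p : ℕ) [Fact p.Prime] [CharP F p] {q : ℕ}
    (hF : Fintype.card F = q) (hq : Odd q) (m r i t : ℕ)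
    (hr : r.Prime) (hr2 : r ≠ 2) (hrp : r ≠ p) (hi : i = orderOf (q : ZMod r))
    (ht : t * i = r - 1) :
    Nat.card {C : ConjClasses ↥(Cfsg.isometryGroup F (Cfsg.quadFormOdd m F)) //
      ∃ g : ↥(Cfsg.isometryGroup F (Cfsg.quadFormOdd m F)),
        ConjClasses.mk g = C ∧ orderOf g = r} =
      if Odd i then Nat.choose (m / i + t / 2) (t / 2) - 1
      else Nat.choose ((2 * m + 1) / i + t) t - 1 := by
  classical
  haveI : Fact r.Prime := ⟨hr⟩
  have h2 : (2 : F) ≠ 0 := by
    apply Ring.two_ne_zero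
    intro h
    have := FiniteField.even_card_iff_char_two.mp h
    rw [hF] at this
    rcases hq with ⟨k, hk⟩
    omega
  have hi0 : 0 < i := by
    rcases Nat.eq_zero_or_pos i with h | h
    · rw [h, mul_zero] at ht
      have := hr.two_le
      omega
    · exact h
  have h1 : (X - 1 : F[X]) ∣ X ^ r - 1 := by
    rw [← cyclotomic_prime_mul_X_sub_one F r]
    exact dvd_mul_left _ _
  have hcyc : cyclotomic r F ∣ X ^ r - 1 := by
    rw [← cyclotomic_prime_mul_X_sub_one F r]
    exact dvd_mul_right _ _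
  have hS1 : ∀ f ∈ cycFactors F r, Irreducible f ∧ f.Monic ∧ f.natDegree = i ∧
      f ∣ (X ^ r - 1 : F[X]) ∧ f ≠ X - 1 := by
    intro f hf
    have h2 := (mem_cycFactors_iff r f).mp hf
    exact ⟨h2.1, h2.2.1, natDegree_of_mem_cycFactors p hr hrp hF hi f hf, h2.2.2.trans hcyc,
      ne_X_sub_one_of_mem p hr hrp f hf⟩
  have hS2 : ∀ f : F[X], Irreducible f → f.Monic → f ∣ (X ^ r - 1 : F[X]) →
      f = X - 1 ∨ f ∈ cycFactors F r := fun f hf hm hd => factor_cases hr f hf hm hd
  have hS0 : ∀ f ∈ cycFactors F r, f.coeff 0 ≠ 0 := fun f hf => coeff_zero_ne_of_mem hr f hf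
  have hDS : ∀ f ∈ cycFactors F r, starHom f ∈ cycFactors F r :=
    fun f hf => star_mem p hr hrp f hf
  have hinvol : ∀ x : ↥(cycFactors F r), DS (cycFactors F r) starHom hDS
      (DS (cycFactors F r) starHom hDS x) = x := by
    intro x
    apply Subtype.ext
    show star (star x.1) = x.1
    exact star_star_of_monic (hS1 x.1 x.2).2.1 (hS0 x.1 x.2)
  have hcardS : Fintype.card ↥(cycFactors F r) = t := by
    rw [Fintype.card_coe, card_cycFactors p hr hrp hF hi ht]
  rw [card_oodd_classes_eq_polys p h2 m r hr hr2 hrp,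
    card_smooth_invariant (cycFactors F r) (X ^ r - 1) i (2 * m + 1) hS1 hS2 h1 hi0 starHom
      star_X_sub_one hDS]
  by_cases hodd : Odd i
  · rw [if_pos hodd]
    have hfree : ∀ x : ↥(cycFactors F r), DS (cycFactors F r) starHom hDS x ≠ x := by
      intro x h
      have h2 : star x.1 = x.1 := congrArg Subtype.val h
      have hdeg := (hS1 x.1 x.2).2.2.1
      exact star_ne_of_odd p hr hr2 hrp x.1 x.2 (by rw [hdeg]; exact hodd) h2
    rw [Cfsg.Agent.Lib.Helper24.InvMul.card_invariant_free _ hinvol hfree, hcardS]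
    have : (2 * m + 1) / i / 2 = m / i := by
      rw [Nat.div_div_eq_div_mul, mul_comm i 2, ← Nat.div_div_eq_div_mul]
      congr 1
      omega
    rw [this]
  · rw [if_neg hodd]
    have hev : Even i := Nat.not_odd_iff_even.mp hodd
    have hfix : ∀ x : ↥(cycFactors F r), DS (cycFactors F r) starHom hDS x = x := by
      intro x
      apply Subtype.ext
      show star x.1 = x.1
      exact star_eq_of_even hr hF hi hi0 hev x.1 x.2
    rw [Cfsg.Agent.Lib.Helper24.InvMul.card_invariant_id _ hfix, hcardS]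

end Cfsg.Agent.Lib.Helper24.ORe
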