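import Mathlib
import Cfsg.Agent.Lib.Helper24.ORealE

set_option autoImplicit false
set_option linter.style.haveILetI false
set_option linter.unusedSimpArgs false
set_option linter.unusedSectionVars false

namespace Cfsg.Agent.Lib.Helper24.OEv

open Polynomial Matrix Cfsg QuadraticMap
open Cfsg.Agent.Lib.Helper19.QuadWitt Cfsg.Agent.Lib.Helper19.QuadStd
open Cfsg.Agent.Lib.Helper24.UDet Cfsg.Agent.Lib.Helper24.Pal

variable {F : Type*} [Field F]

section qsum

variable {ι κ : Type} [Fintype ι] [DecidableEq ι] [Fintype κ] [DecidableEq κ]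

/-- orthogonal sum of quadratic forms on function spaces -/
noncomputable def qsum (QA : QuadraticForm F (ι → F)) (QB : QuadraticForm F (κ → F)) :
    QuadraticForm F (ι ⊕ κ → F) :=
  QA.comp (LinearMap.funLeft F F Sum.inl) + QB.comp (LinearMap.funLeft F F Sum.inr)

theorem qsum_apply (QA : QuadraticForm F (ι → F)) (QB : QuadraticForm F (κ → F))
    (v : ι ⊕ κ → F) : qsum QA QB v = QA (v ∘ Sum.inl) + QB (v ∘ Sum.inr) := rfl

theorem polar_qsum (QA : QuadraticForm F (ι → F)) (QB : QuadraticForm F (κ → F))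
    (v w : ι ⊕ κ → F) : polar ⇑(qsum QA QB) v w =
      polar ⇑QA (v ∘ Sum.inl) (w ∘ Sum.inl) + polar ⇑QB (v ∘ Sum.inr) (w ∘ Sum.inr) := by
  unfold polar
  simp only [qsum_apply]
  have h1 : (v + w) ∘ Sum.inl = v ∘ Sum.inl + w ∘ (Sum.inl : ι → ι ⊕ κ) := rfl
  have h2 : (v + w) ∘ Sum.inr = v ∘ Sum.inr + w ∘ (Sum.inr : κ → ι ⊕ κ) := rfl
  rw [h1, h2]
  ring

theorem qsum_nondeg {QA : QuadraticForm F (ι → F)} {QB : QuadraticForm F (κ → F)}
    (hA : (polarBilin QA).Nondegenerate) (hB : (polarBilin QB).Nondegenerate) :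
    (polarBilin (qsum QA QB)).Nondegenerate := by
  apply nondegenerate_of_sep
  intro v hv
  have h1 : v ∘ Sum.inl = 0 := by
    apply hA.1
    intro w
    have := hv (Sum.elim w 0)
    rw [polar_qsum] at this
    have e1 : (Sum.elim w (0 : κ → F)) ∘ Sum.inl = w := rfl
    have e2 : (Sum.elim w (0 : κ → F)) ∘ Sum.inr = 0 := rfl
    rw [e1, e2, polar_zero_right, add_zero] at this
    rw [polarBilin_apply_apply]
    exact this
  have h2 : v ∘ Sum.inr = 0 := by
    apply hB.1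
    intro w
    have := hv (Sum.elim 0 w)
    rw [polar_qsum] at this
    have e1 : (Sum.elim (0 : ι → F) w) ∘ Sum.inl = 0 := rfl
    have e2 : (Sum.elim (0 : ι → F) w) ∘ Sum.inr = w := rfl
    rw [e1, e2, polar_zero_right, zero_add] at this
    rw [polarBilin_apply_apply]
    exact this
  funext s
  rcases s with s | s
  · exact congrFun h1 s
  · exact congrFun h2 s

theorem fromBlocks_diag_mulVec (PA : Matrix ι ι F) (PB : Matrix κ κ F) (v : ι ⊕ κ → F) :
    fromBlocks PA 0 0 PB *ᵥ v = Sum.elim (PA *ᵥ (v ∘ Sum.inl)) (PB *ᵥ (v ∘ Sum.inr)) := by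
  rw [Matrix.fromBlocks_mulVec]
  simp only [Matrix.zero_mulVec, add_zero, zero_add]

theorem qsum_isometry {QA : QuadraticForm F (ι → F)} {QB : QuadraticForm F (κ → F)}
    {PA : Matrix ι ι F} {PB : Matrix κ κ F} (hA : ∀ v, QA (PA *ᵥ v) = QA v)
    (hB : ∀ v, QB (PB *ᵥ v) = QB v) (v : ι ⊕ κ → F) :
    qsum QA QB (fromBlocks PA 0 0 PB *ᵥ v) = qsum QA QB v := by
  rw [fromBlocks_diag_mulVec, qsum_apply, qsum_apply]
  have e1 : (Sum.elim (PA *ᵥ (v ∘ Sum.inl)) (PB *ᵥ (v ∘ Sum.inr))) ∘ Sum.inl =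
    PA *ᵥ (v ∘ Sum.inl) := rfl
  have e2 : (Sum.elim (PA *ᵥ (v ∘ Sum.inl)) (PB *ᵥ (v ∘ Sum.inr))) ∘ Sum.inr =
    PB *ᵥ (v ∘ Sum.inr) := rfl
  rw [e1, e2, hA, hB]

end qsum

/-- `f` is the characteristic polynomial of a matrix of order prime to `p` preserving a
quadratic form with nondegenerate polar form -/
def QReal (F : Type*) [Field F] (p : ℕ) (f : F[X]) : Prop :=
  ∃ (ι : Type) (_ : Fintype ι) (_ : DecidableEq ι) (Q : QuadraticForm F (ι → F))
    (P : Matrix ι ι F), (polarBilin Q).Nondegenerate ∧ (∀ v, Q (P *ᵥ v) = Q v) ∧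
      P.charpoly = f ∧ ∃ m : ℕ, ¬ p ∣ m ∧ P ^ m = 1

theorem qReal_one (p : ℕ) (hp : p.Prime) : QReal F p 1 := by
  refine ⟨Empty, inferInstance, inferInstance, 0, 1, ?_, ?_, ?_, 1, ?_, ?_⟩
  · apply nondegenerate_of_sep
    intro v _
    exact Subsingleton.elim _ _
  · intro v
    rw [Matrix.one_mulVec]
  · exact Matrix.charpoly_isEmpty
  · exact hp.one_lt.ne' ∘ Nat.dvd_one.1
  · exact pow_one _

theorem qReal_mul {p : ℕ} (hp : p.Prime) {f₁ f₂ : F[X]} (h₁ : QReal F p f₁)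
    (h₂ : QReal F p f₂) : QReal F p (f₁ * f₂) := by
  obtain ⟨ι₁, _, _, Q₁, P₁, hn₁, hi₁, hf₁, m₁, hm₁, hP₁⟩ := h₁
  obtain ⟨ι₂, _, _, Q₂, P₂, hn₂, hi₂, hf₂, m₂, hm₂, hP₂⟩ := h₂
  refine ⟨ι₁ ⊕ ι₂, inferInstance, inferInstance, qsum Q₁ Q₂, fromBlocks P₁ 0 0 P₂,
    qsum_nondeg hn₁ hn₂, qsum_isometry hi₁ hi₂, ?_, m₁ * m₂, ?_, ?_⟩
  · rw [charpoly_fromBlocks_zero₁₂, hf₁, hf₂]
  · intro h
    rcases (Nat.Prime.dvd_mul hp).1 h with h | h
    · exact hm₁ h
    · exact hm₂ h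
  · rw [fromBlocks_diagonal_pow, pow_mul, hP₁, one_pow, mul_comm, pow_mul, hP₂, one_pow,
      fromBlocks_one]

section qf

variable {ι : Type} [Fintype ι] [DecidableEq ι]

/-- the quadratic form `v ↦ vᵀ M v` -/
noncomputable def qf (M : Matrix ι ι F) : QuadraticForm F (ι → F) :=
  (Matrix.toBilin' M).toQuadraticMap

theorem qf_apply (M : Matrix ι ι F) (v : ι → F) : qf M v = v ⬝ᵥ M *ᵥ v := by
  unfold qf
  rw [LinearMap.BilinMap.toQuadraticMap_apply, Matrix.toBilin'_apply']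

theorem polar_qf (M : Matrix ι ι F) (v w : ι → F) :
    polar ⇑(qf M) v w = v ⬝ᵥ (M + Mᵀ) *ᵥ w := by
  unfold qf
  rw [LinearMap.BilinMap.polar_toQuadraticMap, Matrix.toBilin'_apply', Matrix.toBilin'_apply',
    Matrix.add_mulVec, dotProduct_add]
  congr 1
  rw [Matrix.mulVec_transpose, dotProduct_comm v, ← Matrix.dotProduct_mulVec]

theorem qf_nondeg {M : Matrix ι ι F} (hu : IsUnit (M + Mᵀ)) :
    (polarBilin (qf M)).Nondegenerate := by
  apply nondegenerate_of_sep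
  intro v hv
  have h1 : v ᵥ* (M + Mᵀ) = 0 := by
    funext i
    have := hv (Pi.single i 1)
    rw [polar_qf, Matrix.dotProduct_mulVec, dotProduct_single, mul_one] at this
    exact this
  obtain ⟨ai, hai⟩ := hu.exists_right_inv
  have h3 : v = (v ᵥ* (M + Mᵀ)) ᵥ* ai := by
    rw [Matrix.vecMul_vecMul, hai, Matrix.vecMul_one]
  rw [h3, h1, Matrix.zero_vecMul]

theorem qf_isometry {M P : Matrix ι ι F} (h : Pᵀ * M * P = M) (v : ι → F) :
    qf M (P *ᵥ v) = qf M v := by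
  rw [qf_apply, qf_apply]
  have h1 : (P *ᵥ v) ⬝ᵥ M *ᵥ (P *ᵥ v) = v ⬝ᵥ Pᵀ *ᵥ (M *ᵥ (P *ᵥ v)) := by
    rw [Matrix.dotProduct_mulVec v, Matrix.vecMul_transpose]
  rw [h1, Matrix.mulVec_mulVec, Matrix.mulVec_mulVec, h]

end qf

theorem exists_invariant_irr [Fintype F] {p : ℕ} [CharP F p] (hp : p.Prime) {π : F[X]} (hmon : π.Monic)
    (hirr : Irreducible π) (h0 : π.coeff 0 ≠ 0)
    (hrev : C (π.coeff 0)⁻¹ * π.reverse = π) (hdeg : 2 ≤ π.natDegree) :
    ∃ (d : ℕ) (c' P : Matrix (Fin d) (Fin d) F), Pᵀ * c' * P = c' ∧ IsUnit (c' + c'ᵀ) ∧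
      P.charpoly = π ∧ ∃ m : ℕ, ¬ p ∣ m ∧ P ^ m = 1 := by
  obtain ⟨d, hd⟩ : ∃ d, π.natDegree = d := ⟨_, rfl⟩
  obtain ⟨P, m, hPc, hm, hPm⟩ := Cfsg.Agent.Lib.Helper5.SSClass.exists_matrix_of_monic hp
    d π hd hmon h0
  have hm1 : 1 ≤ m := by
    rcases Nat.eq_zero_or_pos m with h | h
    · exact absurd (h ▸ dvd_zero p) hm
    · exact h
  obtain ⟨k, hk⟩ : ∃ k, m = k + 1 := ⟨m - 1, by omega⟩
  obtain ⟨Q, hQ⟩ : ∃ Q, Q = P ^ k := ⟨_, rfl⟩
  have hPQ : P * Q = 1 := by rw [hQ, ← pow_succ', ← hk, hPm]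
  have hQP : Q * P = 1 := by rw [hQ, ← pow_succ, ← hk, hPm]
  have hQc : Qᵀ.charpoly = P.charpoly := by
    rw [charpoly_transpose, charpoly_of_inv hPQ, hPc, hrev]
  have hQm : Qᵀ ^ m = 1 := by
    rw [← transpose_pow, hQ, ← pow_mul, mul_comm, pow_mul, hPm, one_pow, transpose_one]
  obtain ⟨c, hcu, hc⟩ := Cfsg.Agent.Lib.Helper24.SpConj.exists_unit_conj (p := p) P Qᵀ hPm hm
    hQm hm hQc.symm
  have hinv : Pᵀ * c * P = c := by
    rw [mul_assoc, hc, ← mul_assoc, ← transpose_mul, hQP, transpose_one, one_mul]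
  have hirrP : Irreducible P.charpoly := by rw [hPc]; exact hirr
  -- the key step
  have key : ∀ c' : Matrix (Fin d) (Fin d) F, Pᵀ * c' * P = c' →
      c' + c'ᵀ ≠ 0 → ∃ (d : ℕ) (c' P : Matrix (Fin d) (Fin d) F), Pᵀ * c' * P = c' ∧
        IsUnit (c' + c'ᵀ) ∧ P.charpoly = π ∧ ∃ m : ℕ, ¬ p ∣ m ∧ P ^ m = 1 := by
    intro c' hc' hne
    have hc'T : Pᵀ * c'ᵀ * P = c'ᵀ := by
      have := congrArg transpose hc'
      rw [transpose_mul, transpose_mul, transpose_transpose, ← mul_assoc] at this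
      exact this
    have ha : Pᵀ * (c' + c'ᵀ) * P = c' + c'ᵀ := by
      rw [Matrix.mul_add, Matrix.add_mul, hc', hc'T]
    have haP : (c' + c'ᵀ) * P = Qᵀ * (c' + c'ᵀ) := by
      calc (c' + c'ᵀ) * P = (Qᵀ * Pᵀ) * (c' + c'ᵀ) * P := by
            rw [← transpose_mul, hPQ, transpose_one, Matrix.one_mul]
        _ = Qᵀ * (Pᵀ * (c' + c'ᵀ) * P) := by simp only [Matrix.mul_assoc]
        _ = Qᵀ * (c' + c'ᵀ) := by rw [ha]
    have hW : Inv P (LinearMap.ker (Matrix.toLin' (c' + c'ᵀ))) := by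
      intro v hv
      rw [LinearMap.mem_ker, Matrix.toLin'_apply] at hv ⊢
      rw [Matrix.mulVec_mulVec, haP, ← Matrix.mulVec_mulVec, hv, Matrix.mulVec_zero]
    have hunit : IsUnit (c' + c'ᵀ) := by
      rcases inv_trivial_of_irreducible p hPm hm hirrP _ hW with h | h
      · rw [LinearMap.ker_eq_bot] at h
        rw [← Matrix.mulVec_injective_iff_isUnit]
        intro v w hvw
        apply h
        rw [Matrix.toLin'_apply, Matrix.toLin'_apply]
        exact hvw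
      · exfalso
        apply hne
        rw [LinearMap.ker_eq_top] at h
        have := congrArg LinearMap.toMatrix' h
        rw [LinearMap.toMatrix'_toLin'] at this
        rw [this]
        exact map_zero _
    exact ⟨d, c', P, hc', hunit, hPc, m, hm, hPm⟩
  by_cases h1 : c + cᵀ = 0
  · by_cases h2 : c * P + (c * P)ᵀ = 0
    · exfalso
      have e1 : cᵀ = -c := (eq_neg_of_add_eq_zero_right h1)
      have e2 : c * P = Pᵀ * c := by
        have := eq_neg_of_add_eq_zero_left h2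
        rw [transpose_mul, e1, Matrix.mul_neg, neg_neg] at this
        exact this
      have e3 : c * (P * P) = c * 1 := by
        rw [Matrix.mul_one, ← Matrix.mul_assoc, e2, hinv]
      obtain ⟨ci, hci⟩ := hcu.exists_left_inv
      have e4 : P * P = 1 := by
        have := congrArg (fun x => ci * x) e3
        simp only [← Matrix.mul_assoc, hci, Matrix.one_mul] at this
        exact this
      -- polynomial contradiction
      have hnd : ¬ π ∣ (X - C 1) * (X + C 1) := by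
        intro hd'
        rcases hirr.prime.dvd_or_dvd hd' with h | h
        · have := Polynomial.natDegree_le_of_dvd h (X_sub_C_ne_zero 1)
          rw [natDegree_X_sub_C] at this
          omega
        · have := Polynomial.natDegree_le_of_dvd h (X_add_C_ne_zero 1)
          rw [natDegree_X_add_C] at this
          omega
      have hcop : IsCoprime π ((X - C 1) * (X + C 1)) := hirr.coprime_iff_not_dvd.mpr hnd
      obtain ⟨u, v, huv⟩ := hcop
      have h5 := congrArg (aeval P) huv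
      have h6 : aeval P π = 0 := by rw [← hPc]; exact Matrix.aeval_self_charpoly P
      have h7 : aeval P ((X - C 1) * (X + C 1) : F[X]) = 0 := by
        have : ((X - C 1) * (X + C 1) : F[X]) = X * X - 1 := by rw [C_1]; ring
        rw [this, map_sub, map_mul, aeval_X, map_one, e4, sub_self]
      rw [map_add, map_mul, map_mul, h6, h7, mul_zero, mul_zero, add_zero, map_one] at h5
      haveI : Nonempty (Fin d) := ⟨⟨0, by omega⟩⟩
      exact zero_ne_one h5
    · exact key (c * P) (by rw [← Matrix.mul_assoc, hinv]) h2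
  · exact key c hinv h1


/-- an irreducible self-reciprocal polynomial of degree at least two is realizable by an isometry
of a nondegenerate quadratic form (any characteristic) -/
theorem qReal_irr [Fintype F] {p : ℕ} [CharP F p] (hp : p.Prime) {π : F[X]} (hmon : π.Monic)
    (hirr : Irreducible π) (h0 : π.coeff 0 ≠ 0)
    (hrev : C (π.coeff 0)⁻¹ * π.reverse = π) (hdeg : 2 ≤ π.natDegree) : QReal F p π := by
  obtain ⟨d, c', P, hinv, hu, hPc, m, hm, hPm⟩ := exists_invariant_irr hp hmon hirr h0 hrev hdeg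
  exact ⟨Fin d, inferInstance, inferInstance, qf c', P, qf_nondeg hu, qf_isometry hinv, hPc, m,
    hm, hPm⟩

end Cfsg.Agent.Lib.Helper24.OEv
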