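import Mathlib
import Cfsg.Agent.Lib.Helper24.OEvA

set_option autoImplicit false
set_option linter.style.haveILetI false
set_option linter.unusedSimpArgs false
set_option linter.unusedSectionVars false

namespace Cfsg.Agent.Lib.Helper24.OEv

open Polynomial Matrix Cfsg QuadraticMap
open Cfsg.Agent.Lib.Helper19.QuadWitt Cfsg.Agent.Lib.Helper19.QuadStd

variable {F : Type*} [Field F] [Fintype F]

set_option backward.isDefEq.respectTransparency false in
/-- the number of singular vectors is congruent mod `r` to the number of fixed singular vectors -/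
theorem card_zeros_modEq {ι : Type} [Fintype ι] [DecidableEq ι] (Q : QuadraticForm F (ι → F))
    (A : Matrix ι ι F) (hA : ∀ v, Q (A *ᵥ v) = Q v) {r : ℕ} [Fact r.Prime] (hAr : A ^ r = 1) :
    Nat.card {v : ι → F // Q v = 0} ≡
      Nat.card {v : ι → F // Q v = 0 ∧ A *ᵥ v = v} [MOD r] := by
  haveI : DecidableEq {v : ι → F // Q v = 0} := Classical.decEq _
  haveI : Fintype {v : ι → F // Q v = 0} := Fintype.ofFinite _
  obtain ⟨f, hf⟩ : ∃ f : Function.End {v : ι → F // Q v = 0},
      ∀ v, (f v).1 = A *ᵥ v.1 :=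
    ⟨fun v => ⟨A *ᵥ v.1, by rw [hA]; exact v.2⟩, fun v => rfl⟩
  have hpow : ∀ (k : ℕ) (v : {v : ι → F // Q v = 0}), ((f ^ k) v).1 = (A ^ k) *ᵥ v.1 := by
    intro k
    induction k with
    | zero =>
      intro v
      rw [pow_zero, pow_zero, Matrix.one_mulVec]
      rfl
    | succ k ih =>
      intro v
      rw [pow_succ', pow_succ']
      show (f ((f ^ k) v)).1 = _
      rw [hf, ih, Matrix.mulVec_mulVec]
  have hfr : f ^ r ^ 1 = 1 := by
    rw [pow_one]
    funext v
    apply Subtype.ext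
    rw [hpow, hAr, Matrix.one_mulVec]
    rfl
  have h1 := Equiv.Perm.card_fixedPoints_modEq (p := r) (n := 1) hfr
  rw [← Nat.card_eq_fintype_card, ← Nat.card_eq_fintype_card] at h1
  refine h1.trans ?_
  have h2 : Nat.card ↥(Function.fixedPoints f) =
      Nat.card {v : ι → F // Q v = 0 ∧ A *ᵥ v = v} := ?_
  · rw [h2]
  apply Nat.card_congr
  refine ⟨fun v => ⟨v.1.1, v.1.2, ?_⟩, fun v => ⟨⟨v.1, v.2.1⟩, ?_⟩, ?_, ?_⟩
  · have h3 : f v.1 = v.1 := v.2
    rw [← hf, h3]
  · show f ⟨v.1, v.2.1⟩ = ⟨v.1, v.2.1⟩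
    apply Subtype.ext
    rw [hf]
    exact v.2.2
  · intro v; rfl
  · intro v; rfl

theorem Ssum_closed (q d : ℕ) (hq : 0 < q) :
    ∀ k, 2 * k ≤ d → Ssum q d k + q ^ (d - k - 1) = q ^ (d - 1) := by
  intro k
  induction k with
  | zero =>
    intro _
    unfold Ssum
    simp
  | succ k ih =>
    intro h
    have ih' := ih (by omega)
    rw [Ssum_succ]
    have e1 : d - (k + 1 + (k + 1)) = d - k - 2 - k := by omega
    have e2 : d - (k + 1) - 1 = d - k - 2 := by omega
    have e3 : d - k - 1 = d - k - 2 + 1 := by omega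
    have e4 : q ^ k * q ^ (d - k - 2 - k) = q ^ (d - k - 2) := by
      rw [← pow_add]
      congr 1
      omega
    rw [e1, e2]
    rw [e3, pow_succ] at ih'
    obtain ⟨q', rfl⟩ : ∃ q', q = q' + 1 := ⟨q - 1, by omega⟩
    rw [Nat.add_sub_cancel]
    calc Ssum (q' + 1) d k + (q' + 1) ^ k * (q' * (q' + 1) ^ (d - k - 2 - k))
          + (q' + 1) ^ (d - k - 2)
        = Ssum (q' + 1) d k + q' * ((q' + 1) ^ k * (q' + 1) ^ (d - k - 2 - k))
          + (q' + 1) ^ (d - k - 2) := by ring
      _ = Ssum (q' + 1) d k + (q' + 1) ^ (d - k - 2) * (q' + 1) := by rw [e4]; ring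
      _ = (q' + 1) ^ (d - 1) := ih'

section zeros

variable {V : Type*} [AddCommGroup V] [Module F V] [FiniteDimensional F V]
  {Q : QuadraticForm F V}

theorem Zp_eq_one_of_aniso {k : ℕ} (e f : Fin k → V)
    (haniso : ∀ w ∈ perp Q e f, Q w = 0 → w = 0) : Zp Q e f = 1 := by
  unfold Zp
  rw [Nat.card_eq_one_iff_unique]
  refine ⟨⟨?_⟩, ⟨⟨0, Submodule.zero_mem _, QuadraticMap.map_zero _⟩⟩⟩
  rintro ⟨a, ha1, ha2⟩ ⟨b, hb1, hb2⟩
  apply Subtype.ext
  show a = b
  rw [haniso a ha1 ha2, haniso b hb1 hb2]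

/-- number of singular vectors of a space with a full hyperbolic frame -/
theorem zeros_plus_frame {m : ℕ} {e f : Fin m → V} (h : IsHyp Q e f)
    (hV : Module.finrank F V = 2 * m) :
    Nat.card {w : V // Q w = 0} * Fintype.card F + Fintype.card F ^ m =
      Fintype.card F ^ (m + 1) + Fintype.card F ^ (2 * m) := by
  have hq : 0 < Fintype.card F := Fintype.card_pos
  have h1 := zeros_eq_of_frame h
  have hperp := finrank_perp_eq h
  have hp0 : Module.finrank F (perp Q e f) = 0 := by omega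
  have hbot : perp Q e f = ⊥ := Submodule.finrank_eq_zero.mp hp0
  have hZ : Zp Q e f = 1 := by
    apply Zp_eq_one_of_aniso
    intro w hw _
    rw [hbot] at hw
    exact (Submodule.mem_bot F).mp hw
  rw [hZ, mul_one, hV] at h1
  have h2 := Ssum_closed (Fintype.card F) (2 * m) hq m le_rfl
  rw [h1]
  rcases Nat.eq_zero_or_pos m with hm | hm
  · subst hm
    unfold Ssum
    simp
  · have e1 : 2 * m - m - 1 = m - 1 := by omega
    have e2 : 2 * m - 1 = (m - 1) + m := by omega
    rw [e1] at h2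
    obtain ⟨m', rfl⟩ : ∃ m', m = m' + 1 := ⟨m - 1, by omega⟩
    rw [Nat.add_sub_cancel] at h2
    have e3 : 2 * (m' + 1) - 1 = 2 * m' + 1 := by omega
    rw [e3] at h2
    have h3 : Ssum (Fintype.card F) (2 * (m' + 1)) (m' + 1) * Fintype.card F +
        Fintype.card F ^ (m' + 1) = Fintype.card F ^ (2 * (m' + 1)) := by
      have := congrArg (fun x => x * Fintype.card F) h2
      simp only [add_mul] at this
      rw [← pow_succ, ← pow_succ] at this
      rw [this]
      congr 1
    rw [add_mul, ← pow_succ]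
    omega

/-- number of singular vectors of a space with a frame whose complement is an anisotropic
plane -/
theorem zeros_minus_frame {k : ℕ} {e f : Fin k → V} (h : IsHyp Q e f)
    (hV : Module.finrank F V = 2 * k + 2) (haniso : ∀ w ∈ perp Q e f, Q w = 0 → w = 0) :
    Nat.card {w : V // Q w = 0} * Fintype.card F + Fintype.card F ^ (k + 2) =
      Fintype.card F ^ (k + 1) + Fintype.card F ^ (2 * k + 2) := by
  have hq : 0 < Fintype.card F := Fintype.card_pos
  have h1 := zeros_eq_of_frame h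
  have hZ : Zp Q e f = 1 := Zp_eq_one_of_aniso e f haniso
  rw [hZ, mul_one, hV] at h1
  have h2 := Ssum_closed (Fintype.card F) (2 * k + 2) hq k (by omega)
  have e1 : 2 * k + 2 - k - 1 = k + 1 := by omega
  have e3 : 2 * k + 2 - 1 = 2 * k + 1 := by omega
  rw [e1, e3] at h2
  have h3 : Ssum (Fintype.card F) (2 * k + 2) k * Fintype.card F +
      Fintype.card F ^ (k + 2) = Fintype.card F ^ (2 * k + 2) := by
    have := congrArg (fun x => x * Fintype.card F) h2
    simp only [add_mul] at this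
    rw [← pow_succ, ← pow_succ] at this
    exact this
  rw [h1, add_mul, ← pow_succ]
  omega

end zeros

end Cfsg.Agent.Lib.Helper24.OEv
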