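import Mathlib
import Cfsg.Agent.Lib.Helper24.OEvB
import Cfsg.Agent.Lib.Helper19.QuadMinus

set_option autoImplicit false
set_option linter.style.haveILetI false
set_option linter.unusedSimpArgs false
set_option linter.unusedSectionVars false

namespace Cfsg.Agent.Lib.Helper24.OEv

open Polynomial Matrix Cfsg QuadraticMap
open Cfsg.Agent.Lib.Helper19.QuadWitt Cfsg.Agent.Lib.Helper19.QuadStd
open Cfsg.Agent.Lib.Helper24.OConj

variable {F : Type*} [Field F] [Fintype F]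

/-- transport of an isometry along a linear isometry of quadratic spaces -/
theorem transport {ι κ : Type} [Fintype ι] [DecidableEq ι] [Fintype κ] [DecidableEq κ]
    (Q : QuadraticForm F (ι → F)) (Q' : QuadraticForm F (κ → F))
    (hQ' : (polarBilin Q').Nondegenerate)
    (T : (κ → F) →ₗ[F] (ι → F)) (hT : ∀ w, Q (T w) = Q' w)
    (hcard : Fintype.card κ = Fintype.card ι)
    (P : Matrix ι ι F) (hP : ∀ v, Q (P *ᵥ v) = Q v) {N : ℕ} (hN1 : 1 ≤ N) (hPN : P ^ N = 1) :
    ∃ U : GL κ F, (∀ u, Q' ((U : Matrix κ κ F) *ᵥ u) = Q' u) ∧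
      (U : Matrix κ κ F).charpoly = P.charpoly ∧ (U : Matrix κ κ F) ^ N = 1 := by
  classical
  have hdim : Module.finrank F (κ → F) = Module.finrank F (ι → F) := by
    rw [Module.finrank_fintype_fun_eq_card, Module.finrank_fintype_fun_eq_card, hcard]
  have hT' : ∀ w, Q (T w) = 1 * Q' w := by
    intro w
    rw [one_mul, hT]
  obtain ⟨TE, hTE⟩ : ∃ TE : (κ → F) ≃ₗ[F] (ι → F), ∀ w, TE w = T w :=
    ⟨similarityEquiv (Q := Q') (Q' := Q) hQ' T one_ne_zero hT' hdim, fun w => rfl⟩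
  have hTQ : ∀ w, Q' w = Q (TE w) := by
    intro w
    rw [hTE, hT]
  obtain ⟨L, hL⟩ : ∃ L : (κ → F) →ₗ[F] (κ → F),
      L = TE.symm.conj (Matrix.toLin' P) := ⟨_, rfl⟩
  have hLx : ∀ w, L w = TE.symm (P *ᵥ TE w) := by
    intro w
    rw [hL, LinearEquiv.conj_apply]
    simp only [LinearMap.coe_comp, LinearEquiv.coe_coe, Function.comp_apply,
      LinearEquiv.symm_symm, Matrix.toLin'_apply]
  obtain ⟨A, hAdef⟩ : ∃ A : Matrix κ κ F, A = LinearMap.toMatrix' L := ⟨_, rfl⟩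
  have hAx : ∀ w, A *ᵥ w = L w := by
    intro w
    rw [hAdef, LinearMap.toMatrix'_mulVec]
  have hpow : ∀ j : ℕ, ∀ w, (L ^ j) w = TE.symm ((P ^ j) *ᵥ TE w) := by
    intro j
    induction j with
    | zero =>
      intro w
      rw [pow_zero, pow_zero, Matrix.one_mulVec, LinearEquiv.symm_apply_apply]
      rfl
    | succ j ih =>
      intro w
      rw [pow_succ, Module.End.mul_apply, ih, hLx, LinearEquiv.apply_symm_apply,
        Matrix.mulVec_mulVec, ← pow_succ]
  have hLN : L ^ N = 1 := by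
    apply LinearMap.ext
    intro w
    rw [hpow, hPN, Matrix.one_mulVec, LinearEquiv.symm_apply_apply]
    rfl
  have hA' : A = LinearMap.toMatrixAlgEquiv' L := by rw [hAdef]; rfl
  have hAN : A ^ N = 1 := by rw [hA', ← map_pow, hLN, map_one]
  obtain ⟨k, hk⟩ : ∃ k, N = k + 1 := ⟨N - 1, by omega⟩
  obtain ⟨U, hU⟩ : ∃ U : GL κ F, U.1 = A :=
    ⟨⟨A, A ^ k, by rw [← pow_succ', ← hk, hAN], by rw [← pow_succ, ← hk, hAN]⟩, rfl⟩
  refine ⟨U, ?_, ?_, ?_⟩
  · intro u
    show Q' (U.1 *ᵥ u) = _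
    rw [hU, hAx, hTQ, hLx, LinearEquiv.apply_symm_apply, hP, ← hTQ]
  · show U.1.charpoly = _
    rw [hU, hAdef, ← LinearMap.toMatrix_eq_toMatrix', LinearMap.charpoly_toMatrix, hL,
      LinearEquiv.charpoly_conj, Matrix.charpoly_toLin']
  · show U.1 ^ N = 1
    rw [hU, hAN]

section structure_thm

variable {V : Type*} [AddCommGroup V] [Module F V] [FiniteDimensional F V]
  {Q : QuadraticForm F V}

/-- even-dimensional nondegenerate quadratic spaces: a full frame, or a frame with anisotropic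
complement -/
theorem even_structure' (hQ : (polarBilin Q).Nondegenerate) {m : ℕ}
    (hV : Module.finrank F V = 2 * m) :
    (∃ e f : Fin m → V, IsHyp Q e f) ∨
    (∃ (k : ℕ) (_ : k + 1 = m) (e f : Fin k → V), IsHyp Q e f ∧
      ∀ w ∈ perp Q e f, Q w = 0 → w = 0) := by
  have key : ∀ j k : ℕ, k + j = m → ∀ e f : Fin k → V, IsHyp Q e f →
      (∃ e f : Fin m → V, IsHyp Q e f) ∨
      (∃ (k : ℕ) (_ : k + 1 = m) (e f : Fin k → V), IsHyp Q e f ∧
        ∀ w ∈ perp Q e f, Q w = 0 → w = 0) := by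
    intro j
    induction j with
    | zero =>
      intro k hk e f h
      rw [add_zero] at hk
      subst hk
      exact Or.inl ⟨e, f, h⟩
    | succ j ih =>
      intro k hk e f h
      have hdim := finrank_perp_ge (Q := Q) e f
      by_cases hsing : ∃ w ∈ perp Q e f, w ≠ 0 ∧ Q w = 0
      · obtain ⟨w, hw, hw0, hQw⟩ := hsing
        obtain ⟨e', f', h'⟩ := exists_snoc hQ h hw hw0 hQw
        exact ih (k + 1) (by omega) e' f' h'
      · push Not at hsing
        have haniso : ∀ w ∈ perp Q e f, Q w = 0 → w = 0 := by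
          intro w hw hQw
          by_contra hne
          exact hsing w hw hne hQw
        have hle : Module.finrank F (perp Q e f) ≤ 2 := by
          by_contra hgt
          push Not at hgt
          obtain ⟨w, hw, hw0, hQw⟩ := exists_singular_of_three (Q := Q) (perp Q e f) hgt
          exact hsing w hw hw0 hQw
        have hj : j = 0 := by omega
        subst hj
        exact Or.inr ⟨k, hk, e, f, h, haniso⟩
  exact key m 0 (by omega) Fin.elim0 Fin.elim0 (isHyp_zero _ _)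

end structure_thm

/-- a space with a full frame is isometric to the standard hyperbolic space -/
theorem exists_plus_of_frame {ι : Type} [Fintype ι] [DecidableEq ι]
    (Q : QuadraticForm F (ι → F)) {m : ℕ} {e f : Fin m → (ι → F)} (h : IsHyp Q e f)
    (hcard : Fintype.card ι = 2 * m) (P : Matrix ι ι F) (hP : ∀ v, Q (P *ᵥ v) = Q v) {N : ℕ}
    (hN1 : 1 ≤ N) (hPN : P ^ N = 1) :
    ∃ g : ↥(Cfsg.isometryGroup F (Cfsg.quadFormPlus m F)),
      ((g : GL (Fin m ⊕ Fin m) F) : Matrix (Fin m ⊕ Fin m) (Fin m ⊕ Fin m) F).charpoly =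
        P.charpoly ∧
      ((g : GL (Fin m ⊕ Fin m) F) : Matrix (Fin m ⊕ Fin m) (Fin m ⊕ Fin m) F) ^ N = 1 := by
  obtain ⟨T, hTdef⟩ : ∃ T : (Fin m ⊕ Fin m → F) →ₗ[F] (ι → F),
      T = Fintype.linearCombination F (Sum.elim e f) := ⟨_, rfl⟩
  have hT : ∀ w, Q (T w) = stdPlus m F w := by
    intro w
    rw [hTdef, Fintype.linearCombination_apply, Q_fam_hyp h, stdPlus_apply]
    rfl
  obtain ⟨U, hU1, hU2, hU3⟩ := transport Q (stdPlus m F) (stdPlus_nondeg m) T hT
    (by rw [hcard]; simp only [Fintype.card_sum, Fintype.card_fin]; omega) P hP hN1 hPN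
  have hUmem : U ∈ Cfsg.isometryGroup F (Cfsg.quadFormPlus m F) := by
    rw [mem_iso_iff]
    intro u
    rw [← stdPlus_apply, ← stdPlus_apply]
    exact hU1 u
  exact ⟨⟨U, hUmem⟩, hU2, hU3⟩

/-- a space with a frame with anisotropic two-dimensional complement is isometric to the standard
elliptic space -/
theorem exists_minus_of_frame {q : ℕ} (hF : Fintype.card F = q) {ι : Type} [Fintype ι]
    [DecidableEq ι]
    (Q : QuadraticForm F (ι → F)) {n : ℕ} {e f : Fin n → (ι → F)} (h : IsHyp Q e f)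
    (hcard : Fintype.card ι = 2 * n + 2) (haniso : ∀ w ∈ perp Q e f, Q w = 0 → w = 0)
    (a c : F) (hac : ∀ z₁ z₂ : F, z₁ ^ 2 + a * z₁ * z₂ + c * z₂ ^ 2 = 0 → z₁ = 0 ∧ z₂ = 0)
    (P : Matrix ι ι F) (hP : ∀ v, Q (P *ᵥ v) = Q v) {N : ℕ}
    (hN1 : 1 ≤ N) (hPN : P ^ N = 1) :
    ∃ g : ↥(Cfsg.isometryGroup F (Cfsg.quadFormMinus n F a c)),
      ((g : GL ((Fin n ⊕ Fin n) ⊕ Fin 2) F) :
        Matrix ((Fin n ⊕ Fin n) ⊕ Fin 2) ((Fin n ⊕ Fin n) ⊕ Fin 2) F).charpoly = P.charpoly ∧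
      ((g : GL ((Fin n ⊕ Fin n) ⊕ Fin 2) F) :
        Matrix ((Fin n ⊕ Fin n) ⊕ Fin 2) ((Fin n ⊕ Fin n) ⊕ Fin 2) F) ^ N = 1 := by
  have hdim : Module.finrank F (ι → F) = n + n + 2 := by
    rw [Module.finrank_fintype_fun_eq_card, hcard]
    omega
  have hZ : Zp Q e f = 1 := Zp_eq_one_of_aniso e f haniso
  have hEP := Cfsg.Agent.Lib.Helper19.QuadMinus.card_EP hF h hdim hZ a c hac
  have hne : Nonempty (EP Q e f a c) := by
    by_contra hempty
    rw [not_nonempty_iff] at hempty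
    rw [Nat.card_of_isEmpty] at hEP
    omega
  obtain ⟨⟨⟨x, y⟩, hx, hy, hQx, hxy, hQy⟩⟩ := hne
  simp only at hx hy hQx hxy hQy
  obtain ⟨T, hTdef⟩ : ∃ T : ((Fin n ⊕ Fin n) ⊕ Fin 2 → F) →ₗ[F] (ι → F),
      T = Fintype.linearCombination F (Sum.elim (Sum.elim e f) ![x, y]) := ⟨_, rfl⟩
  have hT : ∀ w, Q (T w) = stdMinus n F a c w := by
    intro w
    rw [hTdef, Fintype.linearCombination_apply, Q_fam_pairs h hx hy, hQx, hxy, hQy,
      stdMinus_apply]
    unfold Cfsg.quadFormMinus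
    ring
  obtain ⟨U, hU1, hU2, hU3⟩ := transport Q (stdMinus n F a c) (stdMinus_nondeg n hac) T hT
    (by rw [hcard]; simp only [Fintype.card_sum, Fintype.card_fin]; omega) P hP hN1 hPN
  have hUmem : U ∈ Cfsg.isometryGroup F (Cfsg.quadFormMinus n F a c) := by
    rw [mem_iso_iff]
    intro u
    rw [← stdMinus_apply, ← stdMinus_apply]
    exact hU1 u
  exact ⟨⟨U, hUmem⟩, hU2, hU3⟩

end Cfsg.Agent.Lib.Helper24.OEv
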