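import Mathlib
import Cfsg.Agent.Lib.Helper24.OEvC

set_option autoImplicit false
set_option linter.style.haveILetI false
set_option linter.unusedSimpArgs false
set_option linter.unusedSectionVars false

namespace Cfsg.Agent.Lib.Helper24.OEv

open Polynomial Matrix Cfsg QuadraticMap
open Cfsg.Agent.Lib.Helper19.QuadWitt Cfsg.Agent.Lib.Helper19.QuadStd
open Cfsg.Agent.Lib.Helper24.OConj

variable {F : Type*} [Field F] [Fintype F]

section zmod

variable {V : Type*} [AddCommGroup V] [Module F V] [FiniteDimensional F V]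
  {Q : QuadraticForm F V} (r : ℕ)

theorem zmod_plus {m : ℕ} {e f : Fin m → V} (h : IsHyp Q e f)
    (hV : Module.finrank F V = 2 * m) :
    (Nat.card {w : V // Q w = 0} : ZMod r) * (Fintype.card F : ZMod r) =
      (Fintype.card F : ZMod r) ^ (2 * m) +
        ((Fintype.card F : ZMod r) ^ (m + 1) - (Fintype.card F : ZMod r) ^ m) := by
  have h1 := congrArg (fun n : ℕ => (n : ZMod r)) (zeros_plus_frame h hV)
  simp only [Nat.cast_add, Nat.cast_mul, Nat.cast_pow] at h1
  linear_combination h1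

theorem zmod_minus {k : ℕ} {e f : Fin k → V} (h : IsHyp Q e f)
    (hV : Module.finrank F V = 2 * (k + 1)) (haniso : ∀ w ∈ perp Q e f, Q w = 0 → w = 0) :
    (Nat.card {w : V // Q w = 0} : ZMod r) * (Fintype.card F : ZMod r) =
      (Fintype.card F : ZMod r) ^ (2 * (k + 1)) -
        ((Fintype.card F : ZMod r) ^ (k + 1 + 1) - (Fintype.card F : ZMod r) ^ (k + 1)) := by
  have h1 := congrArg (fun n : ℕ => (n : ZMod r)) (zeros_minus_frame h (by omega) haniso)
  simp only [Nat.cast_add, Nat.cast_mul, Nat.cast_pow] at h1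
  have e1 : 2 * (k + 1) = 2 * k + 2 := by ring
  rw [e1]
  linear_combination h1

end zmod

/-- the sign of the zero count is determined by the fixed singular vectors -/
theorem sign_eq {r : ℕ} [Fact r.Prime] (x : ZMod r) (hx0 : x ≠ 0) (hx1 : x ≠ 1)
    {m a' : ℕ} (ha' : a' ≤ m) (ε δ τ Z Zfix : ZMod r) (hτ : τ * τ = 1)
    (hτw : x ^ (m - a') = τ) (hZ : Z = Zfix)
    (h1 : Z * x = x ^ (2 * m) + ε * (x ^ (m + 1) - x ^ m))
    (h2 : Zfix * x = x ^ (2 * a') + δ * (x ^ (a' + 1) - x ^ a')) : ε * τ = δ := by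
  have hm : x ^ m = τ * x ^ a' := by
    rw [← hτw, ← pow_add]
    congr 1
    omega
  have hm1 : x ^ (m + 1) = τ * x ^ (a' + 1) := by
    rw [pow_succ, hm, pow_succ]
    ring
  have hm2 : x ^ (2 * m) = x ^ (2 * a') := by
    rw [two_mul, pow_add, hm, two_mul, pow_add]
    linear_combination (x ^ a' * x ^ a') * hτ
  rw [hZ, h2, hm2, hm1, hm] at h1
  have h3 : (ε * τ - δ) * (x ^ a' * (x - 1)) = 0 := by
    rw [pow_succ] at h1
    linear_combination -h1
  rcases mul_eq_zero.mp h3 with h | h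
  · exact sub_eq_zero.mp h
  · exfalso
    rcases mul_eq_zero.mp h with h | h
    · exact hx0 (pow_eq_zero_iff (by
        intro h0
        subst h0
        rw [pow_zero] at h
        exact one_ne_zero h) |>.mp h)
    · exact hx1 (sub_eq_zero.mp h)

theorem one_ne_neg_one_zmod {r : ℕ} [Fact r.Prime] (hr2 : r ≠ 2) : (1 : ZMod r) ≠ -1 := by
  intro h
  have h2 : ((2 : ℕ) : ZMod r) = 0 := by
    push_cast
    linear_combination h
  rw [ZMod.natCast_eq_zero_iff] at h2
  have hr : r.Prime := Fact.out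
  exact hr2 ((Nat.prime_dvd_prime_iff_eq hr Nat.prime_two).mp h2)

/-- the type of a quadratic space with an isometry of order `r` is determined by the fixed
singular vectors -/
theorem type_by_counting {ι : Type} [Fintype ι] [DecidableEq ι] (Q : QuadraticForm F (ι → F))
    (hQ : (polarBilin Q).Nondegenerate) {m : ℕ} (hcard : Fintype.card ι = 2 * m)
    (A : Matrix ι ι F) (hA : ∀ v, Q (A *ᵥ v) = Q v) {r : ℕ} [Fact r.Prime] (hr2 : r ≠ 2)
    (hAr : A ^ r = 1)
    (hx0 : (Fintype.card F : ZMod r) ≠ 0) (hx1 : (Fintype.card F : ZMod r) ≠ 1)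
    {a' : ℕ} (ha' : a' ≤ m) (δ τ : ZMod r) (hτ : τ = 1 ∨ τ = -1)
    (hτw : (Fintype.card F : ZMod r) ^ (m - a') = τ)
    (hfix : (Nat.card {v : ι → F // Q v = 0 ∧ A *ᵥ v = v} : ZMod r) * (Fintype.card F : ZMod r) =
      (Fintype.card F : ZMod r) ^ (2 * a') +
        δ * ((Fintype.card F : ZMod r) ^ (a' + 1) - (Fintype.card F : ZMod r) ^ a')) :
    (δ * τ = 1 → ∃ e f : Fin m → (ι → F), IsHyp Q e f) ∧
    (δ * τ = -1 → ∃ (k : ℕ) (_ : k + 1 = m) (e f : Fin k → (ι → F)), IsHyp Q e f ∧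
      ∀ w ∈ perp Q e f, Q w = 0 → w = 0) := by
  have hV : Module.finrank F (ι → F) = 2 * m := by
    rw [Module.finrank_fintype_fun_eq_card, hcard]
  have hZ : (Nat.card {v : ι → F // Q v = 0} : ZMod r) =
      (Nat.card {v : ι → F // Q v = 0 ∧ A *ᵥ v = v} : ZMod r) :=
    (ZMod.natCast_eq_natCast_iff _ _ _).mpr (card_zeros_modEq Q A hA hAr)
  have hττ : τ * τ = 1 := by
    rcases hτ with h | h <;> rw [h] <;> ring
  have hne := one_ne_neg_one_zmod (r := r) hr2
  rcases even_structure' hQ hV with ⟨e, f, h⟩ | ⟨k, hk, e, f, h, haniso⟩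
  · have h1 := zmod_plus r h hV
    have h2 := sign_eq (Fintype.card F : ZMod r) hx0 hx1 ha' 1 δ τ _ _ hττ hτw hZ
      (by rw [h1]; ring) hfix
    rw [one_mul] at h2
    constructor
    · intro _
      exact ⟨e, f, h⟩
    · intro h3
      exfalso
      rw [← h2, hττ] at h3
      exact hne h3
  · subst hk
    have h1 := zmod_minus r h hV haniso
    have h2 := sign_eq (Fintype.card F : ZMod r) hx0 hx1 ha' (-1) δ τ _ _ hττ hτw hZ
      (by rw [h1]; ring) hfix
    constructor
    · intro h3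
      exfalso
      rw [← h2] at h3
      have : (-1 : ZMod r) * τ * τ = -1 := by rw [mul_assoc, hττ, mul_one]
      rw [this] at h3
      exact hne h3.symm
    · intro _
      exact ⟨k, rfl, e, f, h, haniso⟩

end Cfsg.Agent.Lib.Helper24.OEv
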