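import Mathlib
import Cfsg.Agent.Lib.Helper24.OEvD

set_option autoImplicit false
set_option linter.style.haveILetI false
set_option linter.unusedSimpArgs false
set_option linter.unusedSectionVars false

namespace Cfsg.Agent.Lib.Helper24.OEv

open Polynomial Matrix Cfsg QuadraticMap
open Cfsg.Agent.Lib.Helper19.QuadWitt Cfsg.Agent.Lib.Helper19.QuadStd
open Cfsg.Agent.Lib.Helper24.OConj

variable {F : Type*} [Field F] [Fintype F]

theorem zeros_minus_frame_Zp {V : Type*} [AddCommGroup V] [Module F V] [FiniteDimensional F V]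
    {Q : QuadraticForm F V} {k : ℕ} {e f : Fin k → V} (h : IsHyp Q e f)
    (hV : Module.finrank F V = 2 * k + 2) (hZ : Zp Q e f = 1) :
    Nat.card {w : V // Q w = 0} * Fintype.card F + Fintype.card F ^ (k + 2) =
      Fintype.card F ^ (k + 1) + Fintype.card F ^ (2 * k + 2) := by
  have hq : 0 < Fintype.card F := Fintype.card_pos
  have h1 := zeros_eq_of_frame h
  rw [hZ, mul_one, hV] at h1
  have h2 := Ssum_closed (Fintype.card F) (2 * k + 2) hq k (by omega)
  have e1 : 2 * k + 2 - k - 1 = k + 1 := by omega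
  have e3 : 2 * k + 2 - 1 = 2 * k + 1 := by omega
  rw [e1, e3] at h2
  have h3 : Ssum (Fintype.card F) (2 * k + 2) k * Fintype.card F +
      Fintype.card F ^ (k + 2) = Fintype.card F ^ (2 * k + 2) := by
    have := congrArg (fun x => x * Fintype.card F) h2
    simp only [add_mul] at this
    rw [← pow_succ, ← pow_succ] at this
    exact this
  rw [h1, add_mul, ← pow_succ]
  omega

theorem card_fix_eq_one {ι : Type} [Fintype ι] [DecidableEq ι] (Q : QuadraticForm F (ι → F))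
    (A : Matrix ι ι F) (hfix : ∀ v, A *ᵥ v = v → v = 0) :
    Nat.card {v : ι → F // Q v = 0 ∧ A *ᵥ v = v} = 1 := by
  rw [Nat.card_eq_one_iff_unique]
  refine ⟨⟨?_⟩, ⟨⟨0, QuadraticMap.map_zero _, Matrix.mulVec_zero _⟩⟩⟩
  rintro ⟨a, _, ha⟩ ⟨b, _, hb⟩
  apply Subtype.ext
  show a = b
  rw [hfix a ha, hfix b hb]

/-- an isometry of odd prime order `r` of the hyperbolic space without fixed vectors forces
`q ^ m = 1` mod `r` -/
theorem excl_plus {m : ℕ} (A : Matrix (Fin m ⊕ Fin m) (Fin m ⊕ Fin m) F)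
    (hA : ∀ v, Cfsg.quadFormPlus m F (A *ᵥ v) = Cfsg.quadFormPlus m F v) {r : ℕ} [Fact r.Prime]
    (hr2 : r ≠ 2) (hAr : A ^ r = 1) (hfix : ∀ v, A *ᵥ v = v → v = 0)
    (hx0 : (Fintype.card F : ZMod r) ≠ 0) (hx1 : (Fintype.card F : ZMod r) ≠ 1)
    (hm : (Fintype.card F : ZMod r) ^ m = -1) : False := by
  have hA' : ∀ v, stdPlus m F (A *ᵥ v) = stdPlus m F v := by
    intro v
    rw [stdPlus_apply, stdPlus_apply]
    exact hA v
  have hV : Module.finrank F (Fin m ⊕ Fin m → F) = 2 * m := by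
    rw [Module.finrank_fintype_fun_eq_card]
    simp only [Fintype.card_sum, Fintype.card_fin]
    omega
  have h1 := zmod_plus r (StdFam.plus_isHyp (stdFamId (stdPlus m F))) hV
  have hZ : (Nat.card {v : Fin m ⊕ Fin m → F // stdPlus m F v = 0} : ZMod r) =
      (Nat.card {v : Fin m ⊕ Fin m → F // stdPlus m F v = 0 ∧ A *ᵥ v = v} : ZMod r) :=
    (ZMod.natCast_eq_natCast_iff _ _ _).mpr (card_zeros_modEq (stdPlus m F) A hA' hAr)
  have h2 := sign_eq (Fintype.card F : ZMod r) hx0 hx1 (Nat.zero_le m) 1 1 (-1) _ _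
    (by ring) (by rw [Nat.sub_zero]; exact hm) hZ (by rw [h1]; ring)
    (by rw [card_fix_eq_one _ A hfix]; simp)
  have hne := one_ne_neg_one_zmod (r := r) hr2
  rw [one_mul] at h2
  exact hne h2.symm

/-- an isometry of odd prime order `r` of the elliptic space without fixed vectors forces
`q ^ m = -1` mod `r` -/
theorem excl_minus {n : ℕ} (a c : F)
    (hac : ∀ z₁ z₂ : F, z₁ ^ 2 + a * z₁ * z₂ + c * z₂ ^ 2 = 0 → z₁ = 0 ∧ z₂ = 0)
    (A : Matrix ((Fin n ⊕ Fin n) ⊕ Fin 2) ((Fin n ⊕ Fin n) ⊕ Fin 2) F)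
    (hA : ∀ v, Cfsg.quadFormMinus n F a c (A *ᵥ v) = Cfsg.quadFormMinus n F a c v) {r : ℕ}
    [Fact r.Prime]
    (hr2 : r ≠ 2) (hAr : A ^ r = 1) (hfix : ∀ v, A *ᵥ v = v → v = 0)
    (hx0 : (Fintype.card F : ZMod r) ≠ 0) (hx1 : (Fintype.card F : ZMod r) ≠ 1)
    (hm : (Fintype.card F : ZMod r) ^ (n + 1) = 1) : False := by
  have hA' : ∀ v, stdMinus n F a c (A *ᵥ v) = stdMinus n F a c v := by
    intro v
    rw [stdMinus_apply, stdMinus_apply]
    exact hA v
  have hV : Module.finrank F ((Fin n ⊕ Fin n) ⊕ Fin 2 → F) = 2 * n + 2 := by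
    rw [Module.finrank_fintype_fun_eq_card]
    simp only [Fintype.card_sum, Fintype.card_fin]
    omega
  have h0 := zeros_minus_frame_Zp (StdFam.minus_isHyp (stdFamId (stdMinus n F a c))) hV
    (Cfsg.Agent.Lib.Helper19.QuadMinus.Zp_std_minus n a c hac)
  have h1 : (Nat.card {w : (Fin n ⊕ Fin n) ⊕ Fin 2 → F // stdMinus n F a c w = 0} : ZMod r) *
      (Fintype.card F : ZMod r) = (Fintype.card F : ZMod r) ^ (2 * (n + 1)) +
        (-1) * ((Fintype.card F : ZMod r) ^ (n + 1 + 1) - (Fintype.card F : ZMod r) ^ (n + 1)) := by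
    have h1' := congrArg (fun k : ℕ => (k : ZMod r)) h0
    simp only [Nat.cast_add, Nat.cast_mul, Nat.cast_pow] at h1'
    have e1 : 2 * (n + 1) = 2 * n + 2 := by ring
    rw [e1]
    linear_combination h1'
  have hZ : (Nat.card {v : (Fin n ⊕ Fin n) ⊕ Fin 2 → F // stdMinus n F a c v = 0} : ZMod r) =
      (Nat.card {v : (Fin n ⊕ Fin n) ⊕ Fin 2 → F //
        stdMinus n F a c v = 0 ∧ A *ᵥ v = v} : ZMod r) :=
    (ZMod.natCast_eq_natCast_iff _ _ _).mpr (card_zeros_modEq (stdMinus n F a c) A hA' hAr)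
  have h2 := sign_eq (Fintype.card F : ZMod r) hx0 hx1 (Nat.zero_le (n + 1)) (-1) 1 1 _ _
    (by ring) (by rw [Nat.sub_zero]; exact hm) hZ h1
    (by rw [card_fix_eq_one _ A hfix]; simp)
  have hne := one_ne_neg_one_zmod (r := r) hr2
  rw [mul_one] at h2
  exact hne h2.symm

end Cfsg.Agent.Lib.Helper24.OEv
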