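import Mathlib
import Cfsg.Agent.Lib.Helper24.NsPtA
import Cfsg.Agent.Lib.Helper24.OEvE

set_option autoImplicit false
set_option linter.style.haveILetI false
set_option linter.unusedSimpArgs false
set_option linter.unusedSectionVars false

namespace Cfsg.Agent.Lib.Helper24.NsPt

open Matrix QuadraticMap Cfsg
open Cfsg.Agent.Lib.Helper19.QuadWitt Cfsg.Agent.Lib.Helper19.QuadStd
open Cfsg.Agent.Lib.Helper24.OEv

variable {F : Type*} [Field F] [Fintype F]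

theorem card_points_plus (m : ℕ) :
    Nat.card {W : Submodule F (Fin m ⊕ Fin m → F) // Module.finrank F ↥W = 1 ∧
      ∃ v ∈ W, stdPlus m F v ≠ 0} * Fintype.card F + Fintype.card F ^ m =
      Fintype.card F ^ m * Fintype.card F ^ m := by
  classical
  have hV : Module.finrank F (Fin m ⊕ Fin m → F) = 2 * m := by
    rw [Module.finrank_fintype_fun_eq_card]
    simp only [Fintype.card_sum, Fintype.card_fin]
    omega
  have h3 := zeros_plus_frame (StdFam.plus_isHyp (stdFamId (stdPlus m F))) hV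
  have h1 := card_points_mul (stdPlus m F)
  have h2 := card_nonsing_add (stdPlus m F)
  have hcard : Fintype.card (Fin m ⊕ Fin m) = 2 * m := by
    simp only [Fintype.card_sum, Fintype.card_fin]
    omega
  rw [hcard] at h2
  obtain ⟨q, hq⟩ : ∃ q, q = Fintype.card F := ⟨_, rfl⟩
  have hq1 : 1 < q := by rw [hq]; exact Fintype.one_lt_card
  obtain ⟨s, hs⟩ : ∃ s, q = s + 1 := ⟨q - 1, by omega⟩
  obtain ⟨y, hy⟩ : ∃ y, y = q ^ m := ⟨_, rfl⟩
  have e1 : q ^ (2 * m) = y * y := by rw [hy, two_mul, pow_add]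
  have e2 : q ^ (m + 1) = y * q := by rw [hy, pow_succ]
  rw [← hq] at h1 h2 h3 ⊢
  rw [← hy]
  rw [e1] at h2 h3
  rw [e2, ← hy] at h3
  have hs' : q - 1 = s := by omega
  rw [hs'] at h1
  obtain ⟨N, hN⟩ : ∃ N, N = Nat.card {W : Submodule F (Fin m ⊕ Fin m → F) //
    Module.finrank F ↥W = 1 ∧ ∃ v ∈ W, stdPlus m F v ≠ 0} := ⟨_, rfl⟩
  obtain ⟨n, hn⟩ : ∃ n, n = Nat.card {v : Fin m ⊕ Fin m → F // stdPlus m F v ≠ 0} := ⟨_, rfl⟩
  obtain ⟨Z, hZ⟩ : ∃ Z, Z = Nat.card {v : Fin m ⊕ Fin m → F // stdPlus m F v = 0} := ⟨_, rfl⟩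
  rw [← hN, ← hn] at h1
  rw [← hn, ← hZ] at h2
  rw [← hZ] at h3
  rw [← hN]
  have hs0 : 0 < s := by omega
  apply Nat.eq_of_mul_eq_mul_right hs0
  zify at h1 h2 h3 hs ⊢
  linear_combination (q : ℤ) * h1 + (q : ℤ) * h2 - h3 + ((y : ℤ) * y - y) * hs

theorem card_points_minus (k : ℕ) (a c : F)
    (hac : ∀ z₁ z₂ : F, z₁ ^ 2 + a * z₁ * z₂ + c * z₂ ^ 2 = 0 → z₁ = 0 ∧ z₂ = 0) :
    Nat.card {W : Submodule F ((Fin k ⊕ Fin k) ⊕ Fin 2 → F) // Module.finrank F ↥W = 1 ∧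
      ∃ v ∈ W, stdMinus k F a c v ≠ 0} * Fintype.card F =
      Fintype.card F ^ (k + 1) * (Fintype.card F ^ (k + 1) + 1) := by
  classical
  have hV : Module.finrank F ((Fin k ⊕ Fin k) ⊕ Fin 2 → F) = 2 * k + 2 := by
    rw [Module.finrank_fintype_fun_eq_card]
    simp only [Fintype.card_sum, Fintype.card_fin]
    omega
  have h3 := zeros_minus_frame_Zp (StdFam.minus_isHyp (stdFamId (stdMinus k F a c))) hV
    (Cfsg.Agent.Lib.Helper19.QuadMinus.Zp_std_minus k a c hac)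
  have h1 := card_points_mul (stdMinus k F a c)
  have h2 := card_nonsing_add (stdMinus k F a c)
  have hcard : Fintype.card ((Fin k ⊕ Fin k) ⊕ Fin 2) = 2 * k + 2 := by
    simp only [Fintype.card_sum, Fintype.card_fin]
    omega
  rw [hcard] at h2
  obtain ⟨q, hq⟩ : ∃ q, q = Fintype.card F := ⟨_, rfl⟩
  have hq1 : 1 < q := by rw [hq]; exact Fintype.one_lt_card
  obtain ⟨s, hs⟩ : ∃ s, q = s + 1 := ⟨q - 1, by omega⟩
  obtain ⟨y, hy⟩ : ∃ y, y = q ^ (k + 1) := ⟨_, rfl⟩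
  have e1 : q ^ (2 * k + 2) = y * y := by
    rw [hy, ← pow_add]
    congr 1
    omega
  have e2 : q ^ (k + 2) = y * q := by rw [hy, ← pow_succ]
  rw [← hq] at h1 h2 h3 ⊢
  rw [← hy]
  rw [e1] at h2 h3
  rw [e2, ← hy] at h3
  have hs' : q - 1 = s := by omega
  rw [hs'] at h1
  obtain ⟨N, hN⟩ : ∃ N, N = Nat.card {W : Submodule F ((Fin k ⊕ Fin k) ⊕ Fin 2 → F) //
    Module.finrank F ↥W = 1 ∧ ∃ v ∈ W, stdMinus k F a c v ≠ 0} := ⟨_, rfl⟩
  obtain ⟨n, hn⟩ : ∃ n, n = Nat.card {v : (Fin k ⊕ Fin k) ⊕ Fin 2 → F //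
    stdMinus k F a c v ≠ 0} := ⟨_, rfl⟩
  obtain ⟨Z, hZ⟩ : ∃ Z, Z = Nat.card {v : (Fin k ⊕ Fin k) ⊕ Fin 2 → F //
    stdMinus k F a c v = 0} := ⟨_, rfl⟩
  rw [← hN, ← hn] at h1
  rw [← hn, ← hZ] at h2
  rw [← hZ] at h3
  rw [← hN]
  have hs0 : 0 < s := by omega
  apply Nat.eq_of_mul_eq_mul_right hs0
  zify at h1 h2 h3 hs ⊢
  linear_combination (q : ℤ) * h1 + (q : ℤ) * h2 - h3 + ((y : ℤ) * y + y) * hs

end Cfsg.Agent.Lib.Helper24.NsPt
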