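import Mathlib
import Cfsg.Agent.Lib.Helper24.OEvE
import Cfsg.Agent.Lib.Helper19.QuadMinusTS

set_option autoImplicit false
set_option linter.style.haveILetI false
set_option linter.unusedSimpArgs false
set_option linter.unusedSectionVars false

namespace Cfsg.Agent.Lib.Helper24.OEv

open Polynomial Matrix Cfsg QuadraticMap
open Cfsg.Agent.Lib.Helper19.QuadWitt Cfsg.Agent.Lib.Helper19.QuadStd
open Cfsg.Agent.Lib.Helper24.OConj Cfsg.Agent.Lib.Helper24.AdjGen

variable {F : Type*} [Field F]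

section adj

variable {ι : Type} [Fintype ι] [DecidableEq ι]

theorem adj_aeval {adj : Matrix ι ι F → Matrix ι ι F} (hadj : IsAdj adj) (A : Matrix ι ι F)
    (p : F[X]) : adj (aeval A p) = aeval (adj A) p := by
  rw [aeval_eq_sum_range, aeval_eq_sum_range, hadj.sum]
  apply Finset.sum_congr rfl
  intro i _
  rw [hadj.smul, hadj.pow]

theorem aeval_reverse_inv' {A A' : Matrix ι ι F} (h1 : A' * A = 1) (p : F[X]) :
    aeval A' p.reverse = A' ^ p.natDegree * aeval A p := by
  have h2 : A * A' = 1 := mul_eq_one_comm.mp h1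
  have hcomm : Commute A' A := by
    unfold Commute SemiconjBy
    rw [h1, h2]
  obtain ⟨d, hd⟩ : ∃ d, d = p.natDegree := ⟨_, rfl⟩
  rw [← hd]
  have hlt : p.reverse.natDegree < d + 1 := by
    have := reverse_natDegree_le p
    omega
  rw [aeval_eq_sum_range' hlt, aeval_eq_sum_range' (show p.natDegree < d + 1 by omega),
    Finset.mul_sum, ← Finset.sum_range_reflect]
  apply Finset.sum_congr rfl
  intro j hj
  rw [Finset.mem_range] at hj
  have hjd : j ≤ d := by omega
  have e1 : d + 1 - 1 - j = d - j := by omega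
  have e3 : d - (d - j) = j := by omega
  rw [coeff_reverse, ← hd, e1, revAt_le (Nat.sub_le d j), e3, Matrix.mul_smul]
  congr 1
  have e2 : A' ^ d = A' ^ (d - j) * A' ^ j := by
    rw [← pow_add]
    congr 1
    omega
  rw [e2, Matrix.mul_assoc, ← hcomm.mul_pow, h1, one_pow, Matrix.mul_one]

theorem aeval_comm_self (A : Matrix ι ι F) (p : F[X]) : aeval A p * A = A * aeval A p := by
  have h1 : aeval A (p * X) = aeval A p * A := by rw [map_mul, aeval_X]
  have h2 : aeval A (X * p) = A * aeval A p := by rw [map_mul, aeval_X]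
  rw [← h1, ← h2, mul_comm]

/-- the polar form vanishes on the kernel of `ψ₁(A)` when `ψ₁` is coprime to its dual -/
theorem polar_ker_eq_zero (Q : QuadraticForm F (ι → F)) (hQ : (polarBilin Q).Nondegenerate)
    {A : Matrix ι ι F} (hA : ∀ v, Q (A *ᵥ v) = Q v) {ψ₁ ψ₂ : F[X]} (hcop : IsCoprime ψ₁ ψ₂)
    (hψ₂ : ψ₂ = C (ψ₁.coeff 0)⁻¹ * ψ₁.reverse) {u v : ι → F} (hu : aeval A ψ₁ *ᵥ u = 0)
    (hv : aeval A ψ₁ *ᵥ v = 0) : polar ⇑Q u v = 0 := by
  obtain ⟨a, b, hab⟩ := hcop
  have h1 := congrArg (fun g => aeval A g *ᵥ v) hab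
  simp only [map_add, map_mul, map_one, Matrix.add_mulVec, Matrix.one_mulVec] at h1
  rw [← Matrix.mulVec_mulVec, hv, Matrix.mulVec_zero, zero_add] at h1
  have h2 : aeval A b * aeval A ψ₂ = aeval A ψ₂ * aeval A b := by
    rw [← map_mul, ← map_mul, mul_comm]
  rw [h2, ← Matrix.mulVec_mulVec] at h1
  rw [← h1, polar_comm, polar_adj Q hQ, adj_aeval (isAdj Q hQ), hψ₂, map_mul, aeval_C,
    aeval_reverse_inv' (adj_mul_self Q hQ hA), Algebra.algebraMap_eq_smul_one,
    Matrix.smul_mul, Matrix.one_mul, Matrix.smul_mulVec, ← Matrix.mulVec_mulVec, hu,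
    Matrix.mulVec_zero, smul_zero, polar_zero_right]

/-- the form vanishes on the kernel of `ψ₁(A)` -/
theorem Q_ker_eq_zero (Q : QuadraticForm F (ι → F)) (hQ : (polarBilin Q).Nondegenerate)
    {A : Matrix ι ι F} (hA : ∀ v, Q (A *ᵥ v) = Q v) {ψ₁ ψ₂ : F[X]} (hcop : IsCoprime ψ₁ ψ₂)
    (hψ₂ : ψ₂ = C (ψ₁.coeff 0)⁻¹ * ψ₁.reverse)
    (hy : ∃ y : Matrix ι ι F, (A - 1) * y = 1 ∧ y * aeval A ψ₁ = aeval A ψ₁ * y)
    {u : ι → F} (hu : aeval A ψ₁ *ᵥ u = 0) : Q u = 0 := by
  by_cases h2 : (2 : F) = 0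
  · obtain ⟨y, hy1, hy2⟩ := hy
    obtain ⟨u', hu'⟩ : ∃ u', u' = y *ᵥ u := ⟨_, rfl⟩
    have hu'k : aeval A ψ₁ *ᵥ u' = 0 := by
      rw [hu', Matrix.mulVec_mulVec, ← hy2, ← Matrix.mulVec_mulVec, hu, Matrix.mulVec_zero]
    have hAu'k : aeval A ψ₁ *ᵥ (A *ᵥ u') = 0 := by
      rw [Matrix.mulVec_mulVec, aeval_comm_self, ← Matrix.mulVec_mulVec, hu'k,
        Matrix.mulVec_zero]
    have hu2 : u = A *ᵥ u' - u' := by
      have := congrArg (fun M => M *ᵥ u) hy1
      simp only [Matrix.one_mulVec] at this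
      rw [← Matrix.mulVec_mulVec, ← hu', Matrix.sub_mulVec, Matrix.one_mulVec] at this
      exact this.symm
    rw [hu2, Cfsg.Agent.Lib.Helper24.OConj.Q_sub, hA,
      polar_ker_eq_zero Q hQ hA hcop hψ₂ hAu'k hu'k, sub_zero, ← two_mul, h2, zero_mul]
  · have h1 := polar_ker_eq_zero Q hQ hA hcop hψ₂ hu hu
    rw [polar_self, two_nsmul, ← two_mul] at h1
    rcases mul_eq_zero.mp h1 with h | h
    · exact absurd h h2
    · exact h

/-- `A - 1` is invertible by an element commuting with any given polynomial in `A` -/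
theorem exists_inv_sub_one {A : Matrix ι ι F} {r : ℕ} (hAr : A ^ r = 1) (hr : (r : F) ≠ 0)
    (hfix : ∀ v, A *ᵥ v = v → v = 0) (ψ : F[X]) :
    ∃ y : Matrix ι ι F, (A - 1) * y = 1 ∧ y * aeval A ψ = aeval A ψ * y := by
  have havg : avg A r = 0 := by
    rw [Matrix.ext_iff_mulVec]
    intro v
    rw [Matrix.zero_mulVec]
    apply hfix
    rw [Matrix.mulVec_mulVec, mul_avg hAr]
  obtain ⟨y, hyS, hy⟩ := exists_compl (T := A) hr (Subalgebra.centralizer F {aeval A ψ}) (by
    rw [Subalgebra.mem_centralizer_iff]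
    intro g hg
    rw [Set.mem_singleton_iff] at hg
    rw [hg]
    exact aeval_comm_self A ψ)
  rw [havg, sub_zero] at hy
  refine ⟨y, hy, ?_⟩
  rw [Subalgebra.mem_centralizer_iff] at hyS
  exact (hyS _ (Set.mem_singleton _)).symm

end adj

section half

open Cfsg.Agent.Lib.Helper5.PrimeOrd Cfsg.Agent.Lib.Helper24.Star

/-- a product over a finite type with a free involution splits into two halves -/
theorem exists_half {S : Type*} [Fintype S] [DecidableEq S] (D : S → S)
    (hD : ∀ x, D (D x) = x) (hfree : ∀ x, D x ≠ x) :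
    ∃ T : Finset S, (∀ x, x ∈ T ↔ D x ∉ T) ∧
      ∀ {M : Type*} [CommMonoid M] (g : S → M), ∏ x, g x = (∏ x ∈ T, g x) * ∏ x ∈ T, g (D x) := by
  classical
  obtain ⟨e⟩ : Nonempty (S ≃ Fin (Fintype.card S)) := ⟨Fintype.equivFin S⟩
  obtain ⟨P, hPdef⟩ : ∃ P : S → Prop, P = fun x => e x < e (D x) := ⟨_, rfl⟩
  have hP : ∀ x, P (D x) ↔ ¬ P x := by
    intro x
    rw [hPdef]
    show e (D x) < e (D (D x)) ↔ ¬ e x < e (D x)
    rw [hD, not_lt]
    have hne : e (D x) ≠ e x := fun h => hfree x (e.injective h)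
    constructor
    · intro h; exact le_of_lt h
    · intro h; exact lt_of_le_of_ne h hne
  refine ⟨Finset.univ.filter P, ?_, ?_⟩
  · intro x
    rw [Finset.mem_filter, Finset.mem_filter, hP]
    simp
  · intro M _ g
    rw [← Finset.prod_filter_mul_prod_filter_not Finset.univ P g]
    congr 1
    apply Finset.prod_bij' (fun x _ => D x) (fun x _ => D x)
    · intro x hx
      rw [Finset.mem_filter] at hx ⊢
      exact ⟨Finset.mem_univ _, (hP x).mpr hx.2⟩
    · intro x hx
      rw [Finset.mem_filter] at hx ⊢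
      refine ⟨Finset.mem_univ _, ?_⟩
      intro hcon
      exact (hP x).mp hcon hx.2
    · intro x _
      exact hD x
    · intro x _
      exact hD x
    · intro x _
      rw [hD]

end half

end Cfsg.Agent.Lib.Helper24.OEv
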