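import Mathlib
import Cfsg.Agent.Lib.Helper24.OEvF

set_option autoImplicit false
set_option linter.style.haveILetI false
set_option linter.unusedSimpArgs false
set_option linter.unusedSectionVars false

namespace Cfsg.Agent.Lib.Helper24.OEv

open Polynomial Matrix Cfsg QuadraticMap
open Cfsg.Agent.Lib.Helper19.QuadWitt Cfsg.Agent.Lib.Helper19.QuadStd
open Cfsg.Agent.Lib.Helper24.OConj Cfsg.Agent.Lib.Helper24.AdjGen
open Cfsg.Agent.Lib.Helper5.PrimeOrd Cfsg.Agent.Lib.Helper24.Star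

variable {F : Type*} [Field F] [Fintype F] (p : ℕ) [Fact p.Prime] [CharP F p]

theorem prod_cycFactors {r : ℕ} (hr : r.Prime) (hrp : r ≠ p) :
    ∏ f ∈ cycFactors F r, f = cyclotomic r F := by
  classical
  have hrF : (r : F) ≠ 0 := cast_ne_zero_of_ne p hr hrp
  haveI : NeZero (r : F) := ⟨hrF⟩
  have hsq : Squarefree (cyclotomic r F) := (separable_cyclotomic r F).squarefree
  have h0 : cyclotomic r F ≠ 0 := cyclotomic_ne_zero r F
  have hnd := (UniqueFactorizationMonoid.squarefree_iff_nodup_normalizedFactors h0).mp hsq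
  have h1 : ∏ f ∈ cycFactors F r, f =
      (UniqueFactorizationMonoid.normalizedFactors (cyclotomic r F)).prod := by
    unfold cycFactors
    rw [Finset.prod_eq_multiset_prod, Multiset.toFinset_val, hnd.dedup, Multiset.map_id']
  rw [h1]
  apply eq_of_monic_of_associated _ (cyclotomic.monic r F)
    (UniqueFactorizationMonoid.prod_normalizedFactors h0)
  have := monic_multiset_prod_of_monic
    (UniqueFactorizationMonoid.normalizedFactors (cyclotomic r F)) id (fun f hf => by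
      rw [UniqueFactorizationMonoid.mem_normalizedFactors_iff' h0] at hf
      rw [id, ← hf.2.1]
      exact monic_normalize hf.1.ne_zero)
  rwa [Multiset.map_id] at this

/-- when the order `i` of `q` mod `r` is odd, an isometry of order `r` of the elliptic space has a
nonzero fixed vector -/
theorem excl_minus_odd {q : ℕ} (hF : Fintype.card F = q) {n : ℕ} (a c : F)
    (hac : ∀ z₁ z₂ : F, z₁ ^ 2 + a * z₁ * z₂ + c * z₂ ^ 2 = 0 → z₁ = 0 ∧ z₂ = 0)
    (A : Matrix ((Fin n ⊕ Fin n) ⊕ Fin 2) ((Fin n ⊕ Fin n) ⊕ Fin 2) F)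
    (hA : ∀ v, Cfsg.quadFormMinus n F a c (A *ᵥ v) = Cfsg.quadFormMinus n F a c v)
    {r i : ℕ} (hr : r.Prime) (hr2 : r ≠ 2) (hrp : r ≠ p) (hi : i = orderOf (q : ZMod r))
    (hodd : Odd i) (hAr : A ^ r = 1) (hfix : ∀ v, A *ᵥ v = v → v = 0) : False := by
  classical
  haveI : Fact r.Prime := ⟨hr⟩
  have hrF : (r : F) ≠ 0 := cast_ne_zero_of_ne p hr hrp
  have hA' : ∀ v, stdMinus n F a c (A *ᵥ v) = stdMinus n F a c v := by
    intro v
    rw [stdMinus_apply, stdMinus_apply]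
    exact hA v
  have hQ := stdMinus_nondeg (F := F) n hac
  have hmem : ∀ f ∈ cycFactors F r, Irreducible f ∧ f.Monic ∧ f.coeff 0 ≠ 0 := by
    intro f hf
    have h2 := (mem_cycFactors_iff r f).mp hf
    exact ⟨h2.1, h2.2.1, coeff_zero_ne_of_mem hr f hf⟩
  have hDS : ∀ f ∈ cycFactors F r, star f ∈ cycFactors F r := fun f hf => star_mem p hr hrp f hf
  obtain ⟨D, hDdef⟩ : ∃ D : ↥(cycFactors F r) → ↥(cycFactors F r),
      ∀ x, (D x).1 = star x.1 := ⟨fun x => ⟨star x.1, hDS x.1 x.2⟩, fun x => rfl⟩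
  have hD : ∀ x, D (D x) = x := by
    intro x
    apply Subtype.ext
    rw [hDdef, hDdef]
    exact star_star_of_monic (hmem x.1 x.2).2.1 (hmem x.1 x.2).2.2
  have hfree : ∀ x, D x ≠ x := by
    intro x h
    have h2 : star x.1 = x.1 := by rw [← hDdef, h]
    have hdeg := natDegree_of_mem_cycFactors p hr hrp hF hi x.1 x.2
    exact star_ne_of_odd p hr hr2 hrp x.1 x.2 (by rw [hdeg]; exact hodd) h2
  obtain ⟨T, hT1, hT2⟩ := exists_half D hD hfree
  obtain ⟨ψ₁, hψ₁def⟩ : ∃ ψ₁ : F[X], ψ₁ = ∏ x ∈ T, x.1 := ⟨_, rfl⟩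
  obtain ⟨ψ₂, hψ₂def⟩ : ∃ ψ₂ : F[X], ψ₂ = ∏ x ∈ T, (D x).1 := ⟨_, rfl⟩
  have hprod : ψ₁ * ψ₂ = cyclotomic r F := by
    rw [hψ₁def, hψ₂def, ← hT2 (fun x => x.1), ← prod_cycFactors p hr hrp]
    exact Finset.prod_coe_sort (cycFactors F r) (fun f => f)
  have hψ₁mon : ψ₁.Monic := by
    rw [hψ₁def]
    exact monic_prod_of_monic _ _ (fun x _ => (hmem x.1 x.2).2.1)
  have hψ₁0 : ψ₁.coeff 0 ≠ 0 := by
    rw [hψ₁def, coeff_zero_eq_eval_zero, eval_prod, Finset.prod_ne_zero_iff]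
    intro x _
    rw [← coeff_zero_eq_eval_zero]
    exact (hmem x.1 x.2).2.2
  have hψ₂ : ψ₂ = star ψ₁ := by
    rw [hψ₂def, hψ₁def, ← starHom_apply, map_prod]
    apply Finset.prod_congr rfl
    intro x _
    rw [hDdef, starHom_apply]
  have hψ₁' : ψ₁ = star ψ₂ := by
    rw [hψ₂, star_star_of_monic hψ₁mon hψ₁0]
  have hcop : IsCoprime ψ₁ ψ₂ := by
    rw [hψ₁def, hψ₂def]
    apply IsCoprime.prod_left
    intro x hx
    apply IsCoprime.prod_right
    intro y hy
    have hxy : x ≠ D y := by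
      intro h
      rw [h] at hx
      exact (hT1 y).mp hy hx
    apply (hmem x.1 x.2).1.coprime_iff_not_dvd.mpr
    intro hdvd
    apply hxy
    apply Subtype.ext
    have hass := (hmem x.1 x.2).1.associated_of_dvd (hmem (D y).1 (D y).2).1 hdvd
    exact eq_of_monic_of_associated (hmem x.1 x.2).2.1 (hmem (D y).1 (D y).2).2.1 hass
  have hΦ : aeval A (cyclotomic r F) = 0 := by
    have h1 : aeval A (cyclotomic r F) * (A - 1) = 0 := by
      have := congrArg (aeval A) (cyclotomic_prime_mul_X_sub_one F r)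
      rw [map_mul, map_sub, map_sub, map_pow, aeval_X, map_one, hAr, sub_self] at this
      exact this
    rw [Matrix.ext_iff_mulVec]
    intro v
    rw [Matrix.zero_mulVec]
    apply hfix
    have h2 : (A - 1) * aeval A (cyclotomic r F) = 0 := by
      rw [Matrix.sub_mul, Matrix.one_mul, ← aeval_comm_self, ← Matrix.mul_one (aeval A _),
        Matrix.mul_assoc, Matrix.one_mul, ← Matrix.mul_sub]
      exact h1
    have h3 := congrArg (fun M => M *ᵥ v) h2
    simp only [Matrix.zero_mulVec] at h3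
    rw [← Matrix.mulVec_mulVec, Matrix.sub_mulVec, Matrix.one_mulVec, sub_eq_zero] at h3
    exact h3
  obtain ⟨U, hUdef⟩ : ∃ U : Submodule F ((Fin n ⊕ Fin n) ⊕ Fin 2 → F),
      U = LinearMap.ker (Matrix.toLin' (aeval A ψ₁)) := ⟨_, rfl⟩
  obtain ⟨U', hU'def⟩ : ∃ U' : Submodule F ((Fin n ⊕ Fin n) ⊕ Fin 2 → F),
      U' = LinearMap.ker (Matrix.toLin' (aeval A ψ₂)) := ⟨_, rfl⟩
  have hU : Cfsg.Agent.Lib.Helper19.Parity.IsTS (stdMinus n F a c) U := by
    intro u hu
    rw [hUdef, LinearMap.mem_ker, Matrix.toLin'_apply] at hu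
    exact Q_ker_eq_zero _ hQ hA' hcop (by rw [hψ₂]; rfl)
      (exists_inv_sub_one hAr hrF hfix ψ₁) hu
  have hU' : Cfsg.Agent.Lib.Helper19.Parity.IsTS (stdMinus n F a c) U' := by
    intro u hu
    rw [hU'def, LinearMap.mem_ker, Matrix.toLin'_apply] at hu
    exact Q_ker_eq_zero _ hQ hA' hcop.symm (by rw [hψ₁']; rfl)
      (exists_inv_sub_one hAr hrF hfix ψ₂) hu
  have htop : U ⊔ U' = ⊤ := by
    rw [eq_top_iff]
    intro v _
    obtain ⟨a', b', hab⟩ := hcop
    have h1 := congrArg (fun g => aeval A g *ᵥ v) hab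
    simp only [map_add, map_one, Matrix.add_mulVec, Matrix.one_mulVec] at h1
    rw [← h1, add_comm]
    apply Submodule.add_mem_sup
    · rw [hUdef, LinearMap.mem_ker, Matrix.toLin'_apply, Matrix.mulVec_mulVec, ← map_mul]
      have : ψ₁ * (b' * ψ₂) = b' * (ψ₁ * ψ₂) := by ring
      rw [this, hprod, map_mul, hΦ, mul_zero, Matrix.zero_mulVec]
    · rw [hU'def, LinearMap.mem_ker, Matrix.toLin'_apply, Matrix.mulVec_mulVec, ← map_mul]
      have : ψ₂ * (a' * ψ₁) = a' * (ψ₁ * ψ₂) := by ring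
      rw [this, hprod, map_mul, hΦ, mul_zero, Matrix.zero_mulVec]
  have h1 := Cfsg.Agent.Lib.Helper19.OrthRefl.isTS_minus_finrank_le n hac U hU
  have h2 := Cfsg.Agent.Lib.Helper19.OrthRefl.isTS_minus_finrank_le n hac U' hU'
  have h3 := Submodule.finrank_add_le_finrank_add_finrank U U'
  rw [htop, finrank_top, Module.finrank_fintype_fun_eq_card] at h3
  simp only [Fintype.card_sum, Fintype.card_fin] at h3
  omega

end Cfsg.Agent.Lib.Helper24.OEv
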