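import Mathlib
import Cfsg.Agent.Lib.Helper24.OEvG

set_option autoImplicit false
set_option linter.style.haveILetI false
set_option linter.unusedSimpArgs false
set_option linter.unusedSectionVars false

namespace Cfsg.Agent.Lib.Helper24.OEv

open Polynomial Matrix Cfsg QuadraticMap
open Cfsg.Agent.Lib.Helper19.QuadWitt Cfsg.Agent.Lib.Helper19.QuadStd
open Cfsg.Agent.Lib.Helper24.OConj Cfsg.Agent.Lib.Helper24.AdjGen
open Cfsg.Agent.Lib.Helper5.PrimeOrd Cfsg.Agent.Lib.Helper24.Star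

variable {F : Type*} [Field F] [Fintype F]

/-- every finite field carries an anisotropic binary quadratic form -/
theorem exists_aniso (F : Type*) [Field F] [Fintype F] : ∃ a₀ c₀ : F, ∀ z₁ z₂ : F,
    z₁ ^ 2 + a₀ * z₁ * z₂ + c₀ * z₂ ^ 2 = 0 → z₁ = 0 ∧ z₂ = 0 := by
  classical
  have hninj : ¬ Function.Injective (fun z : F => z ^ 2 - z) := by
    intro h
    have h1 : (fun z : F => z ^ 2 - z) 0 = (fun z : F => z ^ 2 - z) 1 := by simp
    exact zero_ne_one (h h1)
  have hnsurj : ¬ Function.Surjective (fun z : F => z ^ 2 - z) := by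
    intro h
    exact hninj (Finite.injective_iff_surjective.mpr h)
  rw [Function.Surjective] at hnsurj
  push Not at hnsurj
  obtain ⟨c', hc'⟩ := hnsurj
  refine ⟨-1, -c', ?_⟩
  intro z₁ z₂ h
  by_cases hz : z₂ = 0
  · subst hz
    have h1 : z₁ ^ 2 = 0 := by linear_combination h
    exact ⟨pow_eq_zero_iff (two_ne_zero) |>.mp h1, rfl⟩
  · exfalso
    apply hc' (z₁ / z₂)
    show (z₁ / z₂) ^ 2 - z₁ / z₂ = c'
    field_simp
    linear_combination h

/-- a matrix whose characteristic polynomial does not vanish at `1` has no fixed vectors -/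
theorem no_fix_of_not_dvd {ι : Type*} [Fintype ι] [DecidableEq ι] (A : Matrix ι ι F)
    (h : ¬ (X - 1 : F[X]) ∣ A.charpoly) : ∀ v, A *ᵥ v = v → v = 0 := by
  intro v hv
  by_contra hne
  apply h
  rw [← C_1, dvd_iff_isRoot, IsRoot.def, Matrix.eval_charpoly]
  apply Matrix.exists_mulVec_eq_zero_iff.mp
  refine ⟨v, hne, ?_⟩
  rw [Matrix.sub_mulVec, hv, sub_eq_zero]
  ext j
  simp [Matrix.scalar_apply, Matrix.mulVec_diagonal]

theorem dvd_of_fix {ι : Type*} [Fintype ι] [DecidableEq ι] (A : Matrix ι ι F)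
    {v : ι → F} (hv : A *ᵥ v = v) (hne : v ≠ 0) : (X - 1 : F[X]) ∣ A.charpoly := by
  by_contra h
  exact hne (no_fix_of_not_dvd A h v hv)

section zmod

variable {V : Type*} [AddCommGroup V] [Module F V] [FiniteDimensional F V]
  {Q : QuadraticForm F V} (r : ℕ)

theorem zmod_minus_Zp {k : ℕ} {e f : Fin k → V} (h : IsHyp Q e f)
    (hV : Module.finrank F V = 2 * (k + 1)) (hZ : Zp Q e f = 1) :
    (Nat.card {w : V // Q w = 0} : ZMod r) * (Fintype.card F : ZMod r) =
      (Fintype.card F : ZMod r) ^ (2 * (k + 1)) +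
        (-1) * ((Fintype.card F : ZMod r) ^ (k + 1 + 1) - (Fintype.card F : ZMod r) ^ (k + 1)) := by
  have h1 := congrArg (fun n : ℕ => (n : ZMod r)) (zeros_minus_frame_Zp h (by omega) hZ)
  simp only [Nat.cast_add, Nat.cast_mul, Nat.cast_pow] at h1
  have e1 : 2 * (k + 1) = 2 * k + 2 := by ring
  rw [e1]
  linear_combination h1

end zmod

theorem std_plus_zeros (r a' : ℕ) :
    (Nat.card {w : Fin a' ⊕ Fin a' → F // stdPlus a' F w = 0} : ZMod r) *
        (Fintype.card F : ZMod r) =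
      (Fintype.card F : ZMod r) ^ (2 * a') +
        1 * ((Fintype.card F : ZMod r) ^ (a' + 1) - (Fintype.card F : ZMod r) ^ a') := by
  rw [one_mul]
  apply zmod_plus r (stdFamId (stdPlus a' F)).plus_isHyp
  rw [Module.finrank_fintype_fun_eq_card]
  simp only [Fintype.card_sum, Fintype.card_fin]
  omega

theorem std_minus_zeros (r n : ℕ) (a c : F)
    (hac : ∀ z₁ z₂ : F, z₁ ^ 2 + a * z₁ * z₂ + c * z₂ ^ 2 = 0 → z₁ = 0 ∧ z₂ = 0) :
    (Nat.card {w : (Fin n ⊕ Fin n) ⊕ Fin 2 → F // stdMinus n F a c w = 0} : ZMod r) *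
        (Fintype.card F : ZMod r) =
      (Fintype.card F : ZMod r) ^ (2 * (n + 1)) +
        (-1) * ((Fintype.card F : ZMod r) ^ (n + 1 + 1) - (Fintype.card F : ZMod r) ^ (n + 1)) := by
  apply zmod_minus_Zp r (stdFamId (stdMinus n F a c)).minus_isHyp
  · rw [Module.finrank_fintype_fun_eq_card]
    simp only [Fintype.card_sum, Fintype.card_fin]
    omega
  · exact Cfsg.Agent.Lib.Helper19.QuadMinus.Zp_std_minus n a c hac

/-- fixed singular vectors of a block sum whose first block has no fixed vectors -/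
theorem card_fix_sum {ι κ : Type} [Fintype ι] [DecidableEq ι] [Fintype κ] [DecidableEq κ]
    (QA : QuadraticForm F (ι → F)) (QB : QuadraticForm F (κ → F)) (PA : Matrix ι ι F)
    (hfix : ∀ v, PA *ᵥ v = v → v = 0) :
    Nat.card {v : ι ⊕ κ → F // qsum QA QB v = 0 ∧
      fromBlocks PA 0 0 (1 : Matrix κ κ F) *ᵥ v = v} = Nat.card {w : κ → F // QB w = 0} := by
  apply Nat.card_congr
  refine ⟨fun v => ⟨v.1 ∘ Sum.inr, ?_⟩, fun w => ⟨Sum.elim 0 w.1, ?_, ?_⟩, ?_, ?_⟩
  · obtain ⟨v, h1, h2⟩ := v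
    rw [fromBlocks_diag_mulVec] at h2
    have h3 : PA *ᵥ (v ∘ Sum.inl) = v ∘ Sum.inl := by
      funext j
      have := congrFun h2 (Sum.inl j)
      simpa using this
    have h4 := hfix _ h3
    rw [qsum_apply, h4, map_zero, zero_add] at h1
    exact h1
  · rw [qsum_apply]
    have e1 : (Sum.elim (0 : ι → F) w.1) ∘ Sum.inl = 0 := by
      funext j; rfl
    have e2 : (Sum.elim (0 : ι → F) w.1) ∘ Sum.inr = w.1 := by
      funext j; rfl
    rw [e1, e2, map_zero, zero_add]
    exact w.2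
  · rw [fromBlocks_diag_mulVec]
    have e1 : (Sum.elim (0 : ι → F) w.1) ∘ Sum.inl = 0 := by
      funext j; rfl
    have e2 : (Sum.elim (0 : ι → F) w.1) ∘ Sum.inr = w.1 := by
      funext j; rfl
    rw [e1, e2, Matrix.mulVec_zero, Matrix.one_mulVec]
  · rintro ⟨v, h1, h2⟩
    apply Subtype.ext
    rw [fromBlocks_diag_mulVec] at h2
    have h3 : PA *ᵥ (v ∘ Sum.inl) = v ∘ Sum.inl := by
      funext j
      have := congrFun h2 (Sum.inl j)
      simpa using this
    have h4 := hfix _ h3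
    funext j
    rcases j with j | j
    · show (0 : ι → F) j = v (Sum.inl j)
      have := congrFun h4 j
      simpa using this.symm
    · rfl
  · intro w
    apply Subtype.ext
    rfl

end Cfsg.Agent.Lib.Helper24.OEv
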