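import Mathlib
import Cfsg.Agent.Lib.Helper24.OEvH

set_option autoImplicit false
set_option linter.style.haveILetI false
set_option linter.unusedSimpArgs false
set_option linter.unusedSectionVars false

namespace Cfsg.Agent.Lib.Helper24.OEv

open Polynomial Matrix Cfsg QuadraticMap
open Cfsg.Agent.Lib.Helper19.QuadWitt Cfsg.Agent.Lib.Helper19.QuadStd
open Cfsg.Agent.Lib.Helper24.OConj Cfsg.Agent.Lib.Helper24.AdjGen
open Cfsg.Agent.Lib.Helper5.PrimeOrd Cfsg.Agent.Lib.Helper24.Star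

variable {F : Type*} [Field F] [Fintype F]

theorem qReal_multiset_prod {p : ℕ} (hp : p.Prime) (s : Multiset F[X])
    (h : ∀ f ∈ s, QReal F p f) : QReal F p s.prod := by
  induction s using Multiset.induction_on with
  | empty =>
    rw [Multiset.prod_zero]
    exact qReal_one p hp
  | cons a s ih =>
    rw [Multiset.prod_cons]
    exact qReal_mul hp (h a (Multiset.mem_cons_self a s))
      (ih (fun f hf => h f (Multiset.mem_cons_of_mem hf)))

/-- in a field, an element of even order `2k` has `k`-th power `-1` -/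
theorem pow_half_order {r : ℕ} [Fact r.Prime] (x : ZMod r) {k : ℕ} (hk : 0 < k)
    (hx : orderOf x = 2 * k) : x ^ k = -1 := by
  have h1 : x ^ (2 * k) = 1 := by rw [← hx]; exact pow_orderOf_eq_one x
  have h2 : (x ^ k - 1) * (x ^ k + 1) = 0 := by
    have : x ^ (2 * k) = x ^ k * x ^ k := by rw [two_mul, pow_add]
    rw [this] at h1
    linear_combination h1
  rcases mul_eq_zero.mp h2 with h | h
  · exfalso
    have h3 : x ^ k = 1 := sub_eq_zero.mp h
    have h4 := orderOf_dvd_of_pow_eq_one h3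
    rw [hx] at h4
    have := Nat.le_of_dvd hk h4
    omega
  · exact eq_neg_of_add_eq_zero_left h

/-- the type of a block sum `W ⊕ V₁` where the isometry is fixed-point-free on `W` and trivial
on `V₁` -/
theorem sum_type {ιW κ : Type} [Fintype ιW] [DecidableEq ιW] [Fintype κ] [DecidableEq κ]
    (QW : QuadraticForm F (ιW → F)) (hndW : (polarBilin QW).Nondegenerate)
    (PW : Matrix ιW ιW F) (hiso : ∀ v, QW (PW *ᵥ v) = QW v)
    {r : ℕ} [Fact r.Prime] (hr2 : r ≠ 2) (hPr : PW ^ r = 1)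
    (hfixW : ∀ v, PW *ᵥ v = v → v = 0)
    (Q₁ : QuadraticForm F (κ → F)) (hnd₁ : (polarBilin Q₁).Nondegenerate)
    (hx0 : (Fintype.card F : ZMod r) ≠ 0) (hx1 : (Fintype.card F : ZMod r) ≠ 1)
    {m a' : ℕ} (hcard : Fintype.card ιW + Fintype.card κ = 2 * m) (ha' : a' ≤ m)
    (δ τ : ZMod r) (hτ : τ = 1 ∨ τ = -1)
    (hτw : (Fintype.card F : ZMod r) ^ (m - a') = τ)
    (hfix₁ : (Nat.card {w : κ → F // Q₁ w = 0} : ZMod r) * (Fintype.card F : ZMod r) =
      (Fintype.card F : ZMod r) ^ (2 * a') +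
        δ * ((Fintype.card F : ZMod r) ^ (a' + 1) - (Fintype.card F : ZMod r) ^ a')) :
    (δ * τ = 1 → ∃ e f : Fin m → (ιW ⊕ κ → F), IsHyp (qsum QW Q₁) e f) ∧
    (δ * τ = -1 → ∃ (k : ℕ) (_ : k + 1 = m) (e f : Fin k → (ιW ⊕ κ → F)),
      IsHyp (qsum QW Q₁) e f ∧
      ∀ w ∈ perp (qsum QW Q₁) e f, qsum QW Q₁ w = 0 → w = 0) := by
  apply type_by_counting (qsum QW Q₁) (qsum_nondeg hndW hnd₁)
    (by rw [Fintype.card_sum]; exact hcard) (fromBlocks PW 0 0 (1 : Matrix κ κ F))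
    (qsum_isometry hiso (fun v => by rw [Matrix.one_mulVec])) hr2
    (by rw [fromBlocks_diagonal_pow, hPr, one_pow, fromBlocks_one]) hx0 hx1 ha' δ τ hτ hτw
  rw [card_fix_sum QW Q₁ PW hfixW]
  exact hfix₁

theorem sum_charpoly {ιW κ : Type} [Fintype ιW] [DecidableEq ιW] [Fintype κ] [DecidableEq κ]
    (PW : Matrix ιW ιW F) :
    (fromBlocks PW 0 0 (1 : Matrix κ κ F)).charpoly =
      PW.charpoly * (X - 1) ^ Fintype.card κ := by
  rw [charpoly_fromBlocks_zero₁₂, Matrix.charpoly_one]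

/-- realization in the hyperbolic space from a block sum -/
theorem exists_plus_of_sum (p : ℕ) [Fact p.Prime] [CharP F p] {r : ℕ} [Fact r.Prime]
    (hr2 : r ≠ 2)
    (hx0 : (Fintype.card F : ZMod r) ≠ 0) (hx1 : (Fintype.card F : ZMod r) ≠ 1)
    {ψ : F[X]} (hψ : QReal F p ψ) (hψ1 : ¬ (X - 1 : F[X]) ∣ ψ) (hψs : Smooth (X ^ r - 1) ψ)
    {m a' : ℕ} (hdeg : ψ.natDegree + 2 * a' = 2 * m)
    (τ : ZMod r) (hτ : τ = 1 ∨ τ = -1) (hτw : (Fintype.card F : ZMod r) ^ (m - a') = τ)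
    (hgood : τ = -1 → 1 ≤ a') :
    ∃ g : ↥(Cfsg.isometryGroup F (Cfsg.quadFormPlus m F)),
      ((g : GL (Fin m ⊕ Fin m) F) : Matrix (Fin m ⊕ Fin m) (Fin m ⊕ Fin m) F).charpoly =
        ψ * (X - 1) ^ (2 * a') ∧ ∃ N : ℕ, ¬ p ∣ N ∧
      ((g : GL (Fin m ⊕ Fin m) F) : Matrix (Fin m ⊕ Fin m) (Fin m ⊕ Fin m) F) ^ N = 1 := by
  have hr : r.Prime := Fact.out
  obtain ⟨ιW, _, _, QW, PW, hndW, hiso, hcp, N, hN, hPN⟩ := hψ
  have hN1 : 1 ≤ N := by
    rcases Nat.eq_zero_or_pos N with h | h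
    · exact absurd (h ▸ dvd_zero p) hN
    · exact h
  have hPr : PW ^ r = 1 := by
    rw [mat_pow_eq_one_iff_smooth p PW hN hPN r hr.pos, hcp]
    exact hψs
  have hfixW : ∀ v, PW *ᵥ v = v → v = 0 := no_fix_of_not_dvd PW (by rw [hcp]; exact hψ1)
  have hcW : Fintype.card ιW = ψ.natDegree := by
    rw [← hcp, Matrix.charpoly_natDegree_eq_dim]
  have ha' : a' ≤ m := by omega
  have hne := one_ne_neg_one_zmod (r := r) hr2
  by_cases hτ1 : τ = 1
  · have hc : Fintype.card ιW + Fintype.card (Fin a' ⊕ Fin a') = 2 * m := by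
      simp only [Fintype.card_sum, Fintype.card_fin]
      omega
    have h1 := (sum_type QW hndW PW hiso hr2 hPr hfixW (stdPlus a' F) (stdPlus_nondeg a')
      hx0 hx1 hc ha' 1 τ hτ hτw (std_plus_zeros r a')).1 (by rw [hτ1, one_mul])
    obtain ⟨e, f, hef⟩ := h1
    obtain ⟨g, hg1, hg2⟩ := exists_plus_of_frame (qsum QW (stdPlus a' F)) hef
      (by rw [Fintype.card_sum]; exact hc) (fromBlocks PW 0 0 (1 : Matrix _ _ F))
      (qsum_isometry hiso (fun v => by rw [Matrix.one_mulVec])) hN1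
      (by rw [fromBlocks_diagonal_pow, hPN, one_pow, fromBlocks_one])
    refine ⟨g, ?_, N, hN, hg2⟩
    rw [hg1, sum_charpoly, hcp]
    simp only [Fintype.card_sum, Fintype.card_fin]
    congr 2
    omega
  · have hτ2 : τ = -1 := hτ.resolve_left hτ1
    have h1a := hgood hτ2
    obtain ⟨n, rfl⟩ : ∃ n, a' = n + 1 := ⟨a' - 1, by omega⟩
    obtain ⟨a₀, c₀, hac⟩ := exists_aniso F
    have hc : Fintype.card ιW + Fintype.card ((Fin n ⊕ Fin n) ⊕ Fin 2) = 2 * m := by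
      simp only [Fintype.card_sum, Fintype.card_fin]
      omega
    have h1 := (sum_type QW hndW PW hiso hr2 hPr hfixW (stdMinus n F a₀ c₀)
      (stdMinus_nondeg n hac)
      hx0 hx1 hc ha' (-1) τ hτ hτw (std_minus_zeros r n a₀ c₀ hac)).1 (by rw [hτ2]; ring)
    obtain ⟨e, f, hef⟩ := h1
    obtain ⟨g, hg1, hg2⟩ := exists_plus_of_frame (qsum QW (stdMinus n F a₀ c₀)) hef
      (by rw [Fintype.card_sum]; exact hc) (fromBlocks PW 0 0 (1 : Matrix _ _ F))
      (qsum_isometry hiso (fun v => by rw [Matrix.one_mulVec])) hN1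
      (by rw [fromBlocks_diagonal_pow, hPN, one_pow, fromBlocks_one])
    refine ⟨g, ?_, N, hN, hg2⟩
    rw [hg1, sum_charpoly, hcp]
    simp only [Fintype.card_sum, Fintype.card_fin]
    congr 2
    omega

/-- realization in the elliptic space from a block sum -/
theorem exists_minus_of_sum (p : ℕ) [Fact p.Prime] [CharP F p] {r : ℕ} [Fact r.Prime]
    (hr2 : r ≠ 2)
    (hx0 : (Fintype.card F : ZMod r) ≠ 0) (hx1 : (Fintype.card F : ZMod r) ≠ 1)
    {ψ : F[X]} (hψ : QReal F p ψ) (hψ1 : ¬ (X - 1 : F[X]) ∣ ψ) (hψs : Smooth (X ^ r - 1) ψ)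
    {n a' : ℕ} (hdeg : ψ.natDegree + 2 * a' = 2 * (n + 1))
    (a c : F) (hac : ∀ z₁ z₂ : F, z₁ ^ 2 + a * z₁ * z₂ + c * z₂ ^ 2 = 0 → z₁ = 0 ∧ z₂ = 0)
    (τ : ZMod r) (hτ : τ = 1 ∨ τ = -1) (hτw : (Fintype.card F : ZMod r) ^ (n + 1 - a') = τ)
    (hgood : τ = 1 → 1 ≤ a') :
    ∃ g : ↥(Cfsg.isometryGroup F (Cfsg.quadFormMinus n F a c)),
      ((g : GL ((Fin n ⊕ Fin n) ⊕ Fin 2) F) :
        Matrix ((Fin n ⊕ Fin n) ⊕ Fin 2) ((Fin n ⊕ Fin n) ⊕ Fin 2) F).charpoly =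
        ψ * (X - 1) ^ (2 * a') ∧ ∃ N : ℕ, ¬ p ∣ N ∧
      ((g : GL ((Fin n ⊕ Fin n) ⊕ Fin 2) F) :
        Matrix ((Fin n ⊕ Fin n) ⊕ Fin 2) ((Fin n ⊕ Fin n) ⊕ Fin 2) F) ^ N = 1 := by
  have hr : r.Prime := Fact.out
  obtain ⟨ιW, _, _, QW, PW, hndW, hiso, hcp, N, hN, hPN⟩ := hψ
  have hN1 : 1 ≤ N := by
    rcases Nat.eq_zero_or_pos N with h | h
    · exact absurd (h ▸ dvd_zero p) hN
    · exact h
  have hPr : PW ^ r = 1 := by
    rw [mat_pow_eq_one_iff_smooth p PW hN hPN r hr.pos, hcp]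
    exact hψs
  have hfixW : ∀ v, PW *ᵥ v = v → v = 0 := no_fix_of_not_dvd PW (by rw [hcp]; exact hψ1)
  have hcW : Fintype.card ιW = ψ.natDegree := by
    rw [← hcp, Matrix.charpoly_natDegree_eq_dim]
  have ha' : a' ≤ n + 1 := by omega
  have hne := one_ne_neg_one_zmod (r := r) hr2
  by_cases hτ1 : τ = 1
  · have h1a := hgood hτ1
    obtain ⟨n', rfl⟩ : ∃ n', a' = n' + 1 := ⟨a' - 1, by omega⟩
    have hc : Fintype.card ιW + Fintype.card ((Fin n' ⊕ Fin n') ⊕ Fin 2) = 2 * (n + 1) := by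
      simp only [Fintype.card_sum, Fintype.card_fin]
      omega
    have h1 := (sum_type QW hndW PW hiso hr2 hPr hfixW (stdMinus n' F a c)
      (stdMinus_nondeg n' hac)
      hx0 hx1 hc ha' (-1) τ hτ hτw (std_minus_zeros r n' a c hac)).2 (by rw [hτ1]; ring)
    obtain ⟨k, hk, e, f, hef, haniso⟩ := h1
    have hkn : k = n := by omega
    subst hkn
    obtain ⟨g, hg1, hg2⟩ := exists_minus_of_frame rfl (qsum QW (stdMinus n' F a c)) hef
      (by rw [Fintype.card_sum, hc]; ring) haniso a c hac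
      (fromBlocks PW 0 0 (1 : Matrix _ _ F))
      (qsum_isometry hiso (fun v => by rw [Matrix.one_mulVec])) hN1
      (by rw [fromBlocks_diagonal_pow, hPN, one_pow, fromBlocks_one])
    refine ⟨g, ?_, N, hN, hg2⟩
    rw [hg1, sum_charpoly, hcp]
    simp only [Fintype.card_sum, Fintype.card_fin]
    congr 2
    omega
  · have hτ2 : τ = -1 := hτ.resolve_left hτ1
    have hc : Fintype.card ιW + Fintype.card (Fin a' ⊕ Fin a') = 2 * (n + 1) := by
      simp only [Fintype.card_sum, Fintype.card_fin]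
      omega
    have h1 := (sum_type QW hndW PW hiso hr2 hPr hfixW (stdPlus a' F) (stdPlus_nondeg a')
      hx0 hx1 hc ha' 1 τ hτ hτw (std_plus_zeros r a')).2 (by rw [hτ2, one_mul])
    obtain ⟨k, hk, e, f, hef, haniso⟩ := h1
    have hkn : k = n := by omega
    subst hkn
    obtain ⟨g, hg1, hg2⟩ := exists_minus_of_frame rfl (qsum QW (stdPlus a' F)) hef
      (by rw [Fintype.card_sum, hc]; ring) haniso a c hac
      (fromBlocks PW 0 0 (1 : Matrix _ _ F))
      (qsum_isometry hiso (fun v => by rw [Matrix.one_mulVec])) hN1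
      (by rw [fromBlocks_diagonal_pow, hPN, one_pow, fromBlocks_one])
    refine ⟨g, ?_, N, hN, hg2⟩
    rw [hg1, sum_charpoly, hcp]
    simp only [Fintype.card_sum, Fintype.card_fin]
    congr 2
    omega

end Cfsg.Agent.Lib.Helper24.OEv
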