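import Mathlib
import Cfsg.Agent.Lib.Helper24.OEvI

set_option autoImplicit false
set_option linter.style.haveILetI false
set_option linter.unusedSimpArgs false
set_option linter.unusedSectionVars false

namespace Cfsg.Agent.Lib.Helper24.OEv

open Polynomial Matrix Cfsg QuadraticMap
open Cfsg.Agent.Lib.Helper19.QuadWitt Cfsg.Agent.Lib.Helper19.QuadStd
open Cfsg.Agent.Lib.Helper24.OConj Cfsg.Agent.Lib.Helper24.AdjGen
open Cfsg.Agent.Lib.Helper5.PrimeOrd Cfsg.Agent.Lib.Helper24.Star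
open Cfsg.Agent.Lib.Helper24.Pal

variable {F : Type*} [Field F] [Fintype F]

theorem stdPlus_eq_qf (m : ℕ) :
    stdPlus m F = qf (Matrix.fromBlocks 0 (1 : Matrix (Fin m) (Fin m) F) 0 0) := rfl

theorem stdMinus_eq_qf (n : ℕ) (a c : F) :
    stdMinus n F a c = qf (Matrix.fromBlocks
      (Matrix.fromBlocks 0 (1 : Matrix (Fin n) (Fin n) F) 0 0) 0 0 !![1, a; 0, c]) := rfl

/-- the hyperbolic block `diag(A, A⁻ᵀ)` preserves the hyperbolic Gram matrix -/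
theorem hyp_block_iso {m : ℕ} {A B : Matrix (Fin m) (Fin m) F} (hBA : B * A = 1) :
    (fromBlocks A 0 0 Bᵀ)ᵀ * fromBlocks 0 (1 : Matrix (Fin m) (Fin m) F) 0 0 *
      fromBlocks A 0 0 Bᵀ = fromBlocks 0 (1 : Matrix (Fin m) (Fin m) F) 0 0 := by
  rw [fromBlocks_transpose, fromBlocks_multiply, fromBlocks_multiply]
  simp only [Matrix.mul_zero, Matrix.zero_mul, add_zero, zero_add, transpose_zero,
    Matrix.mul_one, transpose_transpose, Matrix.one_mul]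
  rw [← transpose_mul, hBA, transpose_one]

/-- direct hyperbolic realization in the split orthogonal group -/
theorem exists_plus_hyp (p : ℕ) [Fact p.Prime] [CharP F p] {m : ℕ} (χ' : F[X])
    (hmon : χ'.Monic) (hdeg : χ'.natDegree = m) (h0 : χ'.coeff 0 ≠ 0) :
    ∃ g : ↥(Cfsg.isometryGroup F (Cfsg.quadFormPlus m F)),
      ((g : GL (Fin m ⊕ Fin m) F) : Matrix (Fin m ⊕ Fin m) (Fin m ⊕ Fin m) F).charpoly =
        χ' * Helper24.Star.star χ' ∧ ∃ N : ℕ, ¬ p ∣ N ∧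
      ((g : GL (Fin m ⊕ Fin m) F) : Matrix (Fin m ⊕ Fin m) (Fin m ⊕ Fin m) F) ^ N = 1 := by
  have hp : p.Prime := Fact.out
  obtain ⟨A, N, hA, hN, hAN⟩ :=
    Cfsg.Agent.Lib.Helper5.SSClass.exists_matrix_of_monic hp m χ' hdeg hmon h0
  have hN1 : 1 ≤ N := by
    rcases Nat.eq_zero_or_pos N with h | h
    · exact absurd (h ▸ dvd_zero p) hN
    · exact h
  obtain ⟨k, hk⟩ : ∃ k, N = k + 1 := ⟨N - 1, by omega⟩
  obtain ⟨B, hB⟩ : ∃ B, B = A ^ k := ⟨_, rfl⟩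
  have hAB : A * B = 1 := by rw [hB, ← pow_succ', ← hk, hAN]
  have hBA : B * A = 1 := by rw [hB, ← pow_succ, ← hk, hAN]
  have hG1 : fromBlocks A 0 0 Bᵀ * fromBlocks B 0 0 Aᵀ = 1 := by
    rw [fromBlocks_multiply]
    simp only [Matrix.mul_zero, Matrix.zero_mul, add_zero, zero_add]
    rw [hAB, ← transpose_mul, hAB, transpose_one, fromBlocks_one]
  have hG2 : fromBlocks B 0 0 Aᵀ * fromBlocks A 0 0 Bᵀ = 1 := by
    rw [fromBlocks_multiply]
    simp only [Matrix.mul_zero, Matrix.zero_mul, add_zero, zero_add]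
    rw [hBA, ← transpose_mul, hBA, transpose_one, fromBlocks_one]
  obtain ⟨g, hg⟩ : ∃ g : GL (Fin m ⊕ Fin m) F,
      (g : Matrix (Fin m ⊕ Fin m) (Fin m ⊕ Fin m) F) = fromBlocks A 0 0 Bᵀ :=
    ⟨⟨fromBlocks A 0 0 Bᵀ, fromBlocks B 0 0 Aᵀ, hG1, hG2⟩, rfl⟩
  have hmem : g ∈ Cfsg.isometryGroup F (Cfsg.quadFormPlus m F) := by
    rw [mem_iso_iff]
    intro u
    rw [← stdPlus_apply, ← stdPlus_apply, stdPlus_eq_qf, hg]
    exact qf_isometry (hyp_block_iso hBA) u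
  refine ⟨⟨g, hmem⟩, ?_, N, hN, ?_⟩
  · show (g : Matrix (Fin m ⊕ Fin m) (Fin m ⊕ Fin m) F).charpoly = _
    rw [hg, charpoly_fromBlocks_zero₁₂, charpoly_transpose, charpoly_of_inv' hAB, hA]
    rfl
  · show (g : Matrix (Fin m ⊕ Fin m) (Fin m ⊕ Fin m) F) ^ N = 1
    rw [hg, fromBlocks_diagonal_pow, hAN, ← transpose_pow, hB, ← pow_mul, mul_comm, pow_mul,
      hAN, one_pow, transpose_one, fromBlocks_one]

/-- direct hyperbolic realization in the non-split orthogonal group -/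
theorem exists_minus_hyp (p : ℕ) [Fact p.Prime] [CharP F p] {n : ℕ} (a c : F) (χ' : F[X])
    (hmon : χ'.Monic) (hdeg : χ'.natDegree = n) (h0 : χ'.coeff 0 ≠ 0) :
    ∃ g : ↥(Cfsg.isometryGroup F (Cfsg.quadFormMinus n F a c)),
      ((g : GL ((Fin n ⊕ Fin n) ⊕ Fin 2) F) :
        Matrix ((Fin n ⊕ Fin n) ⊕ Fin 2) ((Fin n ⊕ Fin n) ⊕ Fin 2) F).charpoly =
        χ' * Helper24.Star.star χ' * (X - 1) ^ 2 ∧ ∃ N : ℕ, ¬ p ∣ N ∧
      ((g : GL ((Fin n ⊕ Fin n) ⊕ Fin 2) F) :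
        Matrix ((Fin n ⊕ Fin n) ⊕ Fin 2) ((Fin n ⊕ Fin n) ⊕ Fin 2) F) ^ N = 1 := by
  have hp : p.Prime := Fact.out
  obtain ⟨A, N, hA, hN, hAN⟩ :=
    Cfsg.Agent.Lib.Helper5.SSClass.exists_matrix_of_monic hp n χ' hdeg hmon h0
  have hN1 : 1 ≤ N := by
    rcases Nat.eq_zero_or_pos N with h | h
    · exact absurd (h ▸ dvd_zero p) hN
    · exact h
  obtain ⟨k, hk⟩ : ∃ k, N = k + 1 := ⟨N - 1, by omega⟩
  obtain ⟨B, hB⟩ : ∃ B, B = A ^ k := ⟨_, rfl⟩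
  have hAB : A * B = 1 := by rw [hB, ← pow_succ', ← hk, hAN]
  have hBA : B * A = 1 := by rw [hB, ← pow_succ, ← hk, hAN]
  have hG1 : fromBlocks A 0 0 Bᵀ * fromBlocks B 0 0 Aᵀ = 1 := by
    rw [fromBlocks_multiply]
    simp only [Matrix.mul_zero, Matrix.zero_mul, add_zero, zero_add]
    rw [hAB, ← transpose_mul, hAB, transpose_one, fromBlocks_one]
  have hG2 : fromBlocks B 0 0 Aᵀ * fromBlocks A 0 0 Bᵀ = 1 := by
    rw [fromBlocks_multiply]
    simp only [Matrix.mul_zero, Matrix.zero_mul, add_zero, zero_add]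
    rw [hBA, ← transpose_mul, hBA, transpose_one, fromBlocks_one]
  have hH1 : fromBlocks (fromBlocks A 0 0 Bᵀ) 0 0 (1 : Matrix (Fin 2) (Fin 2) F) *
      fromBlocks (fromBlocks B 0 0 Aᵀ) 0 0 (1 : Matrix (Fin 2) (Fin 2) F) = 1 := by
    rw [fromBlocks_multiply]
    simp only [Matrix.mul_zero, Matrix.zero_mul, add_zero, zero_add, Matrix.mul_one]
    rw [hG1, fromBlocks_one]
  have hH2 : fromBlocks (fromBlocks B 0 0 Aᵀ) 0 0 (1 : Matrix (Fin 2) (Fin 2) F) *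
      fromBlocks (fromBlocks A 0 0 Bᵀ) 0 0 (1 : Matrix (Fin 2) (Fin 2) F) = 1 := by
    rw [fromBlocks_multiply]
    simp only [Matrix.mul_zero, Matrix.zero_mul, add_zero, zero_add, Matrix.mul_one]
    rw [hG2, fromBlocks_one]
  obtain ⟨g, hg⟩ : ∃ g : GL ((Fin n ⊕ Fin n) ⊕ Fin 2) F,
      (g : Matrix ((Fin n ⊕ Fin n) ⊕ Fin 2) ((Fin n ⊕ Fin n) ⊕ Fin 2) F) =
        fromBlocks (fromBlocks A 0 0 Bᵀ) 0 0 (1 : Matrix (Fin 2) (Fin 2) F) :=
    ⟨⟨_, _, hH1, hH2⟩, rfl⟩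
  have hmem : g ∈ Cfsg.isometryGroup F (Cfsg.quadFormMinus n F a c) := by
    rw [mem_iso_iff]
    intro u
    rw [← stdMinus_apply, ← stdMinus_apply, stdMinus_eq_qf, hg]
    apply qf_isometry
    rw [fromBlocks_transpose, fromBlocks_multiply, fromBlocks_multiply]
    simp only [Matrix.mul_zero, Matrix.zero_mul, add_zero, zero_add, transpose_zero,
      Matrix.mul_one, transpose_one, Matrix.one_mul]
    rw [hyp_block_iso hBA]
  refine ⟨⟨g, hmem⟩, ?_, N, hN, ?_⟩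
  · show (g : Matrix ((Fin n ⊕ Fin n) ⊕ Fin 2) ((Fin n ⊕ Fin n) ⊕ Fin 2) F).charpoly = _
    rw [hg, charpoly_fromBlocks_zero₁₂, charpoly_fromBlocks_zero₁₂, charpoly_transpose,
      charpoly_of_inv' hAB, hA, Matrix.charpoly_one, Fintype.card_fin]
    rfl
  · show (g : Matrix ((Fin n ⊕ Fin n) ⊕ Fin 2) ((Fin n ⊕ Fin n) ⊕ Fin 2) F) ^ N = 1
    rw [hg, fromBlocks_diagonal_pow, fromBlocks_diagonal_pow, hAN, ← transpose_pow, hB,
      ← pow_mul, mul_comm, pow_mul,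
      hAN, one_pow, one_pow, transpose_one, fromBlocks_one, fromBlocks_one]

end Cfsg.Agent.Lib.Helper24.OEv
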