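import Mathlib
import Cfsg.Agent.Lib.Helper24.OEvJ

set_option autoImplicit false
set_option linter.style.haveILetI false
set_option linter.unusedSimpArgs false
set_option linter.unusedSectionVars false

namespace Cfsg.Agent.Lib.Helper24.OEv

open Polynomial Matrix Cfsg QuadraticMap
open Cfsg.Agent.Lib.Helper19.QuadWitt Cfsg.Agent.Lib.Helper19.QuadStd
open Cfsg.Agent.Lib.Helper24.OConj Cfsg.Agent.Lib.Helper24.AdjGen
open Cfsg.Agent.Lib.Helper5.PrimeOrd Cfsg.Agent.Lib.Helper24.Star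
open Cfsg.Agent.Lib.Helper24.Pal Cfsg.Agent.Lib.Helper24.ORe

section classes

variable {F : Type*} [Field F] [Fintype F]

/-- classes of elements of odd prime order `r ≠ p` in an orthogonal group correspond to the
admissible self-reciprocal smooth polynomials -/
theorem card_classes_eq_good_polys (p : ℕ) [Fact p.Prime] [CharP F p] {ι : Type} [Fintype ι]
    [DecidableEq ι] (Q : QuadraticForm F (ι → F)) (hQnd : (polarBilin Q).Nondegenerate)
    (Qf : (ι → F) → F) (hQf : ∀ v, Q v = Qf v)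
    (r : ℕ) (hr : r.Prime) (hr2 : r ≠ 2) (hrp : r ≠ p) (Good : F[X] → Prop)
    (hexcl : ∀ A : Matrix ι ι F, (∀ v, Q (A *ᵥ v) = Q v) → A ^ r = 1 → Good A.charpoly)
    (hexist : ∀ χ : F[X], χ.Monic → χ.natDegree = Fintype.card ι → Smooth (X ^ r - 1) χ →
      ¬ Smooth (X - 1) χ → Helper24.Star.starHom χ = χ → Good χ →
      ∃ g : ↥(Cfsg.isometryGroup F Qf), g.1.1.charpoly = χ ∧
        ∃ N : ℕ, ¬ p ∣ N ∧ g.1.1 ^ N = 1) :
    Nat.card {C : ConjClasses ↥(Cfsg.isometryGroup F Qf) //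
      ∃ g : ↥(Cfsg.isometryGroup F Qf), ConjClasses.mk g = C ∧ orderOf g = r} =
    Nat.card {χ : F[X] // χ.Monic ∧ χ.natDegree = Fintype.card ι ∧ Smooth (X ^ r - 1) χ ∧
      ¬ Smooth (X - 1) χ ∧ Helper24.Star.starHom χ = χ ∧ Good χ} := by
  have hp : p.Prime := Fact.out
  haveI : Fact r.Prime := ⟨hr⟩
  have hrp' : ¬ p ∣ r := by
    intro h
    exact hrp ((Nat.prime_dvd_prime_iff_eq hp hr).mp h).symm
  have hrF : ((r : ℕ) : F) ≠ 0 := by
    rw [Ne, CharP.cast_eq_zero_iff F p]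
    exact hrp'
  have hrodd : Odd r := hr.eq_two_or_odd'.resolve_left hr2
  have hiso : ∀ (g : ↥(Cfsg.isometryGroup F Qf)) v, Q (g.1.1 *ᵥ v) = Q v := by
    intro g v
    rw [hQf, hQf]
    exact (mem_iso_iff _ g.1).mp g.2 v
  have hpow : ∀ (g : ↥(Cfsg.isometryGroup F Qf)) (k : ℕ),
      g ^ k = 1 ↔ g.1.1 ^ k = 1 := by
    intro g k
    constructor
    · intro h
      have h1 := congrArg (fun x : ↥(Cfsg.isometryGroup F Qf) =>
        (x.1.1 : Matrix _ _ F)) h
      simp only [Subgroup.coe_pow, Units.val_pow_eq_pow_val] at h1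
      exact h1
    · intro h
      apply Subtype.ext
      apply Units.ext
      rw [Subgroup.coe_pow, Units.val_pow_eq_pow_val]
      exact h
  have hsm : ∀ (g : ↥(Cfsg.isometryGroup F Qf)) (N : ℕ), ¬ p ∣ N →
      g ^ N = 1 → ∀ k : ℕ, 0 < k → (g ^ k = 1 ↔ Smooth (X ^ k - 1) g.1.1.charpoly) := by
    intro g N hN hgN k hk
    rw [hpow]
    exact Helper24.Star.mat_pow_eq_one_iff_smooth p _ hN ((hpow g N).mp hgN) k hk
  have hconjcp : ∀ {g h : ↥(Cfsg.isometryGroup F Qf)}, IsConj g h →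
      g.1.1.charpoly = h.1.1.charpoly := by
    intro g h hc
    rw [isConj_iff] at hc
    obtain ⟨u, hu⟩ := hc
    have h1 : h.1.1 = u.1.1 * g.1.1 * (u⁻¹).1.1 := by
      rw [← hu]
      rfl
    have h2' : (u⁻¹).1.1 * u.1.1 = 1 := by
      have := congrArg (fun x : ↥(Cfsg.isometryGroup F Qf) =>
        (x.1.1 : Matrix _ _ F)) (inv_mul_cancel u)
      exact this
    rw [h1, Matrix.charpoly_mul_comm, ← Matrix.mul_assoc, h2', Matrix.one_mul]
  apply Nat.card_congr
  refine Equiv.ofBijective (fun c => ⟨(Classical.choose c.2 :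
    ↥(Cfsg.isometryGroup F Qf)).1.1.charpoly,
    Matrix.charpoly_monic _, ?_, ?_, ?_, ?_, ?_⟩) ⟨?_, ?_⟩
  · rw [Matrix.charpoly_natDegree_eq_dim]
  · have h1 := (Classical.choose_spec c.2).2
    have h3 := (orderOf_eq_prime_iff.mp h1).1
    exact (hsm _ r hrp' h3 r hr.pos).mp h3
  · have h1 := (Classical.choose_spec c.2).2
    have h3 := (orderOf_eq_prime_iff.mp h1).1
    have h4 := hsm _ r hrp' h3 1 one_pos
    rw [pow_one, pow_one] at h4
    rw [← h4]
    exact (orderOf_eq_prime_iff.mp h1).2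
  · rw [Helper24.Star.starHom_apply]
    exact o_charpoly_star Q hQnd (hiso _)
  · have h1 := (Classical.choose_spec c.2).2
    have h3 := (orderOf_eq_prime_iff.mp h1).1
    exact hexcl _ (hiso _) ((hpow _ r).mp h3)
  · rintro ⟨c, hc⟩ ⟨c', hc'⟩ h
    have h1 := Classical.choose_spec hc
    have h1' := Classical.choose_spec hc'
    obtain ⟨g, hg⟩ : ∃ g : ↥(Cfsg.isometryGroup F Qf),
      g = Classical.choose hc := ⟨_, rfl⟩
    obtain ⟨g', hg'⟩ : ∃ g' : ↥(Cfsg.isometryGroup F Qf),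
      g' = Classical.choose hc' := ⟨_, rfl⟩
    rw [← hg] at h1
    rw [← hg'] at h1'
    have h3 : g.1.1.charpoly = g'.1.1.charpoly := by
      rw [hg, hg']
      exact congrArg Subtype.val h
    have hgr : g.1.1 ^ r = 1 := (hpow g r).mp (orderOf_eq_prime_iff.mp h1.2).1
    have hgr' : g'.1.1 ^ r = 1 := (hpow g' r).mp (orderOf_eq_prime_iff.mp h1'.2).1
    obtain ⟨c₀, hcu, hcab⟩ := Cfsg.Agent.Lib.Helper24.SpConj.exists_unit_conj (p := p)
      g.1.1 g'.1.1 hgr hrp' hgr' hrp' h3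
    obtain ⟨φ, hφQ, hφAB⟩ := OConj.main Q hQnd (hiso g) (hiso g') hcu hcab hgr hrF
      hrodd
    have hconj : IsConj g g' := by
      apply conj_of_equiv Qf g g' φ
      · intro v
        rw [← hQf, ← hQf]
        exact hφQ v
      · exact hφAB
    apply Subtype.ext
    show c = c'
    rw [← h1.1, ← h1'.1, ConjClasses.mk_eq_mk_iff_isConj]
    exact hconj
  · rintro ⟨χ, hm, hd, hs, hns, hsd, hgood⟩
    obtain ⟨g, hgc, N, hN, hgN'⟩ := hexist χ hm hd hs hns hsd hgood
    have hgN : g ^ N = 1 := by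
      rw [hpow]
      exact hgN'
    have hgr : orderOf g = r := by
      rw [orderOf_eq_prime_iff]
      constructor
      · rw [hsm g N hN hgN r hr.pos, hgc]
        exact hs
      · have h3 := hsm g N hN hgN 1 one_pos
        rw [pow_one, pow_one] at h3
        rw [Ne, h3, hgc]
        exact hns
    have hex : ∃ g' : ↥(Cfsg.isometryGroup F Qf),
        ConjClasses.mk g' = ConjClasses.mk g ∧ orderOf g' = r := ⟨g, rfl, hgr⟩
    refine ⟨⟨ConjClasses.mk g, hex⟩, ?_⟩
    apply Subtype.ext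
    show (Classical.choose hex : ↥(Cfsg.isometryGroup F Qf)).1.1.charpoly = χ
    rw [← hgc]
    have hconj : IsConj (Classical.choose hex) g := by
      rw [← ConjClasses.mk_eq_mk_iff_isConj]
      exact (Classical.choose_spec hex).1
    exact hconjcp hconj

end classes

section count

variable {F : Type*} [Field F] (S : Finset F[X]) (Q : F[X]) (i n : ℕ)
  (hS1 : ∀ f ∈ S, Irreducible f ∧ f.Monic ∧ f.natDegree = i ∧ f ∣ Q ∧ f ≠ X - 1)
  (hS2 : ∀ f : F[X], Irreducible f → f.Monic → f ∣ Q → f = X - 1 ∨ f ∈ S)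
  (hQ : (X - 1 : F[X]) ∣ Q) (hi : 0 < i)
  (D : F[X] →* F[X]) (hDX : D (X - 1) = X - 1) (hDS : ∀ f ∈ S, D f ∈ S)

include hS1 in
theorem not_dvd_prod (μ : Multiset S) :
    ¬ (X - 1 : F[X]) ∣ (μ.map (fun f : S => (f : F[X]))).prod := by
  intro h
  have h1 : (X - 1 : F[X]) = X - C 1 := by simp
  have hirr : Irreducible (X - 1 : F[X]) := by rw [h1]; exact irreducible_X_sub_C 1
  obtain ⟨g, hg, hfg⟩ := hirr.prime.exists_mem_multiset_dvd h
  rw [Multiset.mem_map] at hg
  obtain ⟨g', _, rfl⟩ := hg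
  have hS := hS1 g'.1 g'.2
  have hass : Associated (X - 1 : F[X]) g'.1 := hirr.associated_of_dvd hS.1 hfg
  have hmon : (X - 1 : F[X]).Monic := by rw [h1]; exact monic_X_sub_C 1
  exact hS.2.2.2.2 (eq_of_monic_of_associated hmon hS.2.1 hass).symm

include hS1 in
theorem dvd_phi_iff (μ : Multiset S) :
    (X - 1 : F[X]) ∣ phi S i n μ ↔ i * Multiset.card μ < n := by
  have h1 : (X - 1 : F[X]) = X - C 1 := by simp
  have hirr : Irreducible (X - 1 : F[X]) := by rw [h1]; exact irreducible_X_sub_C 1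
  constructor
  · intro h
    by_contra hcon
    have h0 : n - i * Multiset.card μ = 0 := by omega
    unfold phi at h
    rw [h0, pow_zero, one_mul] at h
    exact not_dvd_prod S Q i hS1 μ h
  · intro h
    unfold phi
    apply Dvd.dvd.mul_right
    apply dvd_pow_self
    omega

include hS1 hS2 hQ hi hDX in
/-- counting the admissible invariant smooth polynomials -/
theorem card_good_polys (hn : 0 < n) (bad : Prop) [Decidable bad] (hbad : bad → i ∣ n) :
    Nat.card {χ : F[X] // χ.Monic ∧ χ.natDegree = n ∧ Smooth Q χ ∧ ¬ Smooth (X - 1) χ ∧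
      D χ = χ ∧ ((X - 1 : F[X]) ∣ χ ∨ ¬ bad)} =
      Nat.card {μ : Multiset S // μ ≠ 0 ∧
        Multiset.card μ ≤ (if bad then n / i - 1 else n / i) ∧
        μ.map (DS S D hDS) = μ} := by
  symm
  apply Nat.card_congr
  have hle : (if bad then n / i - 1 else n / i) ≤ n / i := by
    split_ifs
    · exact Nat.sub_le _ _
    · exact le_rfl
  refine Equiv.ofBijective (fun μ => ⟨phi S i n μ.1, phi_monic S Q i n hS1 μ.1,
    phi_natDegree S Q i n hS1 μ.1 (μ.2.2.1.trans hle), phi_smooth S Q i n hS1 hQ μ.1,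
    phi_not_smooth S Q i n hS1 μ.1 μ.2.1,
    (D_phi_eq_iff S Q i n hS1 D hDX hDS μ.1).mpr μ.2.2.2, ?_⟩) ⟨?_, ?_⟩
  · by_cases hb : bad
    · left
      rw [dvd_phi_iff S Q i n hS1]
      have h1 : Multiset.card μ.1 ≤ n / i - 1 := le_of_le_of_eq μ.2.2.1 (if_pos hb)
      obtain ⟨k, hk⟩ := hbad hb
      have hk0 : 0 < k := by
        rcases Nat.eq_zero_or_pos k with h | h
        · rw [h, mul_zero] at hk; omega
        · exact h
      have hdiv : n / i = k := by
        rw [hk]; exact Nat.mul_div_cancel_left k hi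
      have h2 : Multiset.card μ.1 < k := by omega
      have h3 : i * Multiset.card μ.1 < i * k := Nat.mul_lt_mul_of_pos_left h2 hi
      exact lt_of_lt_of_eq h3 hk.symm
    · right
      exact hb
  · intro μ μ' h
    apply Subtype.ext
    exact phi_injective S Q i n hS1 _ _ (congrArg Subtype.val h)
  · rintro ⟨χ, h1, h2, h3, h4, h5, h6⟩
    obtain ⟨μ, hμ1, hμ2, hμ3⟩ := phi_surjective S Q i n hS1 hS2 hi χ h1 h2 h3 h4
    refine ⟨⟨μ, hμ1, ?_, ?_⟩, Subtype.ext hμ3⟩
    · by_cases hb : bad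
      · rw [if_pos hb]
        have h7 : (X - 1 : F[X]) ∣ χ := by
          rcases h6 with h | h
          · exact h
          · exact absurd hb h
        rw [← hμ3, dvd_phi_iff S Q i n hS1] at h7
        obtain ⟨k, hk⟩ := hbad hb
        have hdiv : n / i = k := by
          rw [hk]; exact Nat.mul_div_cancel_left k hi
        rw [hdiv]
        rw [hk] at h7
        have := Nat.lt_of_mul_lt_mul_left h7
        omega
      · rw [if_neg hb]
        exact hμ2
    · rw [← D_phi_eq_iff S Q i n hS1 D hDX hDS, hμ3]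
      exact h5

end count

end Cfsg.Agent.Lib.Helper24.OEv
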