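import Mathlib
import Cfsg.Agent.Lib.Helper24.OEvK

set_option autoImplicit false
set_option linter.style.haveILetI false
set_option linter.unusedSimpArgs false
set_option linter.unusedSectionVars false

namespace Cfsg.Agent.Lib.Helper24.OEv

open Polynomial Matrix Cfsg QuadraticMap
open Cfsg.Agent.Lib.Helper19.QuadWitt Cfsg.Agent.Lib.Helper19.QuadStd
open Cfsg.Agent.Lib.Helper24.OConj Cfsg.Agent.Lib.Helper24.AdjGen
open Cfsg.Agent.Lib.Helper5.PrimeOrd Cfsg.Agent.Lib.Helper24.Star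
open Cfsg.Agent.Lib.Helper24.Pal Cfsg.Agent.Lib.Helper24.ORe

theorem exists_half_multiset {S : Type*} [Fintype S] [DecidableEq S] (D : S → S)
    (hD : ∀ x, D (D x) = x) (hfree : ∀ x, D x ≠ x) (μ : Multiset S) (hμ : μ.map D = μ) :
    ∃ ν : Multiset S, μ = ν + ν.map D := by
  classical
  obtain ⟨e⟩ : Nonempty (S ≃ Fin (Fintype.card S)) := ⟨Fintype.equivFin S⟩
  obtain ⟨P, hPdef⟩ : ∃ P : S → Prop, P = fun x => e x < e (D x) := ⟨_, rfl⟩
  have hP : ∀ x, P (D x) ↔ ¬ P x := by
    intro x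
    rw [hPdef]
    show e (D x) < e (D (D x)) ↔ ¬ e x < e (D x)
    rw [hD, not_lt]
    have hne : e (D x) ≠ e x := fun h => hfree x (e.injective h)
    constructor
    · intro h; exact le_of_lt h
    · intro h; exact lt_of_le_of_ne h hne
  obtain ⟨ν, hν⟩ := Cfsg.Agent.Lib.Helper24.InvMul.dbl_surjective hP μ hμ
  refine ⟨ν.map Subtype.val, ?_⟩
  rw [← hν]
  unfold Cfsg.Agent.Lib.Helper24.InvMul.dbl
  rw [Multiset.map_map]
  rfl

section phi

variable {F : Type*} [Field F] (S : Finset F[X]) (Q : F[X]) (i : ℕ)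
  (hS1 : ∀ f ∈ S, Irreducible f ∧ f.Monic ∧ f.natDegree = i ∧ f ∣ Q ∧ f ≠ X - 1)
  (D : F[X] →* F[X]) (hDX : D (X - 1) = X - 1) (hDS : ∀ f ∈ S, D f ∈ S)

include hDX in
theorem phi_dbl (ν : Multiset S) (m : ℕ) :
    phi S i (2 * m) (ν + ν.map (DS S D hDS)) = phi S i m ν * D (phi S i m ν) := by
  rw [D_phi S i m D hDX hDS]
  unfold phi
  rw [Multiset.card_add, Multiset.card_map, Multiset.map_add, Multiset.prod_add]
  have e : 2 * m - i * (Multiset.card ν + Multiset.card ν) =
      (m - i * Multiset.card ν) + (m - i * Multiset.card ν) := by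
    rw [mul_add]; omega
  rw [e, pow_add]
  ring

theorem phi_succ (ν : Multiset S) (m : ℕ) (h : i * Multiset.card ν ≤ m) :
    phi S i (m + 1) ν = (X - 1) * phi S i m ν := by
  unfold phi
  have e : m + 1 - i * Multiset.card ν = (m - i * Multiset.card ν) + 1 := by omega
  rw [e, pow_succ]
  ring

end phi


section real

variable {F : Type*} [Field F] [Fintype F] (p : ℕ) [Fact p.Prime] [CharP F p]

/-- realization of the admissible polynomials in the split orthogonal group -/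
theorem hexist_plus {q : ℕ} (hF : Fintype.card F = q) (m r i : ℕ) (hr : r.Prime) (hr2 : r ≠ 2)
    (hrp : r ≠ p) (hi : i = orderOf (q : ZMod r)) (hi0 : 0 < i)
    (χ : F[X]) (hmon : χ.Monic) (hd : χ.natDegree = 2 * m) (hs : Smooth (X ^ r - 1) χ)
    (hns : ¬ Smooth (X - 1) χ) (hsd : Helper24.Star.starHom χ = χ)
    (hgood : (X - 1 : F[X]) ∣ χ ∨ ¬ (Even i ∧ i ∣ 2 * m ∧ Odd (2 * m / i))) :
    ∃ g : ↥(Cfsg.isometryGroup F (Cfsg.quadFormPlus m F)),
      g.1.1.charpoly = χ ∧ ∃ N : ℕ, ¬ p ∣ N ∧ g.1.1 ^ N = 1 := by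
  classical
  have hp : p.Prime := Fact.out
  haveI : Fact r.Prime := ⟨hr⟩
  have h1 : (X - 1 : F[X]) ∣ X ^ r - 1 := by
    rw [← cyclotomic_prime_mul_X_sub_one F r]
    exact dvd_mul_left _ _
  have hcyc : cyclotomic r F ∣ X ^ r - 1 := by
    rw [← cyclotomic_prime_mul_X_sub_one F r]
    exact dvd_mul_right _ _
  have hS1 : ∀ f ∈ cycFactors F r, Irreducible f ∧ f.Monic ∧ f.natDegree = i ∧
      f ∣ (X ^ r - 1 : F[X]) ∧ f ≠ X - 1 := by
    intro f hf
    have h2 := (mem_cycFactors_iff r f).mp hf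
    exact ⟨h2.1, h2.2.1, natDegree_of_mem_cycFactors p hr hrp hF hi f hf, h2.2.2.trans hcyc,
      ne_X_sub_one_of_mem p hr hrp f hf⟩
  have hS2 : ∀ f : F[X], Irreducible f → f.Monic → f ∣ (X ^ r - 1 : F[X]) →
      f = X - 1 ∨ f ∈ cycFactors F r := fun f hf hm hd => factor_cases hr f hf hm hd
  have hS0 : ∀ f ∈ cycFactors F r, f.coeff 0 ≠ 0 := fun f hf => coeff_zero_ne_of_mem hr f hf
  have hDS : ∀ f ∈ cycFactors F r, starHom f ∈ cycFactors F r :=
    fun f hf => star_mem p hr hrp f hf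
  have hinvol : ∀ x : ↥(cycFactors F r), DS (cycFactors F r) starHom hDS
      (DS (cycFactors F r) starHom hDS x) = x := by
    intro x
    apply Subtype.ext
    show star (star x.1) = x.1
    exact star_star_of_monic (hS1 x.1 x.2).2.1 (hS0 x.1 x.2)
  obtain ⟨μ, hμ1, hμ2, hμ3⟩ := phi_surjective (cycFactors F r) (X ^ r - 1) i (2 * m) hS1 hS2
    hi0 χ hmon hd hs hns
  have hμinv : μ.map (DS (cycFactors F r) starHom hDS) = μ := by
    rw [← D_phi_eq_iff (cycFactors F r) (X ^ r - 1) i (2 * m) hS1 starHom star_X_sub_one hDS,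
      hμ3]
    exact hsd
  have hle : Multiset.card μ * i ≤ 2 * m := Nat.mul_le_of_le_div i _ _ hμ2
  rcases Nat.even_or_odd i with hev | hodd
  · obtain ⟨i', hi'⟩ := hev
    have hi'0 : 0 < i' := by omega
    obtain ⟨c, hc⟩ : ∃ c, c = Multiset.card μ := ⟨_, rfl⟩
    obtain ⟨ψ, hψdef⟩ : ∃ ψ : F[X],
        ψ = (μ.map (fun f : ↥(cycFactors F r) => (f : F[X]))).prod := ⟨_, rfl⟩
    have hχψ : χ = (X - 1) ^ (2 * m - i * c) * ψ := by
      rw [← hμ3, hψdef, hc]
      rfl
    have hψQ : QReal F p ψ := by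
      rw [hψdef]
      apply qReal_multiset_prod hp
      intro f hf
      rw [Multiset.mem_map] at hf
      obtain ⟨g, _, rfl⟩ := hf
      have hg := hS1 g.1 g.2
      apply qReal_irr hp hg.2.1 hg.1 (hS0 g.1 g.2)
      · exact star_eq_of_even hr hF hi hi0 ⟨i', hi'⟩ g.1 g.2
      · rw [hg.2.2.1]; omega
    have hψ1 : ¬ (X - 1 : F[X]) ∣ ψ := by
      rw [hψdef]
      exact not_dvd_prod _ (X ^ r - 1) i hS1 μ
    have hψs : Smooth (X ^ r - 1) ψ := by
      intro f hf hfd
      apply hs f hf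
      rw [hχψ]
      exact Dvd.dvd.mul_left hfd _
    have hψd : ψ.natDegree = c * i := by
      rw [hψdef, hc]
      exact natDegree_prod _ (X ^ r - 1) i hS1 μ
    have hxi : orderOf ((Fintype.card F : ℕ) : ZMod r) = 2 * i' := by
      rw [hF, ← hi]; omega
    have hx0 : ((Fintype.card F : ℕ) : ZMod r) ≠ 0 := by
      intro h0
      have h := pow_orderOf_eq_one ((Fintype.card F : ℕ) : ZMod r)
      rw [hxi, h0, zero_pow (by omega)] at h
      exact zero_ne_one h
    have hx1 : ((Fintype.card F : ℕ) : ZMod r) ≠ 1 := by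
      intro h
      rw [h, orderOf_one] at hxi
      omega
    have hxh := pow_half_order _ hi'0 hxi
    have hic : i * c = 2 * (i' * c) := by rw [hi']; ring
    have hci : c * i = 2 * (i' * c) := by rw [hi']; ring
    have hle' : i' * c ≤ m := by
      rw [← hc, hci] at hle
      omega
    obtain ⟨a', ha'⟩ : ∃ a', a' = m - i' * c := ⟨_, rfl⟩
    have hτw : ((Fintype.card F : ℕ) : ZMod r) ^ (m - a') = (-1) ^ c := by
      have : m - a' = i' * c := by omega
      rw [this, pow_mul, hxh]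
    obtain ⟨g, hg1, N, hN, hg2⟩ := exists_plus_of_sum p hr2 hx0 hx1 hψQ hψ1 hψs (m := m)
      (a' := a') (by rw [hψd, hci]; omega) ((-1) ^ c) (neg_one_pow_eq_or _ c) hτw (by
        intro hτ
        by_contra hcon
        have ha0 : a' = 0 := by omega
        have hoddc : Odd c := by
          rcases Nat.even_or_odd c with h | h
          · rw [h.neg_one_pow] at hτ
            exact absurd hτ (one_ne_neg_one_zmod hr2)
          · exact h
        have h2m : 2 * m = i * c := by omega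
        have hbad : Even i ∧ i ∣ 2 * m ∧ Odd (2 * m / i) := by
          refine ⟨⟨i', hi'⟩, ⟨c, h2m⟩, ?_⟩
          rw [h2m, Nat.mul_div_cancel_left c hi0]
          exact hoddc
        rcases hgood with h | h
        · rw [← hμ3, dvd_phi_iff _ (X ^ r - 1) i (2 * m) hS1, ← hc] at h
          omega
        · exact h hbad)
    refine ⟨g, ?_, N, hN, hg2⟩
    rw [hg1, hχψ, mul_comm]
    congr 2
    omega
  · have hfree : ∀ x : ↥(cycFactors F r), DS (cycFactors F r) starHom hDS x ≠ x := by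
      intro x h
      have h2 : star x.1 = x.1 := congrArg Subtype.val h
      have hdeg := (hS1 x.1 x.2).2.2.1
      exact star_ne_of_odd p hr hr2 hrp x.1 x.2 (by rw [hdeg]; exact hodd) h2
    obtain ⟨ν, hν⟩ := exists_half_multiset _ hinvol hfree μ hμinv
    have hcμ : Multiset.card μ = 2 * Multiset.card ν := by
      rw [hν, Multiset.card_add, Multiset.card_map]; ring
    have hle' : Multiset.card ν * i ≤ m := by
      have : Multiset.card μ * i = 2 * (Multiset.card ν * i) := by rw [hcμ]; ring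
      omega
    have hνle : Multiset.card ν ≤ m / i := (Nat.le_div_iff_mul_le hi0).mpr hle'
    obtain ⟨χ', hχ'⟩ : ∃ χ', χ' = phi (cycFactors F r) i m ν := ⟨_, rfl⟩
    have hχeq : χ = χ' * star χ' := by
      rw [← hμ3, hν, phi_dbl _ i starHom star_X_sub_one hDS, hχ']
      rfl
    have hχ'mon : χ'.Monic := by rw [hχ']; exact phi_monic _ (X ^ r - 1) i m hS1 ν
    have hχ'deg : χ'.natDegree = m := by
      rw [hχ']; exact phi_natDegree _ (X ^ r - 1) i m hS1 ν hνle
    have hχ0 : χ.coeff 0 ≠ 0 := coeff_zero_ne_of_star hmon (by rw [← starHom_apply]; exact hsd)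
    have hχ'0 : χ'.coeff 0 ≠ 0 := by
      intro h
      apply hχ0
      rw [hχeq, mul_coeff_zero, h, zero_mul]
    obtain ⟨g, hg1, hg2⟩ := exists_plus_hyp p χ' hχ'mon hχ'deg hχ'0
    exact ⟨g, by rw [hχeq]; exact hg1, hg2⟩

/-- realization of the admissible polynomials in the non-split orthogonal group -/
theorem hexist_minus {q : ℕ} (hF : Fintype.card F = q) (n r i : ℕ) (a₀ c₀ : F)
    (hac : ∀ z₁ z₂ : F, z₁ ^ 2 + a₀ * z₁ * z₂ + c₀ * z₂ ^ 2 = 0 → z₁ = 0 ∧ z₂ = 0)
    (hr : r.Prime) (hr2 : r ≠ 2)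
    (hrp : r ≠ p) (hi : i = orderOf (q : ZMod r)) (hi0 : 0 < i)
    (χ : F[X]) (hmon : χ.Monic) (hd : χ.natDegree = 2 * (n + 1)) (hs : Smooth (X ^ r - 1) χ)
    (hns : ¬ Smooth (X - 1) χ) (hsd : Helper24.Star.starHom χ = χ)
    (hgood : (X - 1 : F[X]) ∣ χ ∨ ¬ (if Odd i then i ∣ n + 1 else
      i ∣ 2 * (n + 1) ∧ Even (2 * (n + 1) / i))) :
    ∃ g : ↥(Cfsg.isometryGroup F (Cfsg.quadFormMinus n F a₀ c₀)),
      g.1.1.charpoly = χ ∧ ∃ N : ℕ, ¬ p ∣ N ∧ g.1.1 ^ N = 1 := by
  classical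
  have hp : p.Prime := Fact.out
  haveI : Fact r.Prime := ⟨hr⟩
  have h1 : (X - 1 : F[X]) ∣ X ^ r - 1 := by
    rw [← cyclotomic_prime_mul_X_sub_one F r]
    exact dvd_mul_left _ _
  have hcyc : cyclotomic r F ∣ X ^ r - 1 := by
    rw [← cyclotomic_prime_mul_X_sub_one F r]
    exact dvd_mul_right _ _
  have hS1 : ∀ f ∈ cycFactors F r, Irreducible f ∧ f.Monic ∧ f.natDegree = i ∧
      f ∣ (X ^ r - 1 : F[X]) ∧ f ≠ X - 1 := by
    intro f hf
    have h2 := (mem_cycFactors_iff r f).mp hf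
    exact ⟨h2.1, h2.2.1, natDegree_of_mem_cycFactors p hr hrp hF hi f hf, h2.2.2.trans hcyc,
      ne_X_sub_one_of_mem p hr hrp f hf⟩
  have hS2 : ∀ f : F[X], Irreducible f → f.Monic → f ∣ (X ^ r - 1 : F[X]) →
      f = X - 1 ∨ f ∈ cycFactors F r := fun f hf hm hd => factor_cases hr f hf hm hd
  have hS0 : ∀ f ∈ cycFactors F r, f.coeff 0 ≠ 0 := fun f hf => coeff_zero_ne_of_mem hr f hf
  have hDS : ∀ f ∈ cycFactors F r, starHom f ∈ cycFactors F r :=
    fun f hf => star_mem p hr hrp f hf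
  have hinvol : ∀ x : ↥(cycFactors F r), DS (cycFactors F r) starHom hDS
      (DS (cycFactors F r) starHom hDS x) = x := by
    intro x
    apply Subtype.ext
    show star (star x.1) = x.1
    exact star_star_of_monic (hS1 x.1 x.2).2.1 (hS0 x.1 x.2)
  obtain ⟨μ, hμ1, hμ2, hμ3⟩ := phi_surjective (cycFactors F r) (X ^ r - 1) i (2 * (n + 1)) hS1
    hS2 hi0 χ hmon hd hs hns
  have hμinv : μ.map (DS (cycFactors F r) starHom hDS) = μ := by
    rw [← D_phi_eq_iff (cycFactors F r) (X ^ r - 1) i (2 * (n + 1)) hS1 starHom star_X_sub_one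
      hDS, hμ3]
    exact hsd
  have hle : Multiset.card μ * i ≤ 2 * (n + 1) := Nat.mul_le_of_le_div i _ _ hμ2
  rcases Nat.even_or_odd i with hev | hodd
  · have hnodd : ¬ Odd i := Nat.not_odd_iff_even.mpr hev
    rw [if_neg hnodd] at hgood
    obtain ⟨i', hi'⟩ := hev
    have hi'0 : 0 < i' := by omega
    obtain ⟨c, hc⟩ : ∃ c, c = Multiset.card μ := ⟨_, rfl⟩
    obtain ⟨ψ, hψdef⟩ : ∃ ψ : F[X],
        ψ = (μ.map (fun f : ↥(cycFactors F r) => (f : F[X]))).prod := ⟨_, rfl⟩
    have hχψ : χ = (X - 1) ^ (2 * (n + 1) - i * c) * ψ := by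
      rw [← hμ3, hψdef, hc]
      rfl
    have hψQ : QReal F p ψ := by
      rw [hψdef]
      apply qReal_multiset_prod hp
      intro f hf
      rw [Multiset.mem_map] at hf
      obtain ⟨g, _, rfl⟩ := hf
      have hg := hS1 g.1 g.2
      apply qReal_irr hp hg.2.1 hg.1 (hS0 g.1 g.2)
      · exact star_eq_of_even hr hF hi hi0 ⟨i', hi'⟩ g.1 g.2
      · rw [hg.2.2.1]; omega
    have hψ1 : ¬ (X - 1 : F[X]) ∣ ψ := by
      rw [hψdef]
      exact not_dvd_prod _ (X ^ r - 1) i hS1 μ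
    have hψs : Smooth (X ^ r - 1) ψ := by
      intro f hf hfd
      apply hs f hf
      rw [hχψ]
      exact Dvd.dvd.mul_left hfd _
    have hψd : ψ.natDegree = c * i := by
      rw [hψdef, hc]
      exact natDegree_prod _ (X ^ r - 1) i hS1 μ
    have hxi : orderOf ((Fintype.card F : ℕ) : ZMod r) = 2 * i' := by
      rw [hF, ← hi]; omega
    have hx0 : ((Fintype.card F : ℕ) : ZMod r) ≠ 0 := by
      intro h0
      have h := pow_orderOf_eq_one ((Fintype.card F : ℕ) : ZMod r)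
      rw [hxi, h0, zero_pow (by omega)] at h
      exact zero_ne_one h
    have hx1 : ((Fintype.card F : ℕ) : ZMod r) ≠ 1 := by
      intro h
      rw [h, orderOf_one] at hxi
      omega
    have hxh := pow_half_order _ hi'0 hxi
    have hic : i * c = 2 * (i' * c) := by rw [hi']; ring
    have hci : c * i = 2 * (i' * c) := by rw [hi']; ring
    have hle' : i' * c ≤ (n + 1) := by
      rw [← hc, hci] at hle
      omega
    obtain ⟨a', ha'⟩ : ∃ a', a' = (n + 1) - i' * c := ⟨_, rfl⟩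
    have hτw : ((Fintype.card F : ℕ) : ZMod r) ^ (n + 1 - a') = (-1) ^ c := by
      have : n + 1 - a' = i' * c := by omega
      rw [this, pow_mul, hxh]
    obtain ⟨g, hg1, N, hN, hg2⟩ := exists_minus_of_sum p hr2 hx0 hx1 hψQ hψ1 hψs (n := n)
      (a' := a') (by rw [hψd, hci]; omega) a₀ c₀ hac ((-1) ^ c) (neg_one_pow_eq_or _ c) hτw (by
        intro hτ
        by_contra hcon
        have ha0 : a' = 0 := by omega
        have hevc : Even c := by
          rcases Nat.even_or_odd c with h | h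
          · exact h
          · rw [h.neg_one_pow] at hτ
            exact absurd hτ.symm (one_ne_neg_one_zmod hr2)
        have h2m : 2 * (n + 1) = i * c := by omega
        have hbad : i ∣ 2 * (n + 1) ∧ Even (2 * (n + 1) / i) := by
          refine ⟨⟨c, h2m⟩, ?_⟩
          rw [h2m, Nat.mul_div_cancel_left c hi0]
          exact hevc
        rcases hgood with h | h
        · rw [← hμ3, dvd_phi_iff _ (X ^ r - 1) i (2 * (n + 1)) hS1, ← hc] at h
          omega
        · exact h hbad)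
    refine ⟨g, ?_, N, hN, hg2⟩
    rw [hg1, hχψ, mul_comm]
    congr 2
    omega
  · rw [if_pos hodd] at hgood
    have hfree : ∀ x : ↥(cycFactors F r), DS (cycFactors F r) starHom hDS x ≠ x := by
      intro x h
      have h2 : star x.1 = x.1 := congrArg Subtype.val h
      have hdeg := (hS1 x.1 x.2).2.2.1
      exact star_ne_of_odd p hr hr2 hrp x.1 x.2 (by rw [hdeg]; exact hodd) h2
    obtain ⟨ν, hν⟩ := exists_half_multiset _ hinvol hfree μ hμinv
    have hcμ : Multiset.card μ = 2 * Multiset.card ν := by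
      rw [hν, Multiset.card_add, Multiset.card_map]; ring
    have hμi : Multiset.card μ * i = 2 * (Multiset.card ν * i) := by rw [hcμ]; ring
    have hle' : Multiset.card ν * i ≤ n + 1 := by omega
    have hlt : Multiset.card ν * i ≤ n := by
      by_contra hcon
      have heq : n + 1 = i * Multiset.card ν := by rw [mul_comm]; omega
      have hdvd : i ∣ n + 1 := ⟨_, heq⟩
      rcases hgood with h | h
      · rw [← hμ3, dvd_phi_iff _ (X ^ r - 1) i (2 * (n + 1)) hS1, mul_comm, hμi] at h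
        omega
      · exact h hdvd
    have hνle : Multiset.card ν ≤ n / i := (Nat.le_div_iff_mul_le hi0).mpr hlt
    obtain ⟨χ', hχ'⟩ : ∃ χ', χ' = phi (cycFactors F r) i n ν := ⟨_, rfl⟩
    have hχeq : χ = χ' * star χ' * (X - 1) ^ 2 := by
      rw [← hμ3, hν, phi_dbl _ i starHom star_X_sub_one hDS,
        phi_succ _ i ν n (by rw [mul_comm]; exact hlt), ← hχ', map_mul, starHom_apply, starHom_apply, star_X_sub_one]
      ring
    have hχ'mon : χ'.Monic := by rw [hχ']; exact phi_monic _ (X ^ r - 1) i n hS1 ν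
    have hχ'deg : χ'.natDegree = n := by
      rw [hχ']; exact phi_natDegree _ (X ^ r - 1) i n hS1 ν hνle
    have hχ0 : χ.coeff 0 ≠ 0 := coeff_zero_ne_of_star hmon (by rw [← starHom_apply]; exact hsd)
    have hχ'0 : χ'.coeff 0 ≠ 0 := by
      intro h
      apply hχ0
      rw [hχeq, mul_coeff_zero, mul_coeff_zero, h, zero_mul, zero_mul]
    obtain ⟨g, hg1, hg2⟩ := exists_minus_hyp p a₀ c₀ χ' hχ'mon hχ'deg hχ'0
    exact ⟨g, by rw [hχeq]; exact hg1, hg2⟩

end real

end Cfsg.Agent.Lib.Helper24.OEv
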