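import Mathlib
import Cfsg.Agent.Lib.Helper24.NsPtB
import Cfsg.Agent.Lib.Helper24.OEvL

set_option autoImplicit false
set_option linter.style.haveILetI false
set_option linter.unusedSimpArgs false
set_option linter.unusedSectionVars false

namespace Cfsg.Agent.Lib.Helper24.NsPt

open Polynomial Matrix Cfsg QuadraticMap
open Cfsg.Agent.Lib.Helper19.QuadWitt Cfsg.Agent.Lib.Helper19.QuadStd
open Cfsg.Agent.Lib.Helper24.OConj Cfsg.Agent.Lib.Helper24.AdjGen
open Cfsg.Agent.Lib.Helper5.PrimeOrd Cfsg.Agent.Lib.Helper24.Star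
open Cfsg.Agent.Lib.Helper24.Pal Cfsg.Agent.Lib.Helper24.ORe
open Cfsg.Agent.Lib.Helper24.OEv

variable {F : Type*} [Field F] [Fintype F] (p : ℕ) [Fact p.Prime] [CharP F p]

/-- an isometry of odd prime order without fixed vectors in the split orthogonal group -/
theorem exists_plus_no_fix {q : ℕ} (hF : Fintype.card F = q) (d r : ℕ) (hd : 1 ≤ d)
    (hr : r.Prime) (hr2 : r ≠ 2) (hrp : r ≠ p) (hx : (q : ZMod r) ^ d = 1) :
    ∃ g : ↥(Cfsg.isometryGroup F (Cfsg.quadFormPlus d F)),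
      g.1.1 ^ r = 1 ∧ ∀ v, g.1.1 *ᵥ v = v → v = 0 := by
  classical
  have hp : p.Prime := Fact.out
  haveI : Fact r.Prime := ⟨hr⟩
  obtain ⟨i, hi⟩ : ∃ i, i = orderOf (q : ZMod r) := ⟨_, rfl⟩
  have hid : i ∣ d := by rw [hi]; exact orderOf_dvd_of_pow_eq_one hx
  have hi0 : 0 < i := Nat.pos_of_dvd_of_pos hid (by omega)
  have hx0 : (q : ZMod r) ≠ 0 := by
    intro h
    rw [h, zero_pow (by omega)] at hx
    exact zero_ne_one hx
  have hir : i ∣ r - 1 := by
    rw [hi]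
    exact orderOf_dvd_of_pow_eq_one (ZMod.pow_card_sub_one_eq_one hx0)
  obtain ⟨t, ht⟩ : ∃ t, t * i = r - 1 := ⟨(r - 1) / i, Nat.div_mul_cancel hir⟩
  have ht0 : 0 < t := by
    rcases Nat.eq_zero_or_pos t with h | h
    · rw [h, zero_mul] at ht
      have := hr.two_le
      omega
    · exact h
  have h1 : (X - 1 : F[X]) ∣ X ^ r - 1 := by
    rw [← cyclotomic_prime_mul_X_sub_one F r]
    exact dvd_mul_left _ _
  have hcyc : cyclotomic r F ∣ X ^ r - 1 := by
    rw [← cyclotomic_prime_mul_X_sub_one F r]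
    exact dvd_mul_right _ _
  have hS1 : ∀ f ∈ cycFactors F r, Irreducible f ∧ f.Monic ∧ f.natDegree = i ∧
      f ∣ (X ^ r - 1 : F[X]) ∧ f ≠ X - 1 := by
    intro f hf
    have h2 := (mem_cycFactors_iff r f).mp hf
    exact ⟨h2.1, h2.2.1, natDegree_of_mem_cycFactors p hr hrp hF hi f hf, h2.2.2.trans hcyc,
      ne_X_sub_one_of_mem p hr hrp f hf⟩
  have hS0 : ∀ f ∈ cycFactors F r, f.coeff 0 ≠ 0 := fun f hf => coeff_zero_ne_of_mem hr f hf
  have hDS : ∀ f ∈ cycFactors F r, starHom f ∈ cycFactors F r :=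
    fun f hf => star_mem p hr hrp f hf
  have hinvol : ∀ x : ↥(cycFactors F r), DS (cycFactors F r) starHom hDS
      (DS (cycFactors F r) starHom hDS x) = x := by
    intro x
    apply Subtype.ext
    show star (star x.1) = x.1
    exact star_star_of_monic (hS1 x.1 x.2).2.1 (hS0 x.1 x.2)
  have hcardS : (cycFactors F r).card = t := card_cycFactors p hr hrp hF hi ht
  obtain ⟨f₀, hf₀⟩ : ∃ f₀, f₀ ∈ cycFactors F r := by
    apply Finset.card_pos.mp
    rw [hcardS]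
    exact ht0
  obtain ⟨f, hf⟩ : ∃ f : ↥(cycFactors F r), f = ⟨f₀, hf₀⟩ := ⟨_, rfl⟩
  obtain ⟨c, hc⟩ := hid
  obtain ⟨μ, hμ⟩ : ∃ μ : Multiset ↥(cycFactors F r),
      μ = c • ({f} + {DS (cycFactors F r) starHom hDS f}) := ⟨_, rfl⟩
  have hcardμ : Multiset.card μ = 2 * c := by
    rw [hμ]
    simp only [Multiset.card_nsmul, Multiset.card_add, Multiset.card_singleton]
    ring
  have hc0 : 0 < c := by
    rcases Nat.eq_zero_or_pos c with h | h
    · rw [h, mul_zero] at hc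
      omega
    · exact h
  have hμ0 : μ ≠ 0 := by
    intro h
    rw [h, Multiset.card_zero] at hcardμ
    omega
  have hμinv : μ.map (DS (cycFactors F r) starHom hDS) = μ := by
    rw [hμ, Multiset.map_nsmul, Multiset.map_add, Multiset.map_singleton, Multiset.map_singleton,
      hinvol, add_comm]
  have hiμ : i * Multiset.card μ = 2 * d := by
    rw [hcardμ, hc]
    ring
  have hle : Multiset.card μ ≤ 2 * d / i := by
    rw [← hiμ, Nat.mul_div_cancel_left _ hi0]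
  obtain ⟨g, hgc, N, hN, hgN⟩ := hexist_plus p hF d r i hr hr2 hrp hi hi0
    (phi (cycFactors F r) i (2 * d) μ)
    (phi_monic (cycFactors F r) (X ^ r - 1) i (2 * d) hS1 μ)
    (phi_natDegree (cycFactors F r) (X ^ r - 1) i (2 * d) hS1 μ hle)
    (phi_smooth (cycFactors F r) (X ^ r - 1) i (2 * d) hS1 h1 μ)
    (phi_not_smooth (cycFactors F r) (X ^ r - 1) i (2 * d) hS1 μ hμ0)
    (by
      rw [D_phi (cycFactors F r) i (2 * d) starHom star_X_sub_one hDS, hμinv])
    (Or.inr (by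
      rintro ⟨-, -, hodd⟩
      rw [← hiμ, Nat.mul_div_cancel_left _ hi0, hcardμ] at hodd
      exact (Nat.not_odd_iff_even.mpr (even_two_mul c)) hodd))
  refine ⟨g, ?_, ?_⟩
  · rw [Helper24.Star.mat_pow_eq_one_iff_smooth p _ hN hgN r hr.pos, hgc]
    exact phi_smooth (cycFactors F r) (X ^ r - 1) i (2 * d) hS1 h1 μ
  · apply no_fix_of_not_dvd
    rw [hgc, dvd_phi_iff (cycFactors F r) (X ^ r - 1) i (2 * d) hS1, hiμ]
    omega

/-- an isometry of odd prime order without fixed vectors in the non-split orthogonal group -/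
theorem exists_minus_no_fix {q : ℕ} (hF : Fintype.card F = q) (k r : ℕ) (a₀ c₀ : F)
    (hac : ∀ z₁ z₂ : F, z₁ ^ 2 + a₀ * z₁ * z₂ + c₀ * z₂ ^ 2 = 0 → z₁ = 0 ∧ z₂ = 0)
    (hr : r.Prime) (hr2 : r ≠ 2) (hrp : r ≠ p) (hx : (q : ZMod r) ^ (k + 1) = -1) :
    ∃ g : ↥(Cfsg.isometryGroup F (Cfsg.quadFormMinus k F a₀ c₀)),
      g.1.1 ^ r = 1 ∧ ∀ v, g.1.1 *ᵥ v = v → v = 0 := by
  classical
  have hp : p.Prime := Fact.out
  haveI : Fact r.Prime := ⟨hr⟩
  have hne := one_ne_neg_one_zmod (r := r) hr2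
  obtain ⟨i, hi⟩ : ∃ i, i = orderOf (q : ZMod r) := ⟨_, rfl⟩
  have hx2 : (q : ZMod r) ^ (2 * (k + 1)) = 1 := by
    rw [mul_comm, pow_mul, hx]
    ring
  have hid : i ∣ 2 * (k + 1) := by rw [hi]; exact orderOf_dvd_of_pow_eq_one hx2
  have hind : ¬ i ∣ k + 1 := by
    intro h
    rw [hi, orderOf_dvd_iff_pow_eq_one, hx] at h
    exact hne h.symm
  have hi0 : 0 < i := Nat.pos_of_dvd_of_pos hid (by omega)
  have hx0 : (q : ZMod r) ≠ 0 := by
    intro h
    rw [h, zero_pow (by omega)] at hx2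
    exact zero_ne_one hx2
  have hir : i ∣ r - 1 := by
    rw [hi]
    exact orderOf_dvd_of_pow_eq_one (ZMod.pow_card_sub_one_eq_one hx0)
  obtain ⟨t, ht⟩ : ∃ t, t * i = r - 1 := ⟨(r - 1) / i, Nat.div_mul_cancel hir⟩
  have ht0 : 0 < t := by
    rcases Nat.eq_zero_or_pos t with h | h
    · rw [h, zero_mul] at ht
      have := hr.two_le
      omega
    · exact h
  obtain ⟨c, hc⟩ := hid
  have hcodd : Odd c := by
    by_contra hcon
    obtain ⟨c', hc'⟩ := Nat.not_odd_iff_even.mp hcon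
    apply hind
    refine ⟨c', ?_⟩
    rw [hc'] at hc
    have : 2 * (k + 1) = 2 * (i * c') := by rw [hc]; ring
    omega
  have hiev : Even i := by
    by_contra hcon
    have hodd : Odd i := Nat.not_even_iff_odd.mp hcon
    apply hind
    have hcop : Nat.Coprime i 2 := Nat.coprime_two_right.mpr hodd
    exact hcop.dvd_of_dvd_mul_left ⟨c, hc⟩
  have h1 : (X - 1 : F[X]) ∣ X ^ r - 1 := by
    rw [← cyclotomic_prime_mul_X_sub_one F r]
    exact dvd_mul_left _ _
  have hcyc : cyclotomic r F ∣ X ^ r - 1 := by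
    rw [← cyclotomic_prime_mul_X_sub_one F r]
    exact dvd_mul_right _ _
  have hS1 : ∀ f ∈ cycFactors F r, Irreducible f ∧ f.Monic ∧ f.natDegree = i ∧
      f ∣ (X ^ r - 1 : F[X]) ∧ f ≠ X - 1 := by
    intro f hf
    have h2 := (mem_cycFactors_iff r f).mp hf
    exact ⟨h2.1, h2.2.1, natDegree_of_mem_cycFactors p hr hrp hF hi f hf, h2.2.2.trans hcyc,
      ne_X_sub_one_of_mem p hr hrp f hf⟩
  have hDS : ∀ f ∈ cycFactors F r, starHom f ∈ cycFactors F r :=
    fun f hf => star_mem p hr hrp f hf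
  have hfix : ∀ x : ↥(cycFactors F r), DS (cycFactors F r) starHom hDS x = x := by
    intro x
    apply Subtype.ext
    show star x.1 = x.1
    exact star_eq_of_even hr hF hi hi0 hiev x.1 x.2
  have hcardS : (cycFactors F r).card = t := card_cycFactors p hr hrp hF hi ht
  obtain ⟨f₀, hf₀⟩ : ∃ f₀, f₀ ∈ cycFactors F r := by
    apply Finset.card_pos.mp
    rw [hcardS]
    exact ht0
  obtain ⟨f, hf⟩ : ∃ f : ↥(cycFactors F r), f = ⟨f₀, hf₀⟩ := ⟨_, rfl⟩
  obtain ⟨μ, hμ⟩ : ∃ μ : Multiset ↥(cycFactors F r), μ = c • {f} := ⟨_, rfl⟩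
  have hcardμ : Multiset.card μ = c := by
    rw [hμ, Multiset.card_nsmul, Multiset.card_singleton, mul_one]
  have hc0 : 0 < c := hcodd.pos
  have hμ0 : μ ≠ 0 := by
    intro h
    rw [h, Multiset.card_zero] at hcardμ
    omega
  have hμinv : μ.map (DS (cycFactors F r) starHom hDS) = μ := by
    rw [hμ, Multiset.map_nsmul, Multiset.map_singleton, hfix]
  have hiμ : i * Multiset.card μ = 2 * (k + 1) := by
    rw [hcardμ, hc]
  have hle : Multiset.card μ ≤ 2 * (k + 1) / i := by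
    rw [← hiμ, Nat.mul_div_cancel_left _ hi0]
  obtain ⟨g, hgc, N, hN, hgN⟩ := hexist_minus p hF k r i a₀ c₀ hac hr hr2 hrp hi hi0
    (phi (cycFactors F r) i (2 * (k + 1)) μ)
    (phi_monic (cycFactors F r) (X ^ r - 1) i (2 * (k + 1)) hS1 μ)
    (phi_natDegree (cycFactors F r) (X ^ r - 1) i (2 * (k + 1)) hS1 μ hle)
    (phi_smooth (cycFactors F r) (X ^ r - 1) i (2 * (k + 1)) hS1 h1 μ)
    (phi_not_smooth (cycFactors F r) (X ^ r - 1) i (2 * (k + 1)) hS1 μ hμ0)
    (by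
      rw [D_phi (cycFactors F r) i (2 * (k + 1)) starHom star_X_sub_one hDS, hμinv])
    (Or.inr (by
      rw [if_neg (Nat.not_odd_iff_even.mpr hiev)]
      rintro ⟨-, hev⟩
      rw [← hiμ, Nat.mul_div_cancel_left _ hi0, hcardμ] at hev
      exact (Nat.not_even_iff_odd.mpr hcodd) hev))
  refine ⟨g, ?_, ?_⟩
  · rw [Helper24.Star.mat_pow_eq_one_iff_smooth p _ hN hgN r hr.pos, hgc]
    exact phi_smooth (cycFactors F r) (X ^ r - 1) i (2 * (k + 1)) hS1 h1 μ
  · apply no_fix_of_not_dvd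
    rw [hgc, dvd_phi_iff (cycFactors F r) (X ^ r - 1) i (2 * (k + 1)) hS1, hiμ]
    omega

end Cfsg.Agent.Lib.Helper24.NsPt
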