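import Mathlib
import Cfsg.Agent.Lib.Helper27.SpInvol2
import Cfsg.Agent.Lib.Helper19.OrthInvConj
import Cfsg.Agent.Lib.Helper24.OConjC

set_option autoImplicit false
set_option linter.style.haveILetI false
set_option linter.unusedSimpArgs false
set_option linter.unusedSectionVars false

namespace Cfsg.Agent.Lib.Helper24.OInv

open Matrix QuadraticMap Cfsg
open Cfsg.Agent.Lib.Helper27.SympTransv Cfsg.Agent.Lib.Helper27.SpInvol

variable {F : Type*} [Field F] {ι : Type} [Fintype ι] [DecidableEq ι] {m : ℕ}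

/-- the transported nilpotent part `T⁻¹ (A - 1) T` -/
noncomputable def NT (T : (Fin m ⊕ Fin m → F) ≃ₗ[F] (ι → F)) (A : Matrix ι ι F) :
    (Fin m ⊕ Fin m → F) →ₗ[F] (Fin m ⊕ Fin m → F) :=
  T.symm.toLinearMap ∘ₗ (A - 1).mulVecLin ∘ₗ T.toLinearMap

theorem NT_apply (T : (Fin m ⊕ Fin m → F) ≃ₗ[F] (ι → F)) (A : Matrix ι ι F)
    (x : Fin m ⊕ Fin m → F) : NT T A x = T.symm (A *ᵥ T x - T x) := by
  unfold NT
  simp only [LinearMap.comp_apply, LinearEquiv.coe_coe, Matrix.mulVecLin_apply,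
    Matrix.sub_mulVec, Matrix.one_mulVec]

theorem T_NT (T : (Fin m ⊕ Fin m → F) ≃ₗ[F] (ι → F)) (A : Matrix ι ι F)
    (x : Fin m ⊕ Fin m → F) : T (NT T A x) = A *ᵥ T x - T x := by
  rw [NT_apply, LinearEquiv.apply_symm_apply]

section basic

variable (Q : QuadraticForm F (ι → F)) {A : Matrix ι ι F}

theorem polar_iso (hA : ∀ v, Q (A *ᵥ v) = Q v) (x y : ι → F) :
    polar ⇑Q (A *ᵥ x) (A *ᵥ y) = polar ⇑Q x y := by
  unfold polar
  rw [← Matrix.mulVec_add, hA, hA, hA]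

theorem mulVec_mulVec_self (hAA : A * A = 1) (x : ι → F) : A *ᵥ (A *ᵥ x) = x := by
  rw [Matrix.mulVec_mulVec, hAA, Matrix.one_mulVec]

theorem polar_N (hA : ∀ v, Q (A *ᵥ v) = Q v) (hAA : A * A = 1) (u w : ι → F) :
    polar ⇑Q (A *ᵥ u - u) w = polar ⇑Q u (A *ᵥ w - w) := by
  rw [polar_sub_left, polar_sub_right]
  congr 1
  rw [← polar_iso Q hA (A *ᵥ u) w, mulVec_mulVec_self hAA]

theorem polar_self_zero (h2 : (2 : F) = 0) (w : ι → F) : polar ⇑Q w w = 0 := by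
  rw [polar_self]
  rw [two_smul]
  linear_combination (Q w) * h2

theorem polar_Aw (h2 : (2 : F) = 0) (hA : ∀ v, Q (A *ᵥ v) = Q v) (w : ι → F) :
    polar ⇑Q (A *ᵥ w - w) w = Q (w + A *ᵥ w) := by
  rw [polar_sub_left, polar_self_zero Q h2, sub_zero]
  unfold polar
  rw [hA, add_comm]
  linear_combination (-(Q w)) * h2

theorem N_sq (h2 : (2 : F) = 0) (hAA : A * A = 1) (x : ι → F) :
    A *ᵥ (A *ᵥ x - x) - (A *ᵥ x - x) = 0 := by
  rw [Matrix.mulVec_sub, mulVec_mulVec_self hAA]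
  have : x - A *ᵥ x - (A *ᵥ x - x) = (2 : F) • (x - A *ᵥ x) := by
    rw [two_smul]; abel
  rw [this, h2, zero_smul]

end basic

section transported

variable (Q : QuadraticForm F (ι → F)) (T : (Fin m ⊕ Fin m → F) ≃ₗ[F] (ι → F))
  (hT : ∀ u v, polar ⇑Q (T u) (T v) = sympForm m F u v) {A : Matrix ι ι F}

include hT in
theorem NT_sadj (hA : ∀ v, Q (A *ᵥ v) = Q v) (hAA : A * A = 1) : SAdj (NT T A) := by
  intro x y
  rw [← hT, ← hT, T_NT, T_NT]
  exact polar_N Q hA hAA _ _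

theorem NT_sq (h2 : (2 : F) = 0) (hAA : A * A = 1) (y : Fin m ⊕ Fin m → F) :
    NT T A (NT T A y) = 0 := by
  rw [NT_apply, T_NT, N_sq h2 hAA, map_zero]

theorem NT_rank : Module.finrank F (LinearMap.range (NT T A)) = (A - 1).rank := by
  unfold NT
  rw [LinearMap.range_comp, LinearMap.range_comp, LinearEquiv.range, Submodule.map_top]
  exact LinearEquiv.finrank_map_eq T.symm _

include hT in
theorem NT_alt_iff (h2 : (2 : F) = 0) (hA : ∀ v, Q (A *ᵥ v) = Q v) :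
    (∀ v, sympForm m F (NT T A v) v = 0) ↔ ∀ w, Q (w + A *ᵥ w) = 0 := by
  have key : ∀ v, sympForm m F (NT T A v) v = Q (T v + A *ᵥ T v) := by
    intro v
    rw [← hT, T_NT, polar_Aw Q h2 hA]
  constructor
  · intro h w
    have := h (T.symm w)
    rw [key, LinearEquiv.apply_symm_apply] at this
    exact this
  · intro h v
    rw [key]
    exact h _

end transported

section conj

variable [Fintype F] [CharP F 2]

/-- involutions of an orthogonal group in characteristic two with the same rank and type are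
conjugate -/
theorem conj_of_invariants (Q : QuadraticForm F (ι → F)) (hQ : (polarBilin Q).Nondegenerate)
    (T : (Fin m ⊕ Fin m → F) ≃ₗ[F] (ι → F))
    (hT : ∀ u v, polar ⇑Q (T u) (T v) = sympForm m F u v)
    (t s : ↥(Cfsg.isometryGroup F ⇑Q)) (ht : t * t = 1) (hs : s * s = 1)
    (hrank : ((t.1.1 : Matrix ι ι F) - 1).rank = ((s.1.1 : Matrix ι ι F) - 1).rank)
    (htype : (∀ v, Q (v + (t.1.1 : Matrix ι ι F) *ᵥ v) = 0) ↔
      (∀ v, Q (v + (s.1.1 : Matrix ι ι F) *ᵥ v) = 0)) : IsConj t s := by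
  have h2 : (2 : F) = 0 := by
    have := CharP.cast_eq_zero F 2
    exact_mod_cast this
  have hiso : ∀ (g : ↥(Cfsg.isometryGroup F ⇑Q)) v, Q ((g.1.1 : Matrix ι ι F) *ᵥ v) = Q v :=
    fun g v => (Cfsg.Agent.Lib.Helper24.OConj.mem_iso_iff _ g.1).mp g.2 v
  have hsq : ∀ (g : ↥(Cfsg.isometryGroup F ⇑Q)), g * g = 1 →
      (g.1.1 : Matrix ι ι F) * (g.1.1 : Matrix ι ι F) = 1 := by
    intro g hg
    have := congrArg (fun x : ↥(Cfsg.isometryGroup F ⇑Q) => (x.1.1 : Matrix ι ι F)) hg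
    exact this
  obtain ⟨A₀, hA₀⟩ := sadj_conj (NT_sadj Q T hT (hiso t) (hsq t ht))
    (NT_sadj Q T hT (hiso s) (hsq s hs)) (NT_sq T h2 (hsq t ht)) (NT_sq T h2 (hsq s hs))
    (by rw [NT_rank, NT_rank]; exact hrank)
    (by rw [NT_alt_iff Q T hT h2 (hiso t), NT_alt_iff Q T hT h2 (hiso s)]; exact htype)
  obtain ⟨g, hg⟩ : ∃ g : (ι → F) ≃ₗ[F] (ι → F), ∀ v, g v = T (act A₀ (T.symm v)) :=
    ⟨T.symm.trans ((actL A₀).trans T), fun v => rfl⟩
  have hgB : ∀ u v, polar ⇑Q (g u) (g v) = polar ⇑Q u v := by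
    intro u v
    rw [hg, hg, hT, act_preserves, ← hT, LinearEquiv.apply_symm_apply,
      LinearEquiv.apply_symm_apply]
  have hgN : ∀ v, g ((t.1.1 : Matrix ι ι F) *ᵥ v - v) = (s.1.1 : Matrix ι ι F) *ᵥ g v - g v := by
    intro v
    have h1 := hA₀ (T.symm v)
    rw [NT_apply, NT_apply, LinearEquiv.apply_symm_apply] at h1
    rw [hg, h1, LinearEquiv.apply_symm_apply, hg]
  have hgA : ∀ v, g ((t.1.1 : Matrix ι ι F) *ᵥ v) = (s.1.1 : Matrix ι ι F) *ᵥ g v := by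
    intro v
    have h1 := hgN v
    rw [map_sub] at h1
    have h3 : g ((t.1.1 : Matrix ι ι F) *ᵥ v) =
        g ((t.1.1 : Matrix ι ι F) *ᵥ v) - g v + g v := by abel
    rw [h3, h1]
    abel
  obtain ⟨c, hc⟩ := Cfsg.Agent.Lib.Helper19.OrthRefl.conj_of_polar_conj h2 Q hQ t s hs
    (Cfsg.Agent.Lib.Helper24.OConj.glOf g)
    (by
      intro u v
      rw [Cfsg.Agent.Lib.Helper24.OConj.glOf_mulVec, Cfsg.Agent.Lib.Helper24.OConj.glOf_mulVec]
      exact hgB u v)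
    (by
      rw [mul_inv_eq_iff_eq_mul]
      apply Units.ext
      rw [Units.val_mul, Units.val_mul]
      rw [Matrix.ext_iff_mulVec]
      intro v
      rw [← Matrix.mulVec_mulVec, ← Matrix.mulVec_mulVec,
        Cfsg.Agent.Lib.Helper24.OConj.glOf_mulVec, Cfsg.Agent.Lib.Helper24.OConj.glOf_mulVec]
      exact hgA v)
  exact isConj_iff.mpr ⟨c, hc⟩

end conj

end Cfsg.Agent.Lib.Helper24.OInv
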