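import Mathlib
import Cfsg.Agent.Lib.Helper24.OInvA

set_option autoImplicit false
set_option linter.style.haveILetI false
set_option linter.unusedSimpArgs false
set_option linter.unusedSectionVars false

namespace Cfsg.Agent.Lib.Helper24.OInv

open Matrix QuadraticMap Cfsg
open Cfsg.Agent.Lib.Helper27.SympTransv Cfsg.Agent.Lib.Helper27.SpInvol

variable {F : Type*} [Field F] {ι : Type} [Fintype ι] [DecidableEq ι] {m : ℕ}

section constraints

variable (Q : QuadraticForm F (ι → F)) (T : (Fin m ⊕ Fin m → F) ≃ₗ[F] (ι → F))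
  (hT : ∀ u v, polar ⇑Q (T u) (T v) = sympForm m F u v) {A : Matrix ι ι F}

include hT in
theorem rank_le (h2 : (2 : F) = 0) (hA : ∀ v, Q (A *ᵥ v) = Q v) (hAA : A * A = 1) :
    (A - 1).rank ≤ m := by
  rw [← NT_rank T]
  exact rank_le_of_sq_zero (NT_sadj Q T hT hA hAA) (NT_sq T h2 hAA)

include hT in
theorem even_rank_of_alt' [Fintype F] [CharP F 2] (hA : ∀ v, Q (A *ᵥ v) = Q v)
    (hAA : A * A = 1) (halt : ∀ w, Q (w + A *ᵥ w) = 0) : Even (A - 1).rank := by
  have h2 : (2 : F) = 0 := by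
    have := CharP.cast_eq_zero F 2
    exact_mod_cast this
  obtain ⟨k, hk, -⟩ := exists_normal_alt (NT_sadj Q T hT hA hAA)
    ((NT_alt_iff Q T hT h2 hA).mpr halt) _ (NT_rank T)
  rw [hk]
  exact even_two_mul k

end constraints

section invariance

variable {Qf : (ι → F) → F}

theorem conj_data (t s : ↥(Cfsg.isometryGroup F Qf)) (h : IsConj t s) :
    ∃ c : ↥(Cfsg.isometryGroup F Qf), (c.1.1 : Matrix ι ι F) * (t.1.1 : Matrix ι ι F) =
      (s.1.1 : Matrix ι ι F) * (c.1.1 : Matrix ι ι F) := by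
  rw [isConj_iff] at h
  obtain ⟨c, hc⟩ := h
  refine ⟨c, ?_⟩
  have h1 : c * t = s * c := by rw [← hc]; group
  have := congrArg (fun x : ↥(Cfsg.isometryGroup F Qf) => (x.1.1 : Matrix ι ι F)) h1
  exact this

theorem rank_of_isConj (t s : ↥(Cfsg.isometryGroup F Qf)) (h : IsConj t s) :
    ((t.1.1 : Matrix ι ι F) - 1).rank = ((s.1.1 : Matrix ι ι F) - 1).rank := by
  obtain ⟨c, h2⟩ := conj_data t s h
  have h3 : (c.1.1 : Matrix ι ι F) * ((t.1.1 : Matrix ι ι F) - 1) =
      ((s.1.1 : Matrix ι ι F) - 1) * (c.1.1 : Matrix ι ι F) := by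
    rw [mul_sub, sub_mul, h2, mul_one, one_mul]
  have hdet : IsUnit (c.1.1 : Matrix ι ι F).det :=
    (Matrix.isUnit_iff_isUnit_det _).mp c.1.isUnit
  rw [← Matrix.rank_mul_eq_right_of_isUnit_det (c.1.1 : Matrix ι ι F)
    ((t.1.1 : Matrix ι ι F) - 1) hdet, h3,
    Matrix.rank_mul_eq_left_of_isUnit_det (c.1.1 : Matrix ι ι F)
    ((s.1.1 : Matrix ι ι F) - 1) hdet]

theorem alt_of_isConj (t s : ↥(Cfsg.isometryGroup F Qf)) (h : IsConj t s)
    (ht : ∀ v, Qf (v + (t.1.1 : Matrix ι ι F) *ᵥ v) = 0) :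
    ∀ v, Qf (v + (s.1.1 : Matrix ι ι F) *ᵥ v) = 0 := by
  obtain ⟨c, h2⟩ := conj_data t s h
  intro v
  have hc : ∀ u, Qf ((c.1.1 : Matrix ι ι F) *ᵥ u) = Qf u :=
    fun u => (Cfsg.Agent.Lib.Helper24.OConj.mem_iso_iff _ c.1).mp c.2 u
  have hcinv : (c.1.1 : Matrix ι ι F) * ((c⁻¹).1.1 : Matrix ι ι F) = 1 := by
    have := congrArg (fun x : ↥(Cfsg.isometryGroup F Qf) => (x.1.1 : Matrix ι ι F))
      (mul_inv_cancel c)
    exact this
  obtain ⟨u, hu⟩ : ∃ u, v = (c.1.1 : Matrix ι ι F) *ᵥ u :=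
    ⟨((c⁻¹).1.1 : Matrix ι ι F) *ᵥ v, by rw [Matrix.mulVec_mulVec, hcinv, Matrix.one_mulVec]⟩
  rw [hu, Matrix.mulVec_mulVec, ← h2, ← Matrix.mulVec_mulVec, ← Matrix.mulVec_add, hc]
  exact ht u

theorem alt_iff_of_isConj (t s : ↥(Cfsg.isometryGroup F Qf)) (h : IsConj t s) :
    (∀ v, Qf (v + (t.1.1 : Matrix ι ι F) *ᵥ v) = 0) ↔
      (∀ v, Qf (v + (s.1.1 : Matrix ι ι F) *ᵥ v) = 0) :=
  ⟨alt_of_isConj t s h, alt_of_isConj s t h.symm⟩

theorem sq_of_order {t : ↥(Cfsg.isometryGroup F Qf)} (ht : orderOf t = 2) : t * t = 1 := by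
  have := pow_orderOf_eq_one t
  rwa [ht, pow_two] at this

theorem order_of_sq {t : ↥(Cfsg.isometryGroup F Qf)} (htt : t * t = 1)
    (hr : 1 ≤ ((t.1.1 : Matrix ι ι F) - 1).rank) : orderOf t = 2 := by
  apply orderOf_eq_prime
  · rw [pow_two, htt]
  · rintro rfl
    have : (((1 : ↥(Cfsg.isometryGroup F Qf)).1.1 : Matrix ι ι F) - 1) = 0 := by
      show (1 : Matrix ι ι F) - 1 = 0
      exact sub_self _
    rw [this, Matrix.rank_zero] at hr
    omega

theorem rank_pos {t : ↥(Cfsg.isometryGroup F Qf)} (ht : orderOf t = 2) :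
    1 ≤ ((t.1.1 : Matrix ι ι F) - 1).rank := by
  by_contra h
  have h0 : ((t.1.1 : Matrix ι ι F) - 1).rank = 0 := by omega
  have h0' : Module.finrank F
      (LinearMap.range ((t.1.1 : Matrix ι ι F) - 1).mulVecLin) = 0 := h0
  have hbot := Submodule.finrank_eq_zero.mp h0'
  have h1 : (t.1.1 : Matrix ι ι F) - 1 = 0 := by
    rw [Matrix.ext_iff_mulVec]
    intro v
    have h3 : ((t.1.1 : Matrix ι ι F) - 1).mulVecLin v ∈
        LinearMap.range ((t.1.1 : Matrix ι ι F) - 1).mulVecLin := LinearMap.mem_range_self _ v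
    rw [hbot, Submodule.mem_bot, Matrix.mulVecLin_apply] at h3
    rw [h3, Matrix.zero_mulVec]
  have h2 : t = 1 := by
    apply Subtype.ext
    apply Units.ext
    exact sub_eq_zero.mp h1
  rw [h2, orderOf_one] at ht
  omega

end invariance

section real

variable (Q : QuadraticForm F (ι → F)) {σ : Type} [Fintype σ] [DecidableEq σ]
  (E W : σ → (ι → F)) (π : σ → σ)

/-- the standard square-zero map `v ↦ Σ_s f(v, E_s) E_{π s}` -/
noncomputable def stdNQ : (ι → F) →ₗ[F] (ι → F) :=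
  ∑ s, ((polarBilin Q).flip (E s)).smulRight (E (π s))

theorem stdNQ_apply (v : ι → F) :
    stdNQ Q E π v = ∑ s, polar ⇑Q v (E s) • E (π s) := by
  unfold stdNQ
  rw [LinearMap.sum_apply]
  apply Finset.sum_congr rfl
  intro s _
  rw [LinearMap.smulRight_apply, LinearMap.flip_apply, polarBilin_apply_apply]

theorem polar_sum_right {κ : Type*} (S : Finset κ) (x : ι → F) (f : κ → (ι → F)) :
    polar ⇑Q x (∑ s ∈ S, f s) = ∑ s ∈ S, polar ⇑Q x (f s) := by
  have := map_sum (polarBilin Q x) f S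
  simpa only [polarBilin_apply_apply] using this

theorem polar_sum_left {κ : Type*} (S : Finset κ) (x : ι → F) (f : κ → (ι → F)) :
    polar ⇑Q (∑ s ∈ S, f s) x = ∑ s ∈ S, polar ⇑Q (f s) x := by
  rw [polar_comm, polar_sum_right]
  apply Finset.sum_congr rfl
  intro s _
  rw [polar_comm]

theorem Q_sum_orth {κ : Type*} [DecidableEq κ] (S : Finset κ) (f : κ → (ι → F))
    (hf : ∀ s t, polar ⇑Q (f s) (f t) = 0) : Q (∑ s ∈ S, f s) = ∑ s ∈ S, Q (f s) := by
  induction S using Finset.induction_on with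
  | empty => simp
  | insert a S ha ih =>
    rw [Finset.sum_insert ha, Finset.sum_insert ha]
    have h1 : Q (f a + ∑ s ∈ S, f s) = Q (f a) + Q (∑ s ∈ S, f s) +
        polar ⇑Q (f a) (∑ s ∈ S, f s) := by
      unfold polar
      ring
    rw [h1, ih, polar_sum_right, Finset.sum_eq_zero (fun s _ => hf a s), add_zero]

variable (hπ : ∀ s, π (π s) = s) (h1 : ∀ s t, polar ⇑Q (E s) (E t) = 0)
  (h2 : ∀ s t, polar ⇑Q (W s) (E t) = if s = t then 1 else 0)
  (h3 : ∀ s, Q (E s) = if π s = s then 1 else 0)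

include h1 in
theorem stdNQ_sq (v : ι → F) : stdNQ Q E π (stdNQ Q E π v) = 0 := by
  rw [stdNQ_apply Q E π (stdNQ Q E π v)]
  apply Finset.sum_eq_zero
  intro t _
  rw [stdNQ_apply, polar_sum_left, Finset.sum_eq_zero, zero_smul]
  intro s _
  rw [polar_smul_left, h1, smul_zero]

include hπ h1 h3 in
theorem Q_stdNQ (v : ι → F) : Q (stdNQ Q E π v) =
    ∑ s, polar ⇑Q v (E s) * polar ⇑Q v (E s) * (if π s = s then 1 else 0) := by
  rw [stdNQ_apply, Q_sum_orth]
  · apply Finset.sum_congr rfl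
    intro s _
    rw [QuadraticMap.map_smul, h3, hπ, smul_eq_mul]
    by_cases h : π s = s
    · rw [if_pos h, if_pos h.symm]
    · rw [if_neg h, if_neg (Ne.symm h)]
  · intro s t
    rw [polar_smul_left, polar_smul_right, h1, smul_zero, smul_zero]

theorem polar_stdNQ (v : ι → F) : polar ⇑Q v (stdNQ Q E π v) =
    ∑ s, polar ⇑Q v (E s) * polar ⇑Q v (E (π s)) := by
  rw [stdNQ_apply, polar_sum_right]
  apply Finset.sum_congr rfl
  intro s _
  rw [polar_smul_right, smul_eq_mul]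

include hπ h1 h3 in
theorem Q_add_stdNQ (hF2 : (2 : F) = 0) (v : ι → F) : Q (v + stdNQ Q E π v) = Q v := by
  have e1 : Q (v + stdNQ Q E π v) = Q v + (Q (stdNQ Q E π v) +
      polar ⇑Q v (stdNQ Q E π v)) := by
    unfold polar
    ring
  rw [e1, Q_stdNQ Q E π hπ h1 h3, polar_stdNQ, ← Finset.sum_add_distrib]
  have hz : ∑ s, (polar ⇑Q v (E s) * polar ⇑Q v (E s) * (if π s = s then 1 else 0) +
      polar ⇑Q v (E s) * polar ⇑Q v (E (π s))) = 0 := by
    apply Finset.sum_ninvolution π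
    · intro s
      rw [hπ]
      by_cases h : π s = s
      · rw [if_pos h, h, if_pos rfl]
        linear_combination (2 * polar ⇑Q v (E s) * polar ⇑Q v (E s)) * hF2
      · have h' : ¬ s = π s := fun h' => h h'.symm
        rw [if_neg h, if_neg h']
        linear_combination (polar ⇑Q v (E s) * polar ⇑Q v (E (π s))) * hF2
    · intro s hs h
      apply hs
      rw [if_pos h, h]
      linear_combination (polar ⇑Q v (E s) * polar ⇑Q v (E s)) * hF2
    · intro s
      exact Finset.mem_univ _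
    · exact hπ
  rw [hz, add_zero]

include hπ h2 in
theorem stdNQ_W (s : σ) : stdNQ Q E π (W s) = E (π s) := by
  rw [stdNQ_apply, Finset.sum_eq_single s]
  · rw [h2, if_pos rfl, one_smul]
  · intro t _ hts
    rw [h2, if_neg (Ne.symm hts), zero_smul]
  · intro h
    exact absurd (Finset.mem_univ s) h

include h2 in
theorem E_li : LinearIndependent F E := by
  rw [Fintype.linearIndependent_iff]
  intro g hg s
  have h4 : polar ⇑Q (W s) (∑ i, g i • E i) = polar ⇑Q (W s) 0 := by rw [hg]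
  rw [polar_sum_right, polar_zero_right] at h4
  rw [Finset.sum_eq_single s] at h4
  · rw [polar_smul_right, h2, if_pos rfl, smul_eq_mul, mul_one] at h4
    exact h4
  · intro t _ hts
    rw [polar_smul_right, h2, if_neg (Ne.symm hts), smul_zero]
  · intro h
    exact absurd (Finset.mem_univ s) h

include hπ h2 in
theorem stdNQ_rank : Module.finrank F (LinearMap.range (stdNQ Q E π)) = Fintype.card σ := by
  have hr : LinearMap.range (stdNQ Q E π) = Submodule.span F (Set.range E) := by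
    apply le_antisymm
    · rintro _ ⟨y, rfl⟩
      rw [stdNQ_apply]
      exact Submodule.sum_mem _
        (fun i _ => Submodule.smul_mem _ _ (Submodule.subset_span ⟨π i, rfl⟩))
    · rw [Submodule.span_le]
      rintro _ ⟨t, rfl⟩
      refine ⟨W (π t), ?_⟩
      rw [stdNQ_W Q E W π hπ h2, hπ]
  rw [hr, finrank_span_eq_card (E_li Q E W h2)]

include hπ h1 h2 h3 in
/-- the standard involution attached to an orthogonal system -/
theorem exists_invol (hF2 : (2 : F) = 0) :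
    ∃ t : ↥(Cfsg.isometryGroup F ⇑Q), t * t = 1 ∧
      ((t.1.1 : Matrix ι ι F) - 1).rank = Fintype.card σ ∧
      ((∀ v, Q (v + (t.1.1 : Matrix ι ι F) *ᵥ v) = 0) ↔ ∀ s, π s ≠ s) := by
  obtain ⟨A, hAdef⟩ : ∃ A : Matrix ι ι F, A = 1 + LinearMap.toMatrix' (stdNQ Q E π) :=
    ⟨_, rfl⟩
  have hAv : ∀ v, A *ᵥ v = v + stdNQ Q E π v := by
    intro v
    rw [hAdef, Matrix.add_mulVec, Matrix.one_mulVec, LinearMap.toMatrix'_mulVec]
  have hAA : A * A = 1 := by
    rw [Matrix.ext_iff_mulVec]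
    intro v
    rw [← Matrix.mulVec_mulVec, hAv, hAv, map_add, stdNQ_sq Q E π h1, add_zero,
      Matrix.one_mulVec, add_assoc]
    have : stdNQ Q E π v + stdNQ Q E π v = (2 : F) • stdNQ Q E π v := by rw [two_smul]
    rw [this, hF2, zero_smul, add_zero]
  obtain ⟨g, hg⟩ : ∃ g : Matrix.GeneralLinearGroup ι F, (g : Matrix ι ι F) = A :=
    ⟨⟨A, A, hAA, hAA⟩, rfl⟩
  have hmem : g ∈ Cfsg.isometryGroup F ⇑Q := by
    rw [Cfsg.Agent.Lib.Helper24.OConj.mem_iso_iff]
    intro u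
    rw [hg, hAv]
    exact Q_add_stdNQ Q E π hπ h1 h3 hF2 u
  have hN : (A - 1).mulVecLin = stdNQ Q E π := by
    apply LinearMap.ext
    intro v
    rw [Matrix.mulVecLin_apply, Matrix.sub_mulVec, hAv, Matrix.one_mulVec]
    abel
  have hvv : ∀ v, v + A *ᵥ v = stdNQ Q E π v := by
    intro v
    rw [hAv, ← add_assoc]
    have : v + v = (2 : F) • v := by rw [two_smul]
    rw [this, hF2, zero_smul, zero_add]
  refine ⟨⟨g, hmem⟩, ?_, ?_, ?_⟩
  · apply Subtype.ext
    apply Units.ext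
    show (g : Matrix ι ι F) * (g : Matrix ι ι F) = 1
    rw [hg]
    exact hAA
  · show ((g : Matrix ι ι F) - 1).rank = _
    rw [hg]
    show Module.finrank F (LinearMap.range (A - 1).mulVecLin) = _
    rw [hN]
    exact stdNQ_rank Q E W π hπ h2
  · show (∀ v, Q (v + (g : Matrix ι ι F) *ᵥ v) = 0) ↔ _
    rw [hg]
    constructor
    · intro h s hs
      have h4 := h (W s)
      rw [hvv, stdNQ_W Q E W π hπ h2, hs, h3, if_pos hs] at h4
      exact one_ne_zero h4
    · intro h v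
      rw [hvv, Q_stdNQ Q E π hπ h1 h3]
      apply Finset.sum_eq_zero
      intro s _
      rw [if_neg (h s), mul_zero]

end real

end Cfsg.Agent.Lib.Helper24.OInv
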