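import Mathlib
import Cfsg.Agent.Lib.Helper24.OInvB

set_option autoImplicit false
set_option linter.style.haveILetI false
set_option linter.unusedSimpArgs false
set_option linter.unusedSectionVars false

namespace Cfsg.Agent.Lib.Helper24.OInv

open Matrix QuadraticMap Cfsg
open Cfsg.Agent.Lib.Helper27.SympTransv Cfsg.Agent.Lib.Helper27.SpInvol

variable {F : Type*} [Field F] {ι : Type} [Fintype ι] [DecidableEq ι] {m : ℕ}

/-- counting the classes of involutions of an orthogonal group in characteristic two -/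
theorem card_invol_classes [Fintype F] [CharP F 2] (Q : QuadraticForm F (ι → F))
    (hQ : (polarBilin Q).Nondegenerate)
    (T : (Fin m ⊕ Fin m → F) ≃ₗ[F] (ι → F))
    (hT : ∀ u v, polar ⇑Q (T u) (T v) = sympForm m F u v)
    (bound : ℕ)
    (hexcl : ∀ t : ↥(Cfsg.isometryGroup F ⇑Q), t * t = 1 →
      (∀ v, Q (v + (t.1.1 : Matrix ι ι F) *ᵥ v) = 0) →
      ((t.1.1 : Matrix ι ι F) - 1).rank ≤ bound)
    (repO : ∀ s, 1 ≤ s → s ≤ m → ∃ t : ↥(Cfsg.isometryGroup F ⇑Q), t * t = 1 ∧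
      ((t.1.1 : Matrix ι ι F) - 1).rank = s ∧
      ¬ ∀ v, Q (v + (t.1.1 : Matrix ι ι F) *ᵥ v) = 0)
    (repA : ∀ k, 1 ≤ k → 2 * k ≤ bound → ∃ t : ↥(Cfsg.isometryGroup F ⇑Q), t * t = 1 ∧
      ((t.1.1 : Matrix ι ι F) - 1).rank = 2 * k ∧
      ∀ v, Q (v + (t.1.1 : Matrix ι ι F) *ᵥ v) = 0) :
    Nat.card {C : ConjClasses ↥(Cfsg.isometryGroup F ⇑Q) //
      ∃ g : ↥(Cfsg.isometryGroup F ⇑Q), ConjClasses.mk g = C ∧ orderOf g = 2} =
      m + bound / 2 := by
  have h2 : (2 : F) = 0 := by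
    have := CharP.cast_eq_zero F 2
    exact_mod_cast this
  have hiso : ∀ (g : ↥(Cfsg.isometryGroup F ⇑Q)) v, Q ((g.1.1 : Matrix ι ι F) *ᵥ v) = Q v :=
    fun g v => (Cfsg.Agent.Lib.Helper24.OConj.mem_iso_iff _ g.1).mp g.2 v
  have hsq : ∀ (g : ↥(Cfsg.isometryGroup F ⇑Q)), g * g = 1 →
      (g.1.1 : Matrix ι ι F) * (g.1.1 : Matrix ι ι F) = 1 := by
    intro g hg
    have := congrArg (fun x : ↥(Cfsg.isometryGroup F ⇑Q) => (x.1.1 : Matrix ι ι F)) hg
    exact this
  have hO : ∀ i : Fin m, ∃ t : ↥(Cfsg.isometryGroup F ⇑Q), t * t = 1 ∧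
      ((t.1.1 : Matrix ι ι F) - 1).rank = i + 1 ∧
      ¬ ∀ v, Q (v + (t.1.1 : Matrix ι ι F) *ᵥ v) = 0 :=
    fun i => repO (i + 1) (by omega) (by have := i.2; omega)
  have hA : ∀ k : Fin (bound / 2), ∃ t : ↥(Cfsg.isometryGroup F ⇑Q), t * t = 1 ∧
      ((t.1.1 : Matrix ι ι F) - 1).rank = 2 * (k + 1) ∧
      ∀ v, Q (v + (t.1.1 : Matrix ι ι F) *ᵥ v) = 0 :=
    fun k => repA (k + 1) (by omega) (by have := k.2; omega)
  choose gO hgO1 hgO2 hgO3 using hO
  choose gA hgA1 hgA2 hgA3 using hA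
  obtain ⟨Φ, hΦO, hΦA⟩ : ∃ Φ : Fin m ⊕ Fin (bound / 2) →
      {C : ConjClasses ↥(Cfsg.isometryGroup F ⇑Q) //
        ∃ g : ↥(Cfsg.isometryGroup F ⇑Q), ConjClasses.mk g = C ∧ orderOf g = 2},
      (∀ i, (Φ (Sum.inl i)).1 = ConjClasses.mk (gO i)) ∧
      (∀ k, (Φ (Sum.inr k)).1 = ConjClasses.mk (gA k)) :=
    ⟨Sum.elim (fun i => ⟨ConjClasses.mk (gO i), gO i, rfl,
        order_of_sq (hgO1 i) (by rw [hgO2]; omega)⟩)
      (fun k => ⟨ConjClasses.mk (gA k), gA k, rfl,
        order_of_sq (hgA1 k) (by rw [hgA2]; omega)⟩), fun i => rfl, fun k => rfl⟩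
  have hbij : Function.Bijective Φ := by
    constructor
    · rintro (i | k) (i' | k') h
      · have h1 : IsConj (gO i) (gO i') := by
          rw [← ConjClasses.mk_eq_mk_iff_isConj, ← hΦO, ← hΦO, h]
        have h3 := rank_of_isConj _ _ h1
        rw [hgO2, hgO2] at h3
        have : (i : ℕ) = i' := by omega
        rw [Fin.ext this]
      · exfalso
        have h1 : IsConj (gO i) (gA k') := by
          rw [← ConjClasses.mk_eq_mk_iff_isConj, ← hΦO, ← hΦA, h]
        exact hgO3 i ((alt_iff_of_isConj _ _ h1).mpr (hgA3 k'))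
      · exfalso
        have h1 : IsConj (gA k) (gO i') := by
          rw [← ConjClasses.mk_eq_mk_iff_isConj, ← hΦO, ← hΦA, h]
        exact hgO3 i' ((alt_iff_of_isConj _ _ h1).mp (hgA3 k))
      · have h1 : IsConj (gA k) (gA k') := by
          rw [← ConjClasses.mk_eq_mk_iff_isConj, ← hΦA, ← hΦA, h]
        have h3 := rank_of_isConj _ _ h1
        rw [hgA2, hgA2] at h3
        have : (k : ℕ) = k' := by omega
        rw [Fin.ext this]
    · rintro ⟨C, g, rfl, hg⟩
      have hgg := sq_of_order hg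
      have hr1 := rank_pos hg
      have hr2 := rank_le Q T hT h2 (hiso g) (hsq g hgg)
      by_cases halt : ∀ v, Q (v + (g.1.1 : Matrix ι ι F) *ᵥ v) = 0
      · have heven := even_rank_of_alt' Q T hT (hiso g) (hsq g hgg) halt
        obtain ⟨k, hk⟩ := heven
        have hb := hexcl g hgg halt
        refine ⟨Sum.inr ⟨k - 1, by omega⟩, ?_⟩
        apply Subtype.ext
        rw [hΦA]
        show ConjClasses.mk (gA _) = ConjClasses.mk g
        rw [ConjClasses.mk_eq_mk_iff_isConj]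
        apply conj_of_invariants Q hQ T hT _ _ (hgA1 _) hgg
        · rw [hgA2, hk]
          show 2 * (k - 1 + 1) = k + k
          omega
        · exact ⟨fun _ => halt, fun _ => hgA3 _⟩
      · refine ⟨Sum.inl ⟨((g.1.1 : Matrix ι ι F) - 1).rank - 1, by omega⟩, ?_⟩
        apply Subtype.ext
        rw [hΦO]
        show ConjClasses.mk (gO _) = ConjClasses.mk g
        rw [ConjClasses.mk_eq_mk_iff_isConj]
        apply conj_of_invariants Q hQ T hT _ _ (hgO1 _) hgg
        · rw [hgO2]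
          show ((g.1.1 : Matrix ι ι F) - 1).rank - 1 + 1 = _
          omega
        · exact ⟨fun h => absurd h (hgO3 _), fun h => absurd h halt⟩
  rw [← Nat.card_congr (Equiv.ofBijective Φ hbij), Nat.card_eq_fintype_card, Fintype.card_sum,
    Fintype.card_fin, Fintype.card_fin]

end Cfsg.Agent.Lib.Helper24.OInv
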