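import Mathlib
import Cfsg.Agent.Lib.Helper24.OInvC
import Cfsg.Agent.Lib.Helper19.QuadStd
import Cfsg.Agent.S2593

set_option autoImplicit false
set_option linter.style.haveILetI false
set_option linter.unusedSimpArgs false
set_option linter.unusedSectionVars false

namespace Cfsg.Agent.Lib.Helper24.OInv

open Matrix QuadraticMap Cfsg
open Cfsg.Agent.Lib.Helper27.SympTransv Cfsg.Agent.Lib.Helper27.SpInvol
open Cfsg.Agent.Lib.Helper19.QuadStd

variable {F : Type*} [Field F] {m : ℕ}

theorem polar_plus_eq_sf (h2 : (2 : F) = 0) (u v : Fin m ⊕ Fin m → F) :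
    polar ⇑(stdPlus m F) u v = sympForm m F u v := by
  rw [polar_stdPlus, sf_apply]
  apply Finset.sum_congr rfl
  intro i _
  linear_combination (u (Sum.inl i) * v (Sum.inr i)) * h2

theorem sf_F_F {σ : Type*} (j : σ → Fin m) (s t : σ) :
    sympForm m F (stdF (F := F) j s) (stdF j t) = 0 := by
  unfold stdF
  rw [sf_single_inr]
  simp

theorem Qplus_E {σ : Type*} (j : σ → Fin m) (s : σ) : stdPlus m F (stdE (F := F) j s) = 0 := by
  rw [stdPlus_apply]
  unfold Cfsg.quadFormPlus stdE
  simp

theorem Qplus_EF {σ : Type*} (j : σ → Fin m) (s : σ) :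
    stdPlus m F (stdE (F := F) j s + stdF j s) = 1 := by
  classical
  rw [stdPlus_apply]
  unfold Cfsg.quadFormPlus stdE stdF
  simp [Pi.single_apply]

/-- involution classes of `O⁺_{2m}(q)`, `q` even -/
theorem card_plus_invol_classes [Fintype F] [CharP F 2] (m : ℕ) :
    Nat.card {C : ConjClasses ↥(Cfsg.isometryGroup F ⇑(stdPlus m F)) //
      ∃ g : ↥(Cfsg.isometryGroup F ⇑(stdPlus m F)), ConjClasses.mk g = C ∧ orderOf g = 2} =
      m + m / 2 := by
  classical
  have h2 : (2 : F) = 0 := by
    have := CharP.cast_eq_zero F 2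
    exact_mod_cast this
  have hneg : ∀ x : F, -x = x := by
    intro x
    linear_combination (-x) * h2
  have hT : ∀ u v, polar ⇑(stdPlus m F)
      ((LinearEquiv.refl F (Fin m ⊕ Fin m → F)) u) ((LinearEquiv.refl F (Fin m ⊕ Fin m → F)) v) =
      sympForm m F u v := fun u v => polar_plus_eq_sf h2 u v
  apply card_invol_classes (stdPlus m F) (stdPlus_nondeg m) (LinearEquiv.refl F _) hT m
  · intro t htt _
    have hiso : ∀ v, stdPlus m F ((t.1.1 : Matrix _ _ F) *ᵥ v) = stdPlus m F v :=
      fun v => (Cfsg.Agent.Lib.Helper24.OConj.mem_iso_iff _ t.1).mp t.2 v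
    have hsq : (t.1.1 : Matrix _ _ F) * (t.1.1 : Matrix _ _ F) = 1 := by
      have := congrArg (fun x : ↥(Cfsg.isometryGroup F ⇑(stdPlus m F)) =>
        (x.1.1 : Matrix _ _ F)) htt
      exact this
    exact rank_le (stdPlus m F) (LinearEquiv.refl F _) hT h2 hiso hsq
  · intro s hs1 hsm
    obtain ⟨t, h1, h3, h4⟩ := exists_invol (stdPlus m F)
      (fun a : Fin s => stdE (F := F) (Fin.castLE hsm) a + stdF (Fin.castLE hsm) a)
      (fun a : Fin s => stdF (F := F) (Fin.castLE hsm) a) id (fun _ => rfl)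
      (by
        intro a b
        rw [polar_plus_eq_sf h2, sf_add_left, sf_add_right, sf_add_right, sf_E_E,
          sf_E_F _ (Fin.castLE_injective hsm), sf_F_E _ (Fin.castLE_injective hsm), sf_F_F]
        ring)
      (by
        intro a b
        rw [polar_plus_eq_sf h2, sf_add_right, sf_F_E _ (Fin.castLE_injective hsm), sf_F_F,
          add_zero])
      (by
        intro a
        rw [Qplus_EF, id, if_pos rfl]) h2
    refine ⟨t, h1, ?_, ?_⟩
    · rw [h3, Fintype.card_fin]
    · intro h
      exact (h4.mp h) ⟨0, hs1⟩ rfl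
  · intro k hk1 hkm
    obtain ⟨t, h1, h3, h4⟩ := exists_invol (stdPlus m F)
      (fun a : Fin k ⊕ Fin k => stdE (F := F) (Cfsg.Agent.S2593.jA k hkm) a)
      (fun a : Fin k ⊕ Fin k => stdF (F := F) (Cfsg.Agent.S2593.jA k hkm) a) Sum.swap
      (fun s => Sum.swap_swap s)
      (by
        intro a b
        rw [polar_plus_eq_sf h2, sf_E_E])
      (by
        intro a b
        rw [polar_plus_eq_sf h2, sf_F_E _ (Cfsg.Agent.S2593.jA_injective k hkm)])
      (by
        intro a
        rw [Qplus_E, if_neg]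
        cases a <;> simp) h2
    refine ⟨t, h1, ?_, ?_⟩
    · rw [h3, Fintype.card_sum, Fintype.card_fin]
      ring
    · apply h4.mpr
      intro s
      cases s <;> simp

end Cfsg.Agent.Lib.Helper24.OInv
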