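import Mathlib
import Cfsg.Agent.Lib.Helper24.OInvD
import Cfsg.Agent.Lib.Helper19.QuadMinusTS

set_option autoImplicit false
set_option linter.style.haveILetI false
set_option linter.unusedSimpArgs false
set_option linter.unusedSectionVars false

namespace Cfsg.Agent.Lib.Helper24.OInv

open Matrix QuadraticMap Cfsg
open Cfsg.Agent.Lib.Helper27.SympTransv Cfsg.Agent.Lib.Helper27.SpInvol
open Cfsg.Agent.Lib.Helper19.QuadStd

variable {F : Type*} [Field F] {n : ℕ}

/-- the coordinate change from the standard symplectic space to the elliptic space -/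
noncomputable def minusTL (a : F) : (Fin (n + 1) ⊕ Fin (n + 1) → F) →ₗ[F]
    ((Fin n ⊕ Fin n) ⊕ Fin 2 → F) where
  toFun u := Sum.elim (Sum.elim (fun i => u (Sum.inl i.castSucc)) (fun i => u (Sum.inr i.castSucc)))
    ![u (Sum.inl (Fin.last n)), a⁻¹ * u (Sum.inr (Fin.last n))]
  map_add' u v := by
    funext x
    rcases x with (i | i) | k
    · rfl
    · rfl
    · fin_cases k
      · rfl
      · simp [mul_add]
  map_smul' c u := by
    funext x
    rcases x with (i | i) | k
    · rfl
    · rfl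
    · fin_cases k
      · rfl
      · simp [mul_left_comm]

theorem minusTL_inl_inl (a : F) (u : Fin (n + 1) ⊕ Fin (n + 1) → F) (i : Fin n) :
    minusTL a u (Sum.inl (Sum.inl i)) = u (Sum.inl i.castSucc) := rfl

theorem minusTL_inl_inr (a : F) (u : Fin (n + 1) ⊕ Fin (n + 1) → F) (i : Fin n) :
    minusTL a u (Sum.inl (Sum.inr i)) = u (Sum.inr i.castSucc) := rfl

theorem minusTL_inr_zero (a : F) (u : Fin (n + 1) ⊕ Fin (n + 1) → F) :
    minusTL a u (Sum.inr 0) = u (Sum.inl (Fin.last n)) := rfl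

theorem minusTL_inr_one (a : F) (u : Fin (n + 1) ⊕ Fin (n + 1) → F) :
    minusTL a u (Sum.inr 1) = a⁻¹ * u (Sum.inr (Fin.last n)) := rfl

theorem minusTL_injective {a : F} (ha : a ≠ 0) : Function.Injective (minusTL (n := n) a) := by
  rw [injective_iff_map_eq_zero]
  intro u hu
  funext x
  rcases x with j | j
  · refine Fin.lastCases ?_ (fun i => ?_) j
    · have := congrFun hu (Sum.inr 0)
      rw [minusTL_inr_zero] at this
      exact this
    · have := congrFun hu (Sum.inl (Sum.inl i))
      rw [minusTL_inl_inl] at this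
      exact this
  · refine Fin.lastCases ?_ (fun i => ?_) j
    · have := congrFun hu (Sum.inr 1)
      rw [minusTL_inr_one] at this
      rcases mul_eq_zero.mp this with h | h
      · exact absurd (inv_eq_zero.mp h) ha
      · exact h
    · have := congrFun hu (Sum.inl (Sum.inr i))
      rw [minusTL_inl_inr] at this
      exact this

/-- the coordinate change as a linear equivalence -/
noncomputable def minusT {a : F} (ha : a ≠ 0) : (Fin (n + 1) ⊕ Fin (n + 1) → F) ≃ₗ[F]
    ((Fin n ⊕ Fin n) ⊕ Fin 2 → F) :=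
  LinearEquiv.ofInjectiveOfFinrankEq (minusTL a) (minusTL_injective ha) (by
    rw [Module.finrank_fintype_fun_eq_card, Module.finrank_fintype_fun_eq_card]
    simp only [Fintype.card_sum, Fintype.card_fin]
    ring)

theorem minusT_apply {a : F} (ha : a ≠ 0) (u : Fin (n + 1) ⊕ Fin (n + 1) → F) :
    minusT (n := n) ha u = minusTL a u := rfl

theorem polar_minusT (h2 : (2 : F) = 0) {a : F} (ha : a ≠ 0) (b : F)
    (u v : Fin (n + 1) ⊕ Fin (n + 1) → F) :
    polar ⇑(stdMinus n F a b) (minusT ha u) (minusT ha v) = sympForm (n + 1) F u v := by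
  rw [polar_stdMinus, sf_apply, Fin.sum_univ_castSucc, minusT_apply, minusT_apply]
  simp only [minusTL_inl_inl, minusTL_inl_inr, minusTL_inr_zero, minusTL_inr_one]
  have e1 : ∀ i : Fin n, u (Sum.inl i.castSucc) * v (Sum.inr i.castSucc) +
      v (Sum.inl i.castSucc) * u (Sum.inr i.castSucc) =
      u (Sum.inr i.castSucc) * v (Sum.inl i.castSucc) -
        u (Sum.inl i.castSucc) * v (Sum.inr i.castSucc) := by
    intro i
    linear_combination (u (Sum.inl i.castSucc) * v (Sum.inr i.castSucc)) * h2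
  rw [Finset.sum_congr rfl (fun i _ => e1 i)]
  congr 1
  have h3 : a * a⁻¹ = 1 := mul_inv_cancel₀ ha
  linear_combination (u (Sum.inl (Fin.last n)) * v (Sum.inl (Fin.last n)) +
    b * (a⁻¹ * u (Sum.inr (Fin.last n))) * (a⁻¹ * v (Sum.inr (Fin.last n))) +
    u (Sum.inl (Fin.last n)) * v (Sum.inr (Fin.last n))) * h2 +
    (u (Sum.inl (Fin.last n)) * v (Sum.inr (Fin.last n)) +
      u (Sum.inr (Fin.last n)) * v (Sum.inl (Fin.last n))) * h3

theorem Q_minusT {a : F} (ha : a ≠ 0) (b : F) (u : Fin (n + 1) ⊕ Fin (n + 1) → F) :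
    stdMinus n F a b (minusT ha u) = Cfsg.quadFormPlus (n + 1) F u +
      u (Sum.inl (Fin.last n)) ^ 2 + b * (a⁻¹ * u (Sum.inr (Fin.last n))) ^ 2 := by
  rw [stdMinus_apply, minusT_apply]
  unfold Cfsg.quadFormMinus Cfsg.quadFormPlus
  rw [Fin.sum_univ_castSucc]
  simp only [minusTL_inl_inl, minusTL_inl_inr, minusTL_inr_zero, minusTL_inr_one]
  have h3 : a * a⁻¹ = 1 := mul_inv_cancel₀ ha
  linear_combination (u (Sum.inl (Fin.last n)) * u (Sum.inr (Fin.last n))) * h3

end Cfsg.Agent.Lib.Helper24.OInv
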