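import Mathlib
import Cfsg.Agent.Lib.Helper24.OInvE

set_option autoImplicit false
set_option linter.style.haveILetI false
set_option linter.unusedSimpArgs false
set_option linter.unusedSectionVars false

namespace Cfsg.Agent.Lib.Helper24.OInv

open Matrix QuadraticMap Cfsg
open Cfsg.Agent.Lib.Helper27.SympTransv Cfsg.Agent.Lib.Helper27.SpInvol
open Cfsg.Agent.Lib.Helper19.QuadStd

variable {F : Type*} [Field F] {n : ℕ}

theorem a_ne_zero [Fintype F] [CharP F 2] {a b : F}
    (hab : ∀ z₁ z₂ : F, z₁ ^ 2 + a * z₁ * z₂ + b * z₂ ^ 2 = 0 → z₁ = 0 ∧ z₂ = 0) : a ≠ 0 := by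
  intro ha
  have h2 : (2 : F) = 0 := by
    have := CharP.cast_eq_zero F 2
    exact_mod_cast this
  obtain ⟨c, hc⟩ := exists_sqrt b
  have := hab c 1 (by rw [ha]; linear_combination hc + b * h2)
  exact one_ne_zero this.2

section evals

variable {m : ℕ} {σ : Type*} (j : σ → Fin m)

theorem stdE_inl (s : σ) (i : Fin m) :
    stdE (F := F) j s (Sum.inl i) = if i = j s then 1 else 0 := by
  unfold stdE
  rw [Pi.single_apply]
  simp only [Sum.inl.injEq]

theorem stdE_inr (s : σ) (i : Fin m) : stdE (F := F) j s (Sum.inr i) = 0 := by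
  unfold stdE
  rw [Pi.single_apply, if_neg]
  simp

theorem stdF_inl (s : σ) (i : Fin m) : stdF (F := F) j s (Sum.inl i) = 0 := by
  unfold stdF
  rw [Pi.single_apply, if_neg]
  simp

theorem stdF_inr (s : σ) (i : Fin m) :
    stdF (F := F) j s (Sum.inr i) = if i = j s then 1 else 0 := by
  unfold stdF
  rw [Pi.single_apply]
  simp only [Sum.inr.injEq]

end evals

/-- involution classes of `O⁻_{2n+2}(q)`, `q` even -/
theorem card_minus_invol_classes [Fintype F] [CharP F 2] (n : ℕ) (a b : F)
    (hab : ∀ z₁ z₂ : F, z₁ ^ 2 + a * z₁ * z₂ + b * z₂ ^ 2 = 0 → z₁ = 0 ∧ z₂ = 0) :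
    Nat.card {C : ConjClasses ↥(Cfsg.isometryGroup F ⇑(stdMinus n F a b)) //
      ∃ g : ↥(Cfsg.isometryGroup F ⇑(stdMinus n F a b)),
        ConjClasses.mk g = C ∧ orderOf g = 2} = (n + 1) + n / 2 := by
  classical
  have h2 : (2 : F) = 0 := by
    have := CharP.cast_eq_zero F 2
    exact_mod_cast this
  have ha := a_ne_zero hab
  have hT := polar_minusT (n := n) h2 ha b
  apply card_invol_classes (stdMinus n F a b) (stdMinus_nondeg n hab) (minusT ha) hT n
  · intro t htt halt
    have hU : Cfsg.Agent.Lib.Helper19.Parity.IsTS (stdMinus n F a b)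
        (LinearMap.range ((t.1.1 : Matrix _ _ F) - 1).mulVecLin) := by
      rintro _ ⟨v, rfl⟩
      rw [Matrix.mulVecLin_apply, Matrix.sub_mulVec, Matrix.one_mulVec]
      have : (t.1.1 : Matrix _ _ F) *ᵥ v - v = v + (t.1.1 : Matrix _ _ F) *ᵥ v := by
        have h3 : v + v = 0 := by rw [← two_smul F v, h2, zero_smul]
        have h4 : -v = v := neg_eq_of_add_eq_zero_left h3
        rw [sub_eq_add_neg, h4, add_comm]
      rw [this]
      exact halt v
    exact Cfsg.Agent.Lib.Helper19.OrthRefl.isTS_minus_finrank_le n hab _ hU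
  · intro s hs1 hsm
    obtain ⟨s₀, hs₀⟩ : ∃ s₀, s₀ = min s n := ⟨_, rfl⟩
    obtain ⟨c, hc⟩ : ∃ c, c = s - s₀ := ⟨_, rfl⟩
    have hs₀n : s₀ ≤ n := by omega
    have hc1 : c ≤ 1 := by omega
    have hsum : s₀ + c = s := by omega
    obtain ⟨j, hj⟩ : ∃ j : Fin s₀ ⊕ Fin c → Fin (n + 1),
        j = Sum.elim (fun i => (Fin.castLE hs₀n i).castSucc) (fun _ => Fin.last n) := ⟨_, rfl⟩
    have hjinj : Function.Injective j := by
      rw [hj]
      rintro (i | x) (i' | x') h
      · simp only [Sum.elim_inl] at h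
        have := Fin.castLE_injective hs₀n (Fin.castSucc_injective _ h)
        rw [this]
      · exfalso
        simp only [Sum.elim_inl, Sum.elim_inr] at h
        exact (Fin.castSucc_lt_last _).ne h
      · exfalso
        simp only [Sum.elim_inl, Sum.elim_inr] at h
        exact (Fin.castSucc_lt_last _).ne h.symm
      · have : x = x' := by
          apply Fin.ext
          have := x.2
          have := x'.2
          omega
        rw [this]
    have hjl : ∀ i, j (Sum.inl i) ≠ Fin.last n := by
      intro i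
      rw [hj]
      exact (Fin.castSucc_lt_last _).ne
    have hjr : ∀ x, j (Sum.inr x) = Fin.last n := by
      intro x
      rw [hj]
      rfl
    obtain ⟨X, hX⟩ : ∃ X : Fin s₀ ⊕ Fin c → (Fin (n + 1) ⊕ Fin (n + 1) → F),
        X = fun s => Sum.elim (fun i => stdE (F := F) j (Sum.inl i) + stdF j (Sum.inl i))
          (fun x => stdE (F := F) j (Sum.inr x)) s := ⟨_, rfl⟩
    have hXl : ∀ i, X (Sum.inl i) = stdE (F := F) j (Sum.inl i) + stdF j (Sum.inl i) := by
      intro i; rw [hX]; rfl
    have hXr : ∀ x, X (Sum.inr x) = stdE (F := F) j (Sum.inr x) := by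
      intro x; rw [hX]; rfl
    obtain ⟨t, h1, h3, h4⟩ := exists_invol (stdMinus n F a b)
      (fun s => minusT ha (X s)) (fun s => minusT ha (stdF (F := F) j s)) id (fun _ => rfl)
      (by
        intro s t
        rw [hT]
        rcases s with i | x <;> rcases t with i' | x'
        · rw [hXl, hXl, sf_add_left, sf_add_right, sf_add_right, sf_E_E,
            sf_E_F _ hjinj, sf_F_E _ hjinj, sf_F_F]
          ring
        · rw [hXl, hXr, sf_add_left, sf_E_E, sf_F_E _ hjinj, if_neg (by simp), add_zero]
        · rw [hXr, hXl, sf_add_right, sf_E_E, sf_E_F _ hjinj, if_neg (by simp), neg_zero,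
            add_zero]
        · rw [hXr, hXr, sf_E_E])
      (by
        intro s t
        rw [hT]
        rcases t with i' | x'
        · rw [hXl, sf_add_right, sf_F_E _ hjinj, sf_F_F, add_zero]
        · rw [hXr, sf_F_E _ hjinj])
      (by
        intro s
        rw [Q_minusT, id, if_pos rfl]
        rcases s with i | x
        · rw [hXl, ← stdPlus_apply, Qplus_EF]
          simp only [Pi.add_apply, stdE_inl, stdF_inl, stdE_inr, stdF_inr,
            if_neg (Ne.symm (hjl i))]
          ring
        · rw [hXr, ← stdPlus_apply, Qplus_E]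
          simp only [stdE_inl, stdE_inr, hjr, if_pos]
          ring) h2
    refine ⟨t, h1, ?_, ?_⟩
    · rw [h3, Fintype.card_sum, Fintype.card_fin, Fintype.card_fin]
      exact hsum
    · intro h
      have h5 := h4.mp h
      by_cases h0 : 0 < s₀
      · exact h5 (Sum.inl ⟨0, h0⟩) rfl
      · have hc0 : 0 < c := by omega
        exact h5 (Sum.inr ⟨0, hc0⟩) rfl
  · intro k hk1 hkn
    obtain ⟨j, hj⟩ : ∃ j : Fin k ⊕ Fin k → Fin (n + 1),
        j = fun s => (Cfsg.Agent.S2593.jA k hkn s).castSucc := ⟨_, rfl⟩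
    have hjinj : Function.Injective j := by
      rw [hj]
      intro s t h
      exact Cfsg.Agent.S2593.jA_injective k hkn (Fin.castSucc_injective _ h)
    have hjl : ∀ s, j s ≠ Fin.last n := by
      intro s
      rw [hj]
      exact (Fin.castSucc_lt_last _).ne
    obtain ⟨t, h1, h3, h4⟩ := exists_invol (stdMinus n F a b)
      (fun s => minusT ha (stdE (F := F) j s)) (fun s => minusT ha (stdF (F := F) j s))
      Sum.swap (fun s => Sum.swap_swap s)
      (by
        intro s t
        rw [hT, sf_E_E])
      (by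
        intro s t
        rw [hT, sf_F_E _ hjinj])
      (by
        intro s
        rw [Q_minusT, ← stdPlus_apply, Qplus_E]
        simp only [stdE_inl, stdE_inr, if_neg (Ne.symm (hjl s))]
        rw [if_neg]
        · ring
        · cases s <;> simp) h2
    refine ⟨t, h1, ?_, ?_⟩
    · rw [h3, Fintype.card_sum, Fintype.card_fin]
      ring
    · apply h4.mpr
      intro s
      cases s <;> simp

end Cfsg.Agent.Lib.Helper24.OInv
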