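import Mathlib
import Cfsg.Agent.Lib.Helper24.OInvC
import Cfsg.Agent.Lib.Helper19.OrthInvSplit

set_option autoImplicit false
set_option linter.style.haveILetI false
set_option linter.unusedSimpArgs false
set_option linter.unusedSectionVars false

namespace Cfsg.Agent.Lib.Helper24.OInv

open Matrix QuadraticMap Cfsg
open Cfsg.Agent.Lib.Helper27.SympTransv Cfsg.Agent.Lib.Helper27.SpInvol
open Cfsg.Agent.Lib.Helper19.OrthRefl Cfsg.Agent.Lib.Helper19.Parity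

/-- conjugacy inside a subgroup -/
theorem isConj_subgroup_iff {G : Type*} [Group G] (N : Subgroup G) (a b : ↥N) :
    IsConj a b ↔ ∃ c ∈ N, c * a.1 * c⁻¹ = b.1 := by
  rw [isConj_iff]
  constructor
  · rintro ⟨c, hc⟩
    refine ⟨c.1, c.2, ?_⟩
    have := congrArg Subtype.val hc
    simpa using this
  · rintro ⟨c, hcN, hc⟩
    refine ⟨⟨c, hcN⟩, ?_⟩
    apply Subtype.ext
    simpa using hc

/-- splitting of a class whose centralizer lies in an index-two subgroup -/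
theorem split_lemma {G : Type*} [Group G] (N : Subgroup G)
    (hmul : ∀ a b : G, a ∉ N → b ∉ N → a * b ∈ N)
    (t h₀ : G) (hct : ∀ c : G, c * t * c⁻¹ = t → c ∈ N) (h₀N : h₀ ∉ N) :
    (¬ ∃ c ∈ N, c * t * c⁻¹ = h₀ * t * h₀⁻¹) ∧
    (∀ s g : G, g * t * g⁻¹ = s →
      (∃ c ∈ N, c * t * c⁻¹ = s) ∨ (∃ c ∈ N, c * (h₀ * t * h₀⁻¹) * c⁻¹ = s)) := by
  constructor
  · rintro ⟨c, hcN, hc⟩
    have h1 : h₀⁻¹ * c ∈ N := by
      apply hct
      calc h₀⁻¹ * c * t * (h₀⁻¹ * c)⁻¹ = h₀⁻¹ * (c * t * c⁻¹) * h₀ := by group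
        _ = t := by rw [hc]; group
    apply h₀N
    have h3 : h₀ = c * (h₀⁻¹ * c)⁻¹ := by group
    rw [h3]
    exact N.mul_mem hcN (N.inv_mem h1)
  · intro s g hg
    by_cases hgN : g ∈ N
    · exact Or.inl ⟨g, hgN, hg⟩
    · right
      have h₀N' : h₀⁻¹ ∉ N := fun h => h₀N (by simpa using N.inv_mem h)
      refine ⟨g * h₀⁻¹, hmul g h₀⁻¹ hgN h₀N', ?_⟩
      rw [← hg]
      group

variable {F : Type*} [Field F] {ι : Type} [Fintype ι] [DecidableEq ι] {m : ℕ}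

/-- If `t` fixes a non-singular vector, then conjugacy of `t` in `O` gives conjugacy under `Ω`. -/
theorem conj_in_Omega_of_fixed' [Fintype F] (h2 : (2 : F) = 0) (Q : QuadraticForm F (ι → F))
    (hQ : (polarBilin Q).Nondegenerate)
    (hΩ : ∀ g : ↥(Cfsg.isometryGroup F ⇑Q), g ∈ Cfsg.Omega F ⇑Q ↔ dicksonChar h2 Q hQ g = 1)
    (t s g : ↥(Cfsg.isometryGroup F ⇑Q)) (hg : g * t * g⁻¹ = s) (w : ι → F) (hw : Q w ≠ 0)
    (htw : act t w = w) : ∃ g' ∈ Cfsg.Omega F ⇑Q, g' * t * g'⁻¹ = s := by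
  rcases Int.units_eq_one_or (dicksonChar h2 Q hQ g) with h | h
  · exact ⟨g, (hΩ g).2 h, hg⟩
  · refine ⟨g * refl Q w hw, (hΩ _).2 ?_, ?_⟩
    · rw [map_mul, h, dicksonChar_refl]; rfl
    · have hc := refl_comm_of_fixed Q t w hw htw
      rw [← hg]
      calc g * refl Q w hw * t * (g * refl Q w hw)⁻¹
          = g * (t * (t⁻¹ * (refl Q w hw * t * (refl Q w hw)⁻¹))) * g⁻¹ := by group
        _ = g * t * g⁻¹ := by
          have : t⁻¹ * (refl Q w hw * t * (refl Q w hw)⁻¹) = 1 := by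
            have h3 : refl Q w hw * t = t * refl Q w hw := (mul_inv_eq_iff_eq_mul.1 hc).symm
            rw [h3]; group
          rw [this, mul_one]

/-- no splitting unless `t` is alternating of full rank -/
theorem conj_in_Omega_of_not_full [Fintype F] (h2 : (2 : F) = 0) (Q : QuadraticForm F (ι → F))
    (hQ : (polarBilin Q).Nondegenerate)
    (hΩ : ∀ g : ↥(Cfsg.isometryGroup F ⇑Q), g ∈ Cfsg.Omega F ⇑Q ↔ dicksonChar h2 Q hQ g = 1)
    (hV : Fintype.card ι = 2 * m)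
    (t s g : ↥(Cfsg.isometryGroup F ⇑Q)) (ht2 : t * t = 1) (hg : g * t * g⁻¹ = s)
    (hnot : ¬ (((t.1.1 : Matrix ι ι F) - 1).rank = m ∧
      ∀ v, Q (v + (t.1.1 : Matrix ι ι F) *ᵥ v) = 0)) :
    ∃ g' ∈ Cfsg.Omega F ⇑Q, g' * t * g'⁻¹ = s := by
  have hV' : Module.finrank F (ι → F) = 2 * m := by
    rw [Module.finrank_fintype_fun_eq_card, hV]
  have hsum : ∀ v : ι → F, act t v - v = v + (t.1.1 : Matrix ι ι F) *ᵥ v := by
    intro v
    have h0 : (2 : F) • v = 0 := by rw [h2, zero_smul]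
    rw [two_smul] at h0
    change act t v - v = v + act t v
    have : act t v - v = v + act t v - (v + v) := by abel
    rw [this, h0, sub_zero]
  obtain ⟨w, hw, htw⟩ := exists_fixed_nonsing h2 Q hQ t ht2 (by
    by_cases hA : ∃ v, Q (act t v - v) ≠ 0
    · exact Or.inl hA
    · right
      push Not at hA
      have hTS := isTS_commSpace Q t hA
      intro hTS'
      apply hnot
      refine ⟨?_, fun v => by rw [← hsum]; exact hA v⟩
      have h1 := hTS.finrank_le hQ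
      have h3 := hTS'.finrank_le hQ
      rw [finrank_orth hQ, hV'] at h3
      rw [hV'] at h1
      rw [← finrank_commSpace]
      omega)
  exact conj_in_Omega_of_fixed' h2 Q hQ hΩ t s g hg w hw htw

/-- counting the classes of involutions of `Ω` in characteristic two -/
theorem card_omega_invol_classes [Fintype F] [CharP F 2] (h2 : (2 : F) = 0)
    (Q : QuadraticForm F (ι → F)) (hQ : (polarBilin Q).Nondegenerate)
    (T : (Fin m ⊕ Fin m → F) ≃ₗ[F] (ι → F))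
    (hT : ∀ u v, polar ⇑Q (T u) (T v) = sympForm m F u v)
    (hm : 1 ≤ m)
    (hΩ : ∀ g : ↥(Cfsg.isometryGroup F ⇑Q), g ∈ Cfsg.Omega F ⇑Q ↔ dicksonChar h2 Q hQ g = 1)
    (bound : ℕ)
    (hexcl : ∀ t : ↥(Cfsg.isometryGroup F ⇑Q), t * t = 1 →
      (∀ v, Q (v + (t.1.1 : Matrix ι ι F) *ᵥ v) = 0) →
      ((t.1.1 : Matrix ι ι F) - 1).rank ≤ bound)
    (repO : ∀ s, 1 ≤ s → s ≤ m → ∃ t : ↥(Cfsg.isometryGroup F ⇑Q), t * t = 1 ∧
      ((t.1.1 : Matrix ι ι F) - 1).rank = s ∧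
      ¬ ∀ v, Q (v + (t.1.1 : Matrix ι ι F) *ᵥ v) = 0)
    (repA : ∀ k, 1 ≤ k → 2 * k ≤ bound → ∃ t : ↥(Cfsg.isometryGroup F ⇑Q), t * t = 1 ∧
      ((t.1.1 : Matrix ι ι F) - 1).rank = 2 * k ∧
      ∀ v, Q (v + (t.1.1 : Matrix ι ι F) *ᵥ v) = 0)
    (hcent : ∀ t : ↥(Cfsg.isometryGroup F ⇑Q), t * t = 1 →
      (∀ v, Q (v + (t.1.1 : Matrix ι ι F) *ᵥ v) = 0) →
      ((t.1.1 : Matrix ι ι F) - 1).rank = m →
      ∀ c : ↥(Cfsg.isometryGroup F ⇑Q), c * t * c⁻¹ = t → c ∈ Cfsg.Omega F ⇑Q) :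
    Nat.card {C : ConjClasses ↥(Cfsg.Omega F ⇑Q) //
      ∃ g : ↥(Cfsg.Omega F ⇑Q), ConjClasses.mk g = C ∧ orderOf g = 2} =
      m / 2 + bound / 2 + (if Even m ∧ m ≤ bound then 1 else 0) := by
  classical
  have hiso : ∀ (g : ↥(Cfsg.isometryGroup F ⇑Q)) v, Q ((g.1.1 : Matrix ι ι F) *ᵥ v) = Q v :=
    fun g v => (Cfsg.Agent.Lib.Helper24.OConj.mem_iso_iff _ g.1).mp g.2 v
  have hsq : ∀ (g : ↥(Cfsg.isometryGroup F ⇑Q)), g * g = 1 →
      (g.1.1 : Matrix ι ι F) * (g.1.1 : Matrix ι ι F) = 1 := by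
    intro g hg
    have := congrArg (fun x : ↥(Cfsg.isometryGroup F ⇑Q) => (x.1.1 : Matrix ι ι F)) hg
    exact this
  have hcard : Fintype.card ι = 2 * m := by
    have := T.finrank_eq
    rw [Module.finrank_fintype_fun_eq_card, Module.finrank_fintype_fun_eq_card,
      Fintype.card_sum, Fintype.card_fin] at this
    omega
  have hmemΩ : ∀ g : ↥(Cfsg.isometryGroup F ⇑Q), g ∈ Cfsg.Omega F ⇑Q ↔
      Even ((g.1.1 : Matrix ι ι F) - 1).rank := by
    intro g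
    rw [hΩ, dicksonChar_eq_rank, neg_one_pow_eq_one_iff_even']
  have hmul : ∀ a b : ↥(Cfsg.isometryGroup F ⇑Q), a ∉ Cfsg.Omega F ⇑Q → b ∉ Cfsg.Omega F ⇑Q →
      a * b ∈ Cfsg.Omega F ⇑Q := by
    intro a b ha hb
    rw [hΩ] at ha hb ⊢
    rcases Int.units_eq_one_or (dicksonChar h2 Q hQ a) with h | h
    · exact absurd h ha
    rcases Int.units_eq_one_or (dicksonChar h2 Q hQ b) with h' | h'
    · exact absurd h' hb
    rw [map_mul, h, h']; rfl
  obtain ⟨h₀, -, hh₀r, -⟩ := repO 1 le_rfl hm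
  have hh₀ : h₀ ∉ Cfsg.Omega F ⇑Q := by
    rw [hmemΩ, hh₀r]
    decide
  have hO : ∀ i : Fin (m / 2), ∃ t : ↥(Cfsg.isometryGroup F ⇑Q), t * t = 1 ∧
      ((t.1.1 : Matrix ι ι F) - 1).rank = 2 * (i + 1) ∧
      ¬ ∀ v, Q (v + (t.1.1 : Matrix ι ι F) *ᵥ v) = 0 :=
    fun i => repO (2 * (i + 1)) (by omega) (by have := i.2; omega)
  have hA : ∀ k : Fin (bound / 2), ∃ t : ↥(Cfsg.isometryGroup F ⇑Q), t * t = 1 ∧
      ((t.1.1 : Matrix ι ι F) - 1).rank = 2 * (k + 1) ∧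
      ∀ v, Q (v + (t.1.1 : Matrix ι ι F) *ᵥ v) = 0 :=
    fun k => repA (k + 1) (by omega) (by have := k.2; omega)
  choose gO hgO1 hgO2 hgO3 using hO
  choose gA hgA1 hgA2 hgA3 using hA
  have hX : (Even m ∧ m ≤ bound) → ∃ gX : ↥(Cfsg.isometryGroup F ⇑Q), gX * gX = 1 ∧
      ((gX.1.1 : Matrix ι ι F) - 1).rank = m ∧
      (∀ v, Q (v + (gX.1.1 : Matrix ι ι F) *ᵥ v) = 0) ∧
      (∀ k, ¬ ∃ c ∈ Cfsg.Omega F ⇑Q, c * gA k * c⁻¹ = gX) ∧
      (∀ s : ↥(Cfsg.isometryGroup F ⇑Q), s * s = 1 →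
        (∀ v, Q (v + (s.1.1 : Matrix ι ι F) *ᵥ v) = 0) →
        ((s.1.1 : Matrix ι ι F) - 1).rank = m →
        (∃ k, ∃ c ∈ Cfsg.Omega F ⇑Q, c * gA k * c⁻¹ = s) ∨
        (∃ c ∈ Cfsg.Omega F ⇑Q, c * gX * c⁻¹ = s)) := by
    rintro ⟨hme, hmb⟩
    obtain ⟨r, hr⟩ := hme
    have hk₀ : r - 1 < bound / 2 := by omega
    obtain ⟨k₀, hk₀'⟩ : ∃ k₀ : Fin (bound / 2), (k₀ : ℕ) = r - 1 := ⟨⟨r - 1, hk₀⟩, rfl⟩
    have hrk₀ : (((gA k₀).1.1 : Matrix ι ι F) - 1).rank = m := by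
      rw [hgA2, hk₀']; omega
    obtain ⟨hs1, hs2⟩ := split_lemma (Cfsg.Omega F ⇑Q) hmul (gA k₀) h₀
      (hcent (gA k₀) (hgA1 k₀) (hgA3 k₀) hrk₀) hh₀
    have hc0 : IsConj (gA k₀) (h₀ * gA k₀ * h₀⁻¹) := isConj_iff.2 ⟨h₀, rfl⟩
    refine ⟨h₀ * gA k₀ * h₀⁻¹, ?_, ?_, ?_, ?_, ?_⟩
    · calc h₀ * gA k₀ * h₀⁻¹ * (h₀ * gA k₀ * h₀⁻¹) = h₀ * (gA k₀ * gA k₀) * h₀⁻¹ := by group
        _ = 1 := by rw [hgA1]; group
    · rw [← rank_of_isConj _ _ hc0]; exact hrk₀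
    · exact (alt_iff_of_isConj _ _ hc0).mp (hgA3 k₀)
    · rintro k ⟨c, hcΩ, hc⟩
      have hconj : IsConj (gA k) (h₀ * gA k₀ * h₀⁻¹) := isConj_iff.2 ⟨c, hc⟩
      have h3 := rank_of_isConj _ _ hconj
      rw [← rank_of_isConj _ _ hc0, hgA2, hgA2] at h3
      have : k = k₀ := Fin.ext (by omega)
      subst this
      exact hs1 ⟨c, hcΩ, hc⟩
    · intro s hss halt hrk
      have hconj : IsConj (gA k₀) s := conj_of_invariants Q hQ T hT _ _ (hgA1 k₀) hss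
        (by rw [hrk₀, hrk]) ⟨fun _ => halt, fun _ => hgA3 k₀⟩
      obtain ⟨g, hg⟩ := isConj_iff.1 hconj
      rcases hs2 s g hg with h | h
      · exact Or.inl ⟨k₀, h⟩
      · exact Or.inr h
  choose gX hgX1 hgX2 hgX3 hgX4 hgX5 using hX
  have hOmem : ∀ i, gO i ∈ Cfsg.Omega F ⇑Q := fun i => by
    rw [hmemΩ, hgO2]; exact even_two_mul _
  have hAmem : ∀ k, gA k ∈ Cfsg.Omega F ⇑Q := fun k => by
    rw [hmemΩ, hgA2]; exact even_two_mul _
  have hXmem : ∀ x, gX x ∈ Cfsg.Omega F ⇑Q := fun x => by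
    rw [hmemΩ, hgX2]; exact x.1
  have hord : ∀ (g : ↥(Cfsg.isometryGroup F ⇑Q)) (hg : g ∈ Cfsg.Omega F ⇑Q),
      g * g = 1 → 1 ≤ ((g.1.1 : Matrix ι ι F) - 1).rank →
      orderOf (⟨g, hg⟩ : ↥(Cfsg.Omega F ⇑Q)) = 2 := by
    intro g hg hgg hr
    rw [← Subgroup.orderOf_coe]
    exact order_of_sq hgg hr
  obtain ⟨Φ, hΦO, hΦA, hΦX⟩ : ∃ Φ : Fin (m / 2) ⊕ (Fin (bound / 2) ⊕ PLift (Even m ∧ m ≤ bound)) →
      {C : ConjClasses ↥(Cfsg.Omega F ⇑Q) //
        ∃ g : ↥(Cfsg.Omega F ⇑Q), ConjClasses.mk g = C ∧ orderOf g = 2},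
      (∀ i, (Φ (Sum.inl i)).1 = ConjClasses.mk ⟨gO i, hOmem i⟩) ∧
      (∀ k, (Φ (Sum.inr (Sum.inl k))).1 = ConjClasses.mk ⟨gA k, hAmem k⟩) ∧
      (∀ x, (Φ (Sum.inr (Sum.inr x))).1 = ConjClasses.mk ⟨gX x.down, hXmem x.down⟩) :=
    ⟨Sum.elim (fun i => ⟨ConjClasses.mk ⟨gO i, hOmem i⟩, ⟨gO i, hOmem i⟩, rfl,
        hord _ _ (hgO1 i) (by rw [hgO2]; omega)⟩)
      (Sum.elim (fun k => ⟨ConjClasses.mk ⟨gA k, hAmem k⟩, ⟨gA k, hAmem k⟩, rfl,
        hord _ _ (hgA1 k) (by rw [hgA2]; omega)⟩)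
      (fun x => ⟨ConjClasses.mk ⟨gX x.down, hXmem x.down⟩, ⟨gX x.down, hXmem x.down⟩, rfl,
        hord _ _ (hgX1 x.down) (by rw [hgX2]; omega)⟩)),
      fun i => rfl, fun k => rfl, fun x => rfl⟩
  -- conjugacy in Ω implies conjugacy in O
  have hup : ∀ (a b : ↥(Cfsg.isometryGroup F ⇑Q)) (ha : a ∈ Cfsg.Omega F ⇑Q)
      (hb : b ∈ Cfsg.Omega F ⇑Q),
      (ConjClasses.mk (⟨a, ha⟩ : ↥(Cfsg.Omega F ⇑Q)) = ConjClasses.mk ⟨b, hb⟩) →
      ∃ c ∈ Cfsg.Omega F ⇑Q, c * a * c⁻¹ = b := by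
    intro a b ha hb h
    rw [ConjClasses.mk_eq_mk_iff_isConj, isConj_subgroup_iff] at h
    exact h
  have hup' : ∀ (a b : ↥(Cfsg.isometryGroup F ⇑Q)), (∃ c ∈ Cfsg.Omega F ⇑Q, c * a * c⁻¹ = b) →
      IsConj a b := by
    rintro a b ⟨c, -, hc⟩
    exact isConj_iff.2 ⟨c, hc⟩
  have hbij : Function.Bijective Φ := by
    constructor
    · rintro (i | k | x) (i' | k' | x') h
      · have h1 := hup' _ _ (hup (gO i) (gO i') (hOmem i) (hOmem i') (by rw [← hΦO, ← hΦO, h]))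
        have h3 := rank_of_isConj _ _ h1
        rw [hgO2, hgO2] at h3
        have : (i : ℕ) = i' := by omega
        rw [Fin.ext this]
      · exfalso
        have h1 := hup' _ _ (hup (gO i) (gA k') (hOmem i) (hAmem k') (by rw [← hΦO, ← hΦA, h]))
        exact hgO3 i ((alt_iff_of_isConj _ _ h1).mpr (hgA3 k'))
      · exfalso
        have h1 := hup' _ _ (hup (gO i) (gX x'.down) (hOmem i) (hXmem x'.down)
          (by rw [← hΦO, ← hΦX, h]))
        exact hgO3 i ((alt_iff_of_isConj _ _ h1).mpr (hgX3 x'.down))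
      · exfalso
        have h1 := hup' _ _ (hup (gA k) (gO i') (hAmem k) (hOmem i') (by rw [← hΦA, ← hΦO, h]))
        exact hgO3 i' ((alt_iff_of_isConj _ _ h1).mp (hgA3 k))
      · have h1 := hup' _ _ (hup (gA k) (gA k') (hAmem k) (hAmem k') (by rw [← hΦA, ← hΦA, h]))
        have h3 := rank_of_isConj _ _ h1
        rw [hgA2, hgA2] at h3
        have : (k : ℕ) = k' := by omega
        rw [Fin.ext this]
      · exfalso
        exact hgX4 x'.down k (hup (gA k) (gX x'.down) (hAmem k) (hXmem x'.down)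
          (by rw [← hΦA, ← hΦX, h]))
      · exfalso
        have h1 := hup' _ _ (hup (gX x.down) (gO i') (hXmem x.down) (hOmem i')
          (by rw [← hΦX, ← hΦO, h]))
        exact hgO3 i' ((alt_iff_of_isConj _ _ h1).mp (hgX3 x.down))
      · exfalso
        exact hgX4 x.down k' (hup (gA k') (gX x.down) (hAmem k') (hXmem x.down)
          (by rw [← hΦA, ← hΦX, h]))
      · have : x = x' := Subsingleton.elim _ _
        rw [this]
    · rintro ⟨C, g, rfl, hg⟩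
      have hg' : orderOf g.1 = 2 := by rw [Subgroup.orderOf_coe]; exact hg
      have hgg := sq_of_order hg'
      have hr1 := rank_pos hg'
      have hr2 := rank_le Q T hT h2 (hiso g.1) (hsq g.1 hgg)
      obtain ⟨k, hk⟩ := (hmemΩ g.1).mp g.2
      have hdown : ∀ (a : ↥(Cfsg.isometryGroup F ⇑Q)) (ha : a ∈ Cfsg.Omega F ⇑Q),
          (∃ c ∈ Cfsg.Omega F ⇑Q, c * a * c⁻¹ = g.1) →
          ConjClasses.mk (⟨a, ha⟩ : ↥(Cfsg.Omega F ⇑Q)) = ConjClasses.mk g := by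
        intro a ha h
        rw [ConjClasses.mk_eq_mk_iff_isConj, isConj_subgroup_iff]
        exact h
      by_cases halt : ∀ v, Q (v + (g.1.1.1 : Matrix ι ι F) *ᵥ v) = 0
      · have hb := hexcl g.1 hgg halt
        by_cases hfull : ((g.1.1.1 : Matrix ι ι F) - 1).rank = m
        · have hx : Even m ∧ m ≤ bound := ⟨⟨k, by omega⟩, by omega⟩
          rcases hgX5 hx g.1 hgg halt hfull with ⟨k', h⟩ | h
          · refine ⟨Sum.inr (Sum.inl k'), ?_⟩
            apply Subtype.ext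
            rw [hΦA]
            exact hdown _ _ h
          · refine ⟨Sum.inr (Sum.inr ⟨hx⟩), ?_⟩
            apply Subtype.ext
            rw [hΦX]
            exact hdown _ _ h
        · refine ⟨Sum.inr (Sum.inl ⟨k - 1, by omega⟩), ?_⟩
          apply Subtype.ext
          rw [hΦA]
          apply hdown
          have hconj : IsConj (gA ⟨k - 1, by omega⟩) g.1 := by
            apply conj_of_invariants Q hQ T hT _ _ (hgA1 _) hgg
            · rw [hgA2, hk]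
              show 2 * (k - 1 + 1) = k + k
              omega
            · exact ⟨fun _ => halt, fun _ => hgA3 _⟩
          obtain ⟨c, hc⟩ := isConj_iff.1 hconj
          apply conj_in_Omega_of_not_full h2 Q hQ hΩ hcard _ _ c (hgA1 _) hc
          rintro ⟨h5, -⟩
          rw [hgA2] at h5
          apply hfull
          rw [hk]
          simp only at h5
          omega
      · refine ⟨Sum.inl ⟨k - 1, by omega⟩, ?_⟩
        apply Subtype.ext
        rw [hΦO]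
        apply hdown
        have hconj : IsConj (gO ⟨k - 1, by omega⟩) g.1 := by
          apply conj_of_invariants Q hQ T hT _ _ (hgO1 _) hgg
          · rw [hgO2, hk]
            show 2 * (k - 1 + 1) = k + k
            omega
          · exact ⟨fun h => absurd h (hgO3 _), fun h => absurd h halt⟩
        obtain ⟨c, hc⟩ := isConj_iff.1 hconj
        apply conj_in_Omega_of_not_full h2 Q hQ hΩ hcard _ _ c (hgO1 _) hc
        rintro ⟨-, h5⟩
        exact hgO3 _ h5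
  rw [← Nat.card_congr (Equiv.ofBijective Φ hbij), Nat.card_eq_fintype_card, Fintype.card_sum,
    Fintype.card_sum, Fintype.card_fin, Fintype.card_fin, add_assoc]
  congr 2
  by_cases hP : Even m ∧ m ≤ bound
  · rw [if_pos hP]
    haveI : Unique (PLift (Even m ∧ m ≤ bound)) := ⟨⟨⟨hP⟩⟩, fun _ => Subsingleton.elim _ _⟩
    exact Fintype.card_unique
  · rw [if_neg hP]
    haveI : IsEmpty (PLift (Even m ∧ m ≤ bound)) := ⟨fun x => hP x.down⟩
    exact Fintype.card_eq_zero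

end Cfsg.Agent.Lib.Helper24.OInv
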