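import Mathlib
import Cfsg.Agent.Lib.Helper24.OInvG
import Cfsg.Agent.Lib.Helper24.OInvF
import Cfsg.Agent.Lib.Helper19.OrthOmega2b

set_option autoImplicit false
set_option linter.style.haveILetI false
set_option linter.unusedSimpArgs false
set_option linter.unusedSectionVars false

namespace Cfsg.Agent.Lib.Helper24.OInv

open Matrix QuadraticMap Cfsg
open Cfsg.Agent.Lib.Helper27.SympTransv Cfsg.Agent.Lib.Helper27.SpInvol
open Cfsg.Agent.Lib.Helper19.QuadStd
open Cfsg.Agent.Lib.Helper19.OrthRefl Cfsg.Agent.Lib.Helper19.Parity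

variable {F : Type*} [Field F]

theorem plus_hT (h2 : (2 : F) = 0) (m : ℕ) : ∀ u v, polar ⇑(stdPlus m F)
    ((LinearEquiv.refl F (Fin m ⊕ Fin m → F)) u) ((LinearEquiv.refl F (Fin m ⊕ Fin m → F)) v) =
    sympForm m F u v := fun u v => polar_plus_eq_sf h2 u v

theorem plus_hexcl (h2 : (2 : F) = 0) (m : ℕ) :
    ∀ t : ↥(Cfsg.isometryGroup F ⇑(stdPlus m F)), t * t = 1 →
      (∀ v, stdPlus m F (v + (t.1.1 : Matrix _ _ F) *ᵥ v) = 0) →
      ((t.1.1 : Matrix _ _ F) - 1).rank ≤ m := by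
  intro t htt _
  have hiso : ∀ v, stdPlus m F ((t.1.1 : Matrix _ _ F) *ᵥ v) = stdPlus m F v :=
    fun v => (Cfsg.Agent.Lib.Helper24.OConj.mem_iso_iff _ t.1).mp t.2 v
  have hsq : (t.1.1 : Matrix _ _ F) * (t.1.1 : Matrix _ _ F) = 1 := by
    have := congrArg (fun x : ↥(Cfsg.isometryGroup F ⇑(stdPlus m F)) =>
      (x.1.1 : Matrix _ _ F)) htt
    exact this
  exact rank_le (stdPlus m F) (LinearEquiv.refl F _) (plus_hT h2 m) h2 hiso hsq

theorem plus_repO (h2 : (2 : F) = 0) (m : ℕ) :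
    ∀ s, 1 ≤ s → s ≤ m → ∃ t : ↥(Cfsg.isometryGroup F ⇑(stdPlus m F)), t * t = 1 ∧
      ((t.1.1 : Matrix _ _ F) - 1).rank = s ∧
      ¬ ∀ v, stdPlus m F (v + (t.1.1 : Matrix _ _ F) *ᵥ v) = 0 := by
  classical
  intro s hs1 hsm
  obtain ⟨t, h1, h3, h4⟩ := exists_invol (stdPlus m F)
    (fun a : Fin s => stdE (F := F) (Fin.castLE hsm) a + stdF (Fin.castLE hsm) a)
    (fun a : Fin s => stdF (F := F) (Fin.castLE hsm) a) id (fun _ => rfl)
    (by
      intro a b
      rw [polar_plus_eq_sf h2, sf_add_left, sf_add_right, sf_add_right, sf_E_E,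
        sf_E_F _ (Fin.castLE_injective hsm), sf_F_E _ (Fin.castLE_injective hsm), sf_F_F]
      ring)
    (by
      intro a b
      rw [polar_plus_eq_sf h2, sf_add_right, sf_F_E _ (Fin.castLE_injective hsm), sf_F_F,
        add_zero])
    (by
      intro a
      rw [Qplus_EF, id, if_pos rfl]) h2
  refine ⟨t, h1, ?_, ?_⟩
  · rw [h3, Fintype.card_fin]
  · intro h
    exact (h4.mp h) ⟨0, hs1⟩ rfl

theorem plus_repA (h2 : (2 : F) = 0) (m : ℕ) :
    ∀ k, 1 ≤ k → 2 * k ≤ m → ∃ t : ↥(Cfsg.isometryGroup F ⇑(stdPlus m F)), t * t = 1 ∧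
      ((t.1.1 : Matrix _ _ F) - 1).rank = 2 * k ∧
      ∀ v, stdPlus m F (v + (t.1.1 : Matrix _ _ F) *ᵥ v) = 0 := by
  classical
  intro k hk1 hkm
  obtain ⟨t, h1, h3, h4⟩ := exists_invol (stdPlus m F)
    (fun a : Fin k ⊕ Fin k => stdE (F := F) (Cfsg.Agent.S2593.jA k hkm) a)
    (fun a : Fin k ⊕ Fin k => stdF (F := F) (Cfsg.Agent.S2593.jA k hkm) a) Sum.swap
    (fun s => Sum.swap_swap s)
    (by
      intro a b
      rw [polar_plus_eq_sf h2, sf_E_E])
    (by
      intro a b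
      rw [polar_plus_eq_sf h2, sf_F_E _ (Cfsg.Agent.S2593.jA_injective k hkm)])
    (by
      intro a
      rw [Qplus_E, if_neg]
      cases a <;> simp) h2
  refine ⟨t, h1, ?_, ?_⟩
  · rw [h3, Fintype.card_sum, Fintype.card_fin]
    ring
  · apply h4.mpr
    intro s
    cases s <;> simp

/-- involution classes of `Ω⁺_{2m}(q)`, `q` even -/
theorem card_omega_plus_invol_classes [Fintype F] [CharP F 2] (m : ℕ) (hm : 1 ≤ m)
    (h : Fintype.card F ≠ 2 ∨ m ≠ 2) :
    Nat.card {C : ConjClasses ↥(Cfsg.Omega F ⇑(stdPlus m F)) //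
      ∃ g : ↥(Cfsg.Omega F ⇑(stdPlus m F)), ConjClasses.mk g = C ∧ orderOf g = 2} =
      2 * (m / 2) + (if Even m then 1 else 0) := by
  classical
  have h2 : (2 : F) = 0 := by
    have := CharP.cast_eq_zero F 2
    exact_mod_cast this
  have hex : Fintype.card F ≠ 2 ∨ Fintype.card (Fin m ⊕ Fin m) ≠ 4 := by
    rcases h with h | h
    · exact Or.inl h
    · right
      rw [Fintype.card_sum, Fintype.card_fin]
      omega
  have hV : Module.finrank F (Fin m ⊕ Fin m → F) = 2 * m := by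
    rw [Module.finrank_fintype_fun_eq_card, Fintype.card_sum, Fintype.card_fin]; ring
  have hQ := stdPlus_nondeg (F := F) m
  rw [card_omega_invol_classes h2 (stdPlus m F) hQ (LinearEquiv.refl F _)
    (plus_hT h2 m) hm (mem_Omega_iff_c2 h2 (stdPlus m F) hQ hex) m
    (plus_hexcl h2 m) (plus_repO h2 m) (plus_repA h2 m)]
  · have : (Even m ∧ m ≤ m) ↔ Even m := ⟨fun h => h.1, fun h => ⟨h, le_rfl⟩⟩
    simp only [this]
    ring
  · intro t htt halt hrank c hc
    have hsum : ∀ v : Fin m ⊕ Fin m → F, act t v - v = v + (t.1.1 : Matrix _ _ F) *ᵥ v := by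
      intro v
      have h0 : (2 : F) • v = 0 := by rw [h2, zero_smul]
      rw [two_smul] at h0
      change act t v - v = v + act t v
      have : act t v - v = v + act t v - (v + v) := by abel
      rw [this, h0, sub_zero]
    have hA : ∀ v, stdPlus m F (act t v - v) = 0 := fun v => by rw [hsum]; exact halt v
    have hTS := isTS_commSpace (stdPlus m F) t hA
    have hfin : Module.finrank F (commSpace t) = m := by rw [finrank_commSpace]; exact hrank
    rw [mem_Omega_iff_c2 h2 (stdPlus m F) hQ hex,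
      ← parityChar_eq_dicksonChar h2 (stdPlus m F) hQ hex hV _ hTS hfin,
      parityChar_eq_one_iff, commSpace_conj t t c hc, inf_idem, hfin, Nat.sub_self]
    exact Even.zero

end Cfsg.Agent.Lib.Helper24.OInv
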