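import Mathlib
import Cfsg.Agent.Lib.Helper24.OInvH

set_option autoImplicit false
set_option linter.style.haveILetI false
set_option linter.unusedSimpArgs false
set_option linter.unusedSectionVars false

namespace Cfsg.Agent.Lib.Helper24.OInv

open Matrix QuadraticMap Cfsg
open Cfsg.Agent.Lib.Helper27.SympTransv Cfsg.Agent.Lib.Helper27.SpInvol
open Cfsg.Agent.Lib.Helper19.QuadStd
open Cfsg.Agent.Lib.Helper19.OrthRefl Cfsg.Agent.Lib.Helper19.Parity

variable {F : Type*} [Field F]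

theorem minus_hexcl [Fintype F] (h2 : (2 : F) = 0) (n : ℕ) (a b : F)
    (hab : ∀ z₁ z₂ : F, z₁ ^ 2 + a * z₁ * z₂ + b * z₂ ^ 2 = 0 → z₁ = 0 ∧ z₂ = 0) :
    ∀ t : ↥(Cfsg.isometryGroup F ⇑(stdMinus n F a b)), t * t = 1 →
      (∀ v, stdMinus n F a b (v + (t.1.1 : Matrix _ _ F) *ᵥ v) = 0) →
      ((t.1.1 : Matrix _ _ F) - 1).rank ≤ n := by
  intro t htt halt
  have hU : Cfsg.Agent.Lib.Helper19.Parity.IsTS (stdMinus n F a b)
      (LinearMap.range ((t.1.1 : Matrix _ _ F) - 1).mulVecLin) := by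
    rintro _ ⟨v, rfl⟩
    rw [Matrix.mulVecLin_apply, Matrix.sub_mulVec, Matrix.one_mulVec]
    have : (t.1.1 : Matrix _ _ F) *ᵥ v - v = v + (t.1.1 : Matrix _ _ F) *ᵥ v := by
      have h3 : v + v = 0 := by rw [← two_smul F v, h2, zero_smul]
      have h4 : -v = v := neg_eq_of_add_eq_zero_left h3
      rw [sub_eq_add_neg, h4, add_comm]
    rw [this]
    exact halt v
  exact Cfsg.Agent.Lib.Helper19.OrthRefl.isTS_minus_finrank_le n hab _ hU

theorem minus_repO [Fintype F] (h2 : (2 : F) = 0) (n : ℕ) (a b : F) (ha : a ≠ 0) :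
    ∀ s, 1 ≤ s → s ≤ n + 1 → ∃ t : ↥(Cfsg.isometryGroup F ⇑(stdMinus n F a b)), t * t = 1 ∧
      ((t.1.1 : Matrix _ _ F) - 1).rank = s ∧
      ¬ ∀ v, stdMinus n F a b (v + (t.1.1 : Matrix _ _ F) *ᵥ v) = 0 := by
  classical
  have hT := polar_minusT (n := n) h2 ha b
  intro s hs1 hsm
  obtain ⟨s₀, hs₀⟩ : ∃ s₀, s₀ = min s n := ⟨_, rfl⟩
  obtain ⟨c, hc⟩ : ∃ c, c = s - s₀ := ⟨_, rfl⟩
  have hs₀n : s₀ ≤ n := by omega
  have hc1 : c ≤ 1 := by omega
  have hsum : s₀ + c = s := by omega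
  obtain ⟨j, hj⟩ : ∃ j : Fin s₀ ⊕ Fin c → Fin (n + 1),
      j = Sum.elim (fun i => (Fin.castLE hs₀n i).castSucc) (fun _ => Fin.last n) := ⟨_, rfl⟩
  have hjinj : Function.Injective j := by
    rw [hj]
    rintro (i | x) (i' | x') h
    · simp only [Sum.elim_inl] at h
      have := Fin.castLE_injective hs₀n (Fin.castSucc_injective _ h)
      rw [this]
    · exfalso
      simp only [Sum.elim_inl, Sum.elim_inr] at h
      exact (Fin.castSucc_lt_last _).ne h
    · exfalso
      simp only [Sum.elim_inl, Sum.elim_inr] at h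
      exact (Fin.castSucc_lt_last _).ne h.symm
    · have : x = x' := by
        apply Fin.ext
        have := x.2
        have := x'.2
        omega
      rw [this]
  have hjl : ∀ i, j (Sum.inl i) ≠ Fin.last n := by
    intro i
    rw [hj]
    exact (Fin.castSucc_lt_last _).ne
  have hjr : ∀ x, j (Sum.inr x) = Fin.last n := by
    intro x
    rw [hj]
    rfl
  obtain ⟨X, hX⟩ : ∃ X : Fin s₀ ⊕ Fin c → (Fin (n + 1) ⊕ Fin (n + 1) → F),
      X = fun s => Sum.elim (fun i => stdE (F := F) j (Sum.inl i) + stdF j (Sum.inl i))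
        (fun x => stdE (F := F) j (Sum.inr x)) s := ⟨_, rfl⟩
  have hXl : ∀ i, X (Sum.inl i) = stdE (F := F) j (Sum.inl i) + stdF j (Sum.inl i) := by
    intro i; rw [hX]; rfl
  have hXr : ∀ x, X (Sum.inr x) = stdE (F := F) j (Sum.inr x) := by
    intro x; rw [hX]; rfl
  obtain ⟨t, h1, h3, h4⟩ := exists_invol (stdMinus n F a b)
    (fun s => minusT ha (X s)) (fun s => minusT ha (stdF (F := F) j s)) id (fun _ => rfl)
    (by
      intro s t
      rw [hT]
      rcases s with i | x <;> rcases t with i' | x'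
      · rw [hXl, hXl, sf_add_left, sf_add_right, sf_add_right, sf_E_E,
          sf_E_F _ hjinj, sf_F_E _ hjinj, sf_F_F]
        ring
      · rw [hXl, hXr, sf_add_left, sf_E_E, sf_F_E _ hjinj, if_neg (by simp), add_zero]
      · rw [hXr, hXl, sf_add_right, sf_E_E, sf_E_F _ hjinj, if_neg (by simp), neg_zero,
          add_zero]
      · rw [hXr, hXr, sf_E_E])
    (by
      intro s t
      rw [hT]
      rcases t with i' | x'
      · rw [hXl, sf_add_right, sf_F_E _ hjinj, sf_F_F, add_zero]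
      · rw [hXr, sf_F_E _ hjinj])
    (by
      intro s
      rw [Q_minusT, id, if_pos rfl]
      rcases s with i | x
      · rw [hXl, ← stdPlus_apply, Qplus_EF]
        simp only [Pi.add_apply, stdE_inl, stdF_inl, stdE_inr, stdF_inr,
          if_neg (Ne.symm (hjl i))]
        ring
      · rw [hXr, ← stdPlus_apply, Qplus_E]
        simp only [stdE_inl, stdE_inr, hjr, if_pos]
        ring) h2
  refine ⟨t, h1, ?_, ?_⟩
  · rw [h3, Fintype.card_sum, Fintype.card_fin, Fintype.card_fin]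
    exact hsum
  · intro h
    have h5 := h4.mp h
    by_cases h0 : 0 < s₀
    · exact h5 (Sum.inl ⟨0, h0⟩) rfl
    · have hc0 : 0 < c := by omega
      exact h5 (Sum.inr ⟨0, hc0⟩) rfl

theorem minus_repA [Fintype F] (h2 : (2 : F) = 0) (n : ℕ) (a b : F) (ha : a ≠ 0) :
    ∀ k, 1 ≤ k → 2 * k ≤ n → ∃ t : ↥(Cfsg.isometryGroup F ⇑(stdMinus n F a b)), t * t = 1 ∧
      ((t.1.1 : Matrix _ _ F) - 1).rank = 2 * k ∧
      ∀ v, stdMinus n F a b (v + (t.1.1 : Matrix _ _ F) *ᵥ v) = 0 := by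
  classical
  have hT := polar_minusT (n := n) h2 ha b
  intro k hk1 hkn
  obtain ⟨j, hj⟩ : ∃ j : Fin k ⊕ Fin k → Fin (n + 1),
      j = fun s => (Cfsg.Agent.S2593.jA k hkn s).castSucc := ⟨_, rfl⟩
  have hjinj : Function.Injective j := by
    rw [hj]
    intro s t h
    exact Cfsg.Agent.S2593.jA_injective k hkn (Fin.castSucc_injective _ h)
  have hjl : ∀ s, j s ≠ Fin.last n := by
    intro s
    rw [hj]
    exact (Fin.castSucc_lt_last _).ne
  obtain ⟨t, h1, h3, h4⟩ := exists_invol (stdMinus n F a b)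
    (fun s => minusT ha (stdE (F := F) j s)) (fun s => minusT ha (stdF (F := F) j s))
    Sum.swap (fun s => Sum.swap_swap s)
    (by
      intro s t
      rw [hT, sf_E_E])
    (by
      intro s t
      rw [hT, sf_F_E _ hjinj])
    (by
      intro s
      rw [Q_minusT, ← stdPlus_apply, Qplus_E]
      simp only [stdE_inl, stdE_inr, if_neg (Ne.symm (hjl s))]
      rw [if_neg]
      · ring
      · cases s <;> simp) h2
  refine ⟨t, h1, ?_, ?_⟩
  · rw [h3, Fintype.card_sum, Fintype.card_fin]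
    ring
  · apply h4.mpr
    intro s
    cases s <;> simp

theorem not_bad_minus' [Fintype F] (n : ℕ) {a c : F}
    (hac : ∀ z₁ z₂ : F, z₁ ^ 2 + a * z₁ * z₂ + c * z₂ ^ 2 = 0 → z₁ = 0 ∧ z₂ = 0) :
    ¬Bad (stdMinus n F a c) (⊤ : Submodule F ((Fin n ⊕ Fin n) ⊕ Fin 2 → F)) := by
  rintro ⟨_, h4, S, _, hS2, hTS⟩
  have := isTS_minus_finrank_le n hac S hTS
  rw [finrank_top, Module.finrank_fintype_fun_eq_card, Fintype.card_sum, Fintype.card_sum,
    Fintype.card_fin, Fintype.card_fin] at h4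
  omega

/-- involution classes of `Ω⁻_{2n+2}(q)`, `q` even -/
theorem card_omega_minus_invol_classes [Fintype F] [CharP F 2] (n : ℕ) (a b : F)
    (hab : ∀ z₁ z₂ : F, z₁ ^ 2 + a * z₁ * z₂ + b * z₂ ^ 2 = 0 → z₁ = 0 ∧ z₂ = 0) :
    Nat.card {C : ConjClasses ↥(Cfsg.Omega F ⇑(stdMinus n F a b)) //
      ∃ g : ↥(Cfsg.Omega F ⇑(stdMinus n F a b)), ConjClasses.mk g = C ∧ orderOf g = 2} =
      (n + 1) / 2 + n / 2 := by
  classical
  have h2 : (2 : F) = 0 := by
    have := CharP.cast_eq_zero F 2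
    exact_mod_cast this
  have ha := a_ne_zero hab
  have hT := polar_minusT (n := n) h2 ha b
  have hQ := stdMinus_nondeg (F := F) n hab
  have hΩ : ∀ g : ↥(Cfsg.isometryGroup F ⇑(stdMinus n F a b)),
      g ∈ Cfsg.Omega F ⇑(stdMinus n F a b) ↔ dicksonChar h2 (stdMinus n F a b) hQ g = 1 := by
    intro g
    rw [Omega_eq_c2' h2 (stdMinus n F a b) hQ (not_bad_minus' n hab), MonoidHom.mem_ker]
  rw [card_omega_invol_classes h2 (stdMinus n F a b) hQ (minusT ha) hT (by omega) hΩ n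
    (minus_hexcl h2 n a b hab) (minus_repO h2 n a b ha) (minus_repA h2 n a b ha)]
  · rw [if_neg (by omega), add_zero]
  · intro t htt halt hrank c hc
    exfalso
    have := minus_hexcl h2 n a b hab t htt halt
    omega

end Cfsg.Agent.Lib.Helper24.OInv
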