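import Mathlib
import Cfsg.Agent.Lib.Helper24.NsPtC
import Cfsg.Agent.Lib.Helper24.OInvI

set_option autoImplicit false
set_option linter.style.haveILetI false
set_option linter.unusedSimpArgs false
set_option linter.unusedSectionVars false

namespace Cfsg.Agent.Lib.Helper24.NsPt

open Matrix QuadraticMap Cfsg
open Cfsg.Agent.Lib.Helper19.OrthRefl Cfsg.Agent.Lib.Helper19.Parity

variable {F : Type*} [Field F] {ι : Type} [Fintype ι] [DecidableEq ι]

/-- an involution which is not alternating of full rank fixes a nonsingular vector -/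
theorem exists_fixed_nonsing_of_not_full (h2 : (2 : F) = 0) (Q : QuadraticForm F (ι → F))
    (hQ : (polarBilin Q).Nondegenerate) {m : ℕ} (hV : Fintype.card ι = 2 * m)
    (t : ↥(Cfsg.isometryGroup F ⇑Q)) (ht2 : t * t = 1)
    (hnot : ¬ (((t.1.1 : Matrix ι ι F) - 1).rank = m ∧
      ∀ v, Q (v + (t.1.1 : Matrix ι ι F) *ᵥ v) = 0)) :
    ∃ w, Q w ≠ 0 ∧ (t.1.1 : Matrix ι ι F) *ᵥ w = w := by
  have hV' : Module.finrank F (ι → F) = 2 * m := by
    rw [Module.finrank_fintype_fun_eq_card, hV]
  have hsum : ∀ v : ι → F, act t v - v = v + (t.1.1 : Matrix ι ι F) *ᵥ v := by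
    intro v
    have h0 : (2 : F) • v = 0 := by rw [h2, zero_smul]
    rw [two_smul] at h0
    change act t v - v = v + act t v
    have : act t v - v = v + act t v - (v + v) := by abel
    rw [this, h0, sub_zero]
  obtain ⟨w, hw, htw⟩ := exists_fixed_nonsing h2 Q hQ t ht2 (by
    by_cases hA : ∃ v, Q (act t v - v) ≠ 0
    · exact Or.inl hA
    · right
      push Not at hA
      have hTS := isTS_commSpace Q t hA
      intro hTS'
      apply hnot
      refine ⟨?_, fun v => by rw [← hsum]; exact hA v⟩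
      have h1 := hTS.finrank_le hQ
      have h3 := hTS'.finrank_le hQ
      rw [finrank_orth hQ, hV'] at h3
      rw [hV'] at h1
      rw [← finrank_commSpace]
      omega)
  exact ⟨w, hw, htw⟩

/-- the fixed vectors of an alternating involution of full rank are singular -/
theorem fixed_singular_of_full (h2 : (2 : F) = 0) (Q : (ι → F) → F) {m : ℕ}
    (hV : Fintype.card ι = 2 * m) (A : Matrix ι ι F) (hAA : A * A = 1)
    (hrank : (A - 1).rank = m) (halt : ∀ v, Q (v + A *ᵥ v) = 0) :
    ∀ v, A *ᵥ v = v → Q v = 0 := by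
  have hBB : (A - 1) * (A - 1) = 0 := by
    have h3 : (2 : F) • A = 0 := by rw [h2, zero_smul]
    have h4 : (2 : F) • (1 : Matrix ι ι F) = 0 := by rw [h2, zero_smul]
    rw [two_smul] at h3 h4
    calc (A - 1) * (A - 1) = A * A - (A + A) + 1 := by noncomm_ring
      _ = 0 := by rw [hAA, h3, sub_zero, h4]
  have hle : LinearMap.range (A - 1).mulVecLin ≤ LinearMap.ker (A - 1).mulVecLin := by
    rintro _ ⟨u, rfl⟩
    rw [LinearMap.mem_ker, Matrix.mulVecLin_apply, Matrix.mulVecLin_apply, Matrix.mulVec_mulVec,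
      hBB, Matrix.zero_mulVec]
  have hrk := LinearMap.finrank_range_add_finrank_ker (A - 1).mulVecLin
  rw [Module.finrank_fintype_fun_eq_card, hV] at hrk
  have hr' : Module.finrank F (LinearMap.range (A - 1).mulVecLin) = m := hrank
  have heq := Submodule.eq_of_le_of_finrank_eq hle (by omega)
  intro v hv
  have hvk : v ∈ LinearMap.ker (A - 1).mulVecLin := by
    rw [LinearMap.mem_ker, Matrix.mulVecLin_apply, Matrix.sub_mulVec, hv, Matrix.one_mulVec,
      sub_self]
  rw [← heq] at hvk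
  obtain ⟨u, rfl⟩ := hvk
  rw [Matrix.mulVecLin_apply, Matrix.sub_mulVec, Matrix.one_mulVec]
  have h5 : A *ᵥ u - u = u + A *ᵥ u := by
    have h3 : u + u = 0 := by rw [← two_smul F u, h2, zero_smul]
    have h4 : -u = u := neg_eq_of_add_eq_zero_left h3
    rw [sub_eq_add_neg, h4, add_comm]
  rw [h5]
  exact halt u

/-- a fixed nonsingular point of an isometry in characteristic two contains a fixed nonsingular
vector -/
theorem fixed_vector_of_fixed_point (h2 : (2 : F) = 0) (Q : QuadraticForm F (ι → F))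
    (A : Matrix ι ι F) (hA : ∀ v, Q (A *ᵥ v) = Q v) (W : Submodule F (ι → F))
    (hW : Module.finrank F ↥W = 1) (hex : ∃ v ∈ W, Q v ≠ 0)
    (hmap : W.map (Matrix.toLin' A) ≤ W) : ∃ v, Q v ≠ 0 ∧ A *ᵥ v = v := by
  obtain ⟨v, hvW, hv⟩ := hex
  have hv0 : v ≠ 0 := by
    rintro rfl
    exact hv (QuadraticMap.map_zero Q)
  have hAv : A *ᵥ v ∈ W := by
    apply hmap
    exact ⟨v, hvW, by rw [Matrix.toLin'_apply]⟩
  have h1 := (finrank_eq_one_iff_of_nonzero' (⟨v, hvW⟩ : ↥W)
    (by intro h; exact hv0 (congrArg Subtype.val h))).mp hW ⟨A *ᵥ v, hAv⟩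
  obtain ⟨c, hc⟩ := h1
  have hc' : c • v = A *ᵥ v := congrArg Subtype.val hc
  have h3 : Q (c • v) = Q v := by rw [hc', hA]
  rw [QuadraticMap.map_smul, smul_eq_mul] at h3
  have h4 : (c * c - 1) * Q v = 0 := by linear_combination h3
  have h5 : c * c - 1 = 0 := by
    rcases mul_eq_zero.mp h4 with h | h
    · exact h
    · exact absurd h hv
  have h6 : (c - 1) * (c - 1) = 0 := by linear_combination h5 - (c - 1) * h2
  have h7 : c = 1 := by
    rcases mul_eq_zero.mp h6 with h | h <;> exact sub_eq_zero.mp h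
  refine ⟨v, hv, ?_⟩
  rw [← hc', h7, one_smul]

/-- a fixed nonsingular vector spans a fixed nonsingular point -/
theorem fixed_point_of_fixed_vector (Q : (ι → F) → F) (hQ0 : Q 0 = 0)
    (A : Matrix ι ι F) (w : ι → F) (hw : Q w ≠ 0) (hAw : A *ᵥ w = w) :
    ∃ W : Submodule F (ι → F), (Module.finrank F ↥W = 1 ∧ ∃ v ∈ W, Q v ≠ 0) ∧
      W.map (Matrix.toLin' A) ≤ W := by
  have hw0 : w ≠ 0 := by
    rintro rfl
    exact hw hQ0
  refine ⟨Submodule.span F {w}, ⟨finrank_span_singleton hw0, w,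
    Submodule.mem_span_singleton_self w, hw⟩, ?_⟩
  rw [Submodule.map_span, Set.image_singleton, Matrix.toLin'_apply, hAw]

/-- a scalar isometry in characteristic two is trivial -/
theorem scalar_isometry_eq_one (h2 : (2 : F) = 0) (Q : QuadraticForm F (ι → F))
    (hns : ∃ v, Q v ≠ 0) (A : Matrix ι ι F) (hA : ∀ v, Q (A *ᵥ v) = Q v) (z : F)
    (hz : A = z • (1 : Matrix ι ι F)) : z = 1 := by
  obtain ⟨v, hv⟩ := hns
  have h3 := hA v
  rw [hz, Matrix.smul_mulVec, Matrix.one_mulVec, QuadraticMap.map_smul, smul_eq_mul] at h3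
  have h4 : (z * z - 1) * Q v = 0 := by linear_combination h3
  have h5 : z * z - 1 = 0 := by
    rcases mul_eq_zero.mp h4 with h | h
    · exact h
    · exact absurd h hv
  have h6 : (z - 1) * (z - 1) = 0 := by linear_combination h5 - (z - 1) * h2
  rcases mul_eq_zero.mp h6 with h | h <;> exact sub_eq_zero.mp h

end Cfsg.Agent.Lib.Helper24.NsPt
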