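import Mathlib
import Cfsg.Agent.Lib.Helper24.NsPtD
import Cfsg.Prelude.Def_GeometricClasses

set_option autoImplicit false
set_option linter.style.haveILetI false
set_option linter.unusedSimpArgs false
set_option linter.unusedSectionVars false

namespace Cfsg.Agent.Lib.Helper24.NsPt

open Matrix QuadraticMap Cfsg
open Cfsg.Agent.Lib.Helper19.OrthRefl Cfsg.Agent.Lib.Helper19.Parity
open Cfsg.Agent.Lib.Helper19.QuadStd Cfsg.Agent.Lib.Helper24.OInv

variable {F : Type*} [Field F] [Fintype F]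

theorem card_ne_zero_zmod [CharP F 2] (r : ℕ) [Fact r.Prime] (hr2 : r ≠ 2) :
    ((Fintype.card F : ℕ) : ZMod r) ≠ 0 := by
  intro h
  rw [ZMod.natCast_eq_zero_iff] at h
  obtain ⟨n, -, hn⟩ := FiniteField.card F 2
  rw [hn] at h
  have hr : r.Prime := Fact.out
  have h3 := hr.dvd_of_dvd_pow h
  exact hr2 ((Nat.prime_dvd_prime_iff_eq hr Nat.prime_two).mp h3)

/-- odd order elements lie in the kernel of the Dickson character -/
theorem dickson_of_odd_order {ι : Type} [Fintype ι] [DecidableEq ι] (h2 : (2 : F) = 0)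
    (Q : QuadraticForm F (ι → F)) (hQ : (polarBilin Q).Nondegenerate)
    (g : ↥(Cfsg.isometryGroup F ⇑Q)) (r : ℕ) (hodd : Odd r)
    (hgr : (g.1.1 : Matrix ι ι F) ^ r = 1) : dicksonChar h2 Q hQ g = 1 := by
  have hg : g ^ r = 1 := by
    apply Subtype.ext
    apply Units.ext
    rw [Subgroup.coe_pow, Units.val_pow_eq_pow_val]
    exact hgr
  have h3 : dicksonChar h2 Q hQ g ^ r = 1 := by rw [← map_pow, hg, map_one]
  rcases Int.units_eq_one_or (dicksonChar h2 Q hQ g) with h | h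
  · exact h
  · rw [h, hodd.neg_one_pow] at h3
    exact absurd h3 (by decide)

theorem plus_main [CharP F 2] (d : ℕ) (hd : 4 ≤ d) (r : ℕ) [Fact r.Prime]
    (hrΩ : r ∣ Nat.card {W : Submodule F (Fin d ⊕ Fin d → F) // Module.finrank F ↥W = 1 ∧
      ∃ v ∈ W, stdPlus d F v ≠ 0}) :
    (∀ x : GL (Fin d ⊕ Fin d) F, x ∈ Cfsg.Geo.omegaGL ⇑(stdPlus d F) →
      (∃ z : F, ((x ^ r : GL (Fin d ⊕ Fin d) F) : Matrix (Fin d ⊕ Fin d) (Fin d ⊕ Fin d) F) =
        z • (1 : Matrix (Fin d ⊕ Fin d) (Fin d ⊕ Fin d) F)) →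
      (∀ z : F, (x : Matrix (Fin d ⊕ Fin d) (Fin d ⊕ Fin d) F) ≠
        z • (1 : Matrix (Fin d ⊕ Fin d) (Fin d ⊕ Fin d) F)) →
      ∃ W : Submodule F (Fin d ⊕ Fin d → F), (Module.finrank F ↥W = 1 ∧
        ∃ v ∈ W, stdPlus d F v ≠ 0) ∧
        W.map (Matrix.toLin' (x : Matrix (Fin d ⊕ Fin d) (Fin d ⊕ Fin d) F)) ≤ W) ↔
      (r = 2 ∧ Odd d) := by
  classical
  have h2 : (2 : F) = 0 := by
    have := CharP.cast_eq_zero F 2
    exact_mod_cast this
  have hr : r.Prime := Fact.out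
  have hQ := stdPlus_nondeg (F := F) d
  have hcard : Fintype.card (Fin d ⊕ Fin d) = 2 * d := by
    simp only [Fintype.card_sum, Fintype.card_fin]
    omega
  have hex : Fintype.card F ≠ 2 ∨ Fintype.card (Fin d ⊕ Fin d) ≠ 4 := by
    right
    rw [hcard]
    omega
  have hΩ := mem_Omega_iff_c2 h2 (stdPlus d F) hQ hex
  have hmemΩ : ∀ g : ↥(Cfsg.isometryGroup F ⇑(stdPlus d F)), g ∈ Cfsg.Omega F ⇑(stdPlus d F) ↔
      Even ((g.1.1 : Matrix _ _ F) - 1).rank := by
    intro g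
    rw [hΩ, dicksonChar_eq_rank, neg_one_pow_eq_one_iff_even']
  have hns : ∃ v, stdPlus d F v ≠ 0 := exists_nonsing_top (stdPlus d F) hQ (by rw [hcard]; omega)
  have hiso : ∀ (g : ↥(Cfsg.isometryGroup F ⇑(stdPlus d F))) v,
      stdPlus d F ((g.1.1 : Matrix _ _ F) *ᵥ v) = stdPlus d F v :=
    fun g v => (Cfsg.Agent.Lib.Helper24.OConj.mem_iso_iff _ g.1).mp g.2 v
  constructor
  · intro hall
    by_cases hr2 : r = 2
    · refine ⟨hr2, ?_⟩
      subst hr2
      by_contra hodd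
      obtain ⟨k, hk⟩ := Nat.not_odd_iff_even.mp hodd
      obtain ⟨t, ht1, ht2, ht3⟩ := plus_repA h2 d k (by omega) (by omega)
      have htΩ : t ∈ Cfsg.Omega F ⇑(stdPlus d F) := by
        rw [hmemΩ, ht2]
        exact even_two_mul k
      have hsq : (t.1.1 : Matrix _ _ F) * (t.1.1 : Matrix _ _ F) = 1 := by
        have := congrArg (fun x : ↥(Cfsg.isometryGroup F ⇑(stdPlus d F)) =>
          (x.1.1 : Matrix _ _ F)) ht1
        exact this
      obtain ⟨W, ⟨hW1, hW2⟩, hW3⟩ := hall t.1 ⟨t, htΩ, rfl⟩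
        ⟨1, by rw [Units.val_pow_eq_pow_val, pow_two, hsq, one_smul]⟩
        (by
          intro z hz
          have hz1 := scalar_isometry_eq_one h2 (stdPlus d F) hns _ (hiso t) z hz
          rw [hz1, one_smul] at hz
          rw [hz, sub_self, Matrix.rank_zero] at ht2
          omega)
      obtain ⟨v, hv, hfix⟩ := fixed_vector_of_fixed_point h2 (stdPlus d F) _ (hiso t) W hW1 hW2 hW3
      exact hv (fixed_singular_of_full h2 ⇑(stdPlus d F) hcard _ hsq (by rw [ht2]; omega) ht3 v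
        hfix)
    · exfalso
      have key := card_points_plus (F := F) d
      have key' := congrArg (fun n : ℕ => (n : ZMod r)) key
      simp only [Nat.cast_add, Nat.cast_mul, Nat.cast_pow] at key'
      rw [(ZMod.natCast_eq_zero_iff _ _).mpr hrΩ, zero_mul, zero_add] at key'
      have hx0 := card_ne_zero_zmod (F := F) r hr2
      have hx : ((Fintype.card F : ℕ) : ZMod r) ^ d = 1 := by
        have h3 : ((Fintype.card F : ℕ) : ZMod r) ^ d ≠ 0 := pow_ne_zero _ hx0
        have h4 : ((Fintype.card F : ℕ) : ZMod r) ^ d * 1 =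
            ((Fintype.card F : ℕ) : ZMod r) ^ d * ((Fintype.card F : ℕ) : ZMod r) ^ d := by
          rw [mul_one]
          exact key'
        exact (mul_left_cancel₀ h3 h4).symm
      have hexg := exists_plus_no_fix 2 (rfl : Fintype.card F = Fintype.card F)
        d r (by omega) hr hr2 hr2 hx
      rw [← coe_stdPlus] at hexg
      obtain ⟨g, hgr, hgfix⟩ := hexg
      have hgΩ : g ∈ Cfsg.Omega F ⇑(stdPlus d F) := by
        rw [hΩ]
        exact dickson_of_odd_order h2 (stdPlus d F) hQ g r (hr.eq_two_or_odd'.resolve_left hr2)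
          hgr
      obtain ⟨v₀, hv₀⟩ := hns
      obtain ⟨W, ⟨hW1, hW2⟩, hW3⟩ := hall g.1 ⟨g, hgΩ, rfl⟩
        ⟨1, by rw [Units.val_pow_eq_pow_val, one_smul]; exact hgr⟩
        (by
          intro z hz
          have hz1 := scalar_isometry_eq_one h2 (stdPlus d F) ⟨v₀, hv₀⟩ _ (hiso g) z hz
          rw [hz1, one_smul] at hz
          have h5 := hgfix v₀ (by rw [hz, Matrix.one_mulVec])
          rw [h5] at hv₀
          exact hv₀ (QuadraticMap.map_zero _))
      obtain ⟨v, hv, hfix⟩ := fixed_vector_of_fixed_point h2 (stdPlus d F) _ (hiso g) W hW1 hW2 hW3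
      rw [hgfix v hfix] at hv
      exact hv (QuadraticMap.map_zero _)
  · rintro ⟨rfl, hodd⟩ x hx ⟨z, hz⟩ hnsc
    obtain ⟨g, hgΩ, rfl⟩ := hx
    have hz' : (g.1.1 : Matrix _ _ F) * (g.1.1 : Matrix _ _ F) = z • 1 := by
      rw [← hz, Units.val_pow_eq_pow_val, pow_two]
      rfl
    have hz1 : z = 1 := by
      apply scalar_isometry_eq_one h2 (stdPlus d F) hns _ _ z hz'
      intro v
      rw [← Matrix.mulVec_mulVec, hiso, hiso]
    rw [hz1, one_smul] at hz'
    have hgg : g * g = 1 := by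
      apply Subtype.ext
      apply Units.ext
      exact hz'
    have hev := (hmemΩ g).mp hgΩ
    obtain ⟨w, hw, hAw⟩ := exists_fixed_nonsing_of_not_full h2 (stdPlus d F) hQ hcard g hgg (by
      rintro ⟨h, -⟩
      rw [h] at hev
      exact (Nat.not_even_iff_odd.mpr hodd) hev)
    exact fixed_point_of_fixed_vector ⇑(stdPlus d F) (QuadraticMap.map_zero _) _ w hw hAw

end Cfsg.Agent.Lib.Helper24.NsPt
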