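import Mathlib
import Cfsg.Agent.Lib.Helper24.NsPtE

set_option autoImplicit false
set_option linter.style.haveILetI false
set_option linter.unusedSimpArgs false
set_option linter.unusedSectionVars false

namespace Cfsg.Agent.Lib.Helper24.NsPt

open Matrix QuadraticMap Cfsg
open Cfsg.Agent.Lib.Helper19.OrthRefl Cfsg.Agent.Lib.Helper19.Parity
open Cfsg.Agent.Lib.Helper19.QuadStd Cfsg.Agent.Lib.Helper24.OInv

variable {F : Type*} [Field F] [Fintype F]

theorem minus_main [CharP F 2] (k : ℕ) (a b : F)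
    (hab : ∀ z₁ z₂ : F, z₁ ^ 2 + a * z₁ * z₂ + b * z₂ ^ 2 = 0 → z₁ = 0 ∧ z₂ = 0)
    (r : ℕ) [Fact r.Prime]
    (hrΩ : r ∣ Nat.card {W : Submodule F ((Fin k ⊕ Fin k) ⊕ Fin 2 → F) //
      Module.finrank F ↥W = 1 ∧ ∃ v ∈ W, stdMinus k F a b v ≠ 0}) :
    (∀ x : GL ((Fin k ⊕ Fin k) ⊕ Fin 2) F, x ∈ Cfsg.Geo.omegaGL ⇑(stdMinus k F a b) →
      (∃ z : F, ((x ^ r : GL ((Fin k ⊕ Fin k) ⊕ Fin 2) F) :
        Matrix ((Fin k ⊕ Fin k) ⊕ Fin 2) ((Fin k ⊕ Fin k) ⊕ Fin 2) F) =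
        z • (1 : Matrix ((Fin k ⊕ Fin k) ⊕ Fin 2) ((Fin k ⊕ Fin k) ⊕ Fin 2) F)) →
      (∀ z : F, (x : Matrix ((Fin k ⊕ Fin k) ⊕ Fin 2) ((Fin k ⊕ Fin k) ⊕ Fin 2) F) ≠
        z • (1 : Matrix ((Fin k ⊕ Fin k) ⊕ Fin 2) ((Fin k ⊕ Fin k) ⊕ Fin 2) F)) →
      ∃ W : Submodule F ((Fin k ⊕ Fin k) ⊕ Fin 2 → F), (Module.finrank F ↥W = 1 ∧
        ∃ v ∈ W, stdMinus k F a b v ≠ 0) ∧
        W.map (Matrix.toLin' (x : Matrix ((Fin k ⊕ Fin k) ⊕ Fin 2)
          ((Fin k ⊕ Fin k) ⊕ Fin 2) F)) ≤ W) ↔ r = 2 := by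
  classical
  have h2 : (2 : F) = 0 := by
    have := CharP.cast_eq_zero F 2
    exact_mod_cast this
  have hr : r.Prime := Fact.out
  have hQ := stdMinus_nondeg (F := F) k hab
  have hcard : Fintype.card ((Fin k ⊕ Fin k) ⊕ Fin 2) = 2 * (k + 1) := by
    simp only [Fintype.card_sum, Fintype.card_fin]
    omega
  have hΩ : ∀ g : ↥(Cfsg.isometryGroup F ⇑(stdMinus k F a b)),
      g ∈ Cfsg.Omega F ⇑(stdMinus k F a b) ↔ dicksonChar h2 (stdMinus k F a b) hQ g = 1 := by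
    intro g
    rw [Omega_eq_c2' h2 (stdMinus k F a b) hQ (not_bad_minus' k hab), MonoidHom.mem_ker]
  have hns : ∃ v, stdMinus k F a b v ≠ 0 :=
    exists_nonsing_top (stdMinus k F a b) hQ (by rw [hcard]; omega)
  have hiso : ∀ (g : ↥(Cfsg.isometryGroup F ⇑(stdMinus k F a b))) v,
      stdMinus k F a b ((g.1.1 : Matrix _ _ F) *ᵥ v) = stdMinus k F a b v :=
    fun g v => (Cfsg.Agent.Lib.Helper24.OConj.mem_iso_iff _ g.1).mp g.2 v
  constructor
  · intro hall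
    by_contra hr2
    have key := card_points_minus (F := F) k a b hab
    have key' := congrArg (fun n : ℕ => (n : ZMod r)) key
    simp only [Nat.cast_add, Nat.cast_mul, Nat.cast_pow, Nat.cast_one] at key'
    rw [(ZMod.natCast_eq_zero_iff _ _).mpr hrΩ, zero_mul] at key'
    have hx0 := card_ne_zero_zmod (F := F) r hr2
    have hx : ((Fintype.card F : ℕ) : ZMod r) ^ (k + 1) = -1 := by
      have h3 : ((Fintype.card F : ℕ) : ZMod r) ^ (k + 1) ≠ 0 := pow_ne_zero _ hx0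
      rcases mul_eq_zero.mp key'.symm with h | h
      · exact absurd h h3
      · exact eq_neg_of_add_eq_zero_left h
    have hexg := exists_minus_no_fix 2 (rfl : Fintype.card F = Fintype.card F)
      k r a b hab hr hr2 hr2 hx
    rw [← coe_stdMinus] at hexg
    obtain ⟨g, hgr, hgfix⟩ := hexg
    have hgΩ : g ∈ Cfsg.Omega F ⇑(stdMinus k F a b) := by
      rw [hΩ]
      exact dickson_of_odd_order h2 (stdMinus k F a b) hQ g r
        (hr.eq_two_or_odd'.resolve_left hr2) hgr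
    obtain ⟨v₀, hv₀⟩ := hns
    obtain ⟨W, ⟨hW1, hW2⟩, hW3⟩ := hall g.1 ⟨g, hgΩ, rfl⟩
      ⟨1, by rw [Units.val_pow_eq_pow_val, one_smul]; exact hgr⟩
      (by
        intro z hz
        have hz1 := scalar_isometry_eq_one h2 (stdMinus k F a b) ⟨v₀, hv₀⟩ _ (hiso g) z hz
        rw [hz1, one_smul] at hz
        have h5 := hgfix v₀ (by rw [hz, Matrix.one_mulVec])
        rw [h5] at hv₀
        exact hv₀ (QuadraticMap.map_zero _))
    obtain ⟨v, hv, hfix⟩ := fixed_vector_of_fixed_point h2 (stdMinus k F a b) _ (hiso g) W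
      hW1 hW2 hW3
    rw [hgfix v hfix] at hv
    exact hv (QuadraticMap.map_zero _)
  · rintro rfl x hx ⟨z, hz⟩ hnsc
    obtain ⟨g, hgΩ, rfl⟩ := hx
    have hz' : (g.1.1 : Matrix _ _ F) * (g.1.1 : Matrix _ _ F) = z • 1 := by
      rw [← hz, Units.val_pow_eq_pow_val, pow_two]
      rfl
    have hz1 : z = 1 := by
      apply scalar_isometry_eq_one h2 (stdMinus k F a b) hns _ _ z hz'
      intro v
      rw [← Matrix.mulVec_mulVec, hiso, hiso]
    rw [hz1, one_smul] at hz'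
    have hgg : g * g = 1 := by
      apply Subtype.ext
      apply Units.ext
      exact hz'
    obtain ⟨w, hw, hAw⟩ := exists_fixed_nonsing_of_not_full h2 (stdMinus k F a b) hQ hcard g
      hgg (by
        rintro ⟨h, halt⟩
        have := minus_hexcl h2 k a b hab g hgg halt
        omega)
    exact fixed_point_of_fixed_vector ⇑(stdMinus k F a b) (QuadraticMap.map_zero _) _ w hw hAw

end Cfsg.Agent.Lib.Helper24.NsPt
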