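import Mathlib
import Cfsg.Prelude.Def_Classical
import Cfsg.Agent.Lib.Helper3.S3

/-!
# The orthogonal group `O⁺₄(2)` has order 72 and is `S₃ ≀ 2`

Upper bound: the isometry group acts faithfully on the six non-singular vectors, preserving the
graph "two triangles"; lower bound: explicit generators.
-/

set_option autoImplicit false
set_option linter.style.haveILetI false

namespace Cfsg.Agent.Lib.Helper24
namespace O4Plus
open Matrix

abbrev ι := Fin 2 ⊕ Fin 2
abbrev V := ι → ZMod 2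
abbrev Q : V → ZMod 2 := Cfsg.quadFormPlus 2 (ZMod 2)
abbrev G : Subgroup (Matrix.GeneralLinearGroup ι (ZMod 2)) :=
  Cfsg.isometryGroup (ZMod 2) (Cfsg.quadFormPlus 2 (ZMod 2))

def mk (a b c d : ZMod 2) : V := Sum.elim ![a,b] ![c,d]

def nvec : Fin 6 → V :=
  ![mk 1 0 1 0, mk 1 1 0 1, mk 0 1 1 1, mk 1 1 1 0, mk 1 0 1 1, mk 0 1 0 1]

theorem Q_nvec : ∀ i, Q (nvec i) = 1 := by decide +kernel

theorem nvec_injective : Function.Injective nvec := by
  intro i j; revert i j; decide +kernel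

theorem exists_nvec : ∀ v : V, Q v = 1 → ∃ i, nvec i = v := by decide +kernel

theorem single_eq : ∀ k : ι, ∃ a b : Fin 6, (Pi.single k 1 : V) = nvec a + nvec b := by
  decide +kernel

theorem rel_iff : ∀ i j : Fin 6,
    Q (nvec i + nvec j) = 1 ↔ (i ≠ j ∧ (i.val < 3 ↔ j.val < 3)) := by decide +kernel

theorem card_T : Fintype.card {σ : Equiv.Perm (Fin 6) // ∀ i j : Fin 6,
    (σ i ≠ σ j ∧ ((σ i).val < 3 ↔ (σ j).val < 3)) ↔ (i ≠ j ∧ (i.val < 3 ↔ j.val < 3))} = 72 := by
  decide +kernel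

theorem matrix_ext_of_nvec {M M' : Matrix ι ι (ZMod 2)}
    (h : ∀ i, M *ᵥ nvec i = M' *ᵥ nvec i) : M = M' := by
  have key : ∀ k : ι, M *ᵥ Pi.single k 1 = M' *ᵥ Pi.single k 1 := by
    intro k
    obtain ⟨a, b, hab⟩ := single_eq k
    rw [hab, Matrix.mulVec_add, Matrix.mulVec_add, h a, h b]
  ext i j
  have := congrFun (key j) i
  simpa using this

theorem mem_G_iff (g : Matrix.GeneralLinearGroup ι (ZMod 2)) :
    g ∈ G ↔ ∀ u : V, Q ((g : Matrix ι ι (ZMod 2)) *ᵥ u) = Q u := by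
  constructor
  · intro h u; exact h u u
  · intro h u _; exact h u

noncomputable def sfun (M : Matrix ι ι (ZMod 2)) : Fin 6 → Fin 6 :=
  fun i => Function.invFun nvec (M *ᵥ nvec i)

theorem nvec_sfun {g : Matrix.GeneralLinearGroup ι (ZMod 2)} (hg : g ∈ G) (i : Fin 6) :
    nvec (sfun g.val i) = g.val *ᵥ nvec i := by
  apply Function.invFun_eq
  apply exists_nvec
  rw [(mem_G_iff g).mp hg, Q_nvec]

theorem sfun_injective {g : Matrix.GeneralLinearGroup ι (ZMod 2)} (hg : g ∈ G) :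
    Function.Injective (sfun g.val) := by
  intro i j hij
  have h := congrArg nvec hij
  rw [nvec_sfun hg, nvec_sfun hg] at h
  have h2 := congrArg (fun v => (g⁻¹ : Matrix.GeneralLinearGroup ι (ZMod 2)).val *ᵥ v) h
  simp only [Matrix.mulVec_mulVec] at h2
  rw [← Units.val_mul, inv_mul_cancel, Units.val_one, Matrix.one_mulVec, Matrix.one_mulVec] at h2
  exact nvec_injective h2

noncomputable def sperm (g : G) : Equiv.Perm (Fin 6) :=
  Equiv.ofBijective (sfun g.1.val) (Finite.injective_iff_bijective.mp (sfun_injective g.2))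

theorem sperm_apply (g : G) (i : Fin 6) : sperm g i = sfun g.1.val i := rfl

theorem sperm_mem (g : G) : ∀ i j : Fin 6,
    (sperm g i ≠ sperm g j ∧ ((sperm g i).val < 3 ↔ (sperm g j).val < 3)) ↔
      (i ≠ j ∧ (i.val < 3 ↔ j.val < 3)) := by
  intro i j
  rw [← rel_iff, ← rel_iff, sperm_apply, sperm_apply, nvec_sfun g.2, nvec_sfun g.2,
    ← Matrix.mulVec_add, (mem_G_iff g.1).mp g.2]

theorem sperm_injective : Function.Injective sperm := by
  intro g h hgh
  apply Subtype.ext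
  apply Units.ext
  apply matrix_ext_of_nvec
  intro i
  rw [← nvec_sfun g.2, ← nvec_sfun h.2, ← sperm_apply, ← sperm_apply, hgh]

theorem card_G_le : Nat.card G ≤ 72 := by
  let f : G → {σ : Equiv.Perm (Fin 6) // ∀ i j : Fin 6,
    (σ i ≠ σ j ∧ ((σ i).val < 3 ↔ (σ j).val < 3)) ↔ (i ≠ j ∧ (i.val < 3 ↔ j.val < 3))} :=
    fun g => ⟨sperm g, sperm_mem g⟩
  have hf : Function.Injective f := by
    intro g h hgh
    exact sperm_injective (congrArg Subtype.val hgh)
  have h72 : Nat.card {σ : Equiv.Perm (Fin 6) // ∀ i j : Fin 6,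
    (σ i ≠ σ j ∧ ((σ i).val < 3 ↔ (σ j).val < 3)) ↔ (i ≠ j ∧ (i.val < 3 ↔ j.val < 3))} = 72 := by
    rw [Nat.card_eq_fintype_card]; exact card_T
  have := Nat.card_le_card_of_injective f hf
  rwa [h72] at this

/-! ### explicit generators -/

def mA1 : Matrix ι ι (ZMod 2) := Matrix.fromBlocks 0 !![0,1;1,0] !![0,1;1,0] 0
def mA2 : Matrix ι ι (ZMod 2) := Matrix.fromBlocks 1 !![0,1;1,0] 0 1
def mT : Matrix ι ι (ZMod 2) :=
  Matrix.fromBlocks !![1,0;0,0] !![0,0;0,1] !![0,0;0,1] !![1,0;0,0]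

theorem mA1_sq : mA1 * mA1 = 1 := by decide +kernel
theorem mA2_sq : mA2 * mA2 = 1 := by decide +kernel
theorem mT_sq : mT * mT = 1 := by decide +kernel

def gA1 : Matrix.GeneralLinearGroup ι (ZMod 2) := ⟨mA1, mA1, mA1_sq, mA1_sq⟩
def gA2 : Matrix.GeneralLinearGroup ι (ZMod 2) := ⟨mA2, mA2, mA2_sq, mA2_sq⟩
def gT : Matrix.GeneralLinearGroup ι (ZMod 2) := ⟨mT, mT, mT_sq, mT_sq⟩

theorem gA1_mem : gA1 ∈ G := by
  rw [mem_G_iff]; show ∀ u : V, Q (mA1 *ᵥ u) = Q u; decide +kernel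
theorem gA2_mem : gA2 ∈ G := by
  rw [mem_G_iff]; show ∀ u : V, Q (mA2 *ᵥ u) = Q u; decide +kernel
theorem gT_mem : gT ∈ G := by
  rw [mem_G_iff]; show ∀ u : V, Q (mT *ᵥ u) = Q u; decide +kernel

theorem rel_cube : (mA1 * mA2) * (mA1 * mA2) * (mA1 * mA2) = 1 := by decide +kernel
theorem rel_ne : mA1 * mA2 ≠ mA2 * mA1 := by decide +kernel
theorem comm11 : mA1 * (mT * mA1 * mT) = (mT * mA1 * mT) * mA1 := by decide +kernel
theorem comm12 : mA1 * (mT * mA2 * mT) = (mT * mA2 * mT) * mA1 := by decide +kernel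
theorem comm21 : mA2 * (mT * mA1 * mT) = (mT * mA1 * mT) * mA2 := by decide +kernel
theorem comm22 : mA2 * (mT * mA2 * mT) = (mT * mA2 * mT) * mA2 := by decide +kernel

def a1 : G := ⟨gA1, gA1_mem⟩
def a2 : G := ⟨gA2, gA2_mem⟩
def t : G := ⟨gT, gT_mem⟩

theorem ext_G {x y : G} (h : x.1.val = y.1.val) : x = y := Subtype.ext (Units.ext h)

theorem a1_sq : a1 * a1 = 1 := ext_G mA1_sq
theorem a2_sq : a2 * a2 = 1 := ext_G mA2_sq
theorem t_sq : t * t = 1 := ext_G mT_sq
theorem t_inv : t⁻¹ = t := inv_eq_of_mul_eq_one_left t_sq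
theorem a_cube : (a1 * a2) ^ 3 = 1 := by
  rw [pow_three']; exact ext_G rel_cube
theorem a_ne : a1 * a2 ≠ a2 * a1 := by
  intro h
  exact rel_ne (congrArg (fun x : G => x.1.val) h)

theorem c11 : Commute a1 (t * a1 * t⁻¹) := by rw [t_inv]; exact ext_G comm11
theorem c12 : Commute a1 (t * a2 * t⁻¹) := by rw [t_inv]; exact ext_G comm12
theorem c21 : Commute a2 (t * a1 * t⁻¹) := by rw [t_inv]; exact ext_G comm21
theorem c22 : Commute a2 (t * a2 * t⁻¹) := by rw [t_inv]; exact ext_G comm22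

def A : Subgroup G := Subgroup.closure {a1, a2}
def B : Subgroup G := A.map (MulAut.conj t).toMonoidHom

theorem A_iso : Nonempty (A ≃* Equiv.Perm (Fin 3)) :=
  Cfsg.Agent.Lib.Helper3.nonempty_mulEquiv_perm_fin_three a1_sq a2_sq a_cube a_ne

theorem B_iso : Nonempty (B ≃* Equiv.Perm (Fin 3)) := by
  obtain ⟨e⟩ := A_iso
  exact ⟨(A.equivMapOfInjective _ (MulAut.conj t).injective).symm.trans e⟩

theorem commute_closure {H : Type*} [Group H] {S : Set H} {y : H} (h : ∀ x ∈ S, Commute x y) :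
    ∀ x ∈ Subgroup.closure S, Commute x y := by
  intro x hx
  induction hx using Subgroup.closure_induction with
  | mem x hx => exact h x hx
  | one => exact Commute.one_left y
  | mul x z _ _ hx hz => exact hx.mul_left hz
  | inv x _ hx => exact hx.inv_left

theorem B_eq : B = Subgroup.closure {t * a1 * t⁻¹, t * a2 * t⁻¹} := by
  unfold B A
  rw [MonoidHom.map_closure, Set.image_pair]
  rfl

theorem comm_AB : ∀ a ∈ A, ∀ b ∈ B, a * b = b * a := by
  have h1 : ∀ y ∈ ({t * a1 * t⁻¹, t * a2 * t⁻¹} : Set G), ∀ a ∈ A, Commute a y := by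
    intro y hy
    apply commute_closure
    intro x hx
    rcases hx with rfl | hx <;> rcases hy with rfl | hy
    · exact c11
    · rw [Set.mem_singleton_iff] at hy; subst hy; exact c12
    · rw [Set.mem_singleton_iff] at hx; subst hx; exact c21
    · rw [Set.mem_singleton_iff] at hx hy; subst hx; subst hy; exact c22
  intro a ha b hb
  rw [B_eq] at hb
  have h2 : ∀ y ∈ Subgroup.closure ({t * a1 * t⁻¹, t * a2 * t⁻¹} : Set G), Commute y a := by
    apply commute_closure
    intro y hy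
    exact (h1 y hy a ha).symm
  exact (h2 b hb).symm

theorem center_perm3 : ∀ σ : Equiv.Perm (Fin 3), (∀ τ : Equiv.Perm (Fin 3), τ * σ = σ * τ) → σ = 1 := by
  decide

theorem inf_AB : A ⊓ B = ⊥ := by
  obtain ⟨e⟩ := A_iso
  rw [eq_bot_iff]
  intro x hx
  rw [Subgroup.mem_bot]
  have hxA : x ∈ A := hx.1
  have hxB : x ∈ B := hx.2
  have hc : e ⟨x, hxA⟩ ∈ Subgroup.center (Equiv.Perm (Fin 3)) := by
    rw [Subgroup.mem_center_iff]
    intro σ
    obtain ⟨y, rfl⟩ := e.surjective σ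
    rw [← map_mul, ← map_mul]
    congr 1
    apply Subtype.ext
    exact comm_AB y.1 y.2 x hxB
  rw [Subgroup.mem_center_iff] at hc
  have hc1 := center_perm3 _ hc
  have := e.injective (hc1.trans (map_one e).symm)
  exact congrArg Subtype.val this

theorem card_A : Nat.card A = 6 := by
  obtain ⟨e⟩ := A_iso
  rw [Nat.card_congr e.toEquiv, Nat.card_eq_fintype_card, Fintype.card_perm, Fintype.card_fin]
  rfl

theorem card_B : Nat.card B = 6 := by
  obtain ⟨e⟩ := B_iso
  rw [Nat.card_congr e.toEquiv, Nat.card_eq_fintype_card, Fintype.card_perm, Fintype.card_fin]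
  rfl

theorem card_sup : Nat.card (A ⊔ B : Subgroup G) = 36 := by
  have comm : ∀ (a : A) (b : B), Commute (A.subtype a) (B.subtype b) :=
    fun a b => comm_AB a.1 a.2 b.1 b.2
  have hinj : Function.Injective (A.subtype.noncommCoprod B.subtype comm) := by
    rw [MonoidHom.noncommCoprod_injective]
    refine ⟨A.subtype_injective, B.subtype_injective, ?_⟩
    rw [Subgroup.range_subtype, Subgroup.range_subtype, disjoint_iff, inf_AB]
  have hr : (A.subtype.noncommCoprod B.subtype comm).range = A ⊔ B := by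
    rw [MonoidHom.noncommCoprod_range, Subgroup.range_subtype, Subgroup.range_subtype]
  rw [← hr, ← Nat.card_congr (MonoidHom.ofInjective hinj).toEquiv, Nat.card_prod, card_A, card_B]

theorem sup_ne_top : (A ⊔ B : Subgroup G) ≠ ⊤ := by
  intro htop
  have key : ∀ b ∈ B, ∀ a ∈ A, b * a * b⁻¹ = a := by
    intro b hb a ha
    rw [← comm_AB a ha b hb, mul_inv_cancel_right]
  have hle : A ⊔ B ≤ Subgroup.normalizer (A : Set G) := by
    apply sup_le Subgroup.le_normalizer
    intro b hb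
    rw [Subgroup.mem_normalizer_iff]
    intro a
    constructor
    · intro ha; rw [key b hb a ha]; exact ha
    · intro ha
      have h1 := key b⁻¹ (inv_mem hb) _ ha
      have h2 : b⁻¹ * (b * a * b⁻¹) * b⁻¹⁻¹ = a := by group
      rw [h2] at h1
      rw [h1]; exact ha
  have ht : t ∈ Subgroup.normalizer (A : Set G) := hle (htop ▸ Subgroup.mem_top t)
  rw [Subgroup.mem_normalizer_iff] at ht
  have hBA : B ≤ A := by
    intro b hb
    obtain ⟨y, hy, rfl⟩ := hb
    exact (ht y).mp hy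
  have hB : B = ⊥ := by
    rw [eq_bot_iff, ← inf_AB]
    exact le_inf hBA le_rfl
  have h6 := card_B
  rw [hB, Subgroup.card_bot] at h6
  omega

theorem card_G : Nat.card G = 72 := by
  have h36 : 36 ∣ Nat.card G := by
    rw [← card_sup]; exact Subgroup.card_subgroup_dvd_card _
  have hne : Nat.card G ≠ 36 := by
    intro h
    apply sup_ne_top
    apply Subgroup.eq_top_of_card_eq
    rw [card_sup, h]
  have hle := card_G_le
  have hpos : 0 < Nat.card G := Nat.card_pos
  obtain ⟨k, hk⟩ := h36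
  omega

theorem index_sup : (A ⊔ B : Subgroup G).index = 2 := by
  have h := Subgroup.card_mul_index (A ⊔ B : Subgroup G)
  rw [card_sup, card_G] at h
  omega

theorem main :
    Nat.card ↥(Cfsg.isometryGroup (ZMod 2) (Cfsg.quadFormPlus 2 (ZMod 2))) = 72 ∧
    ∃ (A B : Subgroup ↥(Cfsg.isometryGroup (ZMod 2) (Cfsg.quadFormPlus 2 (ZMod 2)))),
      Nonempty (↥A ≃* Equiv.Perm (Fin 3)) ∧ Nonempty (↥B ≃* Equiv.Perm (Fin 3)) ∧ A ⊓ B = ⊥ ∧
      (∀ a ∈ A, ∀ b ∈ B, a * b = b * a) ∧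
      (A ⊔ B).index = 2 ∧
      ∃ g : ↥(Cfsg.isometryGroup (ZMod 2) (Cfsg.quadFormPlus 2 (ZMod 2))),
        A.map (MulAut.conj g).toMonoidHom = B :=
  ⟨card_G, A, B, A_iso, B_iso, inf_AB, comm_AB, index_sup, t, rfl⟩

end O4Plus
end Cfsg.Agent.Lib.Helper24
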