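import Mathlib
import Cfsg.Prelude.Def_Classical
import Cfsg.Agent.Lib.Helper24.O4Plus

/-!
# `O⁺₆(2) ≅ S₈` and `Ω⁺₆(2) ≅ A₈`

Upper bound `|O⁺₆(2)| ≤ 560 · 72` via the action on hyperbolic pairs and the stabilizer acting on
the six non-singular vectors of the orthogonal complement; lower bound via the explicit
representation of `S₈` on (even weight vectors)/(all-ones vector) of `F₂⁸`.
-/

set_option autoImplicit false
set_option linter.style.haveILetI false

namespace Cfsg.Agent.Lib.Helper24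
namespace O6Plus
open Matrix

abbrev ι := Fin 3 ⊕ Fin 3
abbrev V := ι → ZMod 2
abbrev Q : V → ZMod 2 := Cfsg.quadFormPlus 3 (ZMod 2)
abbrev G : Subgroup (Matrix.GeneralLinearGroup ι (ZMod 2)) :=
  Cfsg.isometryGroup (ZMod 2) (Cfsg.quadFormPlus 3 (ZMod 2))

def e1 : V := Pi.single (Sum.inl 0) 1
def f1 : V := Pi.single (Sum.inr 0) 1

/-- `mk a b c d` is the vector with `x₂ = a, x₃ = b, y₂ = c, y₃ = d`, `x₁ = y₁ = 0`. -/
def mk (a b c d : ZMod 2) : V := Sum.elim ![0,a,b] ![0,c,d]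

def nvec : Fin 6 → V :=
  ![mk 1 0 1 0, mk 1 1 0 1, mk 0 1 1 1, mk 1 1 1 0, mk 1 0 1 1, mk 0 1 0 1]

theorem Q_nvec : ∀ i, Q (nvec i) = 1 := by decide +kernel

theorem nvec_inl : ∀ i, nvec i (Sum.inl 0) = 0 := by decide +kernel
theorem nvec_inr : ∀ i, nvec i (Sum.inr 0) = 0 := by decide +kernel

theorem nvec_injective : Function.Injective nvec := by
  intro i j; revert i j; decide +kernel

theorem exists_nvec : ∀ v : V, Q v = 1 → v (Sum.inl 0) = 0 → v (Sum.inr 0) = 0 →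
    ∃ i, nvec i = v := by decide +kernel

theorem single_eq : ∀ k : ι, k ≠ Sum.inl 0 → k ≠ Sum.inr 0 →
    ∃ a b : Fin 6, (Pi.single k 1 : V) = nvec a + nvec b := by
  decide +kernel

theorem rel_iff : ∀ i j : Fin 6,
    Q (nvec i + nvec j) = 1 ↔ (i ≠ j ∧ (i.val < 3 ↔ j.val < 3)) := by decide +kernel

theorem coord_inr : ∀ w : V, w (Sum.inr 0) = Q (w + e1) + Q w := by decide +kernel
theorem coord_inl : ∀ w : V, w (Sum.inl 0) = Q (w + f1) + Q w := by decide +kernel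

abbrev X := {p : V × V // Q p.1 = 0 ∧ Q p.2 = 0 ∧ Q (p.1 + p.2) = 1}

theorem card_X : Fintype.card X = 560 := by
  decide +kernel

theorem Q_e1 : Q e1 = 0 := by decide +kernel
theorem Q_f1 : Q f1 = 0 := by decide +kernel
theorem Q_e1f1 : Q (e1 + f1) = 1 := by decide +kernel

theorem mem_G_iff (g : Matrix.GeneralLinearGroup ι (ZMod 2)) :
    g ∈ G ↔ ∀ u : V, Q ((g : Matrix ι ι (ZMod 2)) *ᵥ u) = Q u := by
  constructor
  · intro h u; exact h u u
  · intro h u _; exact h u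

/-- the stabilizer condition -/
def IsStab (M : Matrix ι ι (ZMod 2)) : Prop :=
  (∀ u : V, Q (M *ᵥ u) = Q u) ∧ M *ᵥ e1 = e1 ∧ M *ᵥ f1 = f1

theorem matrix_ext_of_nvec {M M' : Matrix ι ι (ZMod 2)} (hM : IsStab M) (hM' : IsStab M')
    (h : ∀ i, M *ᵥ nvec i = M' *ᵥ nvec i) : M = M' := by
  have key : ∀ k : ι, M *ᵥ Pi.single k 1 = M' *ᵥ Pi.single k 1 := by
    intro k
    by_cases h1 : k = Sum.inl 0
    · subst h1; exact hM.2.1.trans hM'.2.1.symm
    by_cases h2 : k = Sum.inr 0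
    · subst h2; exact hM.2.2.trans hM'.2.2.symm
    obtain ⟨a, b, hab⟩ := single_eq k h1 h2
    rw [hab, Matrix.mulVec_add, Matrix.mulVec_add, h a, h b]
  ext i j
  have := congrFun (key j) i
  simpa using this

noncomputable def sfun (M : Matrix ι ι (ZMod 2)) : Fin 6 → Fin 6 :=
  fun i => Function.invFun nvec (M *ᵥ nvec i)

theorem stab_inr {M : Matrix ι ι (ZMod 2)} (hM : IsStab M) (v : V) :
    (M *ᵥ v) (Sum.inr 0) = v (Sum.inr 0) := by
  rw [coord_inr (M *ᵥ v), coord_inr v, hM.1]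
  congr 1
  conv_lhs => rw [← hM.2.1, ← Matrix.mulVec_add, hM.1]

theorem stab_inl {M : Matrix ι ι (ZMod 2)} (hM : IsStab M) (v : V) :
    (M *ᵥ v) (Sum.inl 0) = v (Sum.inl 0) := by
  rw [coord_inl (M *ᵥ v), coord_inl v, hM.1]
  congr 1
  conv_lhs => rw [← hM.2.2, ← Matrix.mulVec_add, hM.1]

theorem nvec_sfun {M : Matrix ι ι (ZMod 2)} (hM : IsStab M) (i : Fin 6) :
    nvec (sfun M i) = M *ᵥ nvec i := by
  apply Function.invFun_eq
  apply exists_nvec
  · rw [hM.1, Q_nvec]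
  · rw [stab_inl hM, nvec_inl]
  · rw [stab_inr hM, nvec_inr]

theorem sfun_injective {M N : Matrix ι ι (ZMod 2)} (hM : IsStab M) (hNM : N * M = 1) :
    Function.Injective (sfun M) := by
  intro i j hij
  have h := congrArg nvec hij
  rw [nvec_sfun hM, nvec_sfun hM] at h
  have h2 := congrArg (fun v => N *ᵥ v) h
  simp only [Matrix.mulVec_mulVec, hNM, Matrix.one_mulVec] at h2
  exact nvec_injective h2

abbrev T := {σ : Equiv.Perm (Fin 6) // ∀ i j : Fin 6,
    (σ i ≠ σ j ∧ ((σ i).val < 3 ↔ (σ j).val < 3)) ↔ (i ≠ j ∧ (i.val < 3 ↔ j.val < 3))}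

theorem card_T : Nat.card T = 72 := by
  rw [Nat.card_eq_fintype_card]; exact O4Plus.card_T

/-- the stabilizer as a subtype of `G` -/
abbrev S := {g : G // (g.1 : Matrix ι ι (ZMod 2)) *ᵥ e1 = e1 ∧ (g.1 : Matrix ι ι (ZMod 2)) *ᵥ f1 = f1}

theorem isStab_S (g : S) : IsStab (g.1.1 : Matrix ι ι (ZMod 2)) :=
  ⟨(mem_G_iff g.1.1).mp g.1.2, g.2.1, g.2.2⟩

noncomputable def sperm (g : S) : Equiv.Perm (Fin 6) :=
  Equiv.ofBijective (sfun g.1.1.val) (Finite.injective_iff_bijective.mp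
    (sfun_injective (N := (g.1.1⁻¹ : Matrix.GeneralLinearGroup ι (ZMod 2)).val) (isStab_S g)
      (by rw [← Units.val_mul, inv_mul_cancel, Units.val_one])))

theorem sperm_apply (g : S) (i : Fin 6) : sperm g i = sfun g.1.1.val i := rfl

theorem sperm_mem (g : S) : ∀ i j : Fin 6,
    (sperm g i ≠ sperm g j ∧ ((sperm g i).val < 3 ↔ (sperm g j).val < 3)) ↔
      (i ≠ j ∧ (i.val < 3 ↔ j.val < 3)) := by
  intro i j
  rw [← rel_iff, ← rel_iff, sperm_apply, sperm_apply, nvec_sfun (isStab_S g),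
    nvec_sfun (isStab_S g), ← Matrix.mulVec_add, (isStab_S g).1]

theorem sperm_injective : Function.Injective sperm := by
  intro g h hgh
  apply Subtype.ext
  apply Subtype.ext
  apply Units.ext
  apply matrix_ext_of_nvec (isStab_S g) (isStab_S h)
  intro i
  rw [← nvec_sfun (isStab_S g), ← nvec_sfun (isStab_S h), ← sperm_apply, ← sperm_apply, hgh]

theorem card_S_le : Nat.card S ≤ 72 := by
  let f : S → T := fun g => ⟨sperm g, sperm_mem g⟩
  have hf : Function.Injective f := by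
    intro g h hgh
    exact sperm_injective (congrArg Subtype.val hgh)
  have := Nat.card_le_card_of_injective f hf
  rwa [card_T] at this

/-- the projection to hyperbolic pairs -/
def proj (g : G) : X :=
  ⟨((g.1 : Matrix ι ι (ZMod 2)) *ᵥ e1, (g.1 : Matrix ι ι (ZMod 2)) *ᵥ f1), by
    have hg := (mem_G_iff g.1).mp g.2
    refine ⟨?_, ?_, ?_⟩
    · show Q ((g.1 : Matrix ι ι (ZMod 2)) *ᵥ e1) = 0
      rw [hg, Q_e1]
    · show Q ((g.1 : Matrix ι ι (ZMod 2)) *ᵥ f1) = 0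
      rw [hg, Q_f1]
    · show Q ((g.1 : Matrix ι ι (ZMod 2)) *ᵥ e1 + (g.1 : Matrix ι ι (ZMod 2)) *ᵥ f1) = 1
      rw [← Matrix.mulVec_add, hg, Q_e1f1]⟩

theorem card_G_le : Nat.card G ≤ 40320 := by
  classical
  haveI : Fintype G := Fintype.ofFinite G
  haveI : Fintype S := Fintype.ofFinite S
  have h1 := Finset.card_le_mul_card_image (f := proj) (Finset.univ : Finset G) 72 ?_
  · rw [Nat.card_eq_fintype_card, ← Finset.card_univ]
    refine h1.trans ?_
    have h2 : (Finset.univ.image proj).card ≤ 560 := by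
      rw [← card_X]; exact Finset.card_le_univ _
    omega
  · intro a ha
    obtain ⟨g0, -, rfl⟩ := Finset.mem_image.mp ha
    have hS := card_S_le
    rw [Nat.card_eq_fintype_card, ← Finset.card_univ] at hS
    refine le_trans ?_ hS
    have hmem : ∀ g ∈ Finset.univ.filter (fun x => proj x = proj g0),
        ((g0⁻¹ * g : G).1 : Matrix ι ι (ZMod 2)) *ᵥ e1 = e1 ∧
        ((g0⁻¹ * g : G).1 : Matrix ι ι (ZMod 2)) *ᵥ f1 = f1 := by
      intro g hg
      have hg' : proj g = proj g0 := (Finset.mem_filter.mp hg).2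
      have h1 : (g.1 : Matrix ι ι (ZMod 2)) *ᵥ e1 = (g0.1 : Matrix ι ι (ZMod 2)) *ᵥ e1 :=
        congrArg (fun p : X => p.1.1) hg'
      have h2 : (g.1 : Matrix ι ι (ZMod 2)) *ᵥ f1 = (g0.1 : Matrix ι ι (ZMod 2)) *ᵥ f1 :=
        congrArg (fun p : X => p.1.2) hg'
      have hval : ((g0⁻¹ * g : G).1 : Matrix ι ι (ZMod 2)) =
          ((g0.1⁻¹ : Matrix.GeneralLinearGroup ι (ZMod 2)) : Matrix ι ι (ZMod 2)) *
            (g.1 : Matrix ι ι (ZMod 2)) := rfl
      have hinv : ((g0.1⁻¹ : Matrix.GeneralLinearGroup ι (ZMod 2)) : Matrix ι ι (ZMod 2)) *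
          (g0.1 : Matrix ι ι (ZMod 2)) = 1 := by
        rw [← Units.val_mul, inv_mul_cancel, Units.val_one]
      constructor
      · rw [hval, ← Matrix.mulVec_mulVec, h1, Matrix.mulVec_mulVec, hinv, Matrix.one_mulVec]
      · rw [hval, ← Matrix.mulVec_mulVec, h2, Matrix.mulVec_mulVec, hinv, Matrix.one_mulVec]
    apply Finset.card_le_card_of_injOn (fun g => if h : _ then (⟨g0⁻¹ * g, h⟩ : S) else ⟨1, by
      constructor <;> simp⟩)
    · intro g _; exact Finset.mem_univ _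
    · intro g hg h hh hgh
      simp only at hgh
      rw [dif_pos (hmem g hg), dif_pos (hmem h hh)] at hgh
      have := congrArg Subtype.val hgh
      exact mul_left_cancel this

abbrev V8 := Fin 8 → ZMod 2

def Bm : Matrix (Fin 8) ι (ZMod 2) := Matrix.fromCols
  !![1,1,1; 1,1,0; 1,0,0; 1,0,1; 0,0,1; 0,1,1; 0,0,0; 0,1,0]
  !![1,1,1; 1,0,0; 1,1,0; 0,0,1; 1,0,1; 0,1,0; 0,0,0; 0,1,1]

def Cm : Matrix ι (Fin 8) (ZMod 2) := Matrix.fromRows
  !![1,1,1,0,1,0,0,0; 0,1,0,1,1,0,1,0; 0,1,1,0,0,1,1,0]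
  !![1,1,1,1,0,0,0,0; 0,0,1,1,1,0,1,0; 1,0,0,1,1,1,0,0]

def R1 : Matrix (Fin 8) (Fin 8) (ZMod 2) := Matrix.of fun _ k => if k = 6 then 1 else 0
def R2 : Matrix (Fin 8) (Fin 8) (ZMod 2) := Matrix.of fun i _ => if i = 7 then 1 else 0

theorem Cm_mul_Bm : Cm * Bm = 1 := by decide +kernel
theorem Bm_mul_Cm : Bm * Cm = 1 + R1 + R2 := by decide +kernel
theorem Cm_mul_R1 : Cm * R1 = 0 := by decide +kernel
theorem R2_mul_Bm : R2 * Bm = 0 := by decide +kernel

/-- half the weight, mod 2 -/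
def wq (y : V8) : ZMod 2 := (((Finset.univ.filter (fun i => y i = 1)).card / 2 : ℕ) : ZMod 2)

def ev (y : V8) : Prop := ∑ i, y i = 0

instance (y : V8) : Decidable (ev y) := by unfold ev; infer_instance

theorem wq_Bm : ∀ u : V, wq (Bm *ᵥ u) = Q u := by decide +kernel
theorem ev_Bm : ∀ u : V, ev (Bm *ᵥ u) := by decide +kernel
theorem wq_BC : ∀ y : V8, ev y → wq (Bm *ᵥ (Cm *ᵥ y)) = wq y := by decide +kernel

def P (σ : Equiv.Perm (Fin 8)) : Matrix (Fin 8) (Fin 8) (ZMod 2) :=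
  Matrix.of fun i j => if σ j = i then 1 else 0

theorem P_one : P 1 = 1 := by
  ext i j
  simp [P, Matrix.one_apply, eq_comm]

theorem P_mul (σ τ : Equiv.Perm (Fin 8)) : P (σ * τ) = P σ * P τ := by
  ext i k
  simp only [P, Matrix.mul_apply, Matrix.of_apply, Equiv.Perm.coe_mul, Function.comp_apply]
  rw [Finset.sum_eq_single (τ k)]
  · rw [if_pos rfl, mul_one]; rfl
  · intro b _ hb
    rw [if_neg (Ne.symm hb), mul_zero]
  · intro h; exact absurd (Finset.mem_univ _) h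

theorem P_mulVec (σ : Equiv.Perm (Fin 8)) (y : V8) : P σ *ᵥ y = fun i => y (σ⁻¹ i) := by
  ext i
  simp only [P, Matrix.mulVec, dotProduct, Matrix.of_apply]
  rw [Finset.sum_eq_single (σ⁻¹ i)]
  · simp
  · intro b _ hb
    rw [if_neg, zero_mul]
    intro h; apply hb; rw [← h]; simp
  · intro h; exact absurd (Finset.mem_univ _) h

theorem P_R1 (σ : Equiv.Perm (Fin 8)) : P σ * R1 = R1 := by
  ext i k
  simp only [P, R1, Matrix.mul_apply, Matrix.of_apply]
  rw [Finset.sum_eq_single (σ⁻¹ i)]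
  · simp
  · intro b _ hb
    rw [if_neg, zero_mul]
    intro h; apply hb; rw [← h]; simp
  · intro h; exact absurd (Finset.mem_univ _) h

theorem R2_P (σ : Equiv.Perm (Fin 8)) : R2 * P σ = R2 := by
  ext i k
  simp only [P, R2, Matrix.mul_apply, Matrix.of_apply]
  rw [Finset.sum_eq_single (σ k)]
  · simp
  · intro b _ hb
    rw [if_neg (Ne.symm hb), mul_zero]
  · intro h; exact absurd (Finset.mem_univ _) h

theorem wq_perm (σ : Equiv.Perm (Fin 8)) (y : V8) : wq (P σ *ᵥ y) = wq y := by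
  rw [P_mulVec]
  unfold wq
  congr 2
  apply Finset.card_bij (fun i _ => σ⁻¹ i)
  · intro i hi
    simpa using hi
  · intro i _ j _ h; exact σ⁻¹.injective h
  · intro j hj
    refine ⟨σ j, ?_, by simp⟩
    simpa using hj

theorem ev_perm (σ : Equiv.Perm (Fin 8)) (y : V8) (h : ev y) : ev (P σ *ᵥ y) := by
  rw [P_mulVec]
  unfold ev at *
  rw [← h]
  exact Equiv.sum_comp σ⁻¹ y

def phiMat (σ : Equiv.Perm (Fin 8)) : Matrix ι ι (ZMod 2) := Cm * P σ * Bm

theorem phiMat_one : phiMat 1 = 1 := by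
  rw [phiMat, P_one, Matrix.mul_one, Cm_mul_Bm]

theorem phiMat_mul (σ τ : Equiv.Perm (Fin 8)) : phiMat (σ * τ) = phiMat σ * phiMat τ := by
  have h : phiMat σ * phiMat τ = Cm * P σ * (Bm * Cm) * P τ * Bm := by
    simp only [phiMat, Matrix.mul_assoc]
  rw [h, Bm_mul_Cm]
  have e1 : Cm * P σ * (1 + R1 + R2) * P τ * Bm =
      Cm * (P σ * P τ) * Bm + (Cm * (P σ * R1)) * P τ * Bm + Cm * P σ * ((R2 * P τ) * Bm) := by
    simp only [Matrix.mul_add, Matrix.add_mul, Matrix.mul_one, Matrix.mul_assoc]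
  rw [e1, P_R1, Cm_mul_R1, R2_P, R2_mul_Bm, ← P_mul]
  simp [phiMat]

theorem phiMat_mem (σ : Equiv.Perm (Fin 8)) (u : V) : Q (phiMat σ *ᵥ u) = Q u := by
  have h1 : phiMat σ *ᵥ u = Cm *ᵥ (P σ *ᵥ (Bm *ᵥ u)) := by
    simp only [phiMat, Matrix.mulVec_mulVec, Matrix.mul_assoc]
  rw [h1, ← wq_Bm, wq_BC _ (ev_perm σ _ (ev_Bm u)), wq_perm, wq_Bm]

theorem phiMat_three_cycle : phiMat (Equiv.swap 0 1 * Equiv.swap 1 2) ≠ 1 := by decide +kernel


def phiHom : Equiv.Perm (Fin 8) →* Matrix ι ι (ZMod 2) where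
  toFun := phiMat
  map_one' := phiMat_one
  map_mul' := phiMat_mul

def phiGL : Equiv.Perm (Fin 8) →* Matrix.GeneralLinearGroup ι (ZMod 2) := phiHom.toHomUnits

theorem phiGL_val (σ : Equiv.Perm (Fin 8)) : ((phiGL σ : Matrix.GeneralLinearGroup ι (ZMod 2)) :
    Matrix ι ι (ZMod 2)) = phiMat σ := rfl

def phi : Equiv.Perm (Fin 8) →* G :=
  phiGL.codRestrict G (fun σ => (mem_G_iff _).mpr (fun u => by rw [phiGL_val]; exact phiMat_mem σ u))

theorem phi_val (σ : Equiv.Perm (Fin 8)) : ((phi σ).1 : Matrix ι ι (ZMod 2)) = phiMat σ := rfl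

theorem phi_injective : Function.Injective phi := by
  rw [← MonoidHom.ker_eq_bot_iff]
  by_contra hne
  haveI : Nontrivial phi.ker := (Subgroup.nontrivial_iff_ne_bot _).mpr hne
  have hA := Equiv.Perm.alternatingGroup_le_of_normal (α := Fin 8) (by simp) this
  have hc : Equiv.swap (0 : Fin 8) 1 * Equiv.swap 1 2 ∈ alternatingGroup (Fin 8) := by
    rw [Equiv.Perm.mem_alternatingGroup]
    decide
  have h1 := hA hc
  rw [MonoidHom.mem_ker] at h1
  apply phiMat_three_cycle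
  rw [← phi_val, h1]
  rfl

theorem card_perm8 : Nat.card (Equiv.Perm (Fin 8)) = 40320 := by
  rw [Nat.card_eq_fintype_card, Fintype.card_perm, Fintype.card_fin]
  rfl

theorem phi_bijective : Function.Bijective phi :=
  phi_injective.bijective_of_nat_card_le (by rw [card_perm8]; exact card_G_le)

noncomputable def phiEquiv : Equiv.Perm (Fin 8) ≃* G := MulEquiv.ofBijective phi phi_bijective

theorem commutator_G : commutator G = (alternatingGroup (Fin 8)).map (phiEquiv : Equiv.Perm (Fin 8) →* G) := by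
  have ht : Subgroup.map (phiEquiv : Equiv.Perm (Fin 8) →* G) ⊤ = ⊤ :=
    Subgroup.map_top_of_surjective _ phiEquiv.surjective
  rw [← alternatingGroup.commutator_perm_eq (by simp), commutator_def, commutator_def,
    Subgroup.map_commutator, ht]

theorem main :
    (Cfsg.Omega (ZMod 2) (Cfsg.quadFormPlus 3 (ZMod 2))).index = 2 ∧
    Nonempty (↥(Cfsg.Omega (ZMod 2) (Cfsg.quadFormPlus 3 (ZMod 2))) ≃* alternatingGroup (Fin 8)) := by
  have h : Cfsg.Omega (ZMod 2) (Cfsg.quadFormPlus 3 (ZMod 2)) =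
      (alternatingGroup (Fin 8)).map (phiEquiv : Equiv.Perm (Fin 8) →* G) := commutator_G
  rw [h]
  refine ⟨?_, ?_⟩
  · rw [Subgroup.index_map_equiv]
    exact alternatingGroup.index_eq_two
  · exact ⟨((alternatingGroup (Fin 8)).equivMapOfInjective _ phiEquiv.injective).symm⟩

end O6Plus
end Cfsg.Agent.Lib.Helper24
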