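import Mathlib
import Cfsg.Agent.Lib.Helper27.SpInvol2

set_option autoImplicit false
set_option linter.style.haveILetI false
set_option linter.unusedSimpArgs false
set_option linter.unusedSectionVars false

namespace Cfsg.Agent.Lib.Helper24.SpCent

open Matrix Cfsg
open Cfsg.Agent.Lib.Helper27.SympTransv Cfsg.Agent.Lib.Helper27.SpInvol

variable {F : Type*} [Field F] [CharP F 2] {m k : ℕ}

theorem neg_eq_self (x : F) : -x = x := CharTwo.neg_eq x

theorem mat_neg_eq {α β : Type*} (M : Matrix α β F) : -M = M := by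
  ext i j
  exact CharTwo.neg_eq _

theorem mat_add_self {α β : Type*} (M : Matrix α β F) : M + M = 0 := by
  ext i j
  exact CharTwo.add_self_eq_zero _

theorem J_tr (l : ℕ) : (J (Fin l) F)ᵀ = J (Fin l) F := by
  rw [J_transpose, mat_neg_eq]

theorem J_sq (l : ℕ) : J (Fin l) F * J (Fin l) F = 1 := by
  rw [J_squared, mat_neg_eq]

/-- the symmetric matrix `E J Eᵀ` -/
def SE (E : Matrix (Fin m ⊕ Fin m) (Fin k ⊕ Fin k) F) :
    Matrix (Fin m ⊕ Fin m) (Fin m ⊕ Fin m) F := E * J (Fin k) F * Eᵀ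

theorem SE_tr (E : Matrix (Fin m ⊕ Fin m) (Fin k ⊕ Fin k) F) : (SE E)ᵀ = SE E := by
  unfold SE
  rw [transpose_mul, transpose_mul, transpose_transpose, J_tr, Matrix.mul_assoc]

theorem SE_J_SE (E : Matrix (Fin m ⊕ Fin m) (Fin k ⊕ Fin k) F)
    (hO : Eᵀ * J (Fin m) F * E = 0) : SE E * J (Fin m) F * SE E = 0 := by
  unfold SE
  have : E * J (Fin k) F * Eᵀ * J (Fin m) F * (E * J (Fin k) F * Eᵀ) =
      E * J (Fin k) F * (Eᵀ * J (Fin m) F * E) * (J (Fin k) F * Eᵀ) := by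
    simp only [Matrix.mul_assoc]
  rw [this, hO, Matrix.mul_zero, Matrix.zero_mul]

/-- the involution matrix `1 + E J Eᵀ J` -/
def TE (E : Matrix (Fin m ⊕ Fin m) (Fin k ⊕ Fin k) F) :
    Matrix (Fin m ⊕ Fin m) (Fin m ⊕ Fin m) F := 1 + SE E * J (Fin m) F

theorem TE_mem (E : Matrix (Fin m ⊕ Fin m) (Fin k ⊕ Fin k) F)
    (hO : Eᵀ * J (Fin m) F * E = 0) : TE E ∈ symplecticGroup (Fin m) F := by
  rw [SymplecticGroup.mem_iff]
  unfold TE
  rw [transpose_add, transpose_one, transpose_mul, J_tr, SE_tr]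
  have h1 : (1 + SE E * J (Fin m) F) * J (Fin m) F = J (Fin m) F + SE E := by
    rw [Matrix.add_mul, Matrix.one_mul, Matrix.mul_assoc, J_sq, Matrix.mul_one]
  rw [h1, Matrix.mul_add, Matrix.mul_one, Matrix.add_mul, ← Matrix.mul_assoc, J_sq, Matrix.one_mul,
    ← Matrix.mul_assoc, SE_J_SE E hO, add_zero, add_assoc, mat_add_self, add_zero]

theorem TE_sq (E : Matrix (Fin m ⊕ Fin m) (Fin k ⊕ Fin k) F)
    (hO : Eᵀ * J (Fin m) F * E = 0) : TE E * TE E = 1 := by
  unfold TE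
  rw [Matrix.add_mul, Matrix.mul_add, Matrix.mul_add, Matrix.one_mul, Matrix.mul_one,
    Matrix.one_mul, ← Matrix.mul_assoc, SE_J_SE E hO, Matrix.zero_mul, add_zero, add_assoc,
    mat_add_self, add_zero]

theorem TE_sub_one (E : Matrix (Fin m ⊕ Fin m) (Fin k ⊕ Fin k) F) :
    TE E - 1 = E * (J (Fin k) F * Eᵀ * J (Fin m) F) := by
  unfold TE SE
  rw [add_sub_cancel_left]
  simp only [Matrix.mul_assoc]

theorem TE_alt (E : Matrix (Fin m ⊕ Fin m) (Fin k ⊕ Fin k) F)
    (v : Fin m ⊕ Fin m → F) : sympForm m F v (TE E *ᵥ v) = 0 := by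
  unfold TE
  rw [Matrix.add_mulVec, Matrix.one_mulVec, sf_add_right, sf_self, zero_add]
  unfold SE
  unfold sympForm
  have h1 : J (Fin m) F *ᵥ ((E * J (Fin k) F * Eᵀ * J (Fin m) F) *ᵥ v) =
      (J (Fin m) F * E) *ᵥ (J (Fin k) F *ᵥ (Eᵀ *ᵥ (J (Fin m) F *ᵥ v))) := by
    simp only [Matrix.mulVec_mulVec, Matrix.mul_assoc]
  rw [h1, Matrix.dotProduct_mulVec, ← Matrix.mulVec_transpose, transpose_mul, J_tr,
    ← Matrix.mulVec_mulVec]
  exact sf_self (m := k) (Eᵀ *ᵥ (J (Fin m) F *ᵥ v))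

section cancel

variable {α β γ : Type} [Fintype α] [Fintype β] [Fintype γ] [DecidableEq α] [DecidableEq β]
  [DecidableEq γ] {K : Type*} [Field K]

theorem surj_tr (E : Matrix α β K) (hE : Function.Injective E.mulVec) :
    Function.Surjective Eᵀ.mulVec := by
  have h1 : E.rank = Fintype.card β := by
    unfold Matrix.rank
    have hinj : Function.Injective E.mulVecLin := hE
    rw [LinearMap.finrank_range_of_inj hinj, Module.finrank_fintype_fun_eq_card]
  have h2 : Eᵀ.rank = Fintype.card β := by rw [Matrix.rank_transpose, h1]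
  have h3 : LinearMap.range Eᵀ.mulVecLin = ⊤ := by
    apply Submodule.eq_top_of_finrank_eq
    rw [Module.finrank_fintype_fun_eq_card]
    exact h2
  intro c
  have : c ∈ LinearMap.range Eᵀ.mulVecLin := by rw [h3]; exact Submodule.mem_top
  obtain ⟨v, hv⟩ := this
  exact ⟨v, hv⟩

theorem cancel_left (E : Matrix α β K) (hE : Function.Injective E.mulVec) (M M' : Matrix β γ K)
    (h : E * M = E * M') : M = M' := by
  rw [Matrix.ext_iff_mulVec]
  intro v
  apply hE
  rw [Matrix.mulVec_mulVec, Matrix.mulVec_mulVec, h]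

theorem cancel_right (R : Matrix β α K) (hR : Function.Surjective R.mulVec) (M M' : Matrix γ β K)
    (h : M * R = M' * R) : M = M' := by
  rw [Matrix.ext_iff_mulVec]
  intro c
  obtain ⟨v, rfl⟩ := hR c
  rw [Matrix.mulVec_mulVec, Matrix.mulVec_mulVec, h]

end cancel

theorem J_mulVec_bij (l : ℕ) : Function.Bijective (J (Fin l) F).mulVec := by
  have h : ∀ v, J (Fin l) F *ᵥ (J (Fin l) F *ᵥ v) = v := by
    intro v
    rw [Matrix.mulVec_mulVec, J_sq, Matrix.one_mulVec]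
  exact ⟨fun a b hab => by rw [← h a, ← h b]; exact congrArg _ hab, fun c => ⟨_, h c⟩⟩

theorem R_surj (E : Matrix (Fin m ⊕ Fin m) (Fin k ⊕ Fin k) F)
    (hE : Function.Injective E.mulVec) :
    Function.Surjective (J (Fin k) F * Eᵀ * J (Fin m) F).mulVec := by
  intro c
  obtain ⟨c1, hc1⟩ := (J_mulVec_bij (F := F) k).2 c
  obtain ⟨v1, hv1⟩ := surj_tr E hE c1
  obtain ⟨v, hv⟩ := (J_mulVec_bij (F := F) m).2 v1
  refine ⟨v, ?_⟩
  rw [← Matrix.mulVec_mulVec, ← Matrix.mulVec_mulVec, hv, hv1, hc1]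

theorem range_TE_sub_one (E : Matrix (Fin m ⊕ Fin m) (Fin k ⊕ Fin k) F)
    (hE : Function.Injective E.mulVec) :
    LinearMap.range (TE E - 1).mulVecLin = LinearMap.range E.mulVecLin := by
  rw [TE_sub_one]
  ext v
  constructor
  · rintro ⟨w, rfl⟩
    refine ⟨(J (Fin k) F * Eᵀ * J (Fin m) F) *ᵥ w, ?_⟩
    rw [Matrix.mulVecLin_apply, Matrix.mulVecLin_apply, Matrix.mulVec_mulVec]
  · rintro ⟨c, rfl⟩
    obtain ⟨w, hw⟩ := R_surj E hE c
    refine ⟨w, ?_⟩
    rw [Matrix.mulVecLin_apply, Matrix.mulVecLin_apply, ← Matrix.mulVec_mulVec, hw]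

theorem rank_TE_sub_one (E : Matrix (Fin m ⊕ Fin m) (Fin k ⊕ Fin k) F)
    (hE : Function.Injective E.mulVec) : (TE E - 1).rank = 2 * k := by
  unfold Matrix.rank
  rw [range_TE_sub_one E hE]
  have hinj : Function.Injective E.mulVecLin := hE
  rw [LinearMap.finrank_range_of_inj hinj, Module.finrank_fintype_fun_eq_card]
  simp only [Fintype.card_sum, Fintype.card_fin]
  ring

/-- orthogonal independent systems, as matrices of columns -/
abbrev XS (m k : ℕ) (F : Type*) [Field F] : Type _ :=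
  {E : Matrix (Fin m ⊕ Fin m) (Fin k ⊕ Fin k) F //
    Function.Injective E.mulVec ∧ Eᵀ * J (Fin m) F * E = 0}

theorem SE_eq_of_TE_eq (E E' : Matrix (Fin m ⊕ Fin m) (Fin k ⊕ Fin k) F) (h : TE E = TE E') :
    SE E = SE E' := by
  unfold TE at h
  have h1 : SE E * J (Fin m) F = SE E' * J (Fin m) F := add_left_cancel h
  have h2 := congrArg (fun M => M * J (Fin m) F) h1
  simp only [Matrix.mul_assoc, J_sq, Matrix.mul_one] at h2
  exact h2

/-- the fibre of `E ↦ TE E` is a torsor under the symplectic group of rank `k` -/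
theorem card_fibre [Fintype F] (E₀ : XS m k F) :
    Nat.card {E : XS m k F // TE E.1 = TE E₀.1} = Nat.card (symplecticGroup (Fin k) F) := by
  classical
  symm
  apply Nat.card_congr
  have hE₀ := E₀.2.1
  have hO₀ := E₀.2.2
  refine Equiv.ofBijective (fun A => ⟨⟨E₀.1 * A.1, ?_, ?_⟩, ?_⟩) ⟨?_, ?_⟩
  · intro a b hab
    rw [← Matrix.mulVec_mulVec, ← Matrix.mulVec_mulVec] at hab
    have h1 := hE₀ hab
    have h3 : (A⁻¹).1 * A.1 = 1 := by
      have := congrArg (fun x : symplecticGroup (Fin k) F => x.1) (inv_mul_cancel A)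
      exact this
    have h4 := congrArg (fun v => (A⁻¹).1 *ᵥ v) h1
    simp only [Matrix.mulVec_mulVec, h3, Matrix.one_mulVec] at h4
    exact h4
  · rw [transpose_mul]
    have : A.1ᵀ * E₀.1ᵀ * J (Fin m) F * (E₀.1 * A.1) =
        A.1ᵀ * (E₀.1ᵀ * J (Fin m) F * E₀.1) * A.1 := by simp only [Matrix.mul_assoc]
    rw [this, hO₀, Matrix.mul_zero, Matrix.zero_mul]
  · show TE (E₀.1 * A.1) = TE E₀.1
    unfold TE SE
    rw [transpose_mul]
    have : E₀.1 * A.1 * J (Fin k) F * (A.1ᵀ * E₀.1ᵀ) =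
        E₀.1 * (A.1 * J (Fin k) F * A.1ᵀ) * E₀.1ᵀ := by simp only [Matrix.mul_assoc]
    rw [this, SymplecticGroup.mem_iff.mp A.2]
  · intro A B hAB
    have h1 : E₀.1 * A.1 = E₀.1 * B.1 := by
      have := congrArg (fun x : {E : XS m k F // TE E.1 = TE E₀.1} => x.1.1) hAB
      exact this
    exact Subtype.ext (cancel_left E₀.1 hE₀ _ _ h1)
  · rintro ⟨⟨E, hE, hO⟩, hT⟩
    have hT' : TE E = TE E₀.1 := hT
    have hS : SE E = SE E₀.1 := SE_eq_of_TE_eq E E₀.1 hT'
    have hrange : LinearMap.range E.mulVecLin = LinearMap.range E₀.1.mulVecLin := by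
      rw [← range_TE_sub_one E hE, ← range_TE_sub_one E₀.1 hE₀, hT']
    have hcol : ∀ j, ∃ a : Fin k ⊕ Fin k → F, E₀.1 *ᵥ a = E *ᵥ (Pi.single j 1) := by
      intro j
      have : E *ᵥ (Pi.single j 1) ∈ LinearMap.range E₀.1.mulVecLin := by
        rw [← hrange]
        exact ⟨_, rfl⟩
      obtain ⟨a, ha⟩ := this
      exact ⟨a, ha⟩
    choose a ha using hcol
    obtain ⟨A, hA⟩ : ∃ A : Matrix (Fin k ⊕ Fin k) (Fin k ⊕ Fin k) F,
        A = Matrix.of (fun i j => a j i) := ⟨_, rfl⟩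
    have hEA : E₀.1 * A = E := by
      ext i j
      have h1 := congrFun (ha j) i
      rw [Matrix.mulVec_single_one] at h1
      have h1' : (E₀.1 *ᵥ a j) i = E i j := h1
      rw [Matrix.mul_apply, ← h1']
      unfold Matrix.mulVec dotProduct
      apply Finset.sum_congr rfl
      intro l _
      rw [hA]
      rfl
    have hAmem : A ∈ symplecticGroup (Fin k) F := by
      rw [SymplecticGroup.mem_iff]
      unfold SE at hS
      rw [← hEA, transpose_mul] at hS
      have h1 : E₀.1 * (A * J (Fin k) F * Aᵀ * E₀.1ᵀ) = E₀.1 * (J (Fin k) F * E₀.1ᵀ) := by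
        simp only [Matrix.mul_assoc] at hS ⊢
        exact hS
      have h2 := cancel_left E₀.1 hE₀ _ _ h1
      exact cancel_right E₀.1ᵀ (surj_tr E₀.1 hE₀) _ _ h2
    refine ⟨⟨A, hAmem⟩, ?_⟩
    apply Subtype.ext
    apply Subtype.ext
    exact hEA

end Cfsg.Agent.Lib.Helper24.SpCent
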