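import Mathlib
import Cfsg.Agent.Lib.Helper24.SpCentA

set_option autoImplicit false
set_option linter.style.haveILetI false
set_option linter.unusedSimpArgs false
set_option linter.unusedSectionVars false

namespace Cfsg.Agent.Lib.Helper24.SpCent

open Matrix Cfsg
open Cfsg.Agent.Lib.Helper27.SympTransv Cfsg.Agent.Lib.Helper27.SpInvol

variable {F : Type*} [Field F] {m : ℕ}

/-- orthogonal independent systems of `n` vectors -/
abbrev YS (m n : ℕ) (F : Type*) [Field F] : Type _ :=
  {e : Fin n → (Fin m ⊕ Fin m → F) //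
    LinearIndependent F e ∧ ∀ i j, sympForm m F (e i) (e j) = 0}

theorem span_le_perp {n : ℕ} (e : YS m n F) :
    Submodule.span F (Set.range e.1) ≤ perp (Submodule.span F (Set.range e.1)) := by
  rw [Submodule.span_le]
  rintro _ ⟨j, rfl⟩
  rw [SetLike.mem_coe, mem_perp]
  intro w hw
  induction hw using Submodule.span_induction with
  | mem x hx =>
    obtain ⟨i, rfl⟩ := hx
    exact e.2.2 i j
  | zero => exact sf_zero_left _
  | add x y _ _ hx hy => rw [sf_add_left, hx, hy, add_zero]
  | smul c x _ hx => rw [sf_smul_left, hx, mul_zero]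

theorem mem_perp_span_iff {n : ℕ} (e : Fin n → (Fin m ⊕ Fin m → F)) (v : Fin m ⊕ Fin m → F) :
    v ∈ perp (Submodule.span F (Set.range e)) ↔ ∀ i, sympForm m F (e i) v = 0 := by
  rw [mem_perp]
  constructor
  · intro h i
    exact h _ (Submodule.subset_span ⟨i, rfl⟩)
  · intro h w hw
    induction hw using Submodule.span_induction with
    | mem x hx =>
      obtain ⟨i, rfl⟩ := hx
      exact h i
    | zero => exact sf_zero_left _
    | add x y _ _ hx hy => rw [sf_add_left, hx, hy, add_zero]
    | smul c x _ hx => rw [sf_smul_left, hx, mul_zero]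

theorem card_submodule [Fintype F] (S : Submodule F (Fin m ⊕ Fin m → F)) :
    Nat.card S = Fintype.card F ^ Module.finrank F S := by
  classical
  rw [Nat.card_eq_fintype_card]
  exact Module.card_eq_pow_finrank

theorem card_ext_set [Fintype F] {n : ℕ} (e : YS m n F) :
    Nat.card {v : Fin m ⊕ Fin m → F // (∀ i, sympForm m F (e.1 i) v = 0) ∧
      v ∉ Submodule.span F (Set.range e.1)} =
      Fintype.card F ^ (2 * m - n) - Fintype.card F ^ n := by
  classical
  obtain ⟨S, hS⟩ : ∃ S : Submodule F (Fin m ⊕ Fin m → F), S = Submodule.span F (Set.range e.1) :=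
    ⟨_, rfl⟩
  have hSP : S ≤ perp S := by rw [hS]; exact span_le_perp e
  have hSdim : Module.finrank F S = n := by
    rw [hS, finrank_span_eq_card e.2.1, Fintype.card_fin]
  have hPdim : Module.finrank F (perp S) = 2 * m - n := by rw [finrank_perp, hSdim]
  have h1 : Nat.card {v : Fin m ⊕ Fin m → F // (∀ i, sympForm m F (e.1 i) v = 0) ∧
      v ∉ Submodule.span F (Set.range e.1)} =
      Nat.card {v : Fin m ⊕ Fin m → F // v ∈ perp S ∧ v ∉ S} := by
    apply Nat.card_congr
    apply Equiv.subtypeEquivRight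
    intro v
    rw [hS, mem_perp_span_iff]
  rw [h1, Nat.card_eq_fintype_card, Fintype.card_subtype]
  have h3 : (Finset.univ.filter (fun v : Fin m ⊕ Fin m → F => v ∈ perp S ∧ v ∉ S)) =
      (Finset.univ.filter (fun v : Fin m ⊕ Fin m → F => v ∈ perp S)) \
        (Finset.univ.filter (fun v : Fin m ⊕ Fin m → F => v ∈ S)) := by
    ext v
    simp only [Finset.mem_filter, Finset.mem_univ, true_and, Finset.mem_sdiff]
  have hsub : (Finset.univ.filter (fun v : Fin m ⊕ Fin m → F => v ∈ S)) ⊆
      (Finset.univ.filter (fun v : Fin m ⊕ Fin m → F => v ∈ perp S)) := by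
    intro v hv
    simp only [Finset.mem_filter, Finset.mem_univ, true_and] at hv ⊢
    exact hSP hv
  rw [h3, Finset.card_sdiff_of_subset hsub, ← Fintype.card_subtype, ← Fintype.card_subtype,
    ← Nat.card_eq_fintype_card, ← Nat.card_eq_fintype_card]
  have e1 : Nat.card {v : Fin m ⊕ Fin m → F // v ∈ perp S} = Nat.card (perp S) := rfl
  have e2 : Nat.card {v : Fin m ⊕ Fin m → F // v ∈ S} = Nat.card S := rfl
  rw [e1, e2, card_submodule, card_submodule, hPdim, hSdim]

/-- extending a system by one vector -/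
noncomputable def ysEquiv (n : ℕ) : YS m (n + 1) F ≃
    Σ e : YS m n F, {v : Fin m ⊕ Fin m → F // (∀ i, sympForm m F (e.1 i) v = 0) ∧
      v ∉ Submodule.span F (Set.range e.1)} where
  toFun e := ⟨⟨Fin.init e.1, by
      have h := e.2.1
      rw [← Fin.snoc_init_self e.1, linearIndependent_finSnoc] at h
      exact h.1, fun i j => e.2.2 _ _⟩,
    ⟨e.1 (Fin.last n), fun i => e.2.2 _ _, by
      have h := e.2.1
      rw [← Fin.snoc_init_self e.1, linearIndependent_finSnoc] at h
      exact h.2⟩⟩
  invFun p := ⟨Fin.snoc p.1.1 p.2.1, by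
      rw [linearIndependent_finSnoc]
      exact ⟨p.1.2.1, p.2.2.2⟩, by
      intro i j
      refine Fin.lastCases ?_ (fun i' => ?_) i <;> refine Fin.lastCases ?_ (fun j' => ?_) j
      · rw [Fin.snoc_last]; exact sf_self _
      · rw [Fin.snoc_last, Fin.snoc_castSucc, sf_swap, p.2.2.1 j', neg_zero]
      · rw [Fin.snoc_last, Fin.snoc_castSucc]; exact p.2.2.1 i'
      · rw [Fin.snoc_castSucc, Fin.snoc_castSucc]; exact p.1.2.2 i' j'⟩
  left_inv e := by
    apply Subtype.ext
    exact Fin.snoc_init_self e.1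
  right_inv p := by
    obtain ⟨⟨e, he⟩, ⟨v, hv⟩⟩ := p
    apply Sigma.subtype_ext
    · apply Subtype.ext
      show Fin.init (Fin.snoc e v : Fin (n + 1) → (Fin m ⊕ Fin m → F)) = e
      exact Fin.init_snoc _ _
    · show (Fin.snoc e v : Fin (n + 1) → (Fin m ⊕ Fin m → F)) (Fin.last n) = v
      exact Fin.snoc_last _ _

theorem card_YS_succ [Fintype F] (n : ℕ) :
    Nat.card (YS m (n + 1) F) =
      Nat.card (YS m n F) * (Fintype.card F ^ (2 * m - n) - Fintype.card F ^ n) := by
  classical
  rw [Nat.card_congr (ysEquiv (F := F) (m := m) n)]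
  have : Finite (YS m n F) := Subtype.finite
  have := Fintype.ofFinite (YS m n F)
  rw [Nat.card_sigma]
  simp only [card_ext_set]
  rw [Finset.sum_const, Finset.card_univ, smul_eq_mul, Nat.card_eq_fintype_card]

theorem card_YS [Fintype F] (n : ℕ) :
    Nat.card (YS m n F) =
      ∏ i ∈ Finset.range n, (Fintype.card F ^ (2 * m - i) - Fintype.card F ^ i) := by
  induction n with
  | zero =>
    rw [Finset.prod_range_zero, Nat.card_eq_one_iff_unique]
    refine ⟨⟨?_⟩, ⟨⟨Fin.elim0, linearIndependent_empty_type, fun i => Fin.elim0 i⟩⟩⟩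
    intro a b
    apply Subtype.ext
    funext i
    exact Fin.elim0 i
  | succ n ih =>
    rw [card_YS_succ, ih, Finset.prod_range_succ]

end Cfsg.Agent.Lib.Helper24.SpCent
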