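import Mathlib
import Cfsg.Agent.Lib.Helper24.SpCentB

set_option autoImplicit false
set_option linter.style.haveILetI false
set_option linter.unusedSimpArgs false
set_option linter.unusedSectionVars false

namespace Cfsg.Agent.Lib.Helper24.SpCent

open Matrix Cfsg
open Cfsg.Agent.Lib.Helper27.SympTransv Cfsg.Agent.Lib.Helper27.SpInvol

variable {F : Type*} [Field F] {m k : ℕ}

theorem mulVec_of_cols {α β : Type} [Fintype β] (E : Matrix α β F) (c : β → F) :
    E *ᵥ c = ∑ s, c s • (fun i => E i s) := by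
  funext i
  rw [Finset.sum_apply]
  unfold Matrix.mulVec dotProduct
  apply Finset.sum_congr rfl
  intro s _
  rw [Pi.smul_apply, smul_eq_mul, mul_comm]

theorem inj_iff_li {α β : Type} [Fintype β] [DecidableEq β] (E : Matrix α β F) :
    Function.Injective E.mulVec ↔ LinearIndependent F (fun (s : β) (i : α) => E i s) := by
  rw [Fintype.linearIndependent_iff]
  constructor
  · intro h c hc s
    have h1 : E *ᵥ c = E *ᵥ 0 := by rw [mulVec_of_cols, hc, Matrix.mulVec_zero]
    have := h h1
    rw [this]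
    rfl
  · intro h a b hab
    have h1 : E *ᵥ (a - b) = 0 := by rw [Matrix.mulVec_sub, hab, sub_self]
    rw [mulVec_of_cols] at h1
    funext s
    have := h (a - b) h1 s
    rw [Pi.sub_apply, sub_eq_zero] at this
    exact this

theorem orth_entry {β : Type} [Fintype β] (E : Matrix (Fin m ⊕ Fin m) β F) (s t : β) :
    (Eᵀ * J (Fin m) F * E) s t = sympForm m F (fun i => E i s) (fun i => E i t) := by
  rw [Matrix.mul_assoc, Matrix.mul_apply]
  unfold sympForm dotProduct
  apply Finset.sum_congr rfl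
  intro a _
  rw [Matrix.transpose_apply]
  congr 1

theorem orth_iff {β : Type} [Fintype β] (E : Matrix (Fin m ⊕ Fin m) β F) :
    Eᵀ * J (Fin m) F * E = 0 ↔
      ∀ s t, sympForm m F (fun i => E i s) (fun i => E i t) = 0 := by
  constructor
  · intro h s t
    rw [← orth_entry, h]
    rfl
  · intro h
    ext s t
    rw [orth_entry, h]
    rfl

/-- matrices of columns versus systems -/
noncomputable def xsEquiv : XS m k F ≃ YS m (k + k) F where
  toFun E := ⟨fun j i => E.1 i (finSumFinEquiv.symm j), by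
      have h := (inj_iff_li E.1).mp E.2.1
      exact (linearIndependent_equiv finSumFinEquiv.symm).mpr h, fun i j =>
      (orth_iff E.1).mp E.2.2 _ _⟩
  invFun e := ⟨Matrix.of (fun i s => e.1 (finSumFinEquiv s) i), by
      rw [inj_iff_li]
      exact (linearIndependent_equiv finSumFinEquiv).mpr e.2.1, by
      rw [orth_iff]
      intro s t
      exact e.2.2 _ _⟩
  left_inv E := by
    apply Subtype.ext
    ext i s
    show E.1 i (finSumFinEquiv.symm (finSumFinEquiv s)) = E.1 i s
    rw [Equiv.symm_apply_apply]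
  right_inv e := by
    apply Subtype.ext
    funext j i
    show e.1 (finSumFinEquiv (finSumFinEquiv.symm j)) i = e.1 j i
    rw [Equiv.apply_symm_apply]

theorem card_XS [Fintype F] :
    Nat.card (XS m k F) =
      ∏ i ∈ Finset.range (k + k), (Fintype.card F ^ (2 * m - i) - Fintype.card F ^ i) := by
  rw [Nat.card_congr xsEquiv, card_YS]

section chartwo

variable [CharP F 2]

theorem J_mulVec_apply (c : Fin k ⊕ Fin k → F) (s : Fin k ⊕ Fin k) :
    (J (Fin k) F *ᵥ c) s = c (Sum.swap s) := by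
  unfold Matrix.J
  rw [Matrix.fromBlocks_mulVec]
  rcases s with a | a
  · simp only [Sum.elim_inl, Matrix.zero_mulVec, zero_add, Matrix.neg_mulVec, Matrix.one_mulVec,
      Pi.neg_apply, Function.comp_apply, Sum.swap_inl]
    exact CharTwo.neg_eq _
  · simp only [Sum.elim_inr, Matrix.zero_mulVec, add_zero, Matrix.one_mulVec,
      Function.comp_apply, Sum.swap_inr]

theorem sf_comm (u v : Fin m ⊕ Fin m → F) : sympForm m F u v = sympForm m F v u := by
  rw [sf_swap, CharTwo.neg_eq]

/-- involutions of alternating type and rank `2k` -/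
abbrev CA (m k : ℕ) (F : Type*) [Field F] : Type _ :=
  {t : symplecticGroup (Fin m) F // t * t = 1 ∧ (t.1 - 1).rank = 2 * k ∧
    ∀ v, sympForm m F v (t.1 *ᵥ v) = 0}

noncomputable def psi (E : XS m k F) : CA m k F :=
  ⟨⟨TE E.1, TE_mem E.1 E.2.2⟩, Subtype.ext (TE_sq E.1 E.2.2), rank_TE_sub_one E.1 E.2.1,
    TE_alt E.1⟩

theorem psi_val (E : XS m k F) : (psi E).1.1 = TE E.1 := rfl

theorem SEJ_mulVec (E : Matrix (Fin m ⊕ Fin m) (Fin k ⊕ Fin k) F) (v : Fin m ⊕ Fin m → F) :
    (SE E * J (Fin m) F) *ᵥ v =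
      ∑ s, sympForm m F (fun i => E i s) v • (fun i => E i (Sum.swap s)) := by
  unfold SE
  have h1 : (E * J (Fin k) F * Eᵀ * J (Fin m) F) *ᵥ v =
      E *ᵥ (J (Fin k) F *ᵥ (Eᵀ *ᵥ (J (Fin m) F *ᵥ v))) := by
    simp only [Matrix.mulVec_mulVec, Matrix.mul_assoc]
  rw [h1, mulVec_of_cols]
  have h2 : ∀ s, (J (Fin k) F *ᵥ (Eᵀ *ᵥ (J (Fin m) F *ᵥ v))) s =
      sympForm m F (fun i => E i (Sum.swap s)) v := by
    intro s
    rw [J_mulVec_apply]
    rfl
  rw [Finset.sum_congr rfl (fun s _ => by rw [h2 s])]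
  apply Fintype.sum_equiv (Equiv.sumComm (Fin k) (Fin k))
  intro s
  show _ = sympForm m F (fun i => E i (Sum.swap s)) v • fun i => E i (Sum.swap (Sum.swap s))
  rw [Sum.swap_swap]

theorem psi_surj [Fintype F] : Function.Surjective (psi (F := F) (m := m) (k := k)) := by
  classical
  rintro ⟨a, haa, hrank, halt⟩
  have halt' : ∀ v, sympForm m F (Nof a v) v = 0 := (Nof_alt_iff a).mpr halt
  obtain ⟨k', hk', x, y, hxy, hform⟩ := exists_normal_alt (Nof_sadj haa) halt' (2 * k)
    (by rw [Nof_rank]; exact hrank)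
  have hkk : k = k' := by omega
  subst hkk
  obtain ⟨w, hw⟩ : ∃ w : Fin k ⊕ Fin k → (Fin m ⊕ Fin m → F), w = Sum.elim x y := ⟨_, rfl⟩
  rw [← hw] at hform
  have hg := psys_gsys hxy
  rw [← hw] at hg
  have hli := gsys_li (fun s => Sum.swap_swap s) hg
  obtain ⟨E, hE⟩ : ∃ E : Matrix (Fin m ⊕ Fin m) (Fin k ⊕ Fin k) F,
      E = Matrix.of (fun i s => Nof a (w s) i) := ⟨_, rfl⟩
  have hcol : ∀ s, (fun i => E i s) = Nof a (w s) := by
    intro s
    rw [hE]
    rfl
  have hinj : Function.Injective E.mulVec := by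
    rw [inj_iff_li]
    have : (fun (s : Fin k ⊕ Fin k) (i : Fin m ⊕ Fin m) => E i s) = fun s => Nof a (w s) := by
      funext s
      exact hcol s
    rw [this]
    exact hli
  have horth : Eᵀ * J (Fin m) F * E = 0 := by
    rw [orth_iff]
    intro s t
    rw [hcol, hcol, Nof_sadj haa, Nof_sq haa, sf_zero_right]
  refine ⟨⟨E, hinj, horth⟩, ?_⟩
  apply Subtype.ext
  apply Subtype.ext
  show TE E = a.1
  rw [Matrix.ext_iff_mulVec]
  intro v
  unfold TE
  rw [Matrix.add_mulVec, Matrix.one_mulVec, SEJ_mulVec]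
  have h1 : a.1 *ᵥ v = v + Nof a v := by
    rw [Nof_apply]
    show a.1 *ᵥ v = v + (a.1 *ᵥ v - v)
    abel
  rw [h1, hform v]
  congr 1
  apply Finset.sum_congr rfl
  intro s _
  rw [hcol, hcol, Nof_sadj haa v (w s), sf_comm]

theorem card_XS_eq [Fintype F] :
    Nat.card (XS m k F) = Nat.card (CA m k F) * Nat.card (symplecticGroup (Fin k) F) := by
  classical
  have : Finite (XS m k F) := Subtype.finite
  have : Finite (CA m k F) := Subtype.finite
  have := Fintype.ofFinite (CA m k F)
  rw [← Nat.card_congr (Equiv.sigmaFiberEquiv (psi (F := F) (m := m) (k := k))), Nat.card_sigma]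
  have hfib : ∀ t : CA m k F, Nat.card {E : XS m k F // psi E = t} =
      Nat.card (symplecticGroup (Fin k) F) := by
    intro t
    obtain ⟨E₀, hE₀⟩ := psi_surj t
    rw [← card_fibre E₀]
    apply Nat.card_congr
    apply Equiv.subtypeEquivRight
    intro E
    rw [← hE₀]
    constructor
    · intro h
      have := congrArg (fun x : CA m k F => x.1.1) h
      exact this
    · intro h
      apply Subtype.ext
      apply Subtype.ext
      exact h
  rw [Finset.sum_congr rfl (fun t _ => hfib t), Finset.sum_const, Finset.card_univ, smul_eq_mul]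
  congr 1
  exact Nat.card_eq_fintype_card.symm

end chartwo

end Cfsg.Agent.Lib.Helper24.SpCent
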