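import Mathlib
import Cfsg.Agent.Lib.Helper24.SpCentC
import Cfsg.Agent.Lib.Helper24.ClassCount
import Cfsg.Agent.S0245

set_option autoImplicit false
set_option linter.style.haveILetI false
set_option linter.unusedSimpArgs false
set_option linter.unusedSectionVars false

namespace Cfsg.Agent.Lib.Helper24.SpCent

open Matrix Cfsg
open Cfsg.Agent.Lib.Helper27.SympTransv Cfsg.Agent.Lib.Helper27.SpInvol

theorem prod_split (q m s : ℕ) (hsm : s ≤ m) :
    ∏ j ∈ Finset.range m, (q ^ (2 * (j + 1)) - 1) =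
      (∏ j ∈ Finset.range (m - s), (q ^ (2 * (j + 1)) - 1)) *
        ∏ i ∈ Finset.range s, (q ^ (2 * (m - i)) - 1) := by
  induction s with
  | zero => rw [Finset.prod_range_zero, mul_one, Nat.sub_zero]
  | succ s ih =>
    rw [ih (by omega), Finset.prod_range_succ _ s]
    obtain ⟨e, he⟩ : ∃ e, m - s = e + 1 := ⟨m - s - 1, by omega⟩
    have he' : m - (s + 1) = e := by omega
    rw [he, he', Finset.prod_range_succ, ← he]
    ring

theorem X_formula (q m s : ℕ) (hsm : s ≤ m) :
    ∏ i ∈ Finset.range s, (q ^ (2 * m - i) - q ^ i) =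
      q ^ (∑ i ∈ Finset.range s, i) * ∏ i ∈ Finset.range s, (q ^ (2 * (m - i)) - 1) := by
  induction s with
  | zero => simp
  | succ s ih =>
    rw [Finset.prod_range_succ, Finset.prod_range_succ, Finset.sum_range_succ, ih (by omega),
      pow_add]
    have h1 : q ^ (2 * m - s) - q ^ s = q ^ s * (q ^ (2 * (m - s)) - 1) := by
      rw [Nat.mul_sub, mul_one, ← pow_add]
      congr 2
      omega
    rw [h1]
    ring

theorem arith_main (q m s : ℕ) (hsm : s ≤ m) :
    q ^ (2 * m * s - (3 * s ^ 2 - s) / 2) *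
      (q ^ ((m - s) ^ 2) * ∏ i ∈ Finset.range (m - s), (q ^ (2 * (i + 1)) - 1)) *
      ∏ i ∈ Finset.range s, (q ^ (2 * m - i) - q ^ i) =
    q ^ (m ^ 2) * ∏ i ∈ Finset.range m, (q ^ (2 * (i + 1)) - 1) := by
  rw [X_formula q m s hsm, prod_split q m s hsm]
  obtain ⟨T, hT⟩ : ∃ T, T = ∑ i ∈ Finset.range s, i := ⟨_, rfl⟩
  rw [← hT]
  have hT2 : T * 2 = s * (s - 1) := by rw [hT]; exact Finset.sum_range_id_mul_two s
  have hss : s * s = 2 * T + s := by
    cases s with
    | zero => simp at hT2; omega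
    | succ n =>
      rw [Nat.add_sub_cancel] at hT2
      nlinarith [hT2]
  obtain ⟨d, rfl⟩ : ∃ d, m = s + d := ⟨m - s, by omega⟩
  have hA : (3 * s ^ 2 - s) / 2 = 3 * T + s := by
    rw [pow_two, hss]
    omega
  have e1 : 2 * (s + d) * s = 4 * T + 2 * s + 2 * (d * s) := by
    have : 2 * (s + d) * s = 2 * (s * s) + 2 * (d * s) := by ring
    rw [this, hss]
    ring
  have hexp : (2 * (s + d) * s - (3 * s ^ 2 - s) / 2) + (s + d - s) ^ 2 + T = (s + d) ^ 2 := by
    rw [hA, e1, Nat.add_sub_cancel_left]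
    have : (s + d) ^ 2 = s * s + 2 * (d * s) + d ^ 2 := by ring
    rw [this, hss]
    omega
  have hpow : q ^ (2 * (s + d) * s - (3 * s ^ 2 - s) / 2) * q ^ ((s + d - s) ^ 2) * q ^ T =
      q ^ ((s + d) ^ 2) := by
    rw [← pow_add, ← pow_add, hexp]
  rw [← hpow]
  ring

variable {F : Type*} [Field F] [CharP F 2] {m k : ℕ}

theorem conj_iff_CA [Fintype F] (t : symplecticGroup (Fin m) F) (ht : t * t = 1)
    (hk : (t.1 - 1).rank = 2 * k) (halt : ∀ v, sympForm m F v (t.1 *ᵥ v) = 0)
    (g : symplecticGroup (Fin m) F) :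
    IsConj t g ↔ (g * g = 1 ∧ (g.1 - 1).rank = 2 * k ∧ ∀ v, sympForm m F v (g.1 *ᵥ v) = 0) := by
  constructor
  · intro h
    rw [isConj_iff] at h
    obtain ⟨c, hc⟩ := h
    have hct : c * t = g * c := by rw [← hc]; group
    have hmat : c.1 * t.1 = g.1 * c.1 := by
      have := congrArg (fun x : symplecticGroup (Fin m) F => x.1) hct
      exact this
    refine ⟨?_, ?_, ?_⟩
    · rw [← hc]
      calc c * t * c⁻¹ * (c * t * c⁻¹) = c * (t * t) * c⁻¹ := by group
        _ = 1 := by rw [ht]; group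
    · have h3 : c.1 * (t.1 - 1) = (g.1 - 1) * c.1 := by
        rw [mul_sub, sub_mul, hmat, mul_one, one_mul]
      have hinv : c.1 * (c⁻¹).1 = 1 := by
        have := congrArg (fun x : symplecticGroup (Fin m) F => x.1) (mul_inv_cancel c)
        exact this
      have hdet : IsUnit c.1.det := Matrix.isUnit_det_of_right_inverse hinv
      rw [← hk, ← Matrix.rank_mul_eq_right_of_isUnit_det c.1 (t.1 - 1) hdet, h3,
        Matrix.rank_mul_eq_left_of_isUnit_det c.1 (g.1 - 1) hdet]
    · intro v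
      have h1 : g.1 *ᵥ v = act c (act t (act c⁻¹ v)) := by
        rw [← act_mul, ← act_mul, hc]
        rfl
      rw [h1]
      obtain ⟨u, hu⟩ : ∃ u, u = act c⁻¹ v := ⟨_, rfl⟩
      have h2 : v = act c u := by rw [hu, ← act_mul, mul_inv_cancel, act_one]
      rw [← hu, h2, act_preserves]
      exact halt _
  · rintro ⟨hgg, hrank, hgalt⟩
    exact invol_conj t g ht hgg (by rw [hk, hrank])
      ((Nof_alt_iff t).trans ⟨fun _ => hgalt, fun _ => halt⟩ |>.trans (Nof_alt_iff g).symm)

/-- centraliser order from the class equation and the count of orthogonal systems -/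
theorem centralizer_formula [Fintype F] {q : ℕ} (hF : Fintype.card F = q)
    (t : symplecticGroup (Fin m) F) (s G : ℕ) (hsm : s ≤ m)
    (hG : Nat.card {g : symplecticGroup (Fin m) F // IsConj t g} * G =
      ∏ i ∈ Finset.range s, (q ^ (2 * m - i) - q ^ i)) :
    Nat.card ↥(Subgroup.centralizer ({t} : Set ↥(symplecticGroup (Fin m) F))) =
      q ^ (2 * m * s - (3 * s ^ 2 - s) / 2) * G *
        (q ^ ((m - s) ^ 2) * ∏ i ∈ Finset.range (m - s), (q ^ (2 * (i + 1)) - 1)) := by
  have hq : 2 ≤ q := by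
    rw [← hF]
    exact Fintype.one_lt_card
  have h1 := Cfsg.Agent.Lib.Helper24.card_conj_mul_card_centralizer t
  rw [Cfsg.Agent.S0245.result hF m] at h1
  have hX : 0 < ∏ i ∈ Finset.range s, (q ^ (2 * m - i) - q ^ i) := by
    apply Finset.prod_pos
    intro i hi
    rw [Finset.mem_range] at hi
    have : q ^ i < q ^ (2 * m - i) := Nat.pow_lt_pow_right (by omega) (by omega)
    omega
  have h2 := arith_main q m s hsm
  apply Nat.eq_of_mul_eq_mul_right hX
  rw [← hG]
  calc Nat.card ↥(Subgroup.centralizer ({t} : Set ↥(symplecticGroup (Fin m) F))) *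
      (Nat.card {g : symplecticGroup (Fin m) F // IsConj t g} * G)
      = (Nat.card {g : symplecticGroup (Fin m) F // IsConj t g} *
          Nat.card ↥(Subgroup.centralizer ({t} : Set ↥(symplecticGroup (Fin m) F)))) * G := by
        ring
    _ = (q ^ (m ^ 2) * ∏ i ∈ Finset.range m, (q ^ (2 * (i + 1)) - 1)) * G := by rw [h1]
    _ = _ := by
        rw [← h2, hG]
        ring

end Cfsg.Agent.Lib.Helper24.SpCent
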