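import Mathlib
import Cfsg.Agent.Lib.Helper24.SpCentD

set_option autoImplicit false
set_option linter.style.haveILetI false
set_option linter.unusedSimpArgs false
set_option linter.unusedSectionVars false

namespace Cfsg.Agent.Lib.Helper24.SpCent

open Matrix Cfsg
open Cfsg.Agent.Lib.Helper27.SympTransv Cfsg.Agent.Lib.Helper27.SpInvol

variable {F : Type*} [Field F] [CharP F 2] {m k : ℕ}

theorem sq_inj {a b : F} (h : a ^ 2 = b ^ 2) : a = b := by
  have h2 : (2 : F) = 0 := CharP.cast_eq_zero F 2
  have h1 : (a - b) * (a - b) = 0 := by linear_combination h - (a * b - b ^ 2) * h2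
  rcases mul_eq_zero.mp h1 with h | h <;> exact sub_eq_zero.mp h

theorem defect_unique {u u' : Fin m ⊕ Fin m → F}
    (h : ∀ v, sympForm m F v u ^ 2 = sympForm m F v u' ^ 2) : u = u' := by
  have h1 : u - u' = 0 := by
    apply sf_nondeg
    intro w
    rw [sf_comm, sf_sub_right, sq_inj (h w), sub_self]
  exact sub_eq_zero.mp h1

theorem sf_act_eq (g : symplecticGroup (Fin m) F) (v : Fin m ⊕ Fin m → F) :
    sympForm m F v (act g v) = sympForm m F (Nof g v) v := by
  rw [Nof_apply, sf_sub_left, sf_self, sub_zero, sf_comm]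

theorem sum_sq {ι : Type*} (s : Finset ι) (f : ι → F) : (∑ i ∈ s, f i) ^ 2 = ∑ i ∈ s, f i ^ 2 := by
  classical
  induction s using Finset.induction_on with
  | empty => simp
  | insert a s ha ih =>
    rw [Finset.sum_insert ha, Finset.sum_insert ha, ← ih]
    have h2 : (2 : F) = 0 := CharP.cast_eq_zero F 2
    linear_combination (f a * ∑ i ∈ s, f i) * h2

/-- the defect vector of an involution -/
theorem exists_defect [Fintype F] (g : symplecticGroup (Fin m) F) (hgg : g * g = 1) :
    ∃ u ∈ LinearMap.range (Nof g), ∀ v, sympForm m F v (act g v) = sympForm m F v u ^ 2 := by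
  by_cases halt : ∀ v, sympForm m F (Nof g v) v = 0
  · refine ⟨0, Submodule.zero_mem _, fun v => ?_⟩
    rw [sf_act_eq, halt, sf_zero_right]
    ring
  · push Not at halt
    obtain ⟨x, hx, hform⟩ := exists_normal_ortho (Nof_sadj hgg) halt _ rfl
    refine ⟨∑ i, Nof g (x i), Submodule.sum_mem _ (fun i _ => LinearMap.mem_range_self _ _), ?_⟩
    intro v
    rw [sf_act_eq, sf_sum_right, sum_sq]
    conv_lhs => rw [hform v]
    rw [sf_sum_left]
    apply Finset.sum_congr rfl
    intro i _
    rw [sf_smul_left, Nof_sadj hgg v (x i), sf_comm (Nof g (x i)) v]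
    ring

section twist

variable (g₀ : symplecticGroup (Fin m) F) (u : Fin m ⊕ Fin m → F)

theorem act_twist (hu : Nof g₀ u = 0) (v : Fin m ⊕ Fin m → F) :
    act (g₀ * tv u 1) v = act g₀ v + sympForm m F v u • u := by
  have hgu : act g₀ u = u := by
    have := hu
    rw [Nof_apply, sub_eq_zero] at this
    exact this
  rw [act_mul, act_tv, act_add, act_smul, hgu, one_mul]

theorem Nof_twist (hu : Nof g₀ u = 0) (v : Fin m ⊕ Fin m → F) :
    Nof (g₀ * tv u 1) v = Nof g₀ v + sympForm m F v u • u := by
  rw [Nof_apply, act_twist g₀ u hu, Nof_apply]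
  abel

theorem twist_sq (hgg : g₀ * g₀ = 1) (hu : Nof g₀ u = 0) :
    (g₀ * tv u 1) * (g₀ * tv u 1) = 1 := by
  have hgu : act g₀ u = u := by
    have := hu
    rw [Nof_apply, sub_eq_zero] at this
    exact this
  apply act_ext
  intro v
  rw [act_mul, act_twist g₀ u hu v, act_twist g₀ u hu, act_add, act_smul, hgu, ← act_mul, hgg,
    act_one, sf_add_left, sf_smul_left, sf_self, mul_zero, add_zero]
  have h1 : sympForm m F (act g₀ v) u = sympForm m F v u := by
    conv_lhs => rw [← hgu]
    exact act_preserves g₀ v u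
  rw [h1, add_assoc, ← add_smul, CharTwo.add_self_eq_zero, zero_smul, add_zero]

theorem twist_form (hu : Nof g₀ u = 0) (v : Fin m ⊕ Fin m → F) :
    sympForm m F v (act (g₀ * tv u 1) v) =
      sympForm m F v (act g₀ v) + sympForm m F v u ^ 2 := by
  rw [act_twist g₀ u hu, sf_add_right, sf_smul_right]
  ring

theorem twist_twist (hu : Nof g₀ u = 0) : g₀ * tv u 1 * tv u 1 = g₀ := by
  apply act_ext
  intro v
  have h : act (tv u 1) (act (tv u 1) v) = v := by
    rw [act_tv, act_tv, one_mul, one_mul, sf_add_left, sf_smul_left, sf_self, mul_zero,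
      add_zero, add_assoc, ← add_smul, CharTwo.add_self_eq_zero, zero_smul, add_zero]
  rw [act_mul, act_mul, h]

end twist

theorem range_le_ker (g : symplecticGroup (Fin m) F) (hgg : g * g = 1) :
    LinearMap.range (Nof g) ≤ LinearMap.ker (Nof g) := by
  rintro _ ⟨y, rfl⟩
  rw [LinearMap.mem_ker]
  exact Nof_sq hgg y

theorem ker_eq_perp (g : symplecticGroup (Fin m) F) (hgg : g * g = 1) :
    LinearMap.ker (Nof g) = perp (LinearMap.range (Nof g)) := by
  ext x
  rw [LinearMap.mem_ker, mem_perp]
  constructor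
  · intro hx w hw
    obtain ⟨y, rfl⟩ := hw
    rw [Nof_sadj hgg, hx, sf_zero_right]
  · intro h
    apply sf_nondeg
    intro w
    rw [Nof_sadj hgg, sf_comm]
    exact h _ (LinearMap.mem_range_self _ w)

end Cfsg.Agent.Lib.Helper24.SpCent
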