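import Mathlib
import Cfsg.Agent.Lib.Helper24.SpCentE

set_option autoImplicit false
set_option linter.style.haveILetI false
set_option linter.unusedSimpArgs false
set_option linter.unusedSectionVars false

namespace Cfsg.Agent.Lib.Helper24.SpCent

open Matrix Cfsg
open Cfsg.Agent.Lib.Helper27.SympTransv Cfsg.Agent.Lib.Helper27.SpInvol

variable {F : Type*} [Field F] [CharP F 2] {m k : ℕ}

theorem conj_rank_sq {t g : symplecticGroup (Fin m) F} (h : IsConj t g) (ht : t * t = 1) :
    g * g = 1 ∧ (g.1 - 1).rank = (t.1 - 1).rank := by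
  rw [isConj_iff] at h
  obtain ⟨c, hc⟩ := h
  have hct : c * t = g * c := by rw [← hc]; group
  have hmat : c.1 * t.1 = g.1 * c.1 := by
    have := congrArg (fun x : symplecticGroup (Fin m) F => x.1) hct
    exact this
  refine ⟨?_, ?_⟩
  · rw [← hc]
    calc c * t * c⁻¹ * (c * t * c⁻¹) = c * (t * t) * c⁻¹ := by group
      _ = 1 := by rw [ht]; group
  · have h3 : c.1 * (t.1 - 1) = (g.1 - 1) * c.1 := by
      rw [mul_sub, sub_mul, hmat, mul_one, one_mul]
    have hinv : c.1 * (c⁻¹).1 = 1 := by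
      have := congrArg (fun x : symplecticGroup (Fin m) F => x.1) (mul_inv_cancel c)
      exact this
    have hdet : IsUnit c.1.det := Matrix.isUnit_det_of_right_inverse hinv
    rw [← Matrix.rank_mul_eq_right_of_isUnit_det c.1 (t.1 - 1) hdet, h3,
      Matrix.rank_mul_eq_left_of_isUnit_det c.1 (g.1 - 1) hdet]

theorem conj_alt {t g : symplecticGroup (Fin m) F} (h : IsConj t g)
    (halt : ∀ v, sympForm m F v (t.1 *ᵥ v) = 0) : ∀ v, sympForm m F v (g.1 *ᵥ v) = 0 := by
  rw [isConj_iff] at h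
  obtain ⟨c, hc⟩ := h
  intro v
  have h1 : g.1 *ᵥ v = act c (act t (act c⁻¹ v)) := by
    rw [← act_mul, ← act_mul, hc]
    rfl
  rw [h1]
  obtain ⟨u, hu⟩ : ∃ u, u = act c⁻¹ v := ⟨_, rfl⟩
  have h2 : v = act c u := by rw [hu, ← act_mul, mul_inv_cancel, act_one]
  rw [← hu, h2, act_preserves]
  exact halt _

theorem card_sdiff_submodule [Fintype F] (S P : Submodule F (Fin m ⊕ Fin m → F)) (hSP : S ≤ P) :
    Nat.card {v : Fin m ⊕ Fin m → F // v ∈ P ∧ v ∉ S} =
      Fintype.card F ^ Module.finrank F P - Fintype.card F ^ Module.finrank F S := by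
  classical
  rw [Nat.card_eq_fintype_card, Fintype.card_subtype]
  have h3 : (Finset.univ.filter (fun v : Fin m ⊕ Fin m → F => v ∈ P ∧ v ∉ S)) =
      (Finset.univ.filter (fun v : Fin m ⊕ Fin m → F => v ∈ P)) \
        (Finset.univ.filter (fun v : Fin m ⊕ Fin m → F => v ∈ S)) := by
    ext v
    simp only [Finset.mem_filter, Finset.mem_univ, true_and, Finset.mem_sdiff]
  have hsub : (Finset.univ.filter (fun v : Fin m ⊕ Fin m → F => v ∈ S)) ⊆
      (Finset.univ.filter (fun v : Fin m ⊕ Fin m → F => v ∈ P)) := by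
    intro v hv
    simp only [Finset.mem_filter, Finset.mem_univ, true_and] at hv ⊢
    exact hSP hv
  rw [h3, Finset.card_sdiff_of_subset hsub, ← Fintype.card_subtype, ← Fintype.card_subtype,
    ← Nat.card_eq_fintype_card, ← Nat.card_eq_fintype_card]
  have e1 : Nat.card {v : Fin m ⊕ Fin m → F // v ∈ P} = Nat.card P := rfl
  have e2 : Nat.card {v : Fin m ⊕ Fin m → F // v ∈ S} = Nat.card S := rfl
  rw [e1, e2, card_submodule, card_submodule]

theorem finrank_sup_singleton {W : Submodule F (Fin m ⊕ Fin m → F)} {u : Fin m ⊕ Fin m → F}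
    (hu : u ∉ W) : Module.finrank F ↥(W ⊔ Submodule.span F {u}) = Module.finrank F W + 1 := by
  have hu0 : u ≠ 0 := by
    rintro rfl
    exact hu (Submodule.zero_mem _)
  have h1 := Submodule.finrank_sup_add_finrank_inf_eq W (Submodule.span F {u})
  have h2 : W ⊓ Submodule.span F {u} = ⊥ :=
    disjoint_iff.mp ((Submodule.disjoint_span_singleton' hu0).mpr hu)
  rw [h2, finrank_bot, add_zero, finrank_span_singleton hu0] at h1
  exact h1

theorem range_twist_le (g₀ : symplecticGroup (Fin m) F) (u : Fin m ⊕ Fin m → F)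
    (hu : Nof g₀ u = 0) :
    LinearMap.range (Nof (g₀ * tv u 1)) ≤ LinearMap.range (Nof g₀) ⊔ Submodule.span F {u} := by
  rintro _ ⟨v, rfl⟩
  rw [Nof_twist g₀ u hu]
  exact Submodule.add_mem _ (Submodule.mem_sup_left (LinearMap.mem_range_self _ v))
    (Submodule.mem_sup_right (Submodule.smul_mem _ _ (Submodule.mem_span_singleton_self u)))

theorem range_twist_eq (g₀ : symplecticGroup (Fin m) F) (hgg : g₀ * g₀ = 1)
    (u : Fin m ⊕ Fin m → F) (hu : Nof g₀ u = 0) (hu' : u ∉ LinearMap.range (Nof g₀)) :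
    LinearMap.range (Nof (g₀ * tv u 1)) = LinearMap.range (Nof g₀) ⊔ Submodule.span F {u} := by
  apply le_antisymm (range_twist_le g₀ u hu)
  obtain ⟨v, hv, hv0⟩ := exists_perp_of_not_mem hu'
  rw [← ker_eq_perp g₀ hgg, LinearMap.mem_ker] at hv
  have hvu : sympForm m F v u ≠ 0 := by rw [sf_comm]; exact hv0
  have hu_mem : u ∈ LinearMap.range (Nof (g₀ * tv u 1)) := by
    refine ⟨(sympForm m F v u)⁻¹ • v, ?_⟩
    rw [map_smul, Nof_twist g₀ u hu, hv, zero_add, smul_smul, inv_mul_cancel₀ hvu, one_smul]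
  rw [sup_le_iff]
  constructor
  · rintro _ ⟨w, rfl⟩
    have h1 : Nof g₀ w = Nof (g₀ * tv u 1) w + sympForm m F w u • u := by
      rw [Nof_twist g₀ u hu, add_assoc, ← add_smul, CharTwo.add_self_eq_zero, zero_smul, add_zero]
    rw [h1]
    exact Submodule.add_mem _ (LinearMap.mem_range_self _ w) (Submodule.smul_mem _ _ hu_mem)
  · rw [Submodule.span_le]
    rintro _ rfl
    exact hu_mem

/-- involutions of odd rank `s` -/
abbrev CB (m s : ℕ) (F : Type*) [Field F] : Type _ :=
  {g : symplecticGroup (Fin m) F // g * g = 1 ∧ (g.1 - 1).rank = s}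

/-- admissible twisting vectors for the odd rank case -/
abbrev UB (g₀ : symplecticGroup (Fin m) F) : Type _ :=
  {u : Fin m ⊕ Fin m → F // Nof g₀ u = 0 ∧ u ∉ LinearMap.range (Nof g₀)}

theorem card_UB [Fintype F] (g₀ : CA m k F) :
    Nat.card (UB g₀.1) = Fintype.card F ^ (2 * m - 2 * k) - Fintype.card F ^ (2 * k) := by
  have hgg := g₀.2.1
  have hrk : Module.finrank F (LinearMap.range (Nof g₀.1)) = 2 * k := by
    rw [Nof_rank]; exact g₀.2.2.1
  have hker : Module.finrank F (LinearMap.ker (Nof g₀.1)) = 2 * m - 2 * k := by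
    rw [ker_eq_perp g₀.1 hgg, finrank_perp, hrk]
  have h1 := card_sdiff_submodule _ _ (range_le_ker g₀.1 hgg)
  rw [hrk, hker] at h1
  rw [← h1]
  apply Nat.card_congr
  apply Equiv.subtypeEquivRight
  intro u
  rw [LinearMap.mem_ker]

noncomputable def betaB (p : Σ g₀ : CA m k F, UB g₀.1) : CB m (2 * k + 1) F :=
  ⟨p.1.1 * tv p.2.1 1, twist_sq p.1.1 p.2.1 p.1.2.1 p.2.2.1, by
    rw [← Nof_rank, range_twist_eq p.1.1 p.1.2.1 p.2.1 p.2.2.1 p.2.2.2,
      finrank_sup_singleton p.2.2.2, Nof_rank, p.1.2.2.1]⟩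

theorem betaB_bij [Fintype F] : Function.Bijective (betaB (F := F) (m := m) (k := k)) := by
  constructor
  · rintro ⟨g₀, u, hu, hu'⟩ ⟨g₀', u', hu2, hu2'⟩ h
    have h1 : g₀.1 * tv u 1 = g₀'.1 * tv u' 1 := by
      have := congrArg (fun x : CB m (2 * k + 1) F => x.1) h
      exact this
    have huu : u = u' := by
      apply defect_unique
      intro v
      have e1 := twist_form g₀.1 u hu v
      have e2 := twist_form g₀'.1 u' hu2 v
      rw [show sympForm m F v (act g₀.1 v) = 0 from g₀.2.2.2 v, zero_add] at e1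
      rw [show sympForm m F v (act g₀'.1 v) = 0 from g₀'.2.2.2 v, zero_add] at e2
      rw [← e1, ← e2, h1]
    subst huu
    have hg : g₀.1 = g₀'.1 := by
      rw [← twist_twist g₀.1 u hu, h1, twist_twist g₀'.1 u hu2]
    have hg' : g₀ = g₀' := Subtype.ext hg
    subst hg'
    rfl
  · rintro ⟨g, hgg, hrank⟩
    obtain ⟨u, hur, hu⟩ := exists_defect g hgg
    have hNu : Nof g u = 0 := by
      have := range_le_ker g hgg hur
      rwa [LinearMap.mem_ker] at this
    obtain ⟨g₀, hg₀⟩ : ∃ g₀ : symplecticGroup (Fin m) F, g₀ = g * tv u 1 := ⟨_, rfl⟩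
    have hg₀g₀ : g₀ * g₀ = 1 := by rw [hg₀]; exact twist_sq g u hgg hNu
    have hg₀alt : ∀ v, sympForm m F v (g₀.1 *ᵥ v) = 0 := by
      intro v
      show sympForm m F v (act g₀ v) = 0
      rw [hg₀, twist_form g u hNu, hu v]
      exact CharTwo.add_self_eq_zero _
    have hg₀u : Nof g₀ u = 0 := by
      rw [hg₀, Nof_twist g u hNu, hNu, sf_self, zero_smul, add_zero]
    have hback : g₀ * tv u 1 = g := by rw [hg₀]; exact twist_twist g u hNu
    have hle1 : LinearMap.range (Nof g₀) ≤ LinearMap.range (Nof g) := by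
      rintro _ ⟨v, rfl⟩
      rw [hg₀, Nof_twist g u hNu]
      exact Submodule.add_mem _ (LinearMap.mem_range_self _ v) (Submodule.smul_mem _ _ hur)
    have hle2 : LinearMap.range (Nof g) ≤ LinearMap.range (Nof g₀) ⊔ Submodule.span F {u} := by
      have := range_twist_le g₀ u hg₀u
      rwa [hback] at this
    have hrk_g : Module.finrank F (LinearMap.range (Nof g)) = 2 * k + 1 := by
      rw [Nof_rank]; exact hrank
    have hnot : u ∉ LinearMap.range (Nof g₀) := by
      intro hmem
      have h3 : LinearMap.range (Nof g₀) ⊔ Submodule.span F {u} = LinearMap.range (Nof g₀) := by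
        rw [sup_eq_left, Submodule.span_le]
        rintro _ rfl
        exact hmem
      rw [h3] at hle2
      have h4 := le_antisymm hle1 hle2
      have heven := even_rank_of_alt hg₀g₀ ((Nof_alt_iff g₀).mpr hg₀alt)
      rw [← Nof_rank, h4, hrk_g] at heven
      obtain ⟨j, hj⟩ := heven
      omega
    have hrk₀ : (g₀.1 - 1).rank = 2 * k := by
      have h5 := finrank_sup_singleton hnot
      have h6 := Submodule.finrank_mono hle2
      have h7 := Submodule.finrank_mono hle1
      rw [h5] at h6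
      rw [hrk_g] at h6 h7
      have heven := even_rank_of_alt hg₀g₀ ((Nof_alt_iff g₀).mpr hg₀alt)
      rw [← Nof_rank] at heven ⊢
      obtain ⟨j, hj⟩ := heven
      omega
    refine ⟨⟨⟨g₀, hg₀g₀, hrk₀, hg₀alt⟩, ⟨u, hg₀u, hnot⟩⟩, ?_⟩
    apply Subtype.ext
    exact hback

theorem card_CB [Fintype F] :
    Nat.card (CB m (2 * k + 1) F) =
      Nat.card (CA m k F) * (Fintype.card F ^ (2 * m - 2 * k) - Fintype.card F ^ (2 * k)) := by
  classical
  have : Finite (CA m k F) := Subtype.finite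
  have := Fintype.ofFinite (CA m k F)
  rw [← Nat.card_congr (Equiv.ofBijective _ (betaB_bij (F := F) (m := m) (k := k))),
    Nat.card_sigma, Finset.sum_congr rfl (fun g₀ _ => card_UB g₀), Finset.sum_const,
    Finset.card_univ, smul_eq_mul]
  congr 1
  exact Nat.card_eq_fintype_card.symm

end Cfsg.Agent.Lib.Helper24.SpCent
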