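import Mathlib
import Cfsg.Agent.Lib.Helper24.SpCentF

set_option autoImplicit false
set_option linter.style.haveILetI false
set_option linter.unusedSimpArgs false
set_option linter.unusedSectionVars false

namespace Cfsg.Agent.Lib.Helper24.SpCent

open Matrix Cfsg
open Cfsg.Agent.Lib.Helper27.SympTransv Cfsg.Agent.Lib.Helper27.SpInvol

variable {F : Type*} [Field F] [CharP F 2] {m k : ℕ}

/-- non-alternating involutions of rank `2k` -/
abbrev CC (m k : ℕ) (F : Type*) [Field F] : Type _ :=
  {g : symplecticGroup (Fin m) F // g * g = 1 ∧ (g.1 - 1).rank = 2 * k ∧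
    ¬ ∀ v, sympForm m F v (g.1 *ᵥ v) = 0}

/-- admissible twisting vectors for the even rank case -/
abbrev UC (g₀ : symplecticGroup (Fin m) F) : Type _ :=
  {u : Fin m ⊕ Fin m → F // u ∈ LinearMap.range (Nof g₀) ∧ u ≠ 0}

theorem card_UC [Fintype F] (g₀ : CA m k F) :
    Nat.card (UC g₀.1) = Fintype.card F ^ (2 * k) - 1 := by
  have hrk : Module.finrank F (LinearMap.range (Nof g₀.1)) = 2 * k := by
    rw [Nof_rank]; exact g₀.2.2.1
  have h1 := card_sdiff_submodule (⊥ : Submodule F (Fin m ⊕ Fin m → F))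
    (LinearMap.range (Nof g₀.1)) bot_le
  rw [hrk, finrank_bot, pow_zero] at h1
  rw [← h1]
  apply Nat.card_congr
  apply Equiv.subtypeEquivRight
  intro u
  rw [Submodule.mem_bot]

theorem ker_twist_le (g₀ : symplecticGroup (Fin m) F)
    (halt : ∀ v, sympForm m F v (g₀.1 *ᵥ v) = 0) (u : Fin m ⊕ Fin m → F) (hu : Nof g₀ u = 0) :
    LinearMap.ker (Nof (g₀ * tv u 1)) ≤ LinearMap.ker (Nof g₀) := by
  intro v hv
  rw [LinearMap.mem_ker, Nof_twist g₀ u hu] at hv
  rw [LinearMap.mem_ker]
  have h1 : Nof g₀ v = sympForm m F v u • u := by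
    have := congrArg (fun x => x + sympForm m F v u • u) hv
    simp only [zero_add, add_assoc, ← add_smul, CharTwo.add_self_eq_zero, zero_smul,
      add_zero] at this
    exact this
  have h2 : sympForm m F (Nof g₀ v) v = 0 := (Nof_alt_iff g₀).mpr halt v
  rw [h1, sf_smul_left, sf_comm u v] at h2
  have h3 : sympForm m F v u = 0 := by
    rcases mul_eq_zero.mp h2 with h | h <;> exact h
  rw [h1, h3, zero_smul]

theorem rank_twist_even (g₀ : symplecticGroup (Fin m) F)
    (halt : ∀ v, sympForm m F v (g₀.1 *ᵥ v) = 0) (u : Fin m ⊕ Fin m → F)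
    (hur : u ∈ LinearMap.range (Nof g₀)) (hu : Nof g₀ u = 0) :
    ((g₀ * tv u 1).1 - 1).rank = (g₀.1 - 1).rank := by
  rw [← Nof_rank, ← Nof_rank]
  apply le_antisymm
  · apply Submodule.finrank_mono
    refine (range_twist_le g₀ u hu).trans ?_
    rw [sup_le_iff]
    refine ⟨le_rfl, ?_⟩
    rw [Submodule.span_le]
    rintro _ rfl
    exact hur
  · have h1 := LinearMap.finrank_range_add_finrank_ker (Nof (g₀ * tv u 1))
    have h2 := LinearMap.finrank_range_add_finrank_ker (Nof g₀)
    have h3 := Submodule.finrank_mono (ker_twist_le g₀ halt u hu)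
    omega

noncomputable def betaC (p : Σ g₀ : CA m k F, UC g₀.1) : CC m k F :=
  ⟨p.1.1 * tv p.2.1 1,
    twist_sq p.1.1 p.2.1 p.1.2.1
      (by have := range_le_ker p.1.1 p.1.2.1 p.2.2.1; rwa [LinearMap.mem_ker] at this),
    by
      rw [rank_twist_even p.1.1 p.1.2.2.2 p.2.1 p.2.2.1
        (by have := range_le_ker p.1.1 p.1.2.1 p.2.2.1; rwa [LinearMap.mem_ker] at this)]
      exact p.1.2.2.1,
    by
      intro h
      have hu : Nof p.1.1 p.2.1 = 0 := by
        have := range_le_ker p.1.1 p.1.2.1 p.2.2.1; rwa [LinearMap.mem_ker] at this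
      have hu0 := p.2.2.2
      apply hu0
      apply sf_nondeg
      intro w
      have e1 := twist_form p.1.1 p.2.1 hu w
      rw [show sympForm m F w (act p.1.1 w) = 0 from p.1.2.2.2 w, zero_add] at e1
      have e2 : sympForm m F w (act (p.1.1 * tv p.2.1 1) w) = 0 := h w
      rw [e2] at e1
      rw [sf_comm]
      exact (pow_eq_zero_iff (two_ne_zero)).mp e1.symm⟩

theorem betaC_bij [Fintype F] : Function.Bijective (betaC (F := F) (m := m) (k := k)) := by
  constructor
  · rintro ⟨g₀, u, hur, hu0⟩ ⟨g₀', u', hur', hu0'⟩ h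
    have hu : Nof g₀.1 u = 0 := by
      have := range_le_ker g₀.1 g₀.2.1 hur; rwa [LinearMap.mem_ker] at this
    have hu2 : Nof g₀'.1 u' = 0 := by
      have := range_le_ker g₀'.1 g₀'.2.1 hur'; rwa [LinearMap.mem_ker] at this
    have h1 : g₀.1 * tv u 1 = g₀'.1 * tv u' 1 := by
      have := congrArg (fun x : CC m k F => x.1) h
      exact this
    have huu : u = u' := by
      apply defect_unique
      intro v
      have e1 := twist_form g₀.1 u hu v
      have e2 := twist_form g₀'.1 u' hu2 v
      rw [show sympForm m F v (act g₀.1 v) = 0 from g₀.2.2.2 v, zero_add] at e1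
      rw [show sympForm m F v (act g₀'.1 v) = 0 from g₀'.2.2.2 v, zero_add] at e2
      rw [← e1, ← e2, h1]
    subst huu
    have hg : g₀.1 = g₀'.1 := by
      rw [← twist_twist g₀.1 u hu, h1, twist_twist g₀'.1 u hu2]
    have hg' : g₀ = g₀' := Subtype.ext hg
    subst hg'
    rfl
  · rintro ⟨g, hgg, hrank, hnalt⟩
    obtain ⟨u, hur, hu⟩ := exists_defect g hgg
    have hNu : Nof g u = 0 := by
      have := range_le_ker g hgg hur
      rwa [LinearMap.mem_ker] at this
    have hu0 : u ≠ 0 := by
      rintro rfl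
      apply hnalt
      intro v
      show sympForm m F v (act g v) = 0
      rw [hu v, sf_zero_right]
      ring
    obtain ⟨g₀, hg₀⟩ : ∃ g₀ : symplecticGroup (Fin m) F, g₀ = g * tv u 1 := ⟨_, rfl⟩
    have hg₀g₀ : g₀ * g₀ = 1 := by rw [hg₀]; exact twist_sq g u hgg hNu
    have hg₀alt : ∀ v, sympForm m F v (g₀.1 *ᵥ v) = 0 := by
      intro v
      show sympForm m F v (act g₀ v) = 0
      rw [hg₀, twist_form g u hNu, hu v]
      exact CharTwo.add_self_eq_zero _
    have hg₀u : Nof g₀ u = 0 := by
      rw [hg₀, Nof_twist g u hNu, hNu, sf_self, zero_smul, add_zero]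
    have hback : g₀ * tv u 1 = g := by rw [hg₀]; exact twist_twist g u hNu
    have hle1 : LinearMap.range (Nof g₀) ≤ LinearMap.range (Nof g) := by
      rintro _ ⟨v, rfl⟩
      rw [hg₀, Nof_twist g u hNu]
      exact Submodule.add_mem _ (LinearMap.mem_range_self _ v) (Submodule.smul_mem _ _ hur)
    have hle2 : LinearMap.range (Nof g) ≤ LinearMap.range (Nof g₀) ⊔ Submodule.span F {u} := by
      have := range_twist_le g₀ u hg₀u
      rwa [hback] at this
    have hrk_g : Module.finrank F (LinearMap.range (Nof g)) = 2 * k := by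
      rw [Nof_rank]; exact hrank
    have heven := even_rank_of_alt hg₀g₀ ((Nof_alt_iff g₀).mpr hg₀alt)
    rw [← Nof_rank] at heven
    have hrk₀ : Module.finrank F (LinearMap.range (Nof g₀)) = 2 * k := by
      have h7 := Submodule.finrank_mono hle1
      rw [hrk_g] at h7
      by_cases hmem : u ∈ LinearMap.range (Nof g₀)
      · have h3 : LinearMap.range (Nof g₀) ⊔ Submodule.span F {u} =
            LinearMap.range (Nof g₀) := by
          rw [sup_eq_left, Submodule.span_le]
          rintro _ rfl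
          exact hmem
        rw [h3] at hle2
        have h6 := Submodule.finrank_mono hle2
        rw [hrk_g] at h6
        omega
      · have h5 := finrank_sup_singleton hmem
        have h6 := Submodule.finrank_mono hle2
        rw [h5, hrk_g] at h6
        obtain ⟨j, hj⟩ := heven
        omega
    have hrange : LinearMap.range (Nof g₀) = LinearMap.range (Nof g) :=
      Submodule.eq_of_le_of_finrank_eq hle1 (by rw [hrk₀, hrk_g])
    refine ⟨⟨⟨g₀, hg₀g₀, by rw [← Nof_rank]; exact hrk₀, hg₀alt⟩,
      ⟨u, by rw [hrange]; exact hur, hu0⟩⟩, ?_⟩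
    apply Subtype.ext
    exact hback

theorem card_CC [Fintype F] :
    Nat.card (CC m k F) = Nat.card (CA m k F) * (Fintype.card F ^ (2 * k) - 1) := by
  classical
  have : Finite (CA m k F) := Subtype.finite
  have := Fintype.ofFinite (CA m k F)
  rw [← Nat.card_congr (Equiv.ofBijective _ (betaC_bij (F := F) (m := m) (k := k))),
    Nat.card_sigma, Finset.sum_congr rfl (fun g₀ _ => card_UC g₀), Finset.sum_const,
    Finset.card_univ, smul_eq_mul]
  congr 1
  exact Nat.card_eq_fintype_card.symm

end Cfsg.Agent.Lib.Helper24.SpCent
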