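import Mathlib
import Cfsg.Agent.Lib.Helper24.SpCentG
import Cfsg.Agent.Lib.Helper24.OInvH
import Cfsg.Agent.Lib.Helper24.NsPtB

set_option autoImplicit false
set_option linter.style.haveILetI false
set_option linter.unusedSimpArgs false
set_option linter.unusedSectionVars false

namespace Cfsg.Agent.Lib.Helper24.OCent

open Matrix Cfsg QuadraticMap
open Cfsg.Agent.Lib.Helper27.SympTransv Cfsg.Agent.Lib.Helper27.SpInvol
open Cfsg.Agent.Lib.Helper19.QuadStd
open Cfsg.Agent.Lib.Helper24.SpCent

variable {F : Type*} [Field F] [CharP F 2] {m : ℕ}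

theorem two_zero : (2 : F) = 0 := by
  have := CharP.cast_eq_zero F 2
  exact_mod_cast this

theorem Q_add (u v : Fin m ⊕ Fin m → F) :
    stdPlus m F (u + v) = stdPlus m F u + stdPlus m F v + sympForm m F u v := by
  rw [← Cfsg.Agent.Lib.Helper24.OInv.polar_plus_eq_sf two_zero u v]
  unfold polar
  ring

theorem Q_smul (a : F) (v : Fin m ⊕ Fin m → F) :
    stdPlus m F (a • v) = a * a * stdPlus m F v := by
  rw [QuadraticMap.map_smul, smul_eq_mul]

theorem Q_zero : stdPlus m F (0 : Fin m ⊕ Fin m → F) = 0 := map_zero _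

/-- `Q` vanishes on the span of a totally singular system -/
theorem Q_span_zero {n : ℕ} (e : Fin n → (Fin m ⊕ Fin m → F))
    (horth : ∀ i j, sympForm m F (e i) (e j) = 0) (hsing : ∀ i, stdPlus m F (e i) = 0)
    (v : Fin m ⊕ Fin m → F) (hv : v ∈ Submodule.span F (Set.range e)) : stdPlus m F v = 0 := by
  have hperp : ∀ x ∈ Submodule.span F (Set.range e), ∀ y ∈ Submodule.span F (Set.range e),
      sympForm m F x y = 0 := by
    intro x hx y hy
    have h1 : y ∈ perp (Submodule.span F (Set.range e)) := by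
      rw [mem_perp_span_iff]
      intro i
      have h2 : e i ∈ perp (Submodule.span F (Set.range e)) := by
        rw [mem_perp_span_iff]
        intro j
        exact horth j i
      rw [sf_comm]
      exact (mem_perp.mp h2) y hy
    exact (mem_perp.mp h1) x hx
  induction hv using Submodule.span_induction with
  | mem x hx =>
    obtain ⟨i, rfl⟩ := hx
    exact hsing i
  | zero => exact Q_zero
  | add x y hx hy ihx ihy => rw [Q_add, ihx, ihy, hperp x hx y hy]; ring
  | smul c x _ ihx => rw [Q_smul, ihx, mul_zero]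

theorem card_D [Fintype F] {n : ℕ} (e : Fin (n + 1) → (Fin m ⊕ Fin m → F))
    (hli : LinearIndependent F e) :
    Nat.card {v : Fin m ⊕ Fin m → F // (∀ i : Fin n, sympForm m F (e i.castSucc) v = 0) ∧
      sympForm m F (e (Fin.last n)) v ≠ 0} =
      Fintype.card F ^ (2 * m - n) - Fintype.card F ^ (2 * m - (n + 1)) := by
  classical
  obtain ⟨e', he'⟩ : ∃ e' : Fin n → (Fin m ⊕ Fin m → F), e' = fun i => e i.castSucc := ⟨_, rfl⟩
  have hli' : LinearIndependent F e' := by
    rw [he']
    exact hli.comp Fin.castSucc (Fin.castSucc_injective n)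
  obtain ⟨P, hP⟩ : ∃ P : Submodule F (Fin m ⊕ Fin m → F),
      P = perp (Submodule.span F (Set.range e')) := ⟨_, rfl⟩
  obtain ⟨S, hS⟩ : ∃ S : Submodule F (Fin m ⊕ Fin m → F),
      S = perp (Submodule.span F (Set.range e)) := ⟨_, rfl⟩
  have hmemP : ∀ v, v ∈ P ↔ ∀ i : Fin n, sympForm m F (e i.castSucc) v = 0 := by
    intro v
    rw [hP, mem_perp_span_iff, he']
  have hmemS : ∀ v, v ∈ S ↔ (∀ i : Fin n, sympForm m F (e i.castSucc) v = 0) ∧
      sympForm m F (e (Fin.last n)) v = 0 := by
    intro v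
    rw [hS, mem_perp_span_iff, Fin.forall_fin_succ']
  have hSP : S ≤ P := by
    intro v hv
    rw [hmemP]
    exact ((hmemS v).mp hv).1
  have hPdim : Module.finrank F P = 2 * m - n := by
    rw [hP, finrank_perp, finrank_span_eq_card hli', Fintype.card_fin]
  have hSdim : Module.finrank F S = 2 * m - (n + 1) := by
    rw [hS, finrank_perp, finrank_span_eq_card hli, Fintype.card_fin]
  have h1 := card_sdiff_submodule S P hSP
  rw [hPdim, hSdim] at h1
  rw [← h1]
  apply Nat.card_congr
  apply Equiv.subtypeEquivRight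
  intro v
  rw [hmemP, hmemS]
  constructor
  · rintro ⟨h1, h2⟩
    exact ⟨h1, fun h => h2 h.2⟩
  · rintro ⟨h1, h2⟩
    exact ⟨h1, fun h => h2 ⟨h1, h⟩⟩

theorem card_C [Fintype F] {n : ℕ} (e : Fin (n + 1) → (Fin m ⊕ Fin m → F))
    (hli : LinearIndependent F e) (horth : ∀ i j, sympForm m F (e i) (e j) = 0)
    (hsing : ∀ i, stdPlus m F (e i) = 0) :
    Nat.card {v : Fin m ⊕ Fin m → F // stdPlus m F v = 0 ∧
      (∀ i : Fin n, sympForm m F (e i.castSucc) v = 0) ∧
      sympForm m F (e (Fin.last n)) v ≠ 0} * Fintype.card F =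
      Fintype.card F ^ (2 * m - n) - Fintype.card F ^ (2 * m - (n + 1)) := by
  classical
  rw [← card_D e hli]
  have hF : Nat.card F = Fintype.card F := Nat.card_eq_fintype_card
  rw [← hF, ← Nat.card_prod]
  obtain ⟨en, hen⟩ : ∃ en, en = e (Fin.last n) := ⟨_, rfl⟩
  rw [← hen]
  have hQen : stdPlus m F en = 0 := by rw [hen]; exact hsing _
  have horth' : ∀ i : Fin n, sympForm m F (e i.castSucc) en = 0 := by
    intro i; rw [hen]; exact horth _ _
  have hQt : ∀ (v : Fin m ⊕ Fin m → F) (t : F),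
      stdPlus m F (v + t • en) = stdPlus m F v + t * sympForm m F en v := by
    intro v t
    rw [Q_add, Q_smul, hQen, mul_zero, add_zero, sf_smul_right, sf_comm v en]
  have hsft : ∀ (v : Fin m ⊕ Fin m → F) (t : F),
      sympForm m F en (v + t • en) = sympForm m F en v := by
    intro v t
    rw [sf_add_right, sf_smul_right, sf_self, mul_zero, add_zero]
  apply Nat.card_congr
  refine Equiv.ofBijective (fun p => ⟨p.1.1 + p.2 • en, ?_, ?_⟩) ⟨?_, ?_⟩
  · intro i
    rw [sf_add_right, sf_smul_right, p.1.2.2.1 i, horth' i, mul_zero, add_zero]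
  · rw [hsft]
    exact p.1.2.2.2
  · rintro ⟨⟨v, hv0, hv1, hv2⟩, t⟩ ⟨⟨v', hv0', hv1', hv2'⟩, t'⟩ h
    have h1 : v + t • en = v' + t' • en := by
      have := congrArg Subtype.val h
      exact this
    have h2 : sympForm m F en v = sympForm m F en v' := by
      have := congrArg (fun x => sympForm m F en x) h1
      simp only [hsft] at this
      exact this
    have h3 : t * sympForm m F en v = t' * sympForm m F en v := by
      have := congrArg (fun x => stdPlus m F x) h1
      simp only [hQt, hv0, hv0', zero_add] at this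
      rw [this, h2]
    have ht : t = t' := mul_right_cancel₀ hv2 h3
    subst ht
    have hv : v = v' := add_right_cancel h1
    subst hv
    rfl
  · rintro ⟨w, hw1, hw2⟩
    obtain ⟨t, ht⟩ : ∃ t, t = stdPlus m F w / sympForm m F en w := ⟨_, rfl⟩
    have hQw : stdPlus m F (w + t • en) = 0 := by
      rw [hQt, ht, div_mul_cancel₀ _ hw2]
      exact CharTwo.add_self_eq_zero _
    refine ⟨⟨⟨w + t • en, hQw, ?_, ?_⟩, t⟩, ?_⟩
    · intro i
      rw [sf_add_right, sf_smul_right, hw1 i, horth' i, mul_zero, add_zero]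
    · rw [hsft]; exact hw2
    · apply Subtype.ext
      show w + t • en + t • en = w
      rw [add_assoc, ← add_smul, CharTwo.add_self_eq_zero, zero_smul, add_zero]

theorem Z_base [Fintype F] (hm : 1 ≤ m) :
    Nat.card {v : Fin m ⊕ Fin m → F // stdPlus m F v = 0} + Fintype.card F ^ (m - 1) =
      Fintype.card F ^ (2 * m - 1) + Fintype.card F ^ m := by
  classical
  have hV : Module.finrank F (Fin m ⊕ Fin m → F) = 2 * m := by
    rw [Module.finrank_fintype_fun_eq_card]
    simp only [Fintype.card_sum, Fintype.card_fin]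
    omega
  have h3 := Cfsg.Agent.Lib.Helper24.OEv.zeros_plus_frame
    (StdFam.plus_isHyp (stdFamId (stdPlus m F))) hV
  obtain ⟨q, hq⟩ : ∃ q, q = Fintype.card F := ⟨_, rfl⟩
  have hq0 : 0 < q := by rw [hq]; exact Fintype.card_pos
  rw [← hq] at h3 ⊢
  obtain ⟨m', rfl⟩ : ∃ m', m = m' + 1 := ⟨m - 1, by omega⟩
  have e1 : 2 * (m' + 1) - 1 = 2 * m' + 1 := by omega
  have e2 : m' + 1 - 1 = m' := by omega
  rw [e1, e2]
  apply Nat.eq_of_mul_eq_mul_right hq0
  have e3 : q ^ (2 * (m' + 1)) = q ^ (2 * m' + 1) * q := by rw [← pow_succ]; congr 1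
  have e4 : q ^ (m' + 1 + 1) = q ^ (m' + 1) * q := by rw [← pow_succ]
  have e5 : q ^ (m' + 1) = q ^ m' * q := by rw [← pow_succ]
  rw [e3, e4] at h3
  rw [add_mul, add_mul, ← e5]
  omega

theorem Z_count [Fintype F] (hm : 1 ≤ m) (n : ℕ) :
    ∀ (e : Fin n → (Fin m ⊕ Fin m → F)), n ≤ m → LinearIndependent F e →
    (∀ i j, sympForm m F (e i) (e j) = 0) → (∀ i, stdPlus m F (e i) = 0) →
    Nat.card {v : Fin m ⊕ Fin m → F // stdPlus m F v = 0 ∧ ∀ i, sympForm m F (e i) v = 0} +
      Fintype.card F ^ (m - 1) = Fintype.card F ^ (2 * m - n - 1) + Fintype.card F ^ m := by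
  classical
  induction n with
  | zero =>
    intro e _ _ _ _
    rw [Nat.sub_zero, ← Z_base hm]
    congr 1
    apply Nat.card_congr
    apply Equiv.subtypeEquivRight
    intro v
    exact ⟨fun h => h.1, fun h => ⟨h, fun i => i.elim0⟩⟩
  | succ n ih =>
    intro e hnm hli horth hsing
    have hli' : LinearIndependent F (fun i : Fin n => e i.castSucc) :=
      hli.comp Fin.castSucc (Fin.castSucc_injective n)
    have hA := ih (fun i : Fin n => e i.castSucc) (by omega) hli' (fun i j => horth _ _)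
      (fun i => hsing _)
    have hC := card_C e hli horth hsing
    obtain ⟨q, hq⟩ : ∃ q, q = Fintype.card F := ⟨_, rfl⟩
    have hq0 : 0 < q := by rw [hq]; exact Fintype.card_pos
    rw [← hq] at hA hC ⊢
    -- partition
    have hpart : Nat.card {v : Fin m ⊕ Fin m → F // stdPlus m F v = 0 ∧
        ∀ i : Fin n, sympForm m F (e i.castSucc) v = 0} =
        Nat.card {v : Fin m ⊕ Fin m → F // stdPlus m F v = 0 ∧
          ∀ i, sympForm m F (e i) v = 0} +
        Nat.card {v : Fin m ⊕ Fin m → F // stdPlus m F v = 0 ∧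
          (∀ i : Fin n, sympForm m F (e i.castSucc) v = 0) ∧
          sympForm m F (e (Fin.last n)) v ≠ 0} := by
      rw [Nat.card_eq_fintype_card, Nat.card_eq_fintype_card, Nat.card_eq_fintype_card,
        Fintype.card_subtype, Fintype.card_subtype, Fintype.card_subtype]
      rw [← Finset.card_filter_add_card_filter_not
        (fun v : Fin m ⊕ Fin m → F => sympForm m F (e (Fin.last n)) v = 0)]
      rw [Finset.filter_filter, Finset.filter_filter]
      congr 1
      · congr 1
        ext v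
        simp only [Finset.mem_filter, Finset.mem_univ, true_and]
        rw [Fin.forall_fin_succ']
        tauto
      · congr 1
        ext v
        simp only [Finset.mem_filter, Finset.mem_univ, true_and]
        tauto
    rw [hpart] at hA
    obtain ⟨B, hB⟩ : ∃ B, B = Nat.card {v : Fin m ⊕ Fin m → F // stdPlus m F v = 0 ∧
          ∀ i, sympForm m F (e i) v = 0} := ⟨_, rfl⟩
    obtain ⟨C, hCC⟩ : ∃ C, C = Nat.card {v : Fin m ⊕ Fin m → F // stdPlus m F v = 0 ∧
          (∀ i : Fin n, sympForm m F (e i.castSucc) v = 0) ∧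
          sympForm m F (e (Fin.last n)) v ≠ 0} := ⟨_, rfl⟩
    rw [← hB, ← hCC] at hA
    rw [← hCC] at hC
    rw [← hB]
    obtain ⟨d, hd⟩ : ∃ d, 2 * m - (n + 1) - 1 = d := ⟨_, rfl⟩
    have e1 : 2 * m - n - 1 = d + 1 := by omega
    have e2 : 2 * m - n = d + 2 := by omega
    have e3 : 2 * m - (n + 1) = d + 1 := by omega
    rw [e1] at hA
    rw [e2, e3] at hC
    rw [hd]
    have hC' : C + q ^ d = q ^ (d + 1) := by
      apply Nat.eq_of_mul_eq_mul_right hq0
      have e4 : q ^ (d + 2) = q ^ (d + 1) * q := by rw [← pow_succ]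
      have e5 : q ^ (d + 1) = q ^ d * q := by rw [← pow_succ]
      have hle : q ^ (d + 1) ≤ q ^ (d + 2) := Nat.pow_le_pow_right hq0 (by omega)
      rw [add_mul, ← e5, ← e4]
      omega
    omega

end Cfsg.Agent.Lib.Helper24.OCent
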