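import Mathlib
import Cfsg.Agent.Lib.Helper24.OCentA

set_option autoImplicit false
set_option linter.style.haveILetI false
set_option linter.unusedSimpArgs false
set_option linter.unusedSectionVars false

namespace Cfsg.Agent.Lib.Helper24.OCent

open Matrix Cfsg QuadraticMap
open Cfsg.Agent.Lib.Helper27.SympTransv Cfsg.Agent.Lib.Helper27.SpInvol
open Cfsg.Agent.Lib.Helper19.QuadStd
open Cfsg.Agent.Lib.Helper24.SpCent

variable {F : Type*} [Field F] [CharP F 2] {m : ℕ}

/-- totally singular independent systems of `n` vectors -/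
abbrev TS (m n : ℕ) (F : Type*) [Field F] : Type _ :=
  {e : Fin n → (Fin m ⊕ Fin m → F) //
    LinearIndependent F e ∧ (∀ i j, sympForm m F (e i) (e j) = 0) ∧
      ∀ i, stdPlus m F (e i) = 0}

/-- the number of extensions of a totally singular system -/
def XN (q m n : ℕ) : ℕ := q ^ (2 * m - n - 1) + q ^ m - q ^ (m - 1) - q ^ n

theorem card_ext_sing [Fintype F] (hm : 1 ≤ m) {n : ℕ} (hnm : n ≤ m) (e : TS m n F) :
    Nat.card {v : Fin m ⊕ Fin m → F // stdPlus m F v = 0 ∧
      (∀ i, sympForm m F (e.1 i) v = 0) ∧ v ∉ Submodule.span F (Set.range e.1)} =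
      XN (Fintype.card F) m n := by
  classical
  have hZ := Z_count hm n e.1 hnm e.2.1 e.2.2.1 e.2.2.2
  obtain ⟨S, hS⟩ : ∃ S : Submodule F (Fin m ⊕ Fin m → F), S = Submodule.span F (Set.range e.1) :=
    ⟨_, rfl⟩
  rw [← hS]
  have hSdim : Module.finrank F S = n := by
    rw [hS, finrank_span_eq_card e.2.1, Fintype.card_fin]
  have hScard : Nat.card S = Fintype.card F ^ n := by rw [card_submodule, hSdim]
  have hSsub : ∀ v ∈ S, stdPlus m F v = 0 ∧ ∀ i, sympForm m F (e.1 i) v = 0 := by
    intro v hv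
    refine ⟨Q_span_zero e.1 e.2.2.1 e.2.2.2 v (by rw [← hS]; exact hv), ?_⟩
    have h1 := span_le_perp (F := F) (m := m) ⟨e.1, e.2.1, e.2.2.1⟩
    have h2 : v ∈ perp (Submodule.span F (Set.range e.1)) := h1 (by rw [← hS]; exact hv)
    rw [mem_perp_span_iff] at h2
    exact h2
  have hpart : Nat.card {v : Fin m ⊕ Fin m → F // stdPlus m F v = 0 ∧
      ∀ i, sympForm m F (e.1 i) v = 0} =
      Nat.card S + Nat.card {v : Fin m ⊕ Fin m → F // stdPlus m F v = 0 ∧
        (∀ i, sympForm m F (e.1 i) v = 0) ∧ v ∉ S} := by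
    have e2 : Nat.card S = Nat.card {v : Fin m ⊕ Fin m → F // v ∈ S} := rfl
    rw [e2, Nat.card_eq_fintype_card, Nat.card_eq_fintype_card, Nat.card_eq_fintype_card,
      Fintype.card_subtype, Fintype.card_subtype, Fintype.card_subtype]
    rw [← Finset.card_filter_add_card_filter_not (fun v : Fin m ⊕ Fin m → F => v ∈ S)]
    rw [Finset.filter_filter, Finset.filter_filter]
    congr 1
    · congr 1
      ext v
      simp only [Finset.mem_filter, Finset.mem_univ, true_and]
      constructor
      · rintro ⟨_, h⟩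
        exact h
      · intro h
        exact ⟨hSsub v h, h⟩
    · congr 1
      ext v
      simp only [Finset.mem_filter, Finset.mem_univ, true_and]
      tauto
  rw [hpart, hScard] at hZ
  unfold XN
  omega

/-- extending a totally singular system by one vector -/
noncomputable def tsEquiv (n : ℕ) : TS m (n + 1) F ≃
    Σ e : TS m n F, {v : Fin m ⊕ Fin m → F // stdPlus m F v = 0 ∧
      (∀ i, sympForm m F (e.1 i) v = 0) ∧ v ∉ Submodule.span F (Set.range e.1)} where
  toFun e := ⟨⟨Fin.init e.1, by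
      have h := e.2.1
      rw [← Fin.snoc_init_self e.1, linearIndependent_finSnoc] at h
      exact h.1, fun i j => e.2.2.1 _ _, fun i => e.2.2.2 _⟩,
    ⟨e.1 (Fin.last n), e.2.2.2 _, fun i => e.2.2.1 _ _, by
      have h := e.2.1
      rw [← Fin.snoc_init_self e.1, linearIndependent_finSnoc] at h
      exact h.2⟩⟩
  invFun p := ⟨Fin.snoc p.1.1 p.2.1, by
      rw [linearIndependent_finSnoc]
      exact ⟨p.1.2.1, p.2.2.2.2⟩, by
      intro i j
      refine Fin.lastCases ?_ (fun i' => ?_) i <;> refine Fin.lastCases ?_ (fun j' => ?_) j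
      · rw [Fin.snoc_last]; exact sf_self _
      · rw [Fin.snoc_last, Fin.snoc_castSucc, sf_swap, p.2.2.2.1 j', neg_zero]
      · rw [Fin.snoc_last, Fin.snoc_castSucc]; exact p.2.2.2.1 i'
      · rw [Fin.snoc_castSucc, Fin.snoc_castSucc]; exact p.1.2.2.1 i' j', by
      intro i
      refine Fin.lastCases ?_ (fun i' => ?_) i
      · rw [Fin.snoc_last]; exact p.2.2.1
      · rw [Fin.snoc_castSucc]; exact p.1.2.2.2 i'⟩
  left_inv e := by
    apply Subtype.ext
    exact Fin.snoc_init_self e.1
  right_inv p := by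
    obtain ⟨⟨e, he⟩, ⟨v, hv⟩⟩ := p
    apply Sigma.subtype_ext
    · apply Subtype.ext
      show Fin.init (Fin.snoc e v : Fin (n + 1) → (Fin m ⊕ Fin m → F)) = e
      exact Fin.init_snoc _ _
    · show (Fin.snoc e v : Fin (n + 1) → (Fin m ⊕ Fin m → F)) (Fin.last n) = v
      exact Fin.snoc_last _ _

theorem card_TS_succ [Fintype F] (hm : 1 ≤ m) (n : ℕ) (hnm : n ≤ m) :
    Nat.card (TS m (n + 1) F) = Nat.card (TS m n F) * XN (Fintype.card F) m n := by
  classical
  rw [Nat.card_congr (tsEquiv (F := F) (m := m) n)]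
  have : Finite (TS m n F) := Subtype.finite
  have := Fintype.ofFinite (TS m n F)
  rw [Nat.card_sigma]
  simp only [card_ext_sing hm hnm]
  rw [Finset.sum_const, Finset.card_univ, smul_eq_mul, Nat.card_eq_fintype_card]

theorem card_TS [Fintype F] (hm : 1 ≤ m) (n : ℕ) (hnm : n ≤ m) :
    Nat.card (TS m n F) = ∏ i ∈ Finset.range n, XN (Fintype.card F) m i := by
  induction n with
  | zero =>
    rw [Finset.prod_range_zero, Nat.card_eq_one_iff_unique]
    refine ⟨⟨?_⟩, ⟨⟨Fin.elim0, linearIndependent_empty_type, fun i => Fin.elim0 i,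
      fun i => Fin.elim0 i⟩⟩⟩
    intro a b
    apply Subtype.ext
    funext i
    exact Fin.elim0 i
  | succ n ih =>
    rw [card_TS_succ hm n (by omega), ih (by omega), Finset.prod_range_succ]

end Cfsg.Agent.Lib.Helper24.OCent
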