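import Mathlib
import Cfsg.Agent.Lib.Helper24.OCentB

set_option autoImplicit false
set_option linter.style.haveILetI false
set_option linter.unusedSimpArgs false
set_option linter.unusedSectionVars false

namespace Cfsg.Agent.Lib.Helper24.OCent

open Matrix Cfsg QuadraticMap
open Cfsg.Agent.Lib.Helper27.SympTransv Cfsg.Agent.Lib.Helper27.SpInvol
open Cfsg.Agent.Lib.Helper19.QuadStd
open Cfsg.Agent.Lib.Helper24.SpCent

variable {F : Type*} [Field F] [CharP F 2] {m k : ℕ}

/-- a symplectic matrix preserving the quadratic form -/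
def OQ (g : symplecticGroup (Fin m) F) : Prop :=
  ∀ v, stdPlus m F (act g v) = stdPlus m F v

theorem vsub_eq_add (x y : Fin m ⊕ Fin m → F) : x - y = x + y := by
  funext i
  exact CharTwo.sub_eq_add _ _

theorem act_eq_add_Nof (g : symplecticGroup (Fin m) F) (v : Fin m ⊕ Fin m → F) :
    act g v = v + Nof g v := by
  rw [Nof_apply]
  abel

theorem Q_act (g : symplecticGroup (Fin m) F) (v : Fin m ⊕ Fin m → F) :
    stdPlus m F (act g v) = stdPlus m F v + stdPlus m F (Nof g v) + sympForm m F v (act g v) := by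
  have h1 : sympForm m F v (Nof g v) = sympForm m F v (act g v) := by
    rw [Nof_apply, sf_sub_right, sf_self, sub_zero]
  conv_lhs => rw [act_eq_add_Nof, Q_add, h1]

theorem Q_Nof {g : symplecticGroup (Fin m) F} (hO : OQ g) (v : Fin m ⊕ Fin m → F) :
    stdPlus m F (Nof g v) = sympForm m F v (act g v) := by
  have h1 := Q_act g v
  rw [hO v] at h1
  have h2 : stdPlus m F (Nof g v) + sympForm m F v (act g v) = 0 := by
    linear_combination -h1
  exact CharTwo.add_eq_zero.mp h2

theorem OQ_iff_of_alt (g : symplecticGroup (Fin m) F)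
    (halt : ∀ v, sympForm m F v (act g v) = 0) :
    OQ g ↔ ∀ v, stdPlus m F (Nof g v) = 0 := by
  constructor
  · intro hO v
    rw [Q_Nof hO, halt]
  · intro h v
    rw [Q_act, h, halt, add_zero, add_zero]

theorem OQ_mul {g h : symplecticGroup (Fin m) F} (hg : OQ g) (hh : OQ h) : OQ (g * h) := by
  intro v
  rw [act_mul, hg, hh]

theorem OQ_tv {u : Fin m ⊕ Fin m → F} (hu : stdPlus m F u = 1) : OQ (tv u 1) := by
  intro v
  rw [act_tv, one_mul, Q_add, Q_smul, hu, mul_one, sf_smul_right, add_assoc,
    CharTwo.add_self_eq_zero, add_zero]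

theorem Q_lincomb_zero {ι : Type*} (S : Finset ι) (f : ι → (Fin m ⊕ Fin m → F)) (c : ι → F)
    (horth : ∀ s t, sympForm m F (f s) (f t) = 0) (hsing : ∀ s, stdPlus m F (f s) = 0) :
    stdPlus m F (∑ s ∈ S, c s • f s) = 0 := by
  classical
  induction S using Finset.induction_on with
  | empty => rw [Finset.sum_empty]; exact Q_zero
  | insert a S ha ih =>
    rw [Finset.sum_insert ha, Q_add, ih, Q_smul, hsing, mul_zero, sf_sum_right]
    rw [Finset.sum_eq_zero]
    · ring
    · intro t _
      rw [sf_smul_left, sf_smul_right, horth, mul_zero, mul_zero]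

/-- totally singular systems as matrices -/
abbrev XSO (m k : ℕ) (F : Type*) [Field F] : Type _ :=
  {E : XS m k F // ∀ s, stdPlus m F (fun i => E.1 i s) = 0}

/-- alternating involutions of rank `2k` in the orthogonal group -/
abbrev CAO (m k : ℕ) (F : Type*) [Field F] [CharP F 2] : Type _ :=
  {t : CA m k F // OQ t.1}

theorem Nof_psi (E : XS m k F) (v : Fin m ⊕ Fin m → F) :
    Nof (psi E).1 v = E.1 *ᵥ ((J (Fin k) F * E.1ᵀ * J (Fin m) F) *ᵥ v) := by
  unfold Nof
  rw [Matrix.mulVecLin_apply]
  have : ((psi E).1 : Matrix (Fin m ⊕ Fin m) (Fin m ⊕ Fin m) F) = TE E.1 := rfl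
  rw [this, TE_sub_one, Matrix.mulVec_mulVec]

theorem OQ_psi_iff (E : XS m k F) :
    OQ (psi E).1 ↔ ∀ s, stdPlus m F (fun i => E.1 i s) = 0 := by
  rw [OQ_iff_of_alt (psi E).1 (psi E).2.2.2]
  constructor
  · intro h s
    have h1 : (fun i => E.1 i s) ∈ LinearMap.range (TE E.1 - 1).mulVecLin := by
      rw [range_TE_sub_one E.1 E.2.1]
      refine ⟨Pi.single s 1, ?_⟩
      rw [Matrix.mulVecLin_apply, Matrix.mulVec_single_one]
      rfl
    obtain ⟨w, hw⟩ := h1
    rw [← hw]
    exact h w
  · intro h v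
    rw [Nof_psi, mulVec_of_cols]
    exact Q_lincomb_zero _ _ _ ((orth_iff E.1).mp E.2.2) h

noncomputable def psiO (E : XSO m k F) : CAO m k F :=
  ⟨psi E.1, (OQ_psi_iff E.1).mpr E.2⟩

theorem card_psi_fibre [Fintype F] (t : CA m k F) :
    Nat.card {E : XS m k F // psi E = t} = Nat.card (symplecticGroup (Fin k) F) := by
  obtain ⟨E₀, hE₀⟩ := psi_surj t
  rw [← card_fibre E₀]
  apply Nat.card_congr
  apply Equiv.subtypeEquivRight
  intro E
  rw [← hE₀]
  constructor
  · intro h
    have := congrArg (fun x : CA m k F => x.1.1) h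
    exact this
  · intro h
    apply Subtype.ext
    apply Subtype.ext
    exact h

theorem card_XSO_eq [Fintype F] :
    Nat.card (XSO m k F) = Nat.card (CAO m k F) * Nat.card (symplecticGroup (Fin k) F) := by
  classical
  have : Finite (XSO m k F) := Subtype.finite
  have : Finite (CAO m k F) := Subtype.finite
  have := Fintype.ofFinite (CAO m k F)
  rw [← Nat.card_congr (Equiv.sigmaFiberEquiv (psiO (F := F) (m := m) (k := k))), Nat.card_sigma]
  have hfib : ∀ t : CAO m k F, Nat.card {E : XSO m k F // psiO E = t} =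
      Nat.card (symplecticGroup (Fin k) F) := by
    intro t
    rw [← card_psi_fibre t.1]
    apply Nat.card_congr
    refine ⟨fun E => ⟨E.1.1, ?_⟩, fun E => ⟨⟨E.1, ?_⟩, ?_⟩, ?_, ?_⟩
    · have := congrArg Subtype.val E.2
      exact this
    · rw [← OQ_psi_iff, E.2]
      exact t.2
    · apply Subtype.ext
      exact E.2
    · intro E
      rfl
    · intro E
      rfl
  rw [Finset.sum_congr rfl (fun t _ => hfib t), Finset.sum_const, Finset.card_univ, smul_eq_mul]
  congr 1
  exact Nat.card_eq_fintype_card.symm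

/-- matrices of singular columns versus totally singular systems -/
noncomputable def xsoEquiv : XSO m k F ≃ TS m (k + k) F where
  toFun E := ⟨fun j i => E.1.1 i (finSumFinEquiv.symm j), by
      have h := (inj_iff_li E.1.1).mp E.1.2.1
      exact (linearIndependent_equiv finSumFinEquiv.symm).mpr h, fun i j =>
      (orth_iff E.1.1).mp E.1.2.2 _ _, fun j => E.2 _⟩
  invFun e := ⟨⟨Matrix.of (fun i s => e.1 (finSumFinEquiv s) i), by
      rw [inj_iff_li]
      exact (linearIndependent_equiv finSumFinEquiv).mpr e.2.1, by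
      rw [orth_iff]
      intro s t
      exact e.2.2.1 _ _⟩, fun s => e.2.2.2 _⟩
  left_inv E := by
    apply Subtype.ext
    apply Subtype.ext
    ext i s
    show E.1.1 i (finSumFinEquiv.symm (finSumFinEquiv s)) = E.1.1 i s
    rw [Equiv.symm_apply_apply]
  right_inv e := by
    apply Subtype.ext
    funext j i
    show e.1 (finSumFinEquiv (finSumFinEquiv.symm j)) i = e.1 j i
    rw [Equiv.apply_symm_apply]

theorem card_CAO [Fintype F] (hm : 1 ≤ m) (hkm : k + k ≤ m) :
    Nat.card (CAO m k F) * Nat.card (symplecticGroup (Fin k) F) =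
      ∏ i ∈ Finset.range (k + k), XN (Fintype.card F) m i := by
  rw [← card_XSO_eq, Nat.card_congr xsoEquiv, card_TS hm (k + k) hkm]

end Cfsg.Agent.Lib.Helper24.OCent
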