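import Mathlib
import Cfsg.Agent.Lib.Helper24.OCentC

set_option autoImplicit false
set_option linter.style.haveILetI false
set_option linter.unusedSimpArgs false
set_option linter.unusedSectionVars false

namespace Cfsg.Agent.Lib.Helper24.OCent

open Matrix Cfsg QuadraticMap
open Cfsg.Agent.Lib.Helper27.SympTransv Cfsg.Agent.Lib.Helper27.SpInvol
open Cfsg.Agent.Lib.Helper19.QuadStd
open Cfsg.Agent.Lib.Helper24.SpCent

variable {F : Type*} [Field F] [CharP F 2] {m k : ℕ}

theorem card_Q1_scale [Fintype F] (W : Submodule F (Fin m ⊕ Fin m → F)) :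
    Nat.card {u : Fin m ⊕ Fin m → F // u ∈ W ∧ stdPlus m F u = 1} * (Fintype.card F - 1) =
      Nat.card {v : Fin m ⊕ Fin m → F // v ∈ W ∧ stdPlus m F v ≠ 0} := by
  classical
  have hU : Nat.card Fˣ = Fintype.card F - 1 := by
    rw [Nat.card_eq_fintype_card, Fintype.card_units]
  rw [← hU, ← Nat.card_prod]
  apply Nat.card_congr
  refine Equiv.ofBijective (fun p => ⟨(p.2 : F) • p.1.1, W.smul_mem _ p.1.2.1, ?_⟩) ⟨?_, ?_⟩
  · rw [Q_smul, p.1.2.2, mul_one]
    exact mul_ne_zero p.2.ne_zero p.2.ne_zero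
  · rintro ⟨⟨u, hu, hQu⟩, a⟩ ⟨⟨u', hu', hQu'⟩, a'⟩ h
    have h1 : (a : F) • u = (a' : F) • u' := by
      have := congrArg Subtype.val h
      exact this
    have h2 : (a : F) ^ 2 = (a' : F) ^ 2 := by
      have := congrArg (fun x => stdPlus m F x) h1
      simp only [Q_smul, hQu, hQu', mul_one] at this
      rw [pow_two, pow_two]
      exact this
    have h3 : (a : F) = (a' : F) := sq_inj h2
    have ha : a = a' := Units.ext h3
    subst ha
    have hu2 : u = u' := by
      have := congrArg (fun x => ((a : F))⁻¹ • x) h1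
      simp only [smul_smul, inv_mul_cancel₀ a.ne_zero, one_smul] at this
      exact this
    subst hu2
    rfl
  · rintro ⟨v, hv, hQv⟩
    obtain ⟨c, hc⟩ := exists_sqrt (stdPlus m F v)
    have hc0 : c ≠ 0 := by
      rintro rfl
      rw [zero_mul] at hc
      exact hQv hc.symm
    refine ⟨⟨⟨c⁻¹ • v, W.smul_mem _ hv, ?_⟩, Units.mk0 c hc0⟩, ?_⟩
    · rw [Q_smul, ← hc]
      field_simp
    · apply Subtype.ext
      show (c : F) • c⁻¹ • v = v
      rw [smul_smul, mul_inv_cancel₀ hc0, one_smul]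

theorem card_split [Fintype F] (W : Submodule F (Fin m ⊕ Fin m → F)) :
    Nat.card W = Nat.card {v : Fin m ⊕ Fin m → F // v ∈ W ∧ stdPlus m F v = 0} +
      Nat.card {v : Fin m ⊕ Fin m → F // v ∈ W ∧ stdPlus m F v ≠ 0} := by
  classical
  have e2 : Nat.card W = Nat.card {v : Fin m ⊕ Fin m → F // v ∈ W} := rfl
  rw [e2, Nat.card_eq_fintype_card, Nat.card_eq_fintype_card, Nat.card_eq_fintype_card,
    Fintype.card_subtype, Fintype.card_subtype, Fintype.card_subtype]
  rw [← Finset.card_filter_add_card_filter_not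
    (fun v : Fin m ⊕ Fin m → F => stdPlus m F v = 0)]
  rw [Finset.filter_filter, Finset.filter_filter]

theorem card_Q1_coset [Fintype F] (W : Submodule F (Fin m ⊕ Fin m → F))
    (d₀ : Fin m ⊕ Fin m → F) (hd : d₀ ∈ W) (hQd : stdPlus m F d₀ = 1)
    (horth : ∀ w ∈ W, sympForm m F w d₀ = 0) :
    Nat.card {w : Fin m ⊕ Fin m → F // w ∈ W ∧ stdPlus m F w = 1} * Fintype.card F =
      Nat.card W := by
  classical
  have hF : Nat.card F = Fintype.card F := Nat.card_eq_fintype_card
  rw [← hF, ← Nat.card_prod]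
  have hQt : ∀ w ∈ W, ∀ t : F, stdPlus m F (w + t • d₀) = stdPlus m F w + t ^ 2 := by
    intro w hw t
    rw [Q_add, Q_smul, hQd, sf_smul_right, horth w hw]
    ring
  apply Nat.card_congr
  refine Equiv.ofBijective (fun p => ⟨p.1.1 + p.2 • d₀,
    W.add_mem p.1.2.1 (W.smul_mem _ hd)⟩) ⟨?_, ?_⟩
  · rintro ⟨⟨w, hw, hQw⟩, t⟩ ⟨⟨w', hw', hQw'⟩, t'⟩ h
    have h1 : w + t • d₀ = w' + t' • d₀ := by
      have := congrArg Subtype.val h
      exact this
    have h2 : t ^ 2 = t' ^ 2 := by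
      have := congrArg (fun x => stdPlus m F x) h1
      simp only [hQt w hw, hQt w' hw', hQw, hQw'] at this
      exact add_left_cancel this
    have ht : t = t' := sq_inj h2
    subst ht
    have hw2 : w = w' := add_right_cancel h1
    subst hw2
    rfl
  · rintro ⟨x, hx⟩
    obtain ⟨c, hc⟩ := exists_sqrt (stdPlus m F x + 1)
    refine ⟨⟨⟨x + c • d₀, W.add_mem hx (W.smul_mem _ hd), ?_⟩, c⟩, ?_⟩
    · rw [hQt x hx, pow_two, hc, ← add_assoc, CharTwo.add_self_eq_zero, zero_add]
    · apply Subtype.ext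
      show x + c • d₀ + c • d₀ = x
      rw [add_assoc, ← add_smul, CharTwo.add_self_eq_zero, zero_smul, add_zero]

theorem Nof_psi_sum (E : XS m k F) (v : Fin m ⊕ Fin m → F) :
    Nof (psi E).1 v =
      ∑ s, sympForm m F (fun i => E.1 i s) v • (fun i => E.1 i (Sum.swap s)) := by
  rw [← SEJ_mulVec]
  unfold Nof
  rw [Matrix.mulVecLin_apply]
  have : ((psi E).1 : Matrix (Fin m ⊕ Fin m) (Fin m ⊕ Fin m) F) = TE E.1 := rfl
  rw [this]
  unfold TE
  rw [add_sub_cancel_left]

theorem col_mem_range (E : XS m k F) (s : Fin k ⊕ Fin k) :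
    (fun i => E.1 i s) ∈ LinearMap.range (Nof (psi E).1) := by
  have h1 : (fun i => E.1 i s) ∈ LinearMap.range (TE E.1 - 1).mulVecLin := by
    rw [range_TE_sub_one E.1 E.2.1]
    refine ⟨Pi.single s 1, ?_⟩
    rw [Matrix.mulVecLin_apply, Matrix.mulVec_single_one]
    rfl
  exact h1

theorem Z_ker [Fintype F] (hm : 1 ≤ m) (hkm : k + k ≤ m) (g₀ : CAO m k F) :
    Nat.card {v : Fin m ⊕ Fin m → F // v ∈ LinearMap.ker (Nof g₀.1.1) ∧ stdPlus m F v = 0} +
      Fintype.card F ^ (m - 1) =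
      Fintype.card F ^ (2 * m - (k + k) - 1) + Fintype.card F ^ m := by
  obtain ⟨E, hE⟩ := psi_surj g₀.1
  have hEO : ∀ s, stdPlus m F (fun i => E.1 i s) = 0 := by
    rw [← OQ_psi_iff, hE]
    exact g₀.2
  obtain ⟨e, he⟩ : ∃ e : TS m (k + k) F, e = xsoEquiv ⟨E, hEO⟩ := ⟨_, rfl⟩
  have hecol : ∀ j, e.1 j = fun i => E.1 i (finSumFinEquiv.symm j) := by
    intro j
    rw [he]
    rfl
  rw [← Z_count hm (k + k) e.1 hkm e.2.1 e.2.2.1 e.2.2.2]
  congr 1
  apply Nat.card_congr
  apply Equiv.subtypeEquivRight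
  intro v
  rw [and_comm]
  apply and_congr_right
  intro _
  rw [← hE]
  constructor
  · intro hv j
    rw [ker_eq_perp (psi E).1 (psi E).2.1, mem_perp] at hv
    rw [hecol]
    exact hv _ (col_mem_range E _)
  · intro h
    rw [LinearMap.mem_ker, Nof_psi_sum]
    apply Finset.sum_eq_zero
    intro s _
    have := h (finSumFinEquiv s)
    rw [hecol, Equiv.symm_apply_apply] at this
    rw [this, zero_smul]

theorem Q_sum_orth' {ι : Type*} (S : Finset ι) (f : ι → (Fin m ⊕ Fin m → F))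
    (horth : ∀ s t, sympForm m F (f s) (f t) = 0) :
    stdPlus m F (∑ s ∈ S, f s) = ∑ s ∈ S, stdPlus m F (f s) := by
  classical
  induction S using Finset.induction_on with
  | empty => rw [Finset.sum_empty, Finset.sum_empty]; exact Q_zero
  | insert a S ha ih =>
    rw [Finset.sum_insert ha, Finset.sum_insert ha, Q_add, ih, sf_sum_right,
      Finset.sum_eq_zero (fun t _ => horth a t), add_zero]

/-- the value of `Q` on the defect vector is the rank modulo two -/
theorem defect_Q [Fintype F] (g : symplecticGroup (Fin m) F) (hgg : g * g = 1) (hO : OQ g)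
    (u : Fin m ⊕ Fin m → F) (hu : ∀ v, sympForm m F v (act g v) = sympForm m F v u ^ 2)
    (hna : ∃ v, sympForm m F (Nof g v) v ≠ 0) :
    stdPlus m F u = (((g.1 - 1).rank : ℕ) : F) := by
  obtain ⟨x, hx, hform⟩ := exists_normal_ortho (Nof_sadj hgg) hna _ (Nof_rank g)
  have hu' : u = ∑ i, Nof g (x i) := by
    apply defect_unique
    intro v
    rw [← hu v, sf_act_eq, sf_sum_right, sum_sq]
    conv_lhs => rw [hform v]
    rw [sf_sum_left]
    apply Finset.sum_congr rfl
    intro i _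
    rw [sf_smul_left, Nof_sadj hgg v (x i), sf_comm (Nof g (x i)) v]
    ring
  rw [hu', Q_sum_orth' _ _ (fun s t => by rw [Nof_sadj hgg, Nof_sq hgg, sf_zero_right])]
  have h1 : ∀ i, stdPlus m F (Nof g (x i)) = 1 := by
    intro i
    rw [Q_Nof hO, sf_act_eq, hx i i, if_pos rfl]
  rw [Finset.sum_congr rfl (fun i _ => h1 i), Finset.sum_const, Finset.card_univ,
    Fintype.card_fin, nsmul_eq_mul, mul_one]

theorem cast_odd (n : ℕ) : ((2 * n + 1 : ℕ) : F) = 1 := by
  push_cast
  rw [two_zero, zero_mul, zero_add]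

theorem cast_even (n : ℕ) : ((2 * n : ℕ) : F) = 0 := by
  push_cast
  rw [two_zero, zero_mul]

end Cfsg.Agent.Lib.Helper24.OCent
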