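import Mathlib
import Cfsg.Agent.Lib.Helper24.OCentD

set_option autoImplicit false
set_option linter.style.haveILetI false
set_option linter.unusedSimpArgs false
set_option linter.unusedSectionVars false

namespace Cfsg.Agent.Lib.Helper24.OCent

open Matrix Cfsg QuadraticMap
open Cfsg.Agent.Lib.Helper27.SympTransv Cfsg.Agent.Lib.Helper27.SpInvol
open Cfsg.Agent.Lib.Helper19.QuadStd
open Cfsg.Agent.Lib.Helper24.SpCent

variable {F : Type*} [Field F] [CharP F 2] {m k : ℕ}

/-- involutions of rank `s` in the orthogonal group -/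
abbrev CBO (m s : ℕ) (F : Type*) [Field F] [CharP F 2] : Type _ :=
  {g : CB m s F // OQ g.1}

/-- admissible twisting vectors in the orthogonal group -/
abbrev UBO (g₀ : symplecticGroup (Fin m) F) : Type _ :=
  {u : UB g₀ // stdPlus m F u.1 = 1}

theorem tv_tv (u : Fin m ⊕ Fin m → F) : tv u 1 * tv u 1 = (1 : symplecticGroup (Fin m) F) := by
  apply act_ext
  intro v
  rw [act_mul, act_tv, act_tv, one_mul, one_mul, sf_add_left, sf_smul_left, sf_self, mul_zero,
    add_zero, add_assoc, ← add_smul, CharTwo.add_self_eq_zero, zero_smul, add_zero, act_one]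

noncomputable def betaBO (p : Σ g₀ : CAO m k F, UBO g₀.1.1) : CBO m (2 * k + 1) F :=
  ⟨betaB ⟨p.1.1, p.2.1⟩, OQ_mul p.1.2 (OQ_tv p.2.2)⟩

theorem betaBO_bij [Fintype F] : Function.Bijective (betaBO (F := F) (m := m) (k := k)) := by
  constructor
  · rintro ⟨⟨g₀, hO⟩, ⟨u, hQu⟩⟩ ⟨⟨g₀', hO'⟩, ⟨u', hQu'⟩⟩ h
    have h1 : betaB (⟨g₀, u⟩ : Σ g₀ : CA m k F, UB g₀.1) = betaB ⟨g₀', u'⟩ := by
      have := congrArg Subtype.val h
      exact this
    have h2 := (betaB_bij (F := F) (m := m) (k := k)).1 h1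
    cases h2
    rfl
  · rintro ⟨g, hO⟩
    obtain ⟨⟨g₀, u⟩, h⟩ := (betaB_bij (F := F) (m := m) (k := k)).2 g
    have hmul : g₀.1 * tv u.1 1 = g.1 := by
      have := congrArg Subtype.val h
      exact this
    have hdef : ∀ v, sympForm m F v (act g.1 v) = sympForm m F v u.1 ^ 2 := by
      intro v
      rw [← hmul, twist_form g₀.1 u.1 u.2.1 v,
        show sympForm m F v (act g₀.1 v) = 0 from g₀.2.2.2 v, zero_add]
    have hna : ∃ v, sympForm m F (Nof g.1 v) v ≠ 0 := by
      by_contra hcon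
      push Not at hcon
      have := even_rank_of_alt g.2.1 hcon
      rw [g.2.2] at this
      obtain ⟨j, hj⟩ := this
      omega
    have hQu : stdPlus m F u.1 = 1 := by
      rw [defect_Q g.1 g.2.1 hO u.1 hdef hna, g.2.2]
      exact cast_odd k
    have hO₀ : OQ g₀.1 := by
      have h3 : g₀.1 = g.1 * tv u.1 1 := by
        rw [← hmul, mul_assoc, tv_tv, mul_one]
      rw [h3]
      exact OQ_mul hO (OQ_tv hQu)
    refine ⟨⟨⟨g₀, hO₀⟩, ⟨u, hQu⟩⟩, ?_⟩
    apply Subtype.ext
    exact h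

theorem card_UBO [Fintype F] (hm : 1 ≤ m) (hkm : k + k ≤ m) (g₀ : CAO m k F) :
    Nat.card (UBO g₀.1.1) * (Fintype.card F - 1) + Fintype.card F ^ (2 * m - (k + k) - 1) +
      Fintype.card F ^ m = Fintype.card F ^ (2 * m - (k + k)) + Fintype.card F ^ (m - 1) := by
  have hgg := g₀.1.2.1
  have hrk : Module.finrank F (LinearMap.range (Nof g₀.1.1)) = 2 * k := by
    rw [Nof_rank]; exact g₀.1.2.2.1
  have hker : Module.finrank F (LinearMap.ker (Nof g₀.1.1)) = 2 * m - (k + k) := by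
    rw [ker_eq_perp g₀.1.1 hgg, finrank_perp, hrk]
    omega
  have h1 : Nat.card (UBO g₀.1.1) = Nat.card {u : Fin m ⊕ Fin m → F //
      u ∈ LinearMap.ker (Nof g₀.1.1) ∧ stdPlus m F u = 1} := by
    apply Nat.card_congr
    refine ⟨fun u => ⟨u.1.1, LinearMap.mem_ker.mpr u.1.2.1, u.2⟩,
      fun u => ⟨⟨u.1, LinearMap.mem_ker.mp u.2.1, ?_⟩, u.2.2⟩, ?_, ?_⟩
    · intro hmem
      obtain ⟨w, hw⟩ := hmem
      have h0 := (OQ_iff_of_alt g₀.1.1 g₀.1.2.2.2).mp g₀.2 w
      rw [hw, u.2.2] at h0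
      exact one_ne_zero h0
    · intro u
      rfl
    · intro u
      rfl
  have h2 := card_Q1_scale (LinearMap.ker (Nof g₀.1.1))
  have h3 := card_split (LinearMap.ker (Nof g₀.1.1))
  have h4 := Z_ker hm hkm g₀
  rw [card_submodule, hker] at h3
  rw [h1, h2]
  omega

theorem card_CBO [Fintype F] (hm : 1 ≤ m) (hkm : k + k ≤ m) :
    Nat.card (CBO m (2 * k + 1) F) * (Fintype.card F - 1) +
      Nat.card (CAO m k F) *
        (Fintype.card F ^ (2 * m - (k + k) - 1) + Fintype.card F ^ m) =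
      Nat.card (CAO m k F) *
        (Fintype.card F ^ (2 * m - (k + k)) + Fintype.card F ^ (m - 1)) := by
  classical
  have : Finite (CAO m k F) := Subtype.finite
  have := Fintype.ofFinite (CAO m k F)
  rw [← Nat.card_congr (Equiv.ofBijective _ (betaBO_bij (F := F) (m := m) (k := k))),
    Nat.card_sigma]
  have hN : Nat.card (CAO m k F) = Fintype.card (CAO m k F) := Nat.card_eq_fintype_card
  rw [hN, Finset.sum_mul]
  have e1 : ∀ c : ℕ, Fintype.card (CAO m k F) * c = ∑ _g₀ : CAO m k F, c := by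
    intro c
    rw [Finset.sum_const, Finset.card_univ, smul_eq_mul]
  rw [e1, e1, ← Finset.sum_add_distrib]
  apply Finset.sum_congr rfl
  intro g₀ _
  have := card_UBO hm hkm g₀
  omega

end Cfsg.Agent.Lib.Helper24.OCent
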