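import Mathlib
import Cfsg.Agent.Lib.Helper24.OCentE

set_option autoImplicit false
set_option linter.style.haveILetI false
set_option linter.unusedSimpArgs false
set_option linter.unusedSectionVars false

namespace Cfsg.Agent.Lib.Helper24.OCent

open Matrix Cfsg QuadraticMap
open Cfsg.Agent.Lib.Helper27.SympTransv Cfsg.Agent.Lib.Helper27.SpInvol
open Cfsg.Agent.Lib.Helper19.QuadStd
open Cfsg.Agent.Lib.Helper24.SpCent

variable {F : Type*} [Field F] [CharP F 2] {m k : ℕ}

/-- non-alternating involutions of rank `2k` in the orthogonal group -/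
abbrev CCO (m k : ℕ) (F : Type*) [Field F] [CharP F 2] : Type _ :=
  {g : CC m k F // OQ g.1}

/-- vectors for passing from odd rank to even rank -/
abbrev WB (g' : symplecticGroup (Fin m) F) : Type _ :=
  {w : Fin m ⊕ Fin m → F // w ∈ LinearMap.ker (Nof g') ∧ w ∉ LinearMap.range (Nof g') ∧
    stdPlus m F w = 1}

/-- vectors for passing from even rank to odd rank -/
abbrev WC (g : symplecticGroup (Fin m) F) : Type _ :=
  {w : Fin m ⊕ Fin m → F // w ∈ LinearMap.range (Nof g) ∧ stdPlus m F w = 1}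

theorem mem_ker_of_range {g : symplecticGroup (Fin m) F} (hgg : g * g = 1)
    {w : Fin m ⊕ Fin m → F} (hw : w ∈ LinearMap.range (Nof g)) : Nof g w = 0 := by
  have := range_le_ker g hgg hw
  rwa [LinearMap.mem_ker] at this

theorem up_nonalt [Fintype F] (g' : symplecticGroup (Fin m) F) (hgg : g' * g' = 1)
    (w : Fin m ⊕ Fin m → F) (hw0 : Nof g' w = 0) (hw' : w ∉ LinearMap.range (Nof g')) :
    ¬ ∀ v, sympForm m F v ((g' * tv w 1).1 *ᵥ v) = 0 := by
  intro halt
  obtain ⟨u', hur, hu⟩ := exists_defect g' hgg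
  apply hw'
  have h0 : u' + w = 0 := by
    apply sf_nondeg
    intro v
    have h1 : sympForm m F v (act (g' * tv w 1) v) = 0 := halt v
    rw [twist_form g' w hw0, hu v] at h1
    have h2 : sympForm m F v (u' + w) ^ 2 = 0 := by
      rw [sf_add_right]
      have h2 : (2 : F) = 0 := two_zero
      linear_combination h1 + (sympForm m F v u' * sympForm m F v w) * h2
    rw [sf_comm]
    exact (pow_eq_zero_iff two_ne_zero).mp h2
  have h3 : w = u' := by
    have := congrArg (fun x => x + w) h0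
    simp only [add_assoc, zero_add] at this
    have hww : w + w = 0 := by
      funext i
      exact CharTwo.add_self_eq_zero _
    rw [hww, add_zero] at this
    exact this.symm
  rw [h3]
  exact hur

theorem down_not_mem (g : symplecticGroup (Fin m) F) (hgg : g * g = 1) (hO : OQ g)
    (w : Fin m ⊕ Fin m → F) (hw : w ∈ LinearMap.range (Nof g)) (hQw : stdPlus m F w = 1) :
    w ∉ LinearMap.range (Nof (g * tv w 1)) := by
  have hw0 : Nof g w = 0 := mem_ker_of_range hgg hw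
  have hO' : OQ (g * tv w 1) := OQ_mul hO (OQ_tv hQw)
  rintro ⟨v, hv⟩
  have h1 : stdPlus m F (Nof (g * tv w 1) v) = sympForm m F v (Nof (g * tv w 1) v) := by
    rw [Q_Nof hO', Nof_apply, sf_sub_right, sf_self, sub_zero]
  rw [hv, hQw] at h1
  have h2 : Nof g v = 0 := by
    have h3 := Nof_twist g w hw0 v
    rw [hv, ← h1, one_smul] at h3
    have := congrArg (fun x => x + w) h3
    simp only [add_assoc] at this
    have hww : w + w = 0 := by
      funext i
      exact CharTwo.add_self_eq_zero _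
    rw [hww, add_zero] at this
    exact this.symm
  have h4 : v ∈ perp (LinearMap.range (Nof g)) := by
    rw [← ker_eq_perp g hgg, LinearMap.mem_ker]
    exact h2
  have h5 := (mem_perp.mp h4) w hw
  rw [sf_comm, ← h1] at h5
  exact one_ne_zero h5

theorem Nof_twist_self (g : symplecticGroup (Fin m) F) (w : Fin m ⊕ Fin m → F)
    (hw0 : Nof g w = 0) : Nof (g * tv w 1) w = 0 := by
  rw [Nof_twist g w hw0, hw0, sf_self, zero_smul, add_zero]

noncomputable def upMap [Fintype F] {j : ℕ} (p : Σ g' : CBO m (2 * j + 1) F, WB g'.1.1) :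
    Σ g : CCO m (j + 1) F, WC g.1.1 :=
  ⟨⟨⟨p.1.1.1 * tv p.2.1 1,
      twist_sq p.1.1.1 p.2.1 p.1.1.2.1 (LinearMap.mem_ker.mp p.2.2.1),
      by
        rw [← Nof_rank, range_twist_eq p.1.1.1 p.1.1.2.1 p.2.1 (LinearMap.mem_ker.mp p.2.2.1)
          p.2.2.2.1, finrank_sup_singleton p.2.2.2.1, Nof_rank, p.1.1.2.2]
        ring,
      up_nonalt p.1.1.1 p.1.1.2.1 p.2.1 (LinearMap.mem_ker.mp p.2.2.1) p.2.2.2.1⟩,
    OQ_mul p.1.2 (OQ_tv p.2.2.2.2)⟩,
   ⟨p.2.1, by
      rw [range_twist_eq p.1.1.1 p.1.1.2.1 p.2.1 (LinearMap.mem_ker.mp p.2.2.1) p.2.2.2.1]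
      exact Submodule.mem_sup_right (Submodule.mem_span_singleton_self _), p.2.2.2.2⟩⟩

theorem down_rank (g : symplecticGroup (Fin m) F) (hgg : g * g = 1) (hO : OQ g)
    (w : Fin m ⊕ Fin m → F) (hw : w ∈ LinearMap.range (Nof g)) (hQw : stdPlus m F w = 1)
    {j : ℕ} (hrk : (g.1 - 1).rank = 2 * (j + 1)) :
    ((g * tv w 1).1 - 1).rank = 2 * j + 1 := by
  have hw0 : Nof g w = 0 := mem_ker_of_range hgg hw
  have h1 := range_twist_eq (g * tv w 1) (twist_sq g w hgg hw0) w (Nof_twist_self g w hw0)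
    (down_not_mem g hgg hO w hw hQw)
  rw [twist_twist g w hw0] at h1
  have h2 := finrank_sup_singleton (down_not_mem g hgg hO w hw hQw)
  rw [← h1, Nof_rank, Nof_rank, hrk] at h2
  omega

noncomputable def downMap [Fintype F] {j : ℕ} (p : Σ g : CCO m (j + 1) F, WC g.1.1) :
    Σ g' : CBO m (2 * j + 1) F, WB g'.1.1 :=
  ⟨⟨⟨p.1.1.1 * tv p.2.1 1,
      twist_sq p.1.1.1 p.2.1 p.1.1.2.1 (mem_ker_of_range p.1.1.2.1 p.2.2.1),
      down_rank p.1.1.1 p.1.1.2.1 p.1.2 p.2.1 p.2.2.1 p.2.2.2 p.1.1.2.2.1⟩,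
    OQ_mul p.1.2 (OQ_tv p.2.2.2)⟩,
   ⟨p.2.1, LinearMap.mem_ker.mpr
      (Nof_twist_self p.1.1.1 p.2.1 (mem_ker_of_range p.1.1.2.1 p.2.2.1)),
      down_not_mem p.1.1.1 p.1.1.2.1 p.1.2 p.2.1 p.2.2.1 p.2.2.2, p.2.2.2⟩⟩

theorem card_pairs [Fintype F] {j : ℕ} :
    Nat.card (Σ g' : CBO m (2 * j + 1) F, WB g'.1.1) =
      Nat.card (Σ g : CCO m (j + 1) F, WC g.1.1) := by
  apply Nat.card_congr
  refine ⟨upMap, downMap, ?_, ?_⟩
  · rintro ⟨g', w⟩
    apply Sigma.subtype_ext
    · apply Subtype.ext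
      apply Subtype.ext
      exact twist_twist g'.1.1 w.1 (LinearMap.mem_ker.mp w.2.1)
    · rfl
  · rintro ⟨g, w⟩
    apply Sigma.subtype_ext
    · apply Subtype.ext
      apply Subtype.ext
      exact twist_twist g.1.1 w.1 (mem_ker_of_range g.1.2.1 w.2.1)
    · rfl

end Cfsg.Agent.Lib.Helper24.OCent
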