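import Mathlib
import Cfsg.Agent.Lib.Helper24.OCentF

set_option autoImplicit false
set_option linter.style.haveILetI false
set_option linter.unusedSimpArgs false
set_option linter.unusedSectionVars false

namespace Cfsg.Agent.Lib.Helper24.OCent

open Matrix Cfsg QuadraticMap
open Cfsg.Agent.Lib.Helper27.SympTransv Cfsg.Agent.Lib.Helper27.SpInvol
open Cfsg.Agent.Lib.Helper19.QuadStd
open Cfsg.Agent.Lib.Helper24.SpCent

variable {F : Type*} [Field F] [CharP F 2] {m k : ℕ}

theorem card_WC [Fintype F] {j : ℕ} (g : CCO m (j + 1) F) :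
    Nat.card (WC g.1.1) * Fintype.card F = Fintype.card F ^ (2 * (j + 1)) := by
  have hgg := g.1.2.1
  have hrk : Module.finrank F (LinearMap.range (Nof g.1.1)) = 2 * (j + 1) := by
    rw [Nof_rank]; exact g.1.2.2.1
  have hna : ∃ v, sympForm m F v (act g.1.1 v) ≠ 0 := by
    by_contra hcon
    push Not at hcon
    exact g.1.2.2.2 hcon
  obtain ⟨v, hv⟩ := hna
  obtain ⟨c, hc⟩ := exists_sqrt (sympForm m F v (act g.1.1 v))⁻¹
  have h1 := card_Q1_coset (LinearMap.range (Nof g.1.1)) (c • Nof g.1.1 v)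
    (Submodule.smul_mem _ _ (LinearMap.mem_range_self _ v))
    (by rw [Q_smul, Q_Nof g.2, hc, inv_mul_cancel₀ hv])
    (by
      intro w hw
      rw [sf_smul_right]
      have h2 : Nof g.1.1 v ∈ perp (LinearMap.range (Nof g.1.1)) := by
        rw [← ker_eq_perp g.1.1 hgg]
        exact range_le_ker g.1.1 hgg (LinearMap.mem_range_self _ v)
      rw [(mem_perp.mp h2) w hw, mul_zero])
  rw [card_submodule, hrk] at h1
  exact h1

theorem card_WB [Fintype F] {j : ℕ} (g' : CBO m (2 * j + 1) F) :
    Nat.card (WB g'.1.1) * Fintype.card F + Fintype.card F ^ (2 * j + 1) =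
      Fintype.card F ^ (2 * m - (2 * j + 1)) := by
  classical
  have hgg := g'.1.2.1
  have hrk : Module.finrank F (LinearMap.range (Nof g'.1.1)) = 2 * j + 1 := by
    rw [Nof_rank]; exact g'.1.2.2
  have hker : Module.finrank F (LinearMap.ker (Nof g'.1.1)) = 2 * m - (2 * j + 1) := by
    rw [ker_eq_perp g'.1.1 hgg, finrank_perp, hrk]
  obtain ⟨u', hur, hu⟩ := exists_defect g'.1.1 hgg
  have hna : ∃ v, sympForm m F (Nof g'.1.1 v) v ≠ 0 := by
    by_contra hcon
    push Not at hcon
    have := even_rank_of_alt hgg hcon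
    rw [g'.1.2.2] at this
    obtain ⟨i, hi⟩ := this
    omega
  have hQu : stdPlus m F u' = 1 := by
    rw [defect_Q g'.1.1 hgg g'.2 u' hu hna, g'.1.2.2]
    exact cast_odd j
  have hperp : ∀ w ∈ LinearMap.ker (Nof g'.1.1), sympForm m F w u' = 0 := by
    intro w hw
    rw [ker_eq_perp g'.1.1 hgg] at hw
    rw [sf_comm]
    exact (mem_perp.mp hw) u' hur
  have h1 := card_Q1_coset (LinearMap.ker (Nof g'.1.1)) u' (range_le_ker g'.1.1 hgg hur) hQu hperp
  have h2 := card_Q1_coset (LinearMap.range (Nof g'.1.1)) u' hur hQu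
    (fun w hw => hperp w (range_le_ker g'.1.1 hgg hw))
  rw [card_submodule, hker] at h1
  rw [card_submodule, hrk] at h2
  have hpart : Nat.card {w : Fin m ⊕ Fin m → F // w ∈ LinearMap.ker (Nof g'.1.1) ∧
      stdPlus m F w = 1} =
      Nat.card {w : Fin m ⊕ Fin m → F // w ∈ LinearMap.range (Nof g'.1.1) ∧
        stdPlus m F w = 1} + Nat.card (WB g'.1.1) := by
    rw [Nat.card_eq_fintype_card, Nat.card_eq_fintype_card, Nat.card_eq_fintype_card,
      Fintype.card_subtype, Fintype.card_subtype, Fintype.card_subtype]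
    rw [← Finset.card_filter_add_card_filter_not
      (fun w : Fin m ⊕ Fin m → F => w ∈ LinearMap.range (Nof g'.1.1))]
    rw [Finset.filter_filter, Finset.filter_filter]
    congr 1
    · congr 1
      ext w
      simp only [Finset.mem_filter, Finset.mem_univ, true_and]
      constructor
      · rintro ⟨⟨_, h⟩, h'⟩
        exact ⟨h', h⟩
      · rintro ⟨h', h⟩
        exact ⟨⟨range_le_ker g'.1.1 hgg h', h⟩, h'⟩
    · congr 1
      ext w
      simp only [Finset.mem_filter, Finset.mem_univ, true_and]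
      tauto
  rw [hpart, add_mul, h2] at h1
  omega

theorem card_CCO [Fintype F] {j : ℕ} :
    Nat.card (CCO m (j + 1) F) * Fintype.card F ^ (2 * (j + 1)) +
      Nat.card (CBO m (2 * j + 1) F) * Fintype.card F ^ (2 * j + 1) =
      Nat.card (CBO m (2 * j + 1) F) * Fintype.card F ^ (2 * m - (2 * j + 1)) := by
  classical
  have : Finite (CBO m (2 * j + 1) F) := Subtype.finite
  have := Fintype.ofFinite (CBO m (2 * j + 1) F)
  have : Finite (CCO m (j + 1) F) := Subtype.finite
  have := Fintype.ofFinite (CCO m (j + 1) F)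
  have hp := card_pairs (F := F) (m := m) (j := j)
  rw [Nat.card_sigma, Nat.card_sigma] at hp
  have hNB : Nat.card (CBO m (2 * j + 1) F) = Fintype.card (CBO m (2 * j + 1) F) :=
    Nat.card_eq_fintype_card
  have hNC : Nat.card (CCO m (j + 1) F) = Fintype.card (CCO m (j + 1) F) :=
    Nat.card_eq_fintype_card
  have e1 : ∀ c : ℕ, Fintype.card (CBO m (2 * j + 1) F) * c =
      ∑ _g : CBO m (2 * j + 1) F, c := by
    intro c
    rw [Finset.sum_const, Finset.card_univ, smul_eq_mul]
  have e2 : ∀ c : ℕ, Fintype.card (CCO m (j + 1) F) * c = ∑ _g : CCO m (j + 1) F, c := by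
    intro c
    rw [Finset.sum_const, Finset.card_univ, smul_eq_mul]
  have hC : Fintype.card (CCO m (j + 1) F) * Fintype.card F ^ (2 * (j + 1)) =
      (∑ g : CCO m (j + 1) F, Nat.card (WC g.1.1)) * Fintype.card F := by
    rw [e2, Finset.sum_mul]
    apply Finset.sum_congr rfl
    intro g _
    exact (card_WC g).symm
  have hB : (∑ g' : CBO m (2 * j + 1) F, Nat.card (WB g'.1.1)) * Fintype.card F +
      Fintype.card (CBO m (2 * j + 1) F) * Fintype.card F ^ (2 * j + 1) =
      Fintype.card (CBO m (2 * j + 1) F) * Fintype.card F ^ (2 * m - (2 * j + 1)) := by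
    rw [e1, e1, Finset.sum_mul, ← Finset.sum_add_distrib]
    apply Finset.sum_congr rfl
    intro g' _
    exact card_WB g'
  rw [hNB, hNC, hC, ← hp, hB]

end Cfsg.Agent.Lib.Helper24.OCent
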