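import Mathlib
import Cfsg.Agent.Lib.Helper27.SympStab
import Cfsg.Agent.Lib.Helper27.SympTransv3

set_option autoImplicit false
set_option linter.style.haveILetI false

namespace Cfsg.Agent.Lib.Helper24.OrthInSp

open Matrix Cfsg Cfsg.Agent.Lib.Helper27.SympTransv

variable {F : Type*} [Field F] {m : ℕ}

/-- Data of a quadratic form polarising to the standard alternating form in characteristic two, over a
field in which every element is a square. -/
structure QData (Q : (Fin m ⊕ Fin m → F) → F) : Prop where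
  two : (2 : F) = 0
  smul : ∀ (c : F) (v : Fin m ⊕ Fin m → F), Q (c • v) = c ^ 2 * Q v
  add : ∀ u v : Fin m ⊕ Fin m → F, Q (u + v) = Q u + Q v + sympForm m F u v
  sqrt : ∀ x : F, ∃ y : F, y ^ 2 = x

variable {Q : (Fin m ⊕ Fin m → F) → F}

theorem QData.zero (hQ : QData Q) : Q 0 = 0 := by
  have := hQ.smul 0 0
  simpa using this

theorem sf_symm (h2 : (2 : F) = 0) (u v : Fin m ⊕ Fin m → F) :
    sympForm m F u v = sympForm m F v u := by
  rw [sf_swap v u]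
  linear_combination (-(sympForm m F v u)) * h2

theorem vadd_self (h2 : (2 : F) = 0) (v : Fin m ⊕ Fin m → F) : v + v = 0 := by
  rw [← two_smul F v, h2, zero_smul]

/-- Value of `Q` on `x + t • w`. -/
theorem QData.add_smul (hQ : QData Q) (x w : Fin m ⊕ Fin m → F) (t : F) :
    Q (x + t • w) = Q x + t ^ 2 * Q w + t * sympForm m F x w := by
  rw [hQ.add, hQ.smul, sf_smul_right]

/-- Value of `Q` after a transvection. -/
theorem QData.tv (hQ : QData Q) (w x : Fin m ⊕ Fin m → F) (l : F) :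
    Q (act (tv w l) x) = Q x + (sympForm m F x w) ^ 2 * (l * (l * Q w + 1)) := by
  rw [act_tv, hQ.add_smul]
  ring

/-- The isometries of `Q` in the symplectic group. -/
def Hs (Q : (Fin m ⊕ Fin m → F) → F) : Subgroup (Matrix.symplecticGroup (Fin m) F) :=
  (Cfsg.Geo.quadSimilarityGroup Q).comap spHom

theorem exists_sf_ne (w : Fin m ⊕ Fin m → F) (hw : w ≠ 0) : ∃ x, sympForm m F x w ≠ 0 := by
  obtain ⟨a, -, ha⟩ := nondegOn_top (F := F) (m := m) w trivial hw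
  refine ⟨a, ?_⟩
  rw [sf_swap]
  exact neg_ne_zero.mpr ha

theorem exists_sf_eq_one (hm : 1 ≤ m) : ∃ x y : Fin m ⊕ Fin m → F, sympForm m F x y = 1 := by
  refine ⟨Pi.single (Sum.inr ⟨0, hm⟩) 1, Pi.single (Sum.inl ⟨0, hm⟩) 1, ?_⟩
  rw [sf_single_inl]
  simp

theorem mem_Hs_iff (hQ : QData Q) (hm : 1 ≤ m) (A : Matrix.symplecticGroup (Fin m) F) :
    A ∈ Hs Q ↔ ∀ v, Q (act A v) = Q v := by
  constructor
  · rintro ⟨c, hc⟩
    have hc' : ∀ v, Q (act A v) = (c : F) * Q v := hc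
    obtain ⟨x, y, hxy⟩ := exists_sf_eq_one (F := F) hm
    have h1 := hc' (x + y)
    rw [act_add, hQ.add, hQ.add, act_preserves, hc' x, hc' y, hxy] at h1
    have hc1 : (c : F) = 1 := by linear_combination -h1
    intro v
    rw [hc' v, hc1, one_mul]
  · intro h
    refine ⟨1, fun v => ?_⟩
    rw [Units.val_one, one_mul]
    exact h v

theorem refl_mem (hQ : QData Q) (hm : 1 ≤ m) (w : Fin m ⊕ Fin m → F) (hw : Q w ≠ 0) :
    tv w (Q w)⁻¹ ∈ Hs Q := by
  rw [mem_Hs_iff hQ hm]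
  intro v
  rw [hQ.tv, inv_mul_cancel₀ hw]
  have : (1 : F) + 1 = 0 := by linear_combination hQ.two
  rw [this, mul_zero, mul_zero, add_zero]

theorem tv_not_mem (hQ : QData Q) (hm : 1 ≤ m) (w : Fin m ⊕ Fin m → F) (hw : w ≠ 0) (l : F)
    (hl : l * (l * Q w + 1) ≠ 0) : tv w l ∉ Hs Q := by
  rw [mem_Hs_iff hQ hm]
  intro h
  obtain ⟨x, hx⟩ := exists_sf_ne w hw
  have := h x
  rw [hQ.tv] at this
  have h0 : (sympForm m F x w) ^ 2 * (l * (l * Q w + 1)) = 0 := by linear_combination this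
  exact mul_ne_zero (pow_ne_zero 2 hx) hl h0


/-- Two hyperplanes do not cover the space. -/
theorem exists_two (x y : Fin m ⊕ Fin m → F) (hx : x ≠ 0) (hy : y ≠ 0) :
    ∃ w, sympForm m F w x ≠ 0 ∧ sympForm m F w y ≠ 0 := by
  obtain ⟨w1, h1⟩ := exists_sf_ne x hx
  obtain ⟨w2, h2⟩ := exists_sf_ne y hy
  by_cases h3 : sympForm m F w1 y = 0
  · by_cases h4 : sympForm m F w2 x = 0
    · refine ⟨w1 + w2, ?_, ?_⟩
      · rw [sf_add_left, h4, add_zero]; exact h1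
      · rw [sf_add_left, h3, zero_add]; exact h2
    · exact ⟨w2, h4, h2⟩
  · exact ⟨w1, h1, h3⟩

/-- A non-zero singular vector exists. -/
theorem exists_singular (hQ : QData Q) (hm : 2 ≤ m) : ∃ s : Fin m ⊕ Fin m → F, s ≠ 0 ∧ Q s = 0 := by
  set e1 : Fin m ⊕ Fin m → F := Pi.single (Sum.inl ⟨0, by omega⟩) 1 with he1
  set e2 : Fin m ⊕ Fin m → F := Pi.single (Sum.inl ⟨1, by omega⟩) 1 with he2
  have h12 : sympForm m F e1 e2 = 0 := by
    rw [he2, sf_single_inl, he1]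
    simp
  by_cases h1 : Q e1 = 0
  · refine ⟨e1, ?_, h1⟩
    intro h
    have := congrFun h (Sum.inl ⟨0, by omega⟩)
    simp [he1] at this
  · obtain ⟨a, ha⟩ := hQ.sqrt (Q e2)
    obtain ⟨b, hb⟩ := hQ.sqrt (Q e1)
    have hb0 : b ≠ 0 := by
      rintro rfl
      apply h1
      rw [← hb]; ring
    refine ⟨a • e1 + b • e2, ?_, ?_⟩
    · intro h
      have := congrFun h (Sum.inl ⟨1, by omega⟩)
      simp [he1, he2] at this
      exact hb0 this
    · rw [hQ.add, hQ.smul, hQ.smul, sf_smul_left, sf_smul_right, h12, ha, hb]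
      linear_combination (Q e1 * Q e2) * hQ.two

/-- Given one singular vector, there is a singular vector not orthogonal to a given vector. -/
theorem singular_nonperp (hQ : QData Q) (s1 : Fin m ⊕ Fin m → F) (hs1 : s1 ≠ 0) (hQs1 : Q s1 = 0)
    (b : Fin m ⊕ Fin m → F) (hb : b ≠ 0) :
    ∃ s, Q s = 0 ∧ sympForm m F s b ≠ 0 := by
  by_cases h : sympForm m F s1 b = 0
  · obtain ⟨w, hw1, hw2⟩ := exists_two s1 b hs1 hb
    refine ⟨w + (Q w / sympForm m F w s1) • s1, ?_, ?_⟩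
    · rw [hQ.add_smul, hQs1, mul_zero, add_zero, div_mul_cancel₀ _ hw1]
      linear_combination (Q w) * hQ.two
    · rw [sf_add_left, sf_smul_left, h, mul_zero, add_zero]
      exact hw2
  · exact ⟨s1, hQs1, h⟩

/-- Transitivity of the isometry group on singular vectors: the non-orthogonal case. -/
theorem trans_singular_aux (hQ : QData Q) (hm : 1 ≤ m) (s s' : Fin m ⊕ Fin m → F)
    (hs : Q s = 0) (hs' : Q s' = 0) (h : sympForm m F s s' ≠ 0) :
    ∃ g ∈ Hs Q, act g s = s' := by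
  have hq : Q (s + s') = sympForm m F s s' := by
    rw [hQ.add, hs, hs', zero_add, zero_add]
  refine ⟨tv (s + s') (Q (s + s'))⁻¹, refl_mem hQ hm _ (by rw [hq]; exact h), ?_⟩
  rw [act_tv, hq, sf_add_right, sf_self, zero_add, inv_mul_cancel₀ h, one_smul, ← add_assoc,
    vadd_self hQ.two, zero_add]

theorem trans_singular (hQ : QData Q) (hm : 1 ≤ m) (s s' : Fin m ⊕ Fin m → F)
    (hs0 : s ≠ 0) (hs0' : s' ≠ 0) (hs : Q s = 0) (hs' : Q s' = 0) :
    ∃ g ∈ Hs Q, act g s = s' := by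
  by_cases h : sympForm m F s s' = 0
  · obtain ⟨w, hw1, hw2⟩ := exists_two s s' hs0 hs0'
    obtain ⟨s'', hs''⟩ : ∃ s'', s'' = w + (Q w / sympForm m F w s) • s := ⟨_, rfl⟩
    have hq : Q s'' = 0 := by
      rw [hs'', hQ.add_smul, hs, mul_zero, add_zero, div_mul_cancel₀ _ hw1]
      linear_combination (Q w) * hQ.two
    have h1 : sympForm m F s s'' ≠ 0 := by
      rw [sf_symm hQ.two, hs'', sf_add_left, sf_smul_left, sf_self, mul_zero, add_zero]
      exact hw1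
    have h2 : sympForm m F s'' s' ≠ 0 := by
      rw [hs'', sf_add_left, sf_smul_left, h, mul_zero, add_zero]
      exact hw2
    obtain ⟨g1, hg1, e1⟩ := trans_singular_aux hQ hm s s'' hs hq h1
    obtain ⟨g2, hg2, e2⟩ := trans_singular_aux hQ hm s'' s' hq hs' h2
    refine ⟨g2 * g1, (Hs Q).mul_mem hg2 hg1, ?_⟩
    rw [act_mul, e1, e2]
  · exact trans_singular_aux hQ hm s s' hs hs' h


theorem act_ne_zero (g : Matrix.symplecticGroup (Fin m) F) (x : Fin m ⊕ Fin m → F) (hx : x ≠ 0) :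
    act g x ≠ 0 := by
  intro h
  apply hx
  rw [← act_inv_act g x, h, act_zero]

theorem QData.ne_zero_of_Q (hQ : QData Q) {x : Fin m ⊕ Fin m → F} (hx : Q x ≠ 0) : x ≠ 0 := by
  rintro rfl
  exact hx hQ.zero

/-- Step 1: an overgroup contains a transvection outside the isometry group. -/
theorem step1 (hQ : QData Q) (hm : 1 ≤ m) (M : Subgroup (Matrix.symplecticGroup (Fin m) F))
    (hM : Hs Q ≤ M) (g : Matrix.symplecticGroup (Fin m) F) (hg : g ∈ M) (hgH : g ∉ Hs Q) :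
    ∃ (a : Fin m ⊕ Fin m → F) (l : F), a ≠ 0 ∧ l ≠ 0 ∧ l * Q a ≠ 1 ∧ tv a l ∈ M := by
  have key : ∃ g' ∈ M, ∃ b, Q b ≠ 0 ∧ Q (act g' b) ≠ Q b := by
    rw [mem_Hs_iff hQ hm] at hgH
    push Not at hgH
    obtain ⟨x, hx⟩ := hgH
    by_cases h0 : Q x = 0
    · refine ⟨g⁻¹, M.inv_mem hg, act g x, ?_, ?_⟩
      · rw [h0] at hx; exact hx
      · rw [act_inv_act]; exact fun h => hx h.symm
    · exact ⟨g, hg, x, h0, hx⟩
  obtain ⟨g', hg', b, hb, hgb⟩ := key
  refine ⟨act g' b, (Q b)⁻¹, act_ne_zero g' b (hQ.ne_zero_of_Q hb), inv_ne_zero hb, ?_, ?_⟩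
  · intro h
    apply hgb
    field_simp at h
    exact h
  · rw [← conj_tv]
    exact M.mul_mem (M.mul_mem hg' (hM (refl_mem hQ hm b hb))) (M.inv_mem hg')

/-- Step 2: an overgroup contains a non-trivial transvection with singular centre. -/
theorem step2 (hQ : QData Q) (hm : 2 ≤ m) (M : Subgroup (Matrix.symplecticGroup (Fin m) F))
    (hM : Hs Q ≤ M) (a : Fin m ⊕ Fin m → F) (l : F) (ha : a ≠ 0) (hl : l ≠ 0)
    (hla : l * Q a ≠ 1) (hmem : tv a l ∈ M) :
    ∃ (s : Fin m ⊕ Fin m → F) (t : F), s ≠ 0 ∧ Q s = 0 ∧ t ≠ 0 ∧ tv s t ∈ M := by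
  by_cases hc : Q a = 0
  · exact ⟨a, l, ha, hc, hl, hmem⟩
  · obtain ⟨s1, hs1, hQs1⟩ := exists_singular hQ hm
    obtain ⟨s0, hQs0, hs0a⟩ := singular_nonperp hQ s1 hs1 hQs1 a ha
    obtain ⟨s, hs⟩ : ∃ s, s = (sympForm m F s0 a)⁻¹ • s0 := ⟨_, rfl⟩
    have hsa : sympForm m F s a = 1 := by
      rw [hs, sf_smul_left, inv_mul_cancel₀ hs0a]
    have hQs : Q s = 0 := by rw [hs, hQ.smul, hQs0, mul_zero]
    have hs_ne : s ≠ 0 := by
      rintro h
      rw [h, sf_zero_left] at hsa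
      exact zero_ne_one hsa
    obtain ⟨b', hb'⟩ : ∃ b', b' = s + l • a := ⟨_, rfl⟩
    have hk : l * (l * Q a + 1) ≠ 0 := by
      apply mul_ne_zero hl
      intro h
      apply hla
      linear_combination h - hQ.two
    have hQb : Q b' = l * (l * Q a + 1) := by
      rw [hb', hQ.add_smul, hQs, hsa]; ring
    have hact : act (tv a l) b' = s := by
      rw [act_tv, hb', sf_add_left, sf_smul_left, sf_self, mul_zero, add_zero, hsa, mul_one,
        add_assoc, vadd_self hQ.two, add_zero]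
    refine ⟨s, (Q b')⁻¹, hs_ne, hQs, inv_ne_zero (by rw [hQb]; exact hk), ?_⟩
    rw [← hact, ← conj_tv]
    exact M.mul_mem (M.mul_mem hmem (hM (refl_mem hQ (by omega) b' (by rw [hQb]; exact hk))))
      (M.inv_mem hmem)

/-- Step 3: then it contains all transvections with singular centre. -/
theorem step3 (hQ : QData Q) (hm : 1 ≤ m) (M : Subgroup (Matrix.symplecticGroup (Fin m) F))
    (hM : Hs Q ≤ M) (s : Fin m ⊕ Fin m → F) (t : F) (hs : s ≠ 0) (hQs : Q s = 0) (ht : t ≠ 0)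
    (hmem : tv s t ∈ M) (s' : Fin m ⊕ Fin m → F) (t' : F) (hQs' : Q s' = 0) : tv s' t' ∈ M := by
  by_cases hs' : s' = 0
  · rw [hs', tv_zero_left]; exact M.one_mem
  by_cases ht' : t' = 0
  · rw [ht', tv_zero_right]; exact M.one_mem
  obtain ⟨r, hr⟩ := hQ.sqrt (t' / t)
  have hr0 : r ≠ 0 := by
    rintro rfl
    have : t' / t = 0 := by rw [← hr]; ring
    exact div_ne_zero ht' ht this
  have h1 : tv s' t' = tv (r • s') t := by
    rw [tv_smul, hr, div_mul_cancel₀ _ ht]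
  obtain ⟨g, hg, hgs⟩ := trans_singular hQ hm s (r • s') hs (smul_ne_zero hr0 hs') hQs
    (by rw [hQ.smul, hQs', mul_zero])
  rw [h1, ← hgs, ← conj_tv]
  exact M.mul_mem (M.mul_mem (hM hg) hmem) (M.inv_mem (hM hg))

/-- Step 4: then it contains all transvections. -/
theorem step4 (hQ : QData Q) (hm : 2 ≤ m) (M : Subgroup (Matrix.symplecticGroup (Fin m) F))
    (hsing : ∀ (s' : Fin m ⊕ Fin m → F) (t' : F), Q s' = 0 → tv s' t' ∈ M)
    (b : Fin m ⊕ Fin m → F) (l : F) : tv b l ∈ M := by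
  by_cases hc : Q b = 0
  · exact hsing b l hc
  have hb : b ≠ 0 := hQ.ne_zero_of_Q hc
  obtain ⟨s1, hs1, hQs1⟩ := exists_singular hQ hm
  obtain ⟨s0, hQs0, hs0b⟩ := singular_nonperp hQ s1 hs1 hQs1 b hb
  obtain ⟨φ, hφ⟩ : ∃ φ, φ = sympForm m F s0 b := ⟨_, rfl⟩
  rw [← hφ] at hs0b
  obtain ⟨μ, hμ⟩ : ∃ μ, μ = Q b / φ := ⟨_, rfl⟩
  have hμ0 : μ ≠ 0 := by rw [hμ]; exact div_ne_zero hc hs0b
  obtain ⟨s', hs'⟩ : ∃ s', s' = b + μ • s0 := ⟨_, rfl⟩
  have hbs0 : sympForm m F b s0 = φ := by rw [sf_symm hQ.two, hφ]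
  have hQs' : Q s' = 0 := by
    rw [hs', hQ.add_smul, hQs0, mul_zero, add_zero, hbs0, hμ, div_mul_cancel₀ _ hs0b]
    linear_combination (Q b) * hQ.two
  have hs0s' : sympForm m F s0 s' = φ := by
    rw [hs', sf_add_right, sf_smul_right, sf_self, mul_zero, add_zero, hφ]
  obtain ⟨τ, hτ⟩ : ∃ τ, τ = μ⁻¹ * φ⁻¹ := ⟨_, rfl⟩
  have hact : act (tv s' τ) s0 = μ⁻¹ • b := by
    rw [act_tv, hs0s', hτ, mul_assoc, inv_mul_cancel₀ hs0b, mul_one, hs', smul_add, smul_smul,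
      inv_mul_cancel₀ hμ0, one_smul, add_comm (μ⁻¹ • b), ← add_assoc, vadd_self hQ.two, zero_add]
  have h1 : tv b l = tv (act (tv s' τ) s0) (μ ^ 2 * l) := by
    rw [hact, tv_smul, ← mul_assoc, ← mul_pow, inv_mul_cancel₀ hμ0, one_pow, one_mul]
  rw [h1, ← conj_tv]
  exact M.mul_mem (M.mul_mem (hsing _ _ hQs') (hsing _ _ hQs0)) (M.inv_mem (hsing _ _ hQs'))

/-- Maximality in the matrix symplectic group. -/
theorem Hs_maximal (hQ : QData Q) (hm : 2 ≤ m) (M : Subgroup (Matrix.symplecticGroup (Fin m) F))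
    (hM : Hs Q ≤ M) : M = Hs Q ∨ M = ⊤ := by
  by_cases h : M ≤ Hs Q
  · left; exact le_antisymm h hM
  · right
    obtain ⟨g, hg, hgH⟩ := SetLike.not_le_iff_exists.mp h
    obtain ⟨a, l, ha, hl, hla, hmem⟩ := step1 hQ (by omega) M hM g hg hgH
    obtain ⟨s, t, hs, hQs, ht, hst⟩ := step2 hQ hm M hM a l ha hl hla hmem
    apply eq_top_of_tv_mem
    intro w c
    exact step4 hQ hm M (fun s' t' h' => step3 hQ (by omega) M hM s t hs hQs ht hst s' t' h') w c

theorem Hs_ne_top (hQ : QData Q) (hm : 2 ≤ m) : Hs Q ≠ ⊤ := by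
  obtain ⟨s1, hs1, hQs1⟩ := exists_singular hQ hm
  intro h
  apply tv_not_mem hQ (by omega) s1 hs1 1
  · rw [hQs1]; simp
  · rw [h]; trivial

end Cfsg.Agent.Lib.Helper24.OrthInSp
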