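import Mathlib
import Cfsg.Agent.Lib.Helper24.OConjC

set_option autoImplicit false
set_option linter.style.haveILetI false
set_option linter.unusedSimpArgs false
set_option linter.unusedSectionVars false

namespace Cfsg.Agent.Lib.Helper24.SpO

open Matrix Cfsg

variable {F : Type*} [Field F] {ι κ : Type} [Fintype ι] [DecidableEq ι] [Fintype κ] [DecidableEq κ]

/-- conjugation of a matrix by a linear equivalence of coordinate spaces -/
noncomputable def cj (T : (κ → F) ≃ₗ[F] (ι → F)) (M : Matrix κ κ F) : Matrix ι ι F :=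
  LinearMap.toMatrix' (T.toLinearMap ∘ₗ Matrix.toLin' M ∘ₗ T.symm.toLinearMap)

theorem cj_mulVec (T : (κ → F) ≃ₗ[F] (ι → F)) (M : Matrix κ κ F) (v : ι → F) :
    cj T M *ᵥ v = T (M *ᵥ T.symm v) := by
  unfold cj
  rw [LinearMap.toMatrix'_mulVec]
  simp only [LinearMap.coe_comp, LinearEquiv.coe_coe, Function.comp_apply, Matrix.toLin'_apply]

theorem cj_mul (T : (κ → F) ≃ₗ[F] (ι → F)) (M N : Matrix κ κ F) :
    cj T (M * N) = cj T M * cj T N := by
  rw [Matrix.ext_iff_mulVec]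
  intro v
  rw [cj_mulVec, ← Matrix.mulVec_mulVec, ← Matrix.mulVec_mulVec, cj_mulVec, cj_mulVec,
    LinearEquiv.symm_apply_apply]

theorem cj_one (T : (κ → F) ≃ₗ[F] (ι → F)) : cj T (1 : Matrix κ κ F) = 1 := by
  rw [Matrix.ext_iff_mulVec]
  intro v
  rw [cj_mulVec, Matrix.one_mulVec, Matrix.one_mulVec, LinearEquiv.apply_symm_apply]

theorem cj_sub (T : (κ → F) ≃ₗ[F] (ι → F)) (M N : Matrix κ κ F) :
    cj T (M - N) = cj T M - cj T N := by
  rw [Matrix.ext_iff_mulVec]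
  intro v
  rw [cj_mulVec, Matrix.sub_mulVec, Matrix.sub_mulVec, cj_mulVec, cj_mulVec, map_sub]

theorem cj_symm_cj (T : (κ → F) ≃ₗ[F] (ι → F)) (M : Matrix κ κ F) :
    cj T.symm (cj T M) = M := by
  rw [Matrix.ext_iff_mulVec]
  intro v
  rw [cj_mulVec, cj_mulVec, LinearEquiv.symm_symm, LinearEquiv.symm_apply_apply,
    LinearEquiv.symm_apply_apply]

theorem cj_cj_symm (T : (κ → F) ≃ₗ[F] (ι → F)) (M : Matrix ι ι F) :
    cj T (cj T.symm M) = M := by
  have := cj_symm_cj T.symm M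
  rw [LinearEquiv.symm_symm] at this
  exact this

theorem cj_pow (T : (κ → F) ≃ₗ[F] (ι → F)) (M : Matrix κ κ F) (n : ℕ) :
    cj T (M ^ n) = cj T M ^ n := by
  induction n with
  | zero => rw [pow_zero, pow_zero, cj_one]
  | succ n ih => rw [pow_succ, pow_succ, cj_mul, ih]

theorem cj_rank (T : (κ → F) ≃ₗ[F] (ι → F)) (M : Matrix κ κ F) :
    (cj T M).rank = M.rank := by
  have h1 : LinearMap.range (cj T M).mulVecLin =
      (LinearMap.range M.mulVecLin).map T.toLinearMap := by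
    ext v
    constructor
    · rintro ⟨w, rfl⟩
      rw [Matrix.mulVecLin_apply, cj_mulVec]
      exact ⟨M *ᵥ T.symm w, ⟨T.symm w, rfl⟩, rfl⟩
    · rintro ⟨_, ⟨w, rfl⟩, rfl⟩
      refine ⟨T w, ?_⟩
      rw [Matrix.mulVecLin_apply, cj_mulVec, LinearEquiv.symm_apply_apply]
      rfl
  unfold Matrix.rank
  rw [h1]
  exact LinearEquiv.finrank_map_eq T _

/-- the group isomorphism of general linear groups induced by a linear equivalence -/
noncomputable def cjGL (T : (κ → F) ≃ₗ[F] (ι → F)) : GL κ F ≃* GL ι F where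
  toFun g := ⟨cj T g.1, cj T g⁻¹.1, by rw [← cj_mul, ← Units.val_mul, mul_inv_cancel,
    Units.val_one, cj_one], by rw [← cj_mul, ← Units.val_mul, inv_mul_cancel,
    Units.val_one, cj_one]⟩
  invFun g := ⟨cj T.symm g.1, cj T.symm g⁻¹.1, by rw [← cj_mul, ← Units.val_mul, mul_inv_cancel,
    Units.val_one, cj_one], by rw [← cj_mul, ← Units.val_mul, inv_mul_cancel,
    Units.val_one, cj_one]⟩
  left_inv g := by
    apply Units.ext
    exact cj_symm_cj T g.1
  right_inv g := by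
    apply Units.ext
    exact cj_cj_symm T g.1
  map_mul' g h := by
    apply Units.ext
    show cj T (g * h).1 = cj T g.1 * cj T h.1
    rw [Units.val_mul, cj_mul]

theorem cjGL_val (T : (κ → F) ≃ₗ[F] (ι → F)) (g : GL κ F) : (cjGL T g).1 = cj T g.1 := rfl

theorem cjGL_symm_val (T : (κ → F) ≃ₗ[F] (ι → F)) (g : GL ι F) :
    ((cjGL T).symm g).1 = cj T.symm g.1 := rfl

theorem cjGL_mulVec (T : (κ → F) ≃ₗ[F] (ι → F)) (g : GL κ F) (v : ι → F) :
    (cjGL T g).1 *ᵥ v = T (g.1 *ᵥ T.symm v) := by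
  rw [cjGL_val, cj_mulVec]

variable {Q : (ι → F) → F} {Q' : (κ → F) → F}

theorem mem_iso_cjGL (T : (κ → F) ≃ₗ[F] (ι → F)) (hT : ∀ w, Q (T w) = Q' w) (g : GL κ F) :
    cjGL T g ∈ Cfsg.isometryGroup F Q ↔ g ∈ Cfsg.isometryGroup F Q' := by
  rw [Cfsg.Agent.Lib.Helper24.OConj.mem_iso_iff, Cfsg.Agent.Lib.Helper24.OConj.mem_iso_iff]
  constructor
  · intro h u
    have := h (T u)
    rw [cjGL_mulVec, LinearEquiv.symm_apply_apply, hT, hT] at this
    exact this
  · intro h v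
    rw [cjGL_mulVec, hT, h, ← hT, LinearEquiv.apply_symm_apply]

theorem card_iso_eq (T : (κ → F) ≃ₗ[F] (ι → F)) (hT : ∀ w, Q (T w) = Q' w) :
    Nat.card (Cfsg.isometryGroup F Q) = Nat.card (Cfsg.isometryGroup F Q') := by
  apply Nat.card_congr
  refine ⟨fun g => ⟨(cjGL T).symm g.1, ?_⟩, fun g => ⟨cjGL T g.1, ?_⟩, ?_, ?_⟩
  · rw [← mem_iso_cjGL T hT, MulEquiv.apply_symm_apply]
    exact g.2
  · rw [mem_iso_cjGL T hT]
    exact g.2
  · intro g
    apply Subtype.ext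
    exact (cjGL T).apply_symm_apply g.1
  · intro g
    apply Subtype.ext
    exact (cjGL T).symm_apply_apply g.1

end Cfsg.Agent.Lib.Helper24.SpO
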