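import Mathlib
import Cfsg.Agent.Lib.Helper24.OEvH
import Cfsg.Agent.Lib.Helper19.QuadMinusTS

set_option autoImplicit false
set_option linter.style.haveILetI false
set_option linter.unusedSimpArgs false
set_option linter.unusedSectionVars false

namespace Cfsg.Agent.Lib.Helper24.SpO

open Matrix Cfsg QuadraticMap
open Cfsg.Agent.Lib.Helper19.QuadWitt Cfsg.Agent.Lib.Helper19.QuadStd
open Cfsg.Agent.Lib.Helper24.OEv

variable {F : Type*} [Field F] [Fintype F]

/-- an even-dimensional nondegenerate quadratic space over a finite field is isometric to the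
standard hyperbolic or the standard elliptic space -/
theorem exists_std_equiv {q : ℕ} (hF : Fintype.card F = q) {ι : Type} [Fintype ι] [DecidableEq ι]
    (Q : QuadraticForm F (ι → F)) (hQ : (polarBilin Q).Nondegenerate) {d : ℕ}
    (hcard : Fintype.card ι = 2 * d) :
    (∃ T : (Fin d ⊕ Fin d → F) ≃ₗ[F] (ι → F), ∀ w, Q (T w) = stdPlus d F w) ∨
    (∃ (k : ℕ) (_ : k + 1 = d) (a c : F)
      (_ : ∀ z₁ z₂ : F, z₁ ^ 2 + a * z₁ * z₂ + c * z₂ ^ 2 = 0 → z₁ = 0 ∧ z₂ = 0)
      (T : ((Fin k ⊕ Fin k) ⊕ Fin 2 → F) ≃ₗ[F] (ι → F)), ∀ w, Q (T w) = stdMinus k F a c w) := by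
  classical
  have hV : Module.finrank F (ι → F) = 2 * d := by
    rw [Module.finrank_fintype_fun_eq_card, hcard]
  rcases even_structure' hQ hV with ⟨e, f, h⟩ | ⟨k, hk, e, f, h, haniso⟩
  · left
    obtain ⟨T, hTdef⟩ : ∃ T : (Fin d ⊕ Fin d → F) →ₗ[F] (ι → F),
        T = Fintype.linearCombination F (Sum.elim e f) := ⟨_, rfl⟩
    have hT : ∀ w, Q (T w) = stdPlus d F w := by
      intro w
      rw [hTdef, Fintype.linearCombination_apply, Q_fam_hyp h, stdPlus_apply]
      rfl
    have hdim : Module.finrank F (Fin d ⊕ Fin d → F) = Module.finrank F (ι → F) := by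
      rw [Module.finrank_fintype_fun_eq_card, Module.finrank_fintype_fun_eq_card, hcard]
      simp only [Fintype.card_sum, Fintype.card_fin]
      omega
    have hT' : ∀ w, Q (T w) = 1 * stdPlus d F w := by
      intro w
      rw [one_mul, hT]
    exact ⟨similarityEquiv (Q := stdPlus d F) (Q' := Q) (stdPlus_nondeg d) T one_ne_zero hT' hdim,
      fun w => hT w⟩
  · right
    subst hk
    obtain ⟨a, c, hac⟩ := exists_aniso F
    have hdim : Module.finrank F (ι → F) = k + k + 2 := by
      rw [hV]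
      omega
    have hZ : Zp Q e f = 1 := Zp_eq_one_of_aniso e f haniso
    have hEP := Cfsg.Agent.Lib.Helper19.QuadMinus.card_EP hF h hdim hZ a c hac
    have hne : Nonempty (EP Q e f a c) := by
      by_contra hempty
      rw [not_nonempty_iff] at hempty
      rw [Nat.card_of_isEmpty] at hEP
      omega
    obtain ⟨⟨⟨x, y⟩, hx, hy, hQx, hxy, hQy⟩⟩ := hne
    simp only at hx hy hQx hxy hQy
    obtain ⟨T, hTdef⟩ : ∃ T : ((Fin k ⊕ Fin k) ⊕ Fin 2 → F) →ₗ[F] (ι → F),
        T = Fintype.linearCombination F (Sum.elim (Sum.elim e f) ![x, y]) := ⟨_, rfl⟩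
    have hT : ∀ w, Q (T w) = stdMinus k F a c w := by
      intro w
      rw [hTdef, Fintype.linearCombination_apply, Q_fam_pairs h hx hy, hQx, hxy, hQy,
        stdMinus_apply]
      unfold Cfsg.quadFormMinus
      ring
    have hdim' : Module.finrank F ((Fin k ⊕ Fin k) ⊕ Fin 2 → F) = Module.finrank F (ι → F) := by
      rw [Module.finrank_fintype_fun_eq_card, Module.finrank_fintype_fun_eq_card, hcard]
      simp only [Fintype.card_sum, Fintype.card_fin]
      omega
    have hT' : ∀ w, Q (T w) = 1 * stdMinus k F a c w := by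
      intro w
      rw [one_mul, hT]
    exact ⟨k, rfl, a, c, hac,
      similarityEquiv (Q := stdMinus k F a c) (Q' := Q) (stdMinus_nondeg k hac) T one_ne_zero hT'
        hdim', fun w => hT w⟩

/-- a totally singular subspace of half dimension from an isometry with the hyperbolic space -/
theorem plusType_of_equiv {ι : Type} [Fintype ι] [DecidableEq ι] {d : ℕ}
    (hcard : Fintype.card ι = 2 * d) (Q : (ι → F) → F)
    (T : (Fin d ⊕ Fin d → F) ≃ₗ[F] (ι → F)) (hT : ∀ w, Q (T w) = stdPlus d F w) :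
    Cfsg.Geo.IsPlusTypeOn Q ⊤ := by
  classical
  obtain ⟨b, hb⟩ : ∃ b : Fin d → (Fin d ⊕ Fin d → F),
      b = fun i => Pi.basisFun F (Fin d ⊕ Fin d) (Sum.inl i) := ⟨_, rfl⟩
  have hli : LinearIndependent F b := by
    rw [hb]
    exact (Pi.basisFun F (Fin d ⊕ Fin d)).linearIndependent.comp Sum.inl Sum.inl_injective
  have hTS : ∀ w ∈ Submodule.span F (Set.range b), ∀ i : Fin d, w (Sum.inr i) = 0 := by
    intro w hw
    induction hw using Submodule.span_induction with
    | mem x hx =>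
      obtain ⟨j, rfl⟩ := hx
      intro i
      rw [hb]
      simp only [Pi.basisFun_apply]
      rw [Pi.single_apply, if_neg (by simp)]
    | zero => intro i; rfl
    | add x y _ _ hx hy =>
      intro i
      rw [Pi.add_apply, hx i, hy i, add_zero]
    | smul c x _ hx =>
      intro i
      rw [Pi.smul_apply, hx i, smul_zero]
  refine ⟨(Submodule.span F (Set.range b)).map T.toLinearMap, le_top, ?_, ?_⟩
  · rintro _ ⟨w, hw, rfl⟩
    show Q (T w) = 0
    rw [hT, stdPlus_apply]
    unfold Cfsg.quadFormPlus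
    apply Finset.sum_eq_zero
    intro i _
    rw [hTS w hw i, mul_zero]
  · rw [LinearEquiv.finrank_map_eq T, finrank_span_eq_card hli, Fintype.card_fin, finrank_top,
      Module.finrank_fintype_fun_eq_card, hcard]

/-- an elliptic space has no totally singular subspace of half dimension -/
theorem not_plusType_of_equiv {ι : Type} [Fintype ι] [DecidableEq ι] {k : ℕ}
    (hcard : Fintype.card ι = 2 * (k + 1)) (Q : (ι → F) → F) (a c : F)
    (hac : ∀ z₁ z₂ : F, z₁ ^ 2 + a * z₁ * z₂ + c * z₂ ^ 2 = 0 → z₁ = 0 ∧ z₂ = 0)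
    (T : ((Fin k ⊕ Fin k) ⊕ Fin 2 → F) ≃ₗ[F] (ι → F)) (hT : ∀ w, Q (T w) = stdMinus k F a c w) :
    ¬ Cfsg.Geo.IsPlusTypeOn Q ⊤ := by
  classical
  rintro ⟨U, -, hU, hdim⟩
  have hTS : Cfsg.Agent.Lib.Helper19.Parity.IsTS (stdMinus k F a c) (U.map T.symm.toLinearMap) := by
    rintro _ ⟨u, hu, rfl⟩
    show stdMinus k F a c (T.symm u) = 0
    rw [← hT, LinearEquiv.apply_symm_apply]
    exact hU u hu
  have h1 := Cfsg.Agent.Lib.Helper19.OrthRefl.isTS_minus_finrank_le k hac _ hTS
  rw [LinearEquiv.finrank_map_eq T.symm] at h1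
  rw [finrank_top, Module.finrank_fintype_fun_eq_card, hcard] at hdim
  omega

end Cfsg.Agent.Lib.Helper24.SpO
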