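import Mathlib
import Cfsg.Agent.Lib.Helper24.SpOA
import Cfsg.Agent.Lib.Helper24.SpOB
import Cfsg.Agent.Lib.Helper24.OrthInSp
import Cfsg.Agent.S0287
import Cfsg.Agent.S0288
import Cfsg.Agent.S0245

set_option autoImplicit false
set_option linter.style.haveILetI false
set_option linter.unusedSimpArgs false
set_option linter.unusedSectionVars false

namespace Cfsg.Agent.Lib.Helper24.SpO

open Matrix Cfsg QuadraticMap
open Cfsg.Agent.Lib.Helper19.QuadWitt Cfsg.Agent.Lib.Helper19.QuadStd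
open Cfsg.Agent.Lib.Helper27.SympTransv

variable {F : Type*} [Field F] {d : ℕ} {Q : (Fin d ⊕ Fin d → F) → F}

theorem mem_spGL_iff (g : GL (Fin d ⊕ Fin d) F) :
    g ∈ Cfsg.spGL d F ↔ ∀ u v, sympForm d F (g.1 *ᵥ u) (g.1 *ᵥ v) = sympForm d F u v :=
  Iff.rfl

theorem iso_le_sp (hQf : ∀ u v, polar Q u v = sympForm d F u v) (g : GL (Fin d ⊕ Fin d) F)
    (hg : g ∈ Cfsg.isometryGroup F Q) : g ∈ Cfsg.spGL d F := by
  rw [Cfsg.Agent.Lib.Helper24.OConj.mem_iso_iff] at hg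
  rw [mem_spGL_iff]
  intro u v
  rw [← hQf, ← hQf]
  unfold polar
  rw [← Matrix.mulVec_add, hg, hg, hg]

theorem sim_inf_sp (hd : 1 ≤ d) (hQf : ∀ u v, polar Q u v = sympForm d F u v) :
    Cfsg.Geo.quadSimilarityGroup Q ⊓ Cfsg.spGL d F = Cfsg.isometryGroup F Q := by
  ext g
  rw [Subgroup.mem_inf]
  constructor
  · rintro ⟨⟨c, hc⟩, hsp⟩
    rw [mem_spGL_iff] at hsp
    rw [Cfsg.Agent.Lib.Helper24.OConj.mem_iso_iff]
    obtain ⟨x, y, hxy⟩ := Cfsg.Agent.Lib.Helper24.OrthInSp.exists_sf_eq_one (F := F) hd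
    have h1 := hsp x y
    rw [← hQf, ← hQf] at h1
    unfold polar at h1
    rw [← Matrix.mulVec_add, hc, hc, hc] at h1
    have h2 : polar Q x y = 1 := by rw [hQf, hxy]
    unfold polar at h2
    have hc1 : (c : F) = 1 := by
      have : (c : F) * (Q (x + y) - Q x - Q y) = Q (x + y) - Q x - Q y := by
        linear_combination h1
      rw [h2, mul_one] at this
      exact this
    intro u
    rw [hc, hc1, one_mul]
  · intro hg
    refine ⟨?_, iso_le_sp hQf g hg⟩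
    rw [Cfsg.Agent.Lib.Helper24.OConj.mem_iso_iff] at hg
    exact ⟨1, fun v => by rw [hg, Units.val_one, one_mul]⟩

theorem spHom_injective :
    Function.Injective (Cfsg.Agent.Lib.Helper27.SympTransv.spHom (F := F) (m := d)) := by
  intro A B h
  apply Subtype.ext
  have := congrArg (fun g : GL (Fin d ⊕ Fin d) F => g.1) h
  exact this

theorem card_spGL [Fintype F] {q : ℕ} (hF : Fintype.card F = q) :
    Nat.card (Cfsg.spGL d F) = q ^ (d ^ 2) * ∏ i ∈ Finset.range d, (q ^ (2 * (i + 1)) - 1) := by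
  rw [← Cfsg.Agent.S0245.result hF d, ← Cfsg.Agent.Lib.Helper27.SympTransv.spHom_range]
  exact (Nat.card_congr (MonoidHom.ofInjective spHom_injective).toEquiv).symm

theorem relIndex_mul_card (hd : 1 ≤ d) (hQf : ∀ u v, polar Q u v = sympForm d F u v) :
    Nat.card (Cfsg.isometryGroup F Q) *
      (Cfsg.Geo.quadSimilarityGroup Q).relIndex (Cfsg.spGL d F) = Nat.card (Cfsg.spGL d F) := by
  have hle : Cfsg.isometryGroup F Q ≤ Cfsg.spGL d F := fun g hg => iso_le_sp hQf g hg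
  rw [← Subgroup.inf_relIndex_right, sim_inf_sp hd hQf]
  have := Subgroup.relIndex_mul_relIndex (⊥ : Subgroup (GL (Fin d ⊕ Fin d) F))
    (Cfsg.isometryGroup F Q) (Cfsg.spGL d F) bot_le hle
  rw [Subgroup.relIndex_bot_left, Subgroup.relIndex_bot_left] at this
  exact this

theorem two_mul_relIndex_plus [Fintype F] {q : ℕ} (hF : Fintype.card F = q) (hd : 1 ≤ d)
    (hQf : ∀ u v, polar Q u v = sympForm d F u v)
    (T : (Fin d ⊕ Fin d → F) ≃ₗ[F] (Fin d ⊕ Fin d → F)) (hT : ∀ w, Q (T w) = stdPlus d F w) :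
    2 * (Cfsg.Geo.quadSimilarityGroup Q).relIndex (Cfsg.spGL d F) = q ^ d * (q ^ d + 1) := by
  have h1 := relIndex_mul_card hd hQf
  have hT' : ∀ w, Q (T w) = Cfsg.quadFormPlus d F w := by
    intro w
    rw [hT, stdPlus_apply]
  rw [card_iso_eq T hT', Cfsg.Agent.S0287.result hF d hd, card_spGL hF] at h1
  have hq : 2 ≤ q := by
    rw [← hF]
    exact Fintype.one_lt_card
  obtain ⟨e, rfl⟩ : ∃ e, d = e + 1 := ⟨d - 1, by omega⟩
  rw [Finset.prod_range_succ, Nat.add_sub_cancel] at h1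
  obtain ⟨A, hA⟩ : ∃ A, q ^ (e + 1) = A + 1 := ⟨q ^ (e + 1) - 1, by
    have : 0 < q ^ (e + 1) := by positivity
    omega⟩
  have hA0 : 0 < A := by
    have : 2 ≤ q ^ (e + 1) := by
      calc 2 ≤ q := hq
        _ = q ^ 1 := (pow_one q).symm
        _ ≤ q ^ (e + 1) := Nat.pow_le_pow_right (by omega) (by omega)
    omega
  have h3 : q ^ (2 * (e + 1)) - 1 = A * (A + 2) := by
    have : q ^ (2 * (e + 1)) = (A + 1) ^ 2 := by rw [← hA, ← pow_mul, mul_comm]
    rw [this]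
    have : (A + 1) ^ 2 = A * (A + 2) + 1 := by ring
    omega
  have h4 : q ^ ((e + 1) ^ 2) = q ^ ((e + 1) * e) * q ^ (e + 1) := by
    rw [← pow_add]
    congr 1
    ring
  have hP : 0 < ∏ i ∈ Finset.range e, (q ^ (2 * (i + 1)) - 1) := by
    apply Finset.prod_pos
    intro i _
    have : 2 ≤ q ^ (2 * (i + 1)) := by
      calc 2 ≤ q := hq
        _ = q ^ 1 := (pow_one q).symm
        _ ≤ q ^ (2 * (i + 1)) := Nat.pow_le_pow_right (by omega) (by omega)
    omega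
  rw [h3, h4, hA, Nat.add_sub_cancel] at h1
  rw [hA]
  have hpos : 0 < q ^ ((e + 1) * e) * A * ∏ i ∈ Finset.range e, (q ^ (2 * (i + 1)) - 1) := by
    have : 0 < q ^ ((e + 1) * e) := by positivity
    positivity
  apply Nat.eq_of_mul_eq_mul_left hpos
  calc q ^ ((e + 1) * e) * A * (∏ i ∈ Finset.range e, (q ^ (2 * (i + 1)) - 1)) *
      (2 * (Cfsg.Geo.quadSimilarityGroup Q).relIndex (Cfsg.spGL (e + 1) F))
      = 2 * q ^ ((e + 1) * e) * A * (∏ i ∈ Finset.range e, (q ^ (2 * (i + 1)) - 1)) *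
        (Cfsg.Geo.quadSimilarityGroup Q).relIndex (Cfsg.spGL (e + 1) F) := by ring
    _ = _ := by rw [h1]; ring

theorem two_mul_relIndex_minus [Fintype F] {q : ℕ} (hF : Fintype.card F = q) {k : ℕ}
    (hkd : k + 1 = d)
    (hQf : ∀ u v, polar Q u v = sympForm d F u v) (a c : F)
    (hac : ∀ z₁ z₂ : F, z₁ ^ 2 + a * z₁ * z₂ + c * z₂ ^ 2 = 0 → z₁ = 0 ∧ z₂ = 0)
    (T : ((Fin k ⊕ Fin k) ⊕ Fin 2 → F) ≃ₗ[F] (Fin d ⊕ Fin d → F))
    (hT : ∀ w, Q (T w) = stdMinus k F a c w) :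
    2 * (Cfsg.Geo.quadSimilarityGroup Q).relIndex (Cfsg.spGL d F) + q ^ d = q ^ d * q ^ d := by
  subst hkd
  have h1 := relIndex_mul_card (by omega) hQf
  have hT' : ∀ w, Q (T w) = Cfsg.quadFormMinus k F a c w := by
    intro w
    rw [hT, stdMinus_apply]
  have h0 := Cfsg.Agent.S0288.result hF (k + 1) (by omega) a c hac
  rw [Nat.add_sub_cancel] at h0
  rw [card_iso_eq T hT', h0, card_spGL hF] at h1
  have hq : 2 ≤ q := by
    rw [← hF]
    exact Fintype.one_lt_card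
  rw [Finset.prod_range_succ] at h1
  obtain ⟨A, hA⟩ : ∃ A, q ^ (k + 1) = A + 1 := ⟨q ^ (k + 1) - 1, by
    have : 0 < q ^ (k + 1) := by positivity
    omega⟩
  have h3 : q ^ (2 * (k + 1)) - 1 = A * (A + 2) := by
    have : q ^ (2 * (k + 1)) = (A + 1) ^ 2 := by rw [← hA, ← pow_mul, mul_comm]
    rw [this]
    have : (A + 1) ^ 2 = A * (A + 2) + 1 := by ring
    omega
  have h4 : q ^ ((k + 1) ^ 2) = q ^ ((k + 1) * k) * q ^ (k + 1) := by
    rw [← pow_add]
    congr 1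
    ring
  have hP : 0 < ∏ i ∈ Finset.range k, (q ^ (2 * (i + 1)) - 1) := by
    apply Finset.prod_pos
    intro i _
    have : 2 ≤ q ^ (2 * (i + 1)) := by
      calc 2 ≤ q := hq
        _ = q ^ 1 := (pow_one q).symm
        _ ≤ q ^ (2 * (i + 1)) := Nat.pow_le_pow_right (by omega) (by omega)
    omega
  rw [h3, h4, hA] at h1
  rw [hA]
  have hpos : 0 < q ^ ((k + 1) * k) * (A + 2) * ∏ i ∈ Finset.range k, (q ^ (2 * (i + 1)) - 1) := by
    have : 0 < q ^ ((k + 1) * k) := by positivity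
    positivity
  apply Nat.eq_of_mul_eq_mul_left hpos
  have e1 : A + 1 + 1 = A + 2 := by ring
  rw [e1] at h1
  have : q ^ ((k + 1) * k) * (A + 2) * (∏ i ∈ Finset.range k, (q ^ (2 * (i + 1)) - 1)) *
      (2 * (Cfsg.Geo.quadSimilarityGroup Q).relIndex (Cfsg.spGL (k + 1) F)) =
      q ^ ((k + 1) * k) * (A + 2) * (∏ i ∈ Finset.range k, (q ^ (2 * (i + 1)) - 1)) *
        ((A + 1) * A) := by
    rw [← mul_assoc]
    calc q ^ ((k + 1) * k) * (A + 2) * (∏ i ∈ Finset.range k, (q ^ (2 * (i + 1)) - 1)) * 2 *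
        (Cfsg.Geo.quadSimilarityGroup Q).relIndex (Cfsg.spGL (k + 1) F)
        = 2 * q ^ ((k + 1) * k) * (A + 2) * (∏ i ∈ Finset.range k, (q ^ (2 * (i + 1)) - 1)) *
          (Cfsg.Geo.quadSimilarityGroup Q).relIndex (Cfsg.spGL (k + 1) F) := by ring
      _ = _ := by rw [h1]; ring
  have h5 := Nat.eq_of_mul_eq_mul_left hpos this
  rw [h5]
  ring

end Cfsg.Agent.Lib.Helper24.SpO
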