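import Mathlib
import Cfsg.Agent.Lib.Helper24.SpOC
import Cfsg.Agent.Lib.Helper27.SpInvol2

set_option autoImplicit false
set_option linter.style.haveILetI false
set_option linter.unusedSimpArgs false
set_option linter.unusedSectionVars false

namespace Cfsg.Agent.Lib.Helper24.SpO

open Matrix Cfsg QuadraticMap
open Cfsg.Agent.Lib.Helper19.QuadStd
open Cfsg.Agent.Lib.Helper27.SympTransv Cfsg.Agent.Lib.Helper27.SpInvol

variable {F : Type*} [Field F] {d : ℕ} {Q : (Fin d ⊕ Fin d → F) → F}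

theorem alt_iff (h2 : (2 : F) = 0) (hQf : ∀ u v, polar Q u v = sympForm d F u v)
    (A : Matrix (Fin d ⊕ Fin d) (Fin d ⊕ Fin d) F) (hA : ∀ v, Q (A *ᵥ v) = Q v) :
    (∀ v, Q (v + A *ᵥ v) = 0) ↔ ∀ v, sympForm d F v (A *ᵥ v) = 0 := by
  have key : ∀ v, Q (v + A *ᵥ v) = sympForm d F v (A *ᵥ v) := by
    intro v
    rw [← hQf]
    unfold polar
    rw [hA]
    linear_combination (Q v) * h2
  constructor
  · intro h v
    rw [← key, h]
  · intro h v
    rw [key, h]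

theorem conj_of_rep [Fintype F] [CharP F 2] (x t : GL (Fin d ⊕ Fin d) F)
    (hx : x ∈ Cfsg.spGL d F) (ht : t ∈ Cfsg.spGL d F)
    (hxx : x.1 * x.1 = 1) (htt : t.1 * t.1 = 1) (hrank : (x.1 - 1).rank = (t.1 - 1).rank)
    (htype : (∀ v, sympForm d F v (x.1 *ᵥ v) = 0) ↔ (∀ v, sympForm d F v (t.1 *ᵥ v) = 0)) :
    ∃ g ∈ Cfsg.spGL d F, g⁻¹ * x * g = t := by
  rw [← spHom_range] at hx ht
  obtain ⟨a, rfl⟩ := hx
  obtain ⟨b, rfl⟩ := ht
  have haa : a * a = 1 := by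
    apply Subtype.ext
    exact hxx
  have hbb : b * b = 1 := by
    apply Subtype.ext
    exact htt
  have h1 := invol_conj a b haa hbb hrank
    ((Nof_alt_iff a).trans (htype.trans (Nof_alt_iff b).symm))
  rw [isConj_iff] at h1
  obtain ⟨c, hc⟩ := h1
  refine ⟨spHom c⁻¹, spHom_mem _, ?_⟩
  rw [← hc, map_mul, map_mul, map_inv, inv_inv]

theorem rep_transport {κ : Type} [Fintype κ] [DecidableEq κ] {Q' : (κ → F) → F}
    (T : (κ → F) ≃ₗ[F] (Fin d ⊕ Fin d → F)) (hT : ∀ w, Q (T w) = Q' w)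
    (t' : ↥(Cfsg.isometryGroup F Q')) (ht' : t' * t' = 1) :
    ∃ t : GL (Fin d ⊕ Fin d) F, t ∈ Cfsg.isometryGroup F Q ∧ t.1 * t.1 = 1 ∧
      (t.1 - 1).rank = ((t'.1.1 : Matrix κ κ F) - 1).rank ∧
      ((∀ v, Q (v + t.1 *ᵥ v) = 0) ↔ (∀ w, Q' (w + (t'.1.1 : Matrix κ κ F) *ᵥ w) = 0)) := by
  refine ⟨cjGL T t'.1, (mem_iso_cjGL T hT t'.1).mpr t'.2, ?_, ?_, ?_⟩
  · have h1 : (t'.1.1 : Matrix κ κ F) * (t'.1.1 : Matrix κ κ F) = 1 := by
      have := congrArg (fun x : ↥(Cfsg.isometryGroup F Q') => (x.1.1 : Matrix κ κ F)) ht'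
      exact this
    rw [cjGL_val, ← cj_mul, h1, cj_one]
  · rw [cjGL_val, ← cj_one T, ← cj_sub, cj_rank]
  · constructor
    · intro h w
      have := h (T w)
      rw [cjGL_mulVec, LinearEquiv.symm_apply_apply, ← map_add, hT] at this
      exact this
    · intro h v
      rw [cjGL_mulVec]
      have := h (T.symm v)
      rw [← hT, map_add, LinearEquiv.apply_symm_apply] at this
      exact this

theorem invol_conj_into [Fintype F] [CharP F 2] (hd : 1 ≤ d)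
    (hQf : ∀ u v, polar Q u v = sympForm d F u v)
    (hrepO : ∀ s, 1 ≤ s → s ≤ d → ∃ t : GL (Fin d ⊕ Fin d) F, t ∈ Cfsg.isometryGroup F Q ∧
      t.1 * t.1 = 1 ∧ (t.1 - 1).rank = s ∧ ¬ ∀ v, Q (v + t.1 *ᵥ v) = 0)
    (hrepA : ∀ k, 1 ≤ k → 2 * k ≤ d → ∃ t : GL (Fin d ⊕ Fin d) F, t ∈ Cfsg.isometryGroup F Q ∧
      t.1 * t.1 = 1 ∧ (t.1 - 1).rank = 2 * k ∧ ∀ v, Q (v + t.1 *ᵥ v) = 0)
    (x : GL (Fin d ⊕ Fin d) F) (hx : x ∈ Cfsg.spGL d F) (hxx : x.1 * x.1 = 1) (hx1 : x.1 ≠ 1) :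
    ∃ g ∈ Cfsg.spGL d F, g⁻¹ * x * g ∈ Cfsg.Geo.quadSimilarityGroup Q := by
  have h2 : (2 : F) = 0 := by
    have := CharP.cast_eq_zero F 2
    exact_mod_cast this
  have hx' := hx
  rw [← spHom_range] at hx'
  obtain ⟨a, ha⟩ := hx'
  have haa : a * a = 1 := by
    apply Subtype.ext
    show a.1 * a.1 = 1
    rw [← spHom_coe a, ha]
    exact hxx
  have hax : a.1 = x.1 := by rw [← ha]; rfl
  obtain ⟨s, hs⟩ : ∃ s, s = (x.1 - 1).rank := ⟨_, rfl⟩
  have hsd : s ≤ d := by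
    have := rank_le_of_sq_zero (Nof_sadj haa) (Nof_sq haa)
    rw [Nof_rank, hax] at this
    rw [hs]
    exact this
  have hs1 : 1 ≤ s := by
    by_contra h
    have h0 : (x.1 - 1).rank = 0 := by omega
    have h0' : Module.finrank F (LinearMap.range (x.1 - 1).mulVecLin) = 0 := h0
    have hbot := Submodule.finrank_eq_zero.mp h0'
    have h1 : x.1 - 1 = 0 := by
      rw [Matrix.ext_iff_mulVec]
      intro v
      have h3 : (x.1 - 1).mulVecLin v ∈ LinearMap.range (x.1 - 1).mulVecLin :=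
        LinearMap.mem_range_self _ v
      rw [hbot, Submodule.mem_bot, Matrix.mulVecLin_apply] at h3
      rw [h3, Matrix.zero_mulVec]
    exact hx1 (sub_eq_zero.mp h1)
  have hle : Cfsg.isometryGroup F Q ≤ Cfsg.Geo.quadSimilarityGroup Q := by
    rw [← sim_inf_sp hd hQf]
    exact inf_le_left
  have hfin : ∀ t : GL (Fin d ⊕ Fin d) F, t ∈ Cfsg.isometryGroup F Q → t.1 * t.1 = 1 →
      (t.1 - 1).rank = s →
      ((∀ v, Q (v + t.1 *ᵥ v) = 0) ↔ ∀ v, sympForm d F v (x.1 *ᵥ v) = 0) →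
      ∃ g ∈ Cfsg.spGL d F, g⁻¹ * x * g ∈ Cfsg.Geo.quadSimilarityGroup Q := by
    intro t ht htt hrk htype
    have hiso : ∀ v, Q (t.1 *ᵥ v) = Q v :=
      (Cfsg.Agent.Lib.Helper24.OConj.mem_iso_iff Q t).mp ht
    obtain ⟨g, hg, hgx⟩ := conj_of_rep x t hx (iso_le_sp hQf t ht) hxx htt (by rw [hrk, hs])
      ((alt_iff h2 hQf t.1 hiso).symm.trans htype).symm
    exact ⟨g, hg, by rw [hgx]; exact hle ht⟩
  by_cases halt : ∀ v, sympForm d F v (x.1 *ᵥ v) = 0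
  · have heven : Even s := by
      have := even_rank_of_alt haa ((Nof_alt_iff a).mpr (by rw [hax]; exact halt))
      rw [hax] at this
      rw [hs]
      exact this
    obtain ⟨k, hk⟩ := heven
    obtain ⟨t, ht, htt, hrk, htalt⟩ := hrepA k (by omega) (by omega)
    exact hfin t ht htt (by rw [hrk]; omega) ⟨fun _ => halt, fun _ => htalt⟩
  · obtain ⟨t, ht, htt, hrk, htalt⟩ := hrepO s hs1 hsd
    exact hfin t ht htt hrk ⟨fun h => absurd h htalt, fun h => absurd h halt⟩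

end Cfsg.Agent.Lib.Helper24.SpO
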