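import Mathlib
import Cfsg.Agent.Lib.Helper24.OCentG
import Cfsg.Agent.Lib.Helper24.SpOD
import Cfsg.Agent.Lib.Helper24.NsPtD

set_option autoImplicit false
set_option linter.style.haveILetI false
set_option linter.unusedSimpArgs false
set_option linter.unusedSectionVars false

namespace Cfsg.Agent.Lib.Helper24.OCent

open Matrix Cfsg QuadraticMap
open Cfsg.Agent.Lib.Helper27.SympTransv Cfsg.Agent.Lib.Helper27.SpInvol
open Cfsg.Agent.Lib.Helper19.QuadStd
open Cfsg.Agent.Lib.Helper24.SpCent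

variable {F : Type*} [Field F] [CharP F 2] {m k : ℕ}

/-- the orthogonal group of the standard hyperbolic form -/
abbrev OG (m : ℕ) (F : Type*) [Field F] : Type _ := ↥(Cfsg.isometryGroup F ⇑(stdPlus m F))

theorem iso_mem_sp (g : OG m F) :
    (g.1.1 : Matrix (Fin m ⊕ Fin m) (Fin m ⊕ Fin m) F) ∈ symplecticGroup (Fin m) F := by
  have h1 : g.1 ∈ Cfsg.spGL m F :=
    Cfsg.Agent.Lib.Helper24.SpO.iso_le_sp
      (fun u v => Cfsg.Agent.Lib.Helper24.OInv.polar_plus_eq_sf two_zero u v) g.1 g.2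
  rw [← spHom_range] at h1
  obtain ⟨A, hA⟩ := h1
  have h3 : A.1 = (g.1.1 : Matrix (Fin m ⊕ Fin m) (Fin m ⊕ Fin m) F) := by
    rw [← hA]
    rfl
  rw [← h3]
  exact A.2

def toSp (g : OG m F) : symplecticGroup (Fin m) F := ⟨g.1.1, iso_mem_sp g⟩

theorem toSp_val (g : OG m F) : (toSp g).1 = (g.1.1 : Matrix _ _ F) := rfl

theorem OQ_toSp (g : OG m F) : OQ (toSp g) :=
  fun v => (Cfsg.Agent.Lib.Helper24.OConj.mem_iso_iff _ g.1).mp g.2 v

noncomputable def ofSp (A : symplecticGroup (Fin m) F) (hO : OQ A) : OG m F :=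
  ⟨spHom A, (Cfsg.Agent.Lib.Helper24.OConj.mem_iso_iff _ _).mpr (fun u => hO u)⟩

theorem toSp_ofSp (A : symplecticGroup (Fin m) F) (hO : OQ A) : toSp (ofSp A hO) = A :=
  Subtype.ext rfl

theorem ofSp_toSp (g : OG m F) : ofSp (toSp g) (OQ_toSp g) = g := by
  apply Subtype.ext
  apply Units.ext
  rfl

theorem toSp_mul (g h : OG m F) : toSp (g * h) = toSp g * toSp h := Subtype.ext rfl

theorem toSp_one : toSp (1 : OG m F) = 1 := Subtype.ext rfl

theorem toSp_injective : Function.Injective (toSp (F := F) (m := m)) := by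
  intro g h hgh
  rw [← ofSp_toSp g, ← ofSp_toSp h]
  congr 1

theorem card_pred [Fintype F] (P : symplecticGroup (Fin m) F → Prop) :
    Nat.card {g : OG m F // P (toSp g)} =
      Nat.card {t : {t : symplecticGroup (Fin m) F // P t} // OQ t.1} := by
  apply Nat.card_congr
  refine ⟨fun g => ⟨⟨toSp g.1, g.2⟩, OQ_toSp g.1⟩,
    fun t => ⟨ofSp t.1.1 t.2, by rw [toSp_ofSp]; exact t.1.2⟩, ?_, ?_⟩
  · intro g
    apply Subtype.ext
    exact ofSp_toSp g.1
  · intro t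
    apply Subtype.ext
    apply Subtype.ext
    exact toSp_ofSp t.1.1 t.2

theorem alt_iff_sp (g : OG m F) :
    (∀ v, stdPlus m F (v + (g.1.1 : Matrix _ _ F) *ᵥ v) = 0) ↔
      ∀ v, sympForm m F v ((toSp g).1 *ᵥ v) = 0 :=
  Cfsg.Agent.Lib.Helper24.SpO.alt_iff two_zero
    (fun u v => Cfsg.Agent.Lib.Helper24.OInv.polar_plus_eq_sf two_zero u v) _
    (fun v => (Cfsg.Agent.Lib.Helper24.OConj.mem_iso_iff _ g.1).mp g.2 v)

theorem isConj_iff_inv [Fintype F] (x g : OG m F) (hxx : x * x = 1) :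
    IsConj x g ↔ (toSp g * toSp g = 1 ∧ ((toSp g).1 - 1).rank = ((toSp x).1 - 1).rank ∧
      ((∀ v, sympForm m F v ((toSp g).1 *ᵥ v) = 0) ↔
        (∀ v, sympForm m F v ((toSp x).1 *ᵥ v) = 0))) := by
  constructor
  · intro h
    refine ⟨?_, (Cfsg.Agent.Lib.Helper24.OInv.rank_of_isConj x g h).symm, ?_⟩
    · rw [← toSp_mul, ← toSp_one]
      congr 1
      rw [isConj_iff] at h
      obtain ⟨c, hc⟩ := h
      rw [← hc]
      calc c * x * c⁻¹ * (c * x * c⁻¹) = c * (x * x) * c⁻¹ := by group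
        _ = 1 := by rw [hxx]; group
    · rw [← alt_iff_sp, ← alt_iff_sp]
      exact (Cfsg.Agent.Lib.Helper24.OInv.alt_iff_of_isConj x g h).symm
  · rintro ⟨hgg, hrk, htype⟩
    have hgg' : g * g = 1 := by
      apply toSp_injective
      rw [toSp_mul, toSp_one]
      exact hgg
    exact Cfsg.Agent.Lib.Helper24.OInv.conj_of_invariants (stdPlus m F) (stdPlus_nondeg m)
      (LinearEquiv.refl F _) (Cfsg.Agent.Lib.Helper24.OInv.plus_hT two_zero m) x g hxx hgg'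
      hrk.symm (by rw [alt_iff_sp, alt_iff_sp]; exact htype.symm)

theorem classA [Fintype F] (x : OG m F) (hxx : x * x = 1)
    (hrk : ((x.1.1 : Matrix _ _ F) - 1).rank = 2 * k)
    (halt : ∀ v, sympForm m F v ((x.1.1 : Matrix _ _ F) *ᵥ v) = 0) :
    Nat.card {g : OG m F // IsConj x g} = Nat.card (CAO m k F) := by
  refine Eq.trans ?_ (card_pred (fun t : symplecticGroup (Fin m) F => t * t = 1 ∧ (t.1 - 1).rank = 2 * k ∧
    ∀ v, sympForm m F v (t.1 *ᵥ v) = 0))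
  apply Nat.card_congr
  apply Equiv.subtypeEquivRight
  intro g
  rw [isConj_iff_inv x g hxx]
  have e1 : ((toSp x).1 - 1).rank = 2 * k := hrk
  have e2 : ∀ v, sympForm m F v ((toSp x).1 *ᵥ v) = 0 := halt
  rw [e1]
  exact ⟨fun h => ⟨h.1, h.2.1, h.2.2.mpr e2⟩, fun h => ⟨h.1, h.2.1, iff_of_true h.2.2 e2⟩⟩

theorem classB [Fintype F] (x : OG m F) (hxx : x * x = 1)
    (hrk : ((x.1.1 : Matrix _ _ F) - 1).rank = 2 * k + 1) :
    Nat.card {g : OG m F // IsConj x g} = Nat.card (CBO m (2 * k + 1) F) := by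
  refine Eq.trans ?_ (card_pred (fun t : symplecticGroup (Fin m) F => t * t = 1 ∧ (t.1 - 1).rank = 2 * k + 1))
  apply Nat.card_congr
  apply Equiv.subtypeEquivRight
  intro g
  rw [isConj_iff_inv x g hxx]
  have e1 : ((toSp x).1 - 1).rank = 2 * k + 1 := hrk
  have hxx' : toSp x * toSp x = 1 := by rw [← toSp_mul, hxx, toSp_one]
  have hodd : ∀ t : symplecticGroup (Fin m) F, t * t = 1 → (t.1 - 1).rank = 2 * k + 1 →
      ¬ ∀ v, sympForm m F v (t.1 *ᵥ v) = 0 := by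
    intro t htt hr halt
    have := even_rank_of_alt htt ((Nof_alt_iff t).mpr halt)
    rw [hr] at this
    obtain ⟨i, hi⟩ := this
    omega
  rw [e1]
  exact ⟨fun h => ⟨h.1, h.2.1⟩, fun h => ⟨h.1, h.2,
    iff_of_false (hodd _ h.1 h.2) (hodd _ hxx' e1)⟩⟩

theorem classC [Fintype F] (x : OG m F) (hxx : x * x = 1)
    (hrk : ((x.1.1 : Matrix _ _ F) - 1).rank = 2 * k)
    (hna : ¬ ∀ v, sympForm m F v ((x.1.1 : Matrix _ _ F) *ᵥ v) = 0) :
    Nat.card {g : OG m F // IsConj x g} = Nat.card (CCO m k F) := by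
  refine Eq.trans ?_ (card_pred (fun t : symplecticGroup (Fin m) F => t * t = 1 ∧ (t.1 - 1).rank = 2 * k ∧
    ¬ ∀ v, sympForm m F v (t.1 *ᵥ v) = 0))
  apply Nat.card_congr
  apply Equiv.subtypeEquivRight
  intro g
  rw [isConj_iff_inv x g hxx]
  have e1 : ((toSp x).1 - 1).rank = 2 * k := hrk
  have e2 : ¬ ∀ v, sympForm m F v ((toSp x).1 *ᵥ v) = 0 := hna
  rw [e1]
  exact ⟨fun h => ⟨h.1, h.2.1, fun h' => e2 (h.2.2.mp h')⟩,
    fun h => ⟨h.1, h.2.1, iff_of_false h.2.2 e2⟩⟩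

end Cfsg.Agent.Lib.Helper24.OCent
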