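import Mathlib
import Cfsg.Agent.Lib.Helper24.OCentH

set_option autoImplicit false
set_option linter.style.haveILetI false
set_option linter.unusedSimpArgs false
set_option linter.unusedSectionVars false

namespace Cfsg.Agent.Lib.Helper24.OCent

open Matrix Cfsg QuadraticMap
open Cfsg.Agent.Lib.Helper19.QuadStd
open Cfsg.Agent.Lib.Helper19.OrthRefl Cfsg.Agent.Lib.Helper19.Parity

/-- counting a subgroup against a subgroup of index two -/
theorem half_count {G : Type*} [Group G] [Finite G] (N C : Subgroup G)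
    (hmul : ∀ a b : G, a ∉ N → b ∉ N → a * b ∈ N) (h₀ : G) (h₀C : h₀ ∈ C) (h₀N : h₀ ∉ N) :
    Nat.card C = 2 * Nat.card {g : N // g.1 ∈ C} := by
  classical
  have e1 : Nat.card {g : N // g.1 ∈ C} = Nat.card {g : C // g.1 ∈ N} := by
    apply Nat.card_congr
    exact ⟨fun g => ⟨⟨g.1.1, g.2⟩, g.1.2⟩, fun g => ⟨⟨g.1.1, g.2⟩, g.1.2⟩,
      fun g => rfl, fun g => rfl⟩
  have e2 : Nat.card {g : C // g.1 ∉ N} = Nat.card {g : C // g.1 ∈ N} := by
    apply Nat.card_congr
    have h₀inv : h₀⁻¹ ∉ N := fun h => h₀N (by simpa using N.inv_mem h)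
    refine ⟨fun g => ⟨⟨h₀⁻¹ * g.1.1, C.mul_mem (C.inv_mem h₀C) g.1.2⟩, hmul _ _ h₀inv g.2⟩,
      fun g => ⟨⟨h₀ * g.1.1, C.mul_mem h₀C g.1.2⟩, ?_⟩, ?_, ?_⟩
    · intro h
      apply h₀N
      have h3 : h₀ = h₀ * g.1.1 * (g.1.1)⁻¹ := by group
      rw [h3]
      exact N.mul_mem h (N.inv_mem g.2)
    · intro g
      apply Subtype.ext
      apply Subtype.ext
      show h₀ * (h₀⁻¹ * g.1.1) = g.1.1
      group
    · intro g
      apply Subtype.ext
      apply Subtype.ext
      show h₀⁻¹ * (h₀ * g.1.1) = g.1.1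
      group
  have e3 : Nat.card C = Nat.card {g : C // g.1 ∈ N} + Nat.card {g : C // g.1 ∉ N} := by
    rw [← Nat.card_sum]
    exact Nat.card_congr (Equiv.sumCompl (fun g : C => g.1 ∈ N)).symm
  rw [e3, e2, e1]
  ring

theorem full_count {G : Type*} [Group G] (N C : Subgroup G) (hle : C ≤ N) :
    Nat.card C = Nat.card {g : N // g.1 ∈ C} := by
  apply Nat.card_congr
  exact ⟨fun g => ⟨⟨g.1, hle g.2⟩, g.2⟩, fun g => ⟨g.1.1, g.2⟩, fun g => rfl, fun g => rfl⟩

variable {F : Type*} [Field F] [CharP F 2] {m : ℕ}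

theorem hex_of [Fintype F] (h : Fintype.card F ≠ 2 ∨ m ≠ 2) :
    Fintype.card F ≠ 2 ∨ Fintype.card (Fin m ⊕ Fin m) ≠ 4 := by
  rcases h with h | h
  · exact Or.inl h
  · right
    rw [Fintype.card_sum, Fintype.card_fin]
    omega

theorem mem_Omega_iff_even [Fintype F] (h : Fintype.card F ≠ 2 ∨ m ≠ 2) (g : OG m F) :
    g ∈ Cfsg.Omega F ⇑(stdPlus m F) ↔ Even ((g.1.1 : Matrix _ _ F) - 1).rank := by
  rw [mem_Omega_iff_c2 two_zero (stdPlus m F) (stdPlus_nondeg m) (hex_of h),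
    dicksonChar_eq_rank, neg_one_pow_eq_one_iff_even']

theorem Omega_mul [Fintype F] (h : Fintype.card F ≠ 2 ∨ m ≠ 2) (a b : OG m F)
    (ha : a ∉ Cfsg.Omega F ⇑(stdPlus m F)) (hb : b ∉ Cfsg.Omega F ⇑(stdPlus m F)) :
    a * b ∈ Cfsg.Omega F ⇑(stdPlus m F) := by
  have hΩ := mem_Omega_iff_c2 two_zero (stdPlus m F) (stdPlus_nondeg m) (hex_of h)
  rw [hΩ] at ha hb ⊢
  rcases Int.units_eq_one_or (dicksonChar two_zero (stdPlus m F) (stdPlus_nondeg m) a) with h | h
  · exact absurd h ha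
  rcases Int.units_eq_one_or (dicksonChar two_zero (stdPlus m F) (stdPlus_nondeg m) b) with h' | h'
  · exact absurd h' hb
  rw [map_mul, h, h']; rfl

/-- an element of the centraliser outside `Ω` -/
theorem exists_cent_not_Omega [Fintype F] (h : Fintype.card F ≠ 2 ∨ m ≠ 2) (x : OG m F)
    (hxx : x * x = 1)
    (hnot : ¬ (((x.1.1 : Matrix _ _ F) - 1).rank = m ∧
      ∀ v, stdPlus m F (v + (x.1.1 : Matrix _ _ F) *ᵥ v) = 0)) :
    ∃ h₀ : OG m F, h₀ ∈ Subgroup.centralizer ({x} : Set (OG m F)) ∧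
      h₀ ∉ Cfsg.Omega F ⇑(stdPlus m F) := by
  have hV : Fintype.card (Fin m ⊕ Fin m) = 2 * m := by
    rw [Fintype.card_sum, Fintype.card_fin]; ring
  obtain ⟨w, hw, htw⟩ := Cfsg.Agent.Lib.Helper24.NsPt.exists_fixed_nonsing_of_not_full two_zero
    (stdPlus m F) (stdPlus_nondeg m) hV x hxx hnot
  refine ⟨refl (stdPlus m F) w hw, ?_, ?_⟩
  · rw [Subgroup.mem_centralizer_iff]
    intro y hy
    rw [Set.mem_singleton_iff] at hy
    subst hy
    have hc := refl_comm_of_fixed (stdPlus m F) y w hw htw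
    exact (mul_inv_eq_iff_eq_mul.1 hc)
  · rw [mem_Omega_iff_c2 two_zero (stdPlus m F) (stdPlus_nondeg m) (hex_of h), dicksonChar_refl]
    decide

/-- the centraliser of a full rank alternating involution lies in `Ω` -/
theorem cent_le_Omega [Fintype F] (h : Fintype.card F ≠ 2 ∨ m ≠ 2) (t : OG m F)
    (htt : t * t = 1) (hrank : ((t.1.1 : Matrix _ _ F) - 1).rank = m)
    (halt : ∀ v, stdPlus m F (v + (t.1.1 : Matrix _ _ F) *ᵥ v) = 0) :
    Subgroup.centralizer ({t} : Set (OG m F)) ≤ Cfsg.Omega F ⇑(stdPlus m F) := by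
  intro c hc
  rw [Subgroup.mem_centralizer_iff] at hc
  have hc' : c * t * c⁻¹ = t := by
    have := hc t (Set.mem_singleton t)
    rw [← this]
    group
  have h2 : (2 : F) = 0 := two_zero
  have hQ := stdPlus_nondeg (F := F) m
  have hex := hex_of (F := F) (m := m) h
  have hV : Module.finrank F (Fin m ⊕ Fin m → F) = 2 * m := by
    rw [Module.finrank_fintype_fun_eq_card, Fintype.card_sum, Fintype.card_fin]; ring
  have hsum : ∀ v : Fin m ⊕ Fin m → F, act t v - v = v + (t.1.1 : Matrix _ _ F) *ᵥ v := by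
    intro v
    have h0 : (2 : F) • v = 0 := by rw [h2, zero_smul]
    rw [two_smul] at h0
    change act t v - v = v + act t v
    have : act t v - v = v + act t v - (v + v) := by abel
    rw [this, h0, sub_zero]
  have hA : ∀ v, stdPlus m F (act t v - v) = 0 := fun v => by rw [hsum]; exact halt v
  have hTS := isTS_commSpace (stdPlus m F) t hA
  have hfin : Module.finrank F (commSpace t) = m := by rw [finrank_commSpace]; exact hrank
  rw [mem_Omega_iff_c2 h2 (stdPlus m F) hQ hex,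
    ← parityChar_eq_dicksonChar h2 (stdPlus m F) hQ hex hV _ hTS hfin,
    parityChar_eq_one_iff, commSpace_conj t t c hc', inf_idem, hfin, Nat.sub_self]
  exact Even.zero

end Cfsg.Agent.Lib.Helper24.OCent
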