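import Mathlib
import Cfsg.Agent.Lib.Helper24.OCentB

set_option autoImplicit false
set_option linter.style.haveILetI false
set_option linter.unusedSimpArgs false
set_option linter.unusedSectionVars false

namespace Cfsg.Agent.Lib.Helper24.OCent

/-- the product `∏_{i<n} (q^(2(i+1)) - 1)` -/
def PP (q n : ℕ) : ℕ := ∏ i ∈ Finset.range n, (q ^ (2 * (i + 1)) - 1)

/-- the order of `O⁺_{2m}(q)` -/
def OO (q m : ℕ) : ℕ := 2 * q ^ (m * (m - 1)) * (q ^ m - 1) * PP q (m - 1)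

theorem PP_succ (q n : ℕ) : PP q (n + 1) = PP q n * (q ^ (2 * (n + 1)) - 1) :=
  Finset.prod_range_succ _ _

theorem sq_sub_one (a : ℕ) (ha : 1 ≤ a) : (a - 1) * (a + 1) = a ^ 2 - 1 := by
  obtain ⟨t, rfl⟩ : ∃ t, a = t + 1 := ⟨a - 1, by omega⟩
  rw [Nat.add_sub_cancel]
  have : (t + 1) ^ 2 = t * (t + 1 + 1) + 1 := by ring
  rw [this, Nat.add_sub_cancel]

theorem XN_eq (q m i : ℕ) (hq : 1 ≤ q) (hi : i < m) :
    XN q m i = q ^ i * ((q ^ (m - i) - 1) * (q ^ (m - i - 1) + 1)) := by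
  obtain ⟨a, ha⟩ : ∃ a, a = q ^ (m - i - 1) := ⟨_, rfl⟩
  obtain ⟨b, hb⟩ : ∃ b, b = q ^ i := ⟨_, rfl⟩
  have ha1 : 1 ≤ a := by rw [ha]; exact Nat.one_le_pow _ _ hq
  have e1 : q ^ (m - i) = a * q := by
    rw [ha, ← pow_succ]; congr 1; omega
  have e2 : q ^ (2 * m - i - 1) = b * a * a * q := by
    rw [ha, hb, ← pow_add, ← pow_add, ← pow_succ]; congr 1; omega
  have e3 : q ^ m = b * a * q := by
    rw [ha, hb, ← pow_add, ← pow_succ]; congr 1; omega
  have e4 : q ^ (m - 1) = b * a := by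
    rw [ha, hb, ← pow_add]; congr 1; omega
  unfold XN
  rw [e1, e2, e3, e4, ← ha, ← hb]
  obtain ⟨t, ht⟩ : ∃ t, a * q = t + 1 := ⟨a * q - 1, by
    have : 1 ≤ a * q := Nat.mul_pos ha1 hq
    omega⟩
  have h5 : b * a * a * q = b * a * t + b * a := by
    rw [mul_assoc (b * a), ht]; ring
  have h6 : b * a * q = b * t + b := by
    rw [mul_assoc, ht]; ring
  rw [h5, h6, ht, Nat.add_sub_cancel]
  have h7 : b * a * t + b * a + (b * t + b) = (b * a * t + b * t) + b + b * a := by ring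
  rw [h7, Nat.add_sub_cancel, Nat.add_sub_cancel]
  ring

theorem XN_pos (q m i : ℕ) (hq : 2 ≤ q) (hi : i < m) : 0 < XN q m i := by
  rw [XN_eq q m i (by omega) hi]
  apply Nat.mul_pos (Nat.pow_pos (by omega))
  apply Nat.mul_pos
  · have : 1 < q ^ (m - i) := Nat.one_lt_pow (by omega) (by omega)
    omega
  · omega

theorem prodXN (q d s : ℕ) (hq : 1 ≤ q) :
    ∏ i ∈ Finset.range s, XN q (d + s) i =
      q ^ (∑ i ∈ Finset.range s, i) *
        ∏ j ∈ Finset.range s, ((q ^ (d + j + 1) - 1) * (q ^ (d + j) + 1)) := by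
  have h1 : ∏ i ∈ Finset.range s, XN q (d + s) i =
      ∏ i ∈ Finset.range s, (q ^ i * ((q ^ (d + s - i) - 1) * (q ^ (d + s - i - 1) + 1))) := by
    apply Finset.prod_congr rfl
    intro i hi
    rw [Finset.mem_range] at hi
    exact XN_eq q (d + s) i hq (by omega)
  rw [h1, Finset.prod_mul_distrib, Finset.prod_pow_eq_pow_sum]
  congr 1
  rw [← Finset.prod_range_reflect]
  apply Finset.prod_congr rfl
  intro j hj
  rw [Finset.mem_range] at hj
  have e1 : d + s - (s - 1 - j) = d + j + 1 := by omega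
  have e2 : d + s - (s - 1 - j) - 1 = d + j := by omega
  rw [e1, Nat.add_sub_cancel]

theorem prodG (q d s : ℕ) (hq : 1 ≤ q) (hd : 1 ≤ d) :
    (q ^ d - 1) * PP q (d - 1) *
      ∏ j ∈ Finset.range s, ((q ^ (d + j + 1) - 1) * (q ^ (d + j) + 1)) =
      (q ^ (d + s) - 1) * PP q (d + s - 1) := by
  induction s with
  | zero => rw [Finset.prod_range_zero, mul_one]; rfl
  | succ s ih =>
    rw [Finset.prod_range_succ, ← mul_assoc, ih]
    have h1 : (q ^ (d + s) - 1) * (q ^ (d + s) + 1) = q ^ (2 * (d + s - 1 + 1)) - 1 := by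
      rw [sq_sub_one _ (Nat.one_le_pow _ _ hq), ← pow_mul]
      congr 2
      omega
    have h2 : PP q (d + (s + 1) - 1) = PP q (d + s - 1) * (q ^ (2 * (d + s - 1 + 1)) - 1) := by
      rw [← PP_succ]
      congr 1
      omega
    rw [h2, ← h1]
    have e3 : d + (s + 1) = d + s + 1 := by omega
    rw [e3]
    ring

theorem prodG0 (q s : ℕ) (hq : 1 ≤ q) (hs : 1 ≤ s) :
    ∏ j ∈ Finset.range s, ((q ^ (j + 1) - 1) * (q ^ j + 1)) =
      2 * (q ^ s - 1) * PP q (s - 1) := by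
  induction s, hs using Nat.le_induction with
  | base =>
    rw [Finset.prod_range_one]
    unfold PP
    simp
    ring
  | succ s hs ih =>
    rw [Finset.prod_range_succ, ih]
    have h1 : (q ^ s - 1) * (q ^ s + 1) = q ^ (2 * (s - 1 + 1)) - 1 := by
      rw [sq_sub_one _ (Nat.one_le_pow _ _ hq), ← pow_mul]
      congr 2
      omega
    have h2 : PP q (s + 1 - 1) = PP q (s - 1) * (q ^ (2 * (s - 1 + 1)) - 1) := by
      rw [← PP_succ]
      congr 1
      omega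
    rw [h2, ← h1]
    ring

theorem sum_id_sq (s : ℕ) : s * s = 2 * (∑ i ∈ Finset.range s, i) + s := by
  have hT2 := Finset.sum_range_id_mul_two s
  cases s with
  | zero => simp
  | succ n =>
    rw [Nat.add_sub_cancel] at hT2
    nlinarith [hT2]

theorem IA (q d s : ℕ) (hq : 1 ≤ q) (hd : 1 ≤ d) :
    q ^ (2 * (d + s) * s - (3 * s ^ 2 + s) / 2) *
      (q ^ (d * (d - 1)) * (q ^ d - 1) * PP q (d - 1)) *
      (∏ i ∈ Finset.range s, XN q (d + s) i) * 2 = OO q (d + s) := by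
  have hG := prodG q d s hq hd
  obtain ⟨T, hT⟩ : ∃ T, T = ∑ i ∈ Finset.range s, i := ⟨_, rfl⟩
  have hss : s * s = 2 * T + s := by rw [hT]; exact sum_id_sq s
  rw [prodXN q d s hq, ← hT]
  unfold OO
  conv_rhs => rw [mul_assoc, ← hG]
  obtain ⟨d', rfl⟩ : ∃ d', d = d' + 1 := ⟨d - 1, by omega⟩
  have e1 : (3 * s ^ 2 + s) / 2 = 3 * T + 2 * s := by
    rw [pow_two, hss]
    omega
  have e2 : 2 * (d' + 1 + s) * s = (2 * (d' * s) + T + 2 * s) + (3 * T + 2 * s) := by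
    have : 2 * (d' + 1 + s) * s = 2 * (d' * s) + 2 * s + 2 * (s * s) := by ring
    rw [this, hss]
    ring
  have e3 : d' + 1 - 1 = d' := by omega
  have e4 : d' + 1 + s - 1 = d' + s := by omega
  have hexp : (2 * (d' * s) + T + 2 * s) + (d' + 1) * d' + T = (d' + 1 + s) * (d' + s) := by
    have : (d' + 1 + s) * (d' + s) = d' * d' + 2 * (d' * s) + d' + s + s * s := by ring
    rw [this, hss]
    ring
  rw [e1, e2, Nat.add_sub_cancel, e3, e4, ← hexp, pow_add, pow_add]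
  ring

theorem IA0 (q m : ℕ) (hq : 1 ≤ q) (hm : 1 ≤ m) :
    q ^ (2 * m * m - (3 * m ^ 2 + m) / 2) * ∏ i ∈ Finset.range m, XN q m i = OO q m := by
  have hG := prodG0 q m hq hm
  obtain ⟨T, hT⟩ : ∃ T, T = ∑ i ∈ Finset.range m, i := ⟨_, rfl⟩
  have hss : m * m = 2 * T + m := by rw [hT]; exact sum_id_sq m
  have hX := prodXN q 0 m hq
  simp only [Nat.zero_add] at hX
  rw [hX, ← hT, hG]
  unfold OO
  have e1 : (3 * m ^ 2 + m) / 2 = 3 * T + 2 * m := by
    rw [pow_two, hss]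
    omega
  have e2 : 2 * m * m = T + (3 * T + 2 * m) := by
    rw [mul_assoc, hss]
    ring
  have hexp : T + T = m * (m - 1) := by
    obtain ⟨m', rfl⟩ : ∃ m', m = m' + 1 := ⟨m - 1, by omega⟩
    rw [Nat.add_sub_cancel]
    have : (m' + 1) * m' + (m' + 1) = (m' + 1) * (m' + 1) := by ring
    omega
  rw [e1, e2, Nat.add_sub_cancel, ← hexp, pow_add]
  ring

theorem IB (q D k m s : ℕ) (hq : 1 ≤ q) (hD : 1 ≤ D) (hm : m = D + 2 * k) (hs : s = 2 * k + 1) :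
    q ^ (2 * m * (s - 1) - (3 * s ^ 2 - 3 * s) / 2) * (q ^ ((m - s) ^ 2) * PP q (m - s)) *
      (∏ i ∈ Finset.range (2 * k), XN q m i) * (q ^ (m - 1) * (q ^ D - 1)) * 2 = OO q m := by
  subst hm hs
  have hG := prodG q D (2 * k) hq hD
  obtain ⟨T, hT⟩ : ∃ T, T = ∑ i ∈ Finset.range (2 * k), i := ⟨_, rfl⟩
  have hss : (2 * k) * (2 * k) = 2 * T + 2 * k := by rw [hT]; exact sum_id_sq (2 * k)
  have hTk : T + k = 2 * (k * k) := by nlinarith [hss]
  rw [prodXN q D (2 * k) hq, ← hT]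
  unfold OO
  conv_rhs => rw [mul_assoc, ← hG]
  obtain ⟨D', rfl⟩ : ∃ D', D = D' + 1 := ⟨D - 1, by omega⟩
  have e0 : D' + 1 + 2 * k - (2 * k + 1) = D' := by omega
  have e1 : (3 * (2 * k + 1) ^ 2 - 3 * (2 * k + 1)) / 2 = 6 * (k * k) + 3 * k := by
    have : 3 * (2 * k + 1) ^ 2 = 2 * (6 * (k * k) + 3 * k) + 3 * (2 * k + 1) := by ring
    rw [this, Nat.add_sub_cancel, Nat.mul_div_cancel_left _ (by norm_num : 0 < 2)]
  have e2 : 2 * (D' + 1 + 2 * k) * (2 * k + 1 - 1) =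
      (4 * (k * D') + 2 * (k * k) + k) + (6 * (k * k) + 3 * k) := by
    rw [Nat.add_sub_cancel]
    ring
  have e3 : D' + 1 - 1 = D' := by omega
  have e4 : D' + 1 + 2 * k - 1 = D' + 2 * k := by omega
  have hexp : (4 * (k * D') + 2 * (k * k) + k) + D' ^ 2 + T + (D' + 2 * k) =
      (D' + 1 + 2 * k) * (D' + 2 * k) := by
    have h1 : (D' + 1 + 2 * k) * (D' + 2 * k) =
        4 * (k * D') + D' ^ 2 + D' + 2 * k + 2 * (2 * (k * k)) := by ring
    rw [h1, ← hTk]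
    ring
  rw [e0, e1, e2, Nat.add_sub_cancel, e3, e4, ← hexp, pow_add, pow_add, pow_add]
  ring

theorem IC (q D j m s : ℕ) (hq : 1 ≤ q) (hD : 2 ≤ D) (hm : m = D + 2 * j)
    (hs : s = 2 * j + 2) :
    q ^ (2 * m * (s - 1) - (3 * s ^ 2 - 5 * s) / 2 - 1) * (q ^ ((m - s) ^ 2) * PP q (m - s)) *
      (∏ i ∈ Finset.range (2 * j), XN q m i) *
      (q ^ (m - 1) * (q ^ D - 1) * (q ^ (2 * (D - 1)) - 1)) * 2 = OO q m * q := by
  subst hm hs
  have hG := prodG q D (2 * j) hq (by omega)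
  obtain ⟨T, hT⟩ : ∃ T, T = ∑ i ∈ Finset.range (2 * j), i := ⟨_, rfl⟩
  have hss : (2 * j) * (2 * j) = 2 * T + 2 * j := by rw [hT]; exact sum_id_sq (2 * j)
  have hTk : T + j = 2 * (j * j) := by nlinarith [hss]
  rw [prodXN q D (2 * j) hq, ← hT]
  have hR : OO q (D + 2 * j) * q = 2 * q ^ ((D + 2 * j) * (D + 2 * j - 1) + 1) *
      ((q ^ (D + 2 * j) - 1) * PP q (D + 2 * j - 1)) := by
    unfold OO
    rw [pow_succ]
    ring
  rw [hR, ← hG]
  obtain ⟨D', rfl⟩ : ∃ D', D = D' + 2 := ⟨D - 2, by omega⟩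
  have e0 : D' + 2 + 2 * j - (2 * j + 2) = D' := by omega
  have e1 : (3 * (2 * j + 2) ^ 2 - 5 * (2 * j + 2)) / 2 = 6 * (j * j) + 7 * j + 1 := by
    have : 3 * (2 * j + 2) ^ 2 = 2 * (6 * (j * j) + 7 * j + 1) + 5 * (2 * j + 2) := by ring
    rw [this, Nat.add_sub_cancel, Nat.mul_div_cancel_left _ (by norm_num : 0 < 2)]
  have e2 : 2 * (D' + 2 + 2 * j) * (2 * j + 2 - 1) =
      ((4 * j + 2) * D' + 2 * (j * j) + 5 * j + 2) + 1 + (6 * (j * j) + 7 * j + 1) := by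
    have : 2 * j + 2 - 1 = 2 * j + 1 := by omega
    rw [this]
    ring
  have e3 : D' + 2 - 1 = D' + 1 := by omega
  have e4 : D' + 2 + 2 * j - 1 = D' + 1 + 2 * j := by omega
  have e5 : PP q (D' + 1) = PP q D' * (q ^ (2 * (D' + 1)) - 1) := PP_succ q D'
  have hexp : ((4 * j + 2) * D' + 2 * (j * j) + 5 * j + 2) + D' ^ 2 + T + (D' + 1 + 2 * j) =
      (D' + 2 + 2 * j) * (D' + 1 + 2 * j) + 1 := by
    have h1 : (D' + 2 + 2 * j) * (D' + 1 + 2 * j) + 1 =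
        (4 * j + 3) * D' + D' ^ 2 + 6 * j + 3 + 2 * (2 * (j * j)) := by ring
    rw [h1, ← hTk]
    ring
  rw [e0, e1, e2, Nat.add_sub_cancel, Nat.add_sub_cancel, e3, e4, e5, ← hexp, pow_add, pow_add,
    pow_add]
  ring

end Cfsg.Agent.Lib.Helper24.OCent
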