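import Mathlib
import Cfsg.Agent.Lib.Helper24.OCentI
import Cfsg.Agent.Lib.Helper24.OCentJ
import Cfsg.Agent.S0287
import Cfsg.Agent.S0245

set_option autoImplicit false
set_option linter.style.haveILetI false
set_option linter.unusedSimpArgs false
set_option linter.unusedSectionVars false

namespace Cfsg.Agent.Lib.Helper24.OCent

open Matrix Cfsg QuadraticMap
open Cfsg.Agent.Lib.Helper27.SympTransv Cfsg.Agent.Lib.Helper27.SpInvol
open Cfsg.Agent.Lib.Helper19.QuadStd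
open Cfsg.Agent.Lib.Helper24.SpCent

variable {F : Type*} [Field F] [CharP F 2] [Fintype F] {m k : ℕ}

theorem card_OG (hm : 1 ≤ m) : Nat.card (OG m F) = OO (Fintype.card F) m := by
  have h := Cfsg.Agent.S0287.result (F := F) rfl m hm
  rw [← coe_stdPlus] at h
  exact h

theorem card_Sp (k : ℕ) :
    Nat.card (symplecticGroup (Fin k) F) = Fintype.card F ^ (k ^ 2) * PP (Fintype.card F) k :=
  Cfsg.Agent.S0245.result (F := F) rfl k

theorem class_eq (x : OG m F) (hm : 1 ≤ m) :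
    Nat.card {g : OG m F // IsConj x g} *
      Nat.card (Subgroup.centralizer ({x} : Set (OG m F))) = OO (Fintype.card F) m := by
  rw [Cfsg.Agent.Lib.Helper24.card_conj_mul_card_centralizer x, card_OG hm]

theorem omega_cent_eq (x : OG m F) :
    Nat.card {g : ↥(Cfsg.Omega F ⇑(stdPlus m F)) // (g : OG m F) * x = x * (g : OG m F)} =
      Nat.card {g : ↥(Cfsg.Omega F ⇑(stdPlus m F)) //
        g.1 ∈ Subgroup.centralizer ({x} : Set (OG m F))} := by
  apply Nat.card_congr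
  apply Equiv.subtypeEquivRight
  intro g
  rw [Subgroup.mem_centralizer_iff]
  constructor
  · intro h y hy
    rw [Set.mem_singleton_iff] at hy
    subst hy
    exact h.symm
  · intro h
    exact (h x (Set.mem_singleton x)).symm

theorem cent_half (h : Fintype.card F ≠ 2 ∨ m ≠ 2) (x : OG m F) (hxx : x * x = 1)
    (hnot : ¬ (((x.1.1 : Matrix _ _ F) - 1).rank = m ∧
      ∀ v, sympForm m F v ((x.1.1 : Matrix _ _ F) *ᵥ v) = 0)) :
    Nat.card (Subgroup.centralizer ({x} : Set (OG m F))) = 2 *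
      Nat.card {g : ↥(Cfsg.Omega F ⇑(stdPlus m F)) // (g : OG m F) * x = x * (g : OG m F)} := by
  rw [omega_cent_eq]
  obtain ⟨h₀, h₀C, h₀N⟩ := exists_cent_not_Omega h x hxx (by
    intro hh
    exact hnot ⟨hh.1, (alt_iff_sp x).mp hh.2⟩)
  exact half_count _ _ (Omega_mul h) h₀ h₀C h₀N

theorem cent_full (h : Fintype.card F ≠ 2 ∨ m ≠ 2) (x : OG m F) (hxx : x * x = 1)
    (hrk : ((x.1.1 : Matrix _ _ F) - 1).rank = m)
    (halt : ∀ v, sympForm m F v ((x.1.1 : Matrix _ _ F) *ᵥ v) = 0) :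
    Nat.card (Subgroup.centralizer ({x} : Set (OG m F))) =
      Nat.card {g : ↥(Cfsg.Omega F ⇑(stdPlus m F)) // (g : OG m F) * x = x * (g : OG m F)} := by
  rw [omega_cent_eq]
  exact full_count _ _ (cent_le_Omega h x hxx hrk ((alt_iff_sp x).mpr halt))

theorem rank_le_m (x : OG m F) (hxx : x * x = 1) : ((x.1.1 : Matrix _ _ F) - 1).rank ≤ m := by
  have hxx' : toSp x * toSp x = 1 := by rw [← toSp_mul, hxx, toSp_one]
  have := Cfsg.Agent.Lib.Helper27.SpInvol.rank_le_of_sq_zero (Nof_sadj hxx') (Nof_sq hxx')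
  rw [Nof_rank] at this
  exact this

theorem prodXN_pos (q m s : ℕ) (hq : 2 ≤ q) (hs : s ≤ m) :
    0 < ∏ i ∈ Finset.range s, XN q m i := by
  apply Finset.prod_pos
  intro i hi
  rw [Finset.mem_range] at hi
  exact XN_pos q m i hq (by omega)

theorem omegaA_lt (h : Fintype.card F ≠ 2 ∨ m ≠ 2) (x : OG m F) (hxx : x * x = 1)
    (hrk : ((x.1.1 : Matrix _ _ F) - 1).rank = 2 * k)
    (halt : ∀ v, sympForm m F v ((x.1.1 : Matrix _ _ F) *ᵥ v) = 0) (hlt : 2 * k < m) :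
    Nat.card {g : ↥(Cfsg.Omega F ⇑(stdPlus m F)) // (g : OG m F) * x = x * (g : OG m F)} =
      Fintype.card F ^ (2 * m * (2 * k) - (3 * (2 * k) ^ 2 + 2 * k) / 2) *
        (Fintype.card F ^ (k ^ 2) * PP (Fintype.card F) k) *
        (Fintype.card F ^ ((m - 2 * k) * (m - 2 * k - 1)) * (Fintype.card F ^ (m - 2 * k) - 1) *
          PP (Fintype.card F) (m - 2 * k - 1)) := by
  have hm : 1 ≤ m := by omega
  obtain ⟨q, hq⟩ : ∃ q, q = Fintype.card F := ⟨_, rfl⟩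
  have hq2 : 2 ≤ q := by rw [hq]; exact Fintype.one_lt_card
  have h1 := classA x hxx hrk halt
  have h2 := card_CAO (F := F) (m := m) (k := k) hm (by omega)
  have h3 := class_eq x hm
  have h5 := cent_half h x hxx (by
    rintro ⟨hh, -⟩
    rw [hrk] at hh
    omega)
  rw [card_Sp, ← two_mul] at h2
  rw [h1, h5] at h3
  rw [← hq] at h2 h3 ⊢
  obtain ⟨d, hd⟩ : ∃ d, d = m - 2 * k := ⟨_, rfl⟩
  have hmd : m = d + 2 * k := by omega
  have hIA := IA q d (2 * k) (by omega) (by omega)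
  rw [← hmd] at hIA
  rw [← hd]
  obtain ⟨X, hX⟩ : ∃ X, X = ∏ i ∈ Finset.range (2 * k), XN q m i := ⟨_, rfl⟩
  have hXpos : 0 < X := by rw [hX]; exact prodXN_pos q m (2 * k) hq2 (by omega)
  rw [← hX] at h2 hIA
  obtain ⟨C, hC⟩ : ∃ C, C = Nat.card {g : ↥(Cfsg.Omega F ⇑(stdPlus m F)) //
      (g : OG m F) * x = x * (g : OG m F)} := ⟨_, rfl⟩
  rw [← hC] at h3 ⊢
  apply Nat.eq_of_mul_eq_mul_right (Nat.mul_pos hXpos (by norm_num : 0 < 2))
  calc C * (X * 2) = (Nat.card (CAO m k F) * (2 * C)) * (q ^ (k ^ 2) * PP q k) := by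
        rw [← h2]; ring
    _ = OO q m * (q ^ (k ^ 2) * PP q k) := by rw [h3]
    _ = _ := by rw [← hIA]; ring

theorem omegaA_eq (h : Fintype.card F ≠ 2 ∨ m ≠ 2) (hm : 1 ≤ m) (x : OG m F) (hxx : x * x = 1)
    (hrk : ((x.1.1 : Matrix _ _ F) - 1).rank = 2 * k)
    (halt : ∀ v, sympForm m F v ((x.1.1 : Matrix _ _ F) *ᵥ v) = 0) (heq : 2 * k = m) :
    Nat.card {g : ↥(Cfsg.Omega F ⇑(stdPlus m F)) // (g : OG m F) * x = x * (g : OG m F)} =
      Fintype.card F ^ (2 * m * (2 * k) - (3 * (2 * k) ^ 2 + 2 * k) / 2) *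
        (Fintype.card F ^ (k ^ 2) * PP (Fintype.card F) k) := by
  obtain ⟨q, hq⟩ : ∃ q, q = Fintype.card F := ⟨_, rfl⟩
  have hq2 : 2 ≤ q := by rw [hq]; exact Fintype.one_lt_card
  have h1 := classA x hxx hrk halt
  have h2 := card_CAO (F := F) (m := m) (k := k) hm (by omega)
  have h3 := class_eq x hm
  have h5 := cent_full h x hxx (by rw [hrk, heq]) halt
  rw [card_Sp, ← two_mul] at h2
  rw [h1, h5] at h3
  rw [← hq] at h2 h3 ⊢
  have hIA := IA0 q m (by omega) hm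
  rw [heq] at h2 ⊢
  obtain ⟨X, hX⟩ : ∃ X, X = ∏ i ∈ Finset.range m, XN q m i := ⟨_, rfl⟩
  have hXpos : 0 < X := by rw [hX]; exact prodXN_pos q m m hq2 le_rfl
  rw [← hX] at h2 hIA
  obtain ⟨C, hC⟩ : ∃ C, C = Nat.card {g : ↥(Cfsg.Omega F ⇑(stdPlus m F)) //
      (g : OG m F) * x = x * (g : OG m F)} := ⟨_, rfl⟩
  rw [← hC] at h3 ⊢
  apply Nat.eq_of_mul_eq_mul_right hXpos
  calc C * X = (Nat.card (CAO m k F) * C) * (q ^ (k ^ 2) * PP q k) := by
        rw [← h2]; ring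
    _ = OO q m * (q ^ (k ^ 2) * PP q k) := by rw [h3]
    _ = _ := by rw [← hIA]; ring

end Cfsg.Agent.Lib.Helper24.OCent
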