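import Mathlib
import Cfsg.Agent.Lib.Helper24.OCentK

set_option autoImplicit false
set_option linter.style.haveILetI false
set_option linter.unusedSimpArgs false
set_option linter.unusedSectionVars false

namespace Cfsg.Agent.Lib.Helper24.OCent

open Matrix Cfsg QuadraticMap
open Cfsg.Agent.Lib.Helper27.SympTransv Cfsg.Agent.Lib.Helper27.SpInvol
open Cfsg.Agent.Lib.Helper19.QuadStd
open Cfsg.Agent.Lib.Helper24.SpCent

theorem arith_B (q m k D NA NB : ℕ) (hq : 2 ≤ q) (hD : 1 ≤ D) (hm : m = D + 2 * k)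
    (hB : NB * (q - 1) + NA * (q ^ (2 * m - (k + k) - 1) + q ^ m) =
      NA * (q ^ (2 * m - (k + k)) + q ^ (m - 1))) :
    NB = NA * (q ^ (m - 1) * (q ^ D - 1)) := by
  subst hm
  obtain ⟨a, ha⟩ : ∃ a, a = q ^ (D + 2 * k - 1) := ⟨_, rfl⟩
  obtain ⟨t, rfl⟩ : ∃ t, q = t + 1 := ⟨q - 1, by omega⟩
  obtain ⟨u, hu⟩ : ∃ u, (t + 1) ^ D = u + 1 := ⟨(t + 1) ^ D - 1, by
    have : 1 ≤ (t + 1) ^ D := Nat.one_le_pow _ _ (by omega)
    omega⟩
  have e1 : (t + 1) ^ (D + 2 * k) = a * (t + 1) := by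
    rw [ha, ← pow_succ]; congr 1; omega
  have e2 : (t + 1) ^ (2 * (D + 2 * k) - (k + k) - 1) = a * (u + 1) := by
    rw [ha, ← hu, ← pow_add]; congr 1; omega
  have e3 : (t + 1) ^ (2 * (D + 2 * k) - (k + k)) = a * (u + 1) * (t + 1) := by
    rw [ha, ← hu, ← pow_add, ← pow_succ]; congr 1; omega
  rw [e1, e2, e3, ← ha, Nat.add_sub_cancel] at hB
  rw [← ha, hu, Nat.add_sub_cancel]
  have ht : 0 < t := by omega
  apply Nat.eq_of_mul_eq_mul_right ht
  have h1 : NA * (a * (u + 1) * (t + 1) + a) =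
      NA * (a * u) * t + NA * (a * (u + 1) + a * (t + 1)) := by ring
  rw [h1] at hB
  have := Nat.add_right_cancel hB
  rw [this]

theorem arith_C (q m j D NB NC : ℕ) (hq : 2 ≤ q) (hD : 2 ≤ D) (hm : m = D + 2 * j)
    (hC : NC * q ^ (2 * (j + 1)) + NB * q ^ (2 * j + 1) = NB * q ^ (2 * m - (2 * j + 1))) :
    NC * q = NB * (q ^ (2 * (D - 1)) - 1) := by
  subst hm
  obtain ⟨c, hc⟩ : ∃ c, c = q ^ (2 * j + 1) := ⟨_, rfl⟩
  have hc0 : 0 < c := by rw [hc]; exact Nat.pow_pos (by omega)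
  obtain ⟨w, hw⟩ : ∃ w, q ^ (2 * (D - 1)) = w + 1 := ⟨q ^ (2 * (D - 1)) - 1, by
    have : 1 ≤ q ^ (2 * (D - 1)) := Nat.one_le_pow _ _ (by omega)
    omega⟩
  have e1 : q ^ (2 * (j + 1)) = c * q := by
    rw [hc, ← pow_succ]; congr 1
  have e2 : q ^ (2 * (D + 2 * j) - (2 * j + 1)) = c * (w + 1) := by
    rw [hc, ← hw, ← pow_add]; congr 1; omega
  rw [e1, e2, ← hc] at hC
  rw [hw, Nat.add_sub_cancel]
  apply Nat.eq_of_mul_eq_mul_right hc0
  have h1 : NB * (c * (w + 1)) = NB * w * c + NB * c := by ring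
  rw [h1] at hC
  have := Nat.add_right_cancel hC
  rw [← this]
  ring

variable {F : Type*} [Field F] [CharP F 2] [Fintype F] {m k : ℕ}

theorem card_CBO' (hm : 1 ≤ m) (hkm : 2 * k + 1 ≤ m) :
    Nat.card (CBO m (2 * k + 1) F) = Nat.card (CAO m k F) *
      (Fintype.card F ^ (m - 1) * (Fintype.card F ^ (m - 2 * k) - 1)) :=
  arith_B (Fintype.card F) m k (m - 2 * k) _ _ Fintype.one_lt_card (by omega) (by omega)
    (card_CBO hm (by omega))

theorem omegaB (h : Fintype.card F ≠ 2 ∨ m ≠ 2) (x : OG m F) (hxx : x * x = 1)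
    (hrk : ((x.1.1 : Matrix _ _ F) - 1).rank = 2 * k + 1) :
    Nat.card {g : ↥(Cfsg.Omega F ⇑(stdPlus m F)) // (g : OG m F) * x = x * (g : OG m F)} =
      Fintype.card F ^ (2 * m * (2 * k + 1 - 1) - (3 * (2 * k + 1) ^ 2 - 3 * (2 * k + 1)) / 2) *
        (Fintype.card F ^ (k ^ 2) * PP (Fintype.card F) k) *
        (Fintype.card F ^ ((m - (2 * k + 1)) ^ 2) * PP (Fintype.card F) (m - (2 * k + 1))) := by
  have hsm : 2 * k + 1 ≤ m := by rw [← hrk]; exact rank_le_m x hxx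
  have hm : 1 ≤ m := by omega
  obtain ⟨q, hq⟩ : ∃ q, q = Fintype.card F := ⟨_, rfl⟩
  have hq2 : 2 ≤ q := by rw [hq]; exact Fintype.one_lt_card
  have h1 := classB x hxx hrk
  have h2 := card_CAO (F := F) (m := m) (k := k) hm (by omega)
  have h3 := class_eq x hm
  have h4 := card_CBO' (F := F) (m := m) (k := k) hm hsm
  have hxx' : toSp x * toSp x = 1 := by rw [← toSp_mul, hxx, toSp_one]
  have h5 := cent_half h x hxx (by
    rintro ⟨-, hh⟩
    have := even_rank_of_alt hxx' ((Nof_alt_iff (toSp x)).mpr hh)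
    rw [toSp_val, hrk] at this
    obtain ⟨i, hi⟩ := this
    omega)
  rw [card_Sp, ← two_mul] at h2
  rw [h1, h4, h5] at h3
  rw [← hq] at h2 h3 ⊢
  obtain ⟨D, hD⟩ : ∃ D, D = m - 2 * k := ⟨_, rfl⟩
  have hmD : m = D + 2 * k := by omega
  have hIB := IB q D k m (2 * k + 1) (by omega) (by omega) hmD rfl
  rw [← hD] at h3
  obtain ⟨X, hX⟩ : ∃ X, X = ∏ i ∈ Finset.range (2 * k), XN q m i := ⟨_, rfl⟩
  have hXpos : 0 < X := by rw [hX]; exact prodXN_pos q m (2 * k) hq2 (by omega)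
  rw [← hX] at h2 hIB
  obtain ⟨C, hC⟩ : ∃ C, C = Nat.card {g : ↥(Cfsg.Omega F ⇑(stdPlus m F)) //
      (g : OG m F) * x = x * (g : OG m F)} := ⟨_, rfl⟩
  rw [← hC] at h3 ⊢
  have hY : 0 < q ^ (m - 1) * (q ^ D - 1) := by
    apply Nat.mul_pos (Nat.pow_pos (by omega))
    have : 1 < q ^ D := Nat.one_lt_pow (by omega) (by omega)
    omega
  apply Nat.eq_of_mul_eq_mul_right
    (Nat.mul_pos (Nat.mul_pos hXpos hY) (by norm_num : 0 < 2))
  calc C * (X * (q ^ (m - 1) * (q ^ D - 1)) * 2)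
      = (Nat.card (CAO m k F) * (q ^ (m - 1) * (q ^ D - 1)) * (2 * C)) *
          (q ^ (k ^ 2) * PP q k) := by
        rw [← h2]; ring
    _ = OO q m * (q ^ (k ^ 2) * PP q k) := by rw [h3]
    _ = _ := by rw [← hIB]; ring

theorem omegaC (h : Fintype.card F ≠ 2 ∨ m ≠ 2) (x : OG m F) (hxx : x * x = 1) {j : ℕ}
    (hrk : ((x.1.1 : Matrix _ _ F) - 1).rank = 2 * (j + 1))
    (hna : ¬ ∀ v, sympForm m F v ((x.1.1 : Matrix _ _ F) *ᵥ v) = 0) :
    Nat.card {g : ↥(Cfsg.Omega F ⇑(stdPlus m F)) // (g : OG m F) * x = x * (g : OG m F)} =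
      Fintype.card F ^ (2 * m * (2 * j + 2 - 1) - (3 * (2 * j + 2) ^ 2 - 5 * (2 * j + 2)) / 2 - 1) *
        (Fintype.card F ^ (j ^ 2) * PP (Fintype.card F) j) *
        (Fintype.card F ^ ((m - (2 * j + 2)) ^ 2) * PP (Fintype.card F) (m - (2 * j + 2))) := by
  have hsm : 2 * (j + 1) ≤ m := by rw [← hrk]; exact rank_le_m x hxx
  have hm : 1 ≤ m := by omega
  obtain ⟨q, hq⟩ : ∃ q, q = Fintype.card F := ⟨_, rfl⟩
  have hq2 : 2 ≤ q := by rw [hq]; exact Fintype.one_lt_card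
  have h1 := classC x hxx hrk hna
  have h2 := card_CAO (F := F) (m := m) (k := j) hm (by omega)
  have h3 := class_eq x hm
  have h4 := card_CBO' (F := F) (m := m) (k := j) hm (by omega)
  have h6 := card_CCO (F := F) (m := m) (j := j)
  have h5 := cent_half h x hxx (by
    rintro ⟨-, hh⟩
    exact hna hh)
  rw [card_Sp, ← two_mul] at h2
  rw [h1, h5] at h3
  rw [← hq] at h2 h3 h4 h6 ⊢
  obtain ⟨D, hD⟩ : ∃ D, D = m - 2 * j := ⟨_, rfl⟩
  have hmD : m = D + 2 * j := by omega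
  have h7 := arith_C q m j D _ _ hq2 (by omega) hmD h6
  have hIC := IC q D j m (2 * j + 2) (by omega) (by omega) hmD rfl
  rw [← hD] at h4
  obtain ⟨X, hX⟩ : ∃ X, X = ∏ i ∈ Finset.range (2 * j), XN q m i := ⟨_, rfl⟩
  have hXpos : 0 < X := by rw [hX]; exact prodXN_pos q m (2 * j) hq2 (by omega)
  rw [← hX] at h2 hIC
  obtain ⟨C, hC⟩ : ∃ C, C = Nat.card {g : ↥(Cfsg.Omega F ⇑(stdPlus m F)) //
      (g : OG m F) * x = x * (g : OG m F)} := ⟨_, rfl⟩
  rw [← hC] at h3 ⊢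
  have hY : 0 < q ^ (m - 1) * (q ^ D - 1) * (q ^ (2 * (D - 1)) - 1) := by
    apply Nat.mul_pos
    · apply Nat.mul_pos (Nat.pow_pos (by omega))
      have : 1 < q ^ D := Nat.one_lt_pow (by omega) (by omega)
      omega
    · have : 1 < q ^ (2 * (D - 1)) := Nat.one_lt_pow (by omega) (by omega)
      omega
  apply Nat.eq_of_mul_eq_mul_right
    (Nat.mul_pos (Nat.mul_pos hXpos hY) (by norm_num : 0 < 2))
  have hq0 : 0 < q := by omega
  apply Nat.eq_of_mul_eq_mul_right hq0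
  calc C * (X * (q ^ (m - 1) * (q ^ D - 1) * (q ^ (2 * (D - 1)) - 1)) * 2) * q
      = ((Nat.card (CAO m j F) * (q ^ (m - 1) * (q ^ D - 1))) * (q ^ (2 * (D - 1)) - 1) *
          (2 * C)) * (q ^ (j ^ 2) * PP q j) * q := by
        rw [← h2]; ring
    _ = (Nat.card (CCO m (j + 1) F) * q * (2 * C)) * (q ^ (j ^ 2) * PP q j) * q := by
        rw [← h4, ← h7]
    _ = (OO q m * q) * (q ^ (j ^ 2) * PP q j) * q := by rw [← h3]; ring
    _ = _ := by rw [← hIC]; ring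

end Cfsg.Agent.Lib.Helper24.OCent
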