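import Mathlib
import Cfsg.Agent.Lib.Helper24.OCentL

set_option autoImplicit false
set_option linter.style.haveILetI false
set_option linter.unusedSimpArgs false
set_option linter.unusedSectionVars false

namespace Cfsg.Agent.Lib.Helper24.OCent

open Matrix Cfsg QuadraticMap
open Cfsg.Agent.Lib.Helper27.SympTransv Cfsg.Agent.Lib.Helper27.SpInvol
open Cfsg.Agent.Lib.Helper19.QuadStd
open Cfsg.Agent.Lib.Helper24.SpCent

variable {F : Type*} [Field F] [CharP F 2] [Fintype F] {m : ℕ}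

theorem rank_zero_imp {ι : Type} [Fintype ι] [DecidableEq ι] (A : Matrix ι ι F)
    (h : A.rank = 0) : A = 0 := by
  have h0' : Module.finrank F (LinearMap.range A.mulVecLin) = 0 := h
  have hbot := Submodule.finrank_eq_zero.mp h0'
  rw [Matrix.ext_iff_mulVec]
  intro w
  have h3 : A.mulVecLin w ∈ LinearMap.range A.mulVecLin := LinearMap.mem_range_self _ w
  rw [hbot, Submodule.mem_bot, Matrix.mulVecLin_apply] at h3
  rw [h3, Matrix.zero_mulVec]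

theorem sub_one_mulVec (x : OG m F) (v : Fin m ⊕ Fin m → F) :
    ((x.1.1 : Matrix _ _ F) - 1).mulVec v = v + (x.1.1 : Matrix _ _ F) *ᵥ v := by
  rw [Matrix.sub_mulVec, Matrix.one_mulVec, vsub_eq_add, add_comm]

theorem PP_eq (q n : ℕ) : ∏ i : Fin n, (q ^ (2 * ((i : ℕ) + 1)) - 1) = PP q n := by
  unfold PP
  exact Fin.prod_univ_eq_prod_range (fun i => q ^ (2 * (i + 1)) - 1) n

theorem final_A {q : ℕ} (hF : Fintype.card F = q) {s : ℕ} (h : Fintype.card F ≠ 2 ∨ m ≠ 2)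
    (x : OG m F) (hx : x ^ 2 = 1) (hx1 : x ≠ 1)
    (hs : ((x.1.1 : Matrix (Fin m ⊕ Fin m) (Fin m ⊕ Fin m) F) - 1).rank = s) (heven : Even s)
    (halt : ∀ v : Fin m ⊕ Fin m → F,
      (⇑(stdPlus m F)) (((x.1.1 : Matrix (Fin m ⊕ Fin m) (Fin m ⊕ Fin m) F) - 1).mulVec v) = 0) :
    Nat.card {g : ↥(Cfsg.Omega F ⇑(stdPlus m F)) // (g : OG m F) * x = x * (g : OG m F)} =
      q ^ (2 * m * s - (3 * s ^ 2 + s) / 2) *
        ((q : ℕ) ^ ((s / 2) ^ 2) * ∏ i : Fin (s / 2), (q ^ (2 * ((i : ℕ) + 1)) - 1)) *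
        (if s = m then 1 else q ^ ((m - s) * (m - s - 1)) * (q ^ (m - s) - 1) *
          ∏ i : Fin (m - s - 1), (q ^ (2 * ((i : ℕ) + 1)) - 1)) := by
  subst hF
  have hxx : x * x = 1 := by rw [← pow_two]; exact hx
  obtain ⟨k, hk⟩ := heven
  have hk2 : s = 2 * k := by omega
  subst hk2
  have halt' : ∀ v, sympForm m F v ((x.1.1 : Matrix _ _ F) *ᵥ v) = 0 := by
    apply (alt_iff_sp x).mp
    intro v
    rw [← sub_one_mulVec]
    exact halt v
  have hsm : 2 * k ≤ m := by rw [← hs]; exact rank_le_m x hxx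
  have hk0 : k ≠ 0 := by
    rintro rfl
    apply hx1
    have h0 := rank_zero_imp _ hs
    apply Subtype.ext
    apply Units.ext
    exact sub_eq_zero.mp h0
  have hm : 1 ≤ m := by omega
  have e1 : 2 * k / 2 = k := by omega
  rw [PP_eq, PP_eq, e1]
  by_cases hsm' : 2 * k = m
  · rw [if_pos hsm', mul_one]
    exact omegaA_eq h hm x hxx hs halt' hsm'
  · rw [if_neg hsm']
    exact omegaA_lt h x hxx hs halt' (by omega)

theorem final_B {q : ℕ} (hF : Fintype.card F = q) {s : ℕ} (h : Fintype.card F ≠ 2 ∨ m ≠ 2)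
    (x : OG m F) (hx : x ^ 2 = 1)
    (hs : ((x.1.1 : Matrix (Fin m ⊕ Fin m) (Fin m ⊕ Fin m) F) - 1).rank = s) (hodd : Odd s) :
    Nat.card {g : ↥(Cfsg.Omega F ⇑(stdPlus m F)) // (g : OG m F) * x = x * (g : OG m F)} =
      q ^ (2 * m * (s - 1) - (3 * s ^ 2 - 3 * s) / 2) *
        ((q : ℕ) ^ (((s - 1) / 2) ^ 2) * ∏ i : Fin ((s - 1) / 2), (q ^ (2 * ((i : ℕ) + 1)) - 1)) *
        ((q : ℕ) ^ ((m - s) ^ 2) * ∏ i : Fin (m - s), (q ^ (2 * ((i : ℕ) + 1)) - 1)) := by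
  subst hF
  have hxx : x * x = 1 := by rw [← pow_two]; exact hx
  obtain ⟨k, hk⟩ := hodd
  subst hk
  have e1 : (2 * k + 1 - 1) / 2 = k := by omega
  rw [PP_eq, PP_eq, e1]
  exact omegaB h x hxx hs

theorem final_C {q : ℕ} (hF : Fintype.card F = q) {s : ℕ} (h : Fintype.card F ≠ 2 ∨ m ≠ 2)
    (x : OG m F) (hx : x ^ 2 = 1)
    (hs : ((x.1.1 : Matrix (Fin m ⊕ Fin m) (Fin m ⊕ Fin m) F) - 1).rank = s) (heven : Even s)
    (hna : ∃ v : Fin m ⊕ Fin m → F,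
      (⇑(stdPlus m F)) (((x.1.1 : Matrix (Fin m ⊕ Fin m) (Fin m ⊕ Fin m) F) - 1).mulVec v) ≠ 0) :
    Nat.card {g : ↥(Cfsg.Omega F ⇑(stdPlus m F)) // (g : OG m F) * x = x * (g : OG m F)} =
      q ^ (2 * m * (s - 1) - (3 * s ^ 2 - 5 * s) / 2 - 1) *
        ((q : ℕ) ^ (((s - 2) / 2) ^ 2) * ∏ i : Fin ((s - 2) / 2), (q ^ (2 * ((i : ℕ) + 1)) - 1)) *
        ((q : ℕ) ^ ((m - s) ^ 2) * ∏ i : Fin (m - s), (q ^ (2 * ((i : ℕ) + 1)) - 1)) := by
  subst hF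
  have hxx : x * x = 1 := by rw [← pow_two]; exact hx
  obtain ⟨k, hk⟩ := heven
  have hna' : ¬ ∀ v, sympForm m F v ((x.1.1 : Matrix _ _ F) *ᵥ v) = 0 := by
    intro hh
    obtain ⟨v, hv⟩ := hna
    apply hv
    rw [sub_one_mulVec]
    exact (alt_iff_sp x).mpr hh v
  have hk0 : k ≠ 0 := by
    rintro rfl
    obtain ⟨v, hv⟩ := hna
    apply hv
    have h0 := rank_zero_imp _ (hs.trans hk)
    rw [h0, Matrix.zero_mulVec]
    exact Q_zero
  obtain ⟨j, rfl⟩ : ∃ j, k = j + 1 := ⟨k - 1, by omega⟩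
  have hs2 : s = 2 * j + 2 := by omega
  subst hs2
  have e1 : (2 * j + 2 - 2) / 2 = j := by omega
  rw [PP_eq, PP_eq, e1]
  exact omegaC h x hxx (by rw [hs]; ring) hna'

end Cfsg.Agent.Lib.Helper24.OCent
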