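import Mathlib
import Cfsg.Agent.Lib.Helper24.OEvL

set_option autoImplicit false
set_option linter.style.haveILetI false
set_option linter.unusedSimpArgs false
set_option linter.unusedSectionVars false

namespace Cfsg.Agent.Lib.Helper24.OEv

open Polynomial Matrix Cfsg QuadraticMap
open Cfsg.Agent.Lib.Helper19.QuadWitt Cfsg.Agent.Lib.Helper19.QuadStd
open Cfsg.Agent.Lib.Helper24.OConj Cfsg.Agent.Lib.Helper24.AdjGen
open Cfsg.Agent.Lib.Helper5.PrimeOrd Cfsg.Agent.Lib.Helper24.Star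
open Cfsg.Agent.Lib.Helper24.Pal Cfsg.Agent.Lib.Helper24.ORe

variable {F : Type*} [Field F] [Fintype F]

theorem pascal_sub (N t : ℕ) (hN : 1 ≤ N) (ht : 1 ≤ t) :
    Nat.choose (N - 1 + t) t - 1 =
      Nat.choose (N + t) t - 1 - Nat.choose (N + t - 1) (t - 1) := by
  obtain ⟨N₀, rfl⟩ : ∃ N₀, N = N₀ + 1 := ⟨N - 1, by omega⟩
  obtain ⟨t₀, rfl⟩ : ∃ t₀, t = t₀ + 1 := ⟨t - 1, by omega⟩
  have e1 : N₀ + 1 - 1 + (t₀ + 1) = N₀ + t₀ + 1 := by omega
  have e2 : N₀ + 1 + (t₀ + 1) = N₀ + t₀ + 1 + 1 := by omega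
  have e3 : N₀ + 1 + (t₀ + 1) - 1 = N₀ + t₀ + 1 := by omega
  have e4 : t₀ + 1 - 1 = t₀ := by omega
  rw [e1, e3, e2, e4, Nat.choose_succ_succ' (N₀ + t₀ + 1) t₀]
  omega

/-- classes of elements of odd prime order in `O⁺_{2m}(q)` -/
theorem card_plus_prime_order_classes (p : ℕ) [Fact p.Prime] [CharP F p] {q : ℕ}
    (hF : Fintype.card F = q) (m r i t : ℕ) (hm : 1 ≤ m)
    (hr : r.Prime) (hr2 : r ≠ 2) (hrp : r ≠ p) (hi : i = orderOf (q : ZMod r))
    (ht : t * i = r - 1) :
    Nat.card {C : ConjClasses ↥(Cfsg.isometryGroup F (Cfsg.quadFormPlus m F)) //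
      ∃ g : ↥(Cfsg.isometryGroup F (Cfsg.quadFormPlus m F)),
        ConjClasses.mk g = C ∧ orderOf g = r} =
      if Odd i then Nat.choose (m / i + t / 2) (t / 2) - 1
      else Nat.choose (2 * m / i + t) t - 1 -
        (if i ∣ 2 * m ∧ Odd (2 * m / i) then Nat.choose (2 * m / i + t - 1) (t - 1) else 0) := by
  classical
  have hp : p.Prime := Fact.out
  haveI : Fact r.Prime := ⟨hr⟩
  have hi0 : 0 < i := by
    rcases Nat.eq_zero_or_pos i with h | h
    · rw [h, mul_zero] at ht
      have := hr.two_le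
      omega
    · exact h
  have ht0 : 0 < t := by
    rcases Nat.eq_zero_or_pos t with h | h
    · rw [h, zero_mul] at ht
      have := hr.two_le
      omega
    · exact h
  have h1 : (X - 1 : F[X]) ∣ X ^ r - 1 := by
    rw [← cyclotomic_prime_mul_X_sub_one F r]
    exact dvd_mul_left _ _
  have hcyc : cyclotomic r F ∣ X ^ r - 1 := by
    rw [← cyclotomic_prime_mul_X_sub_one F r]
    exact dvd_mul_right _ _
  have hS1 : ∀ f ∈ cycFactors F r, Irreducible f ∧ f.Monic ∧ f.natDegree = i ∧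
      f ∣ (X ^ r - 1 : F[X]) ∧ f ≠ X - 1 := by
    intro f hf
    have h2 := (mem_cycFactors_iff r f).mp hf
    exact ⟨h2.1, h2.2.1, natDegree_of_mem_cycFactors p hr hrp hF hi f hf, h2.2.2.trans hcyc,
      ne_X_sub_one_of_mem p hr hrp f hf⟩
  have hS2 : ∀ f : F[X], Irreducible f → f.Monic → f ∣ (X ^ r - 1 : F[X]) →
      f = X - 1 ∨ f ∈ cycFactors F r := fun f hf hm hd => factor_cases hr f hf hm hd
  have hS0 : ∀ f ∈ cycFactors F r, f.coeff 0 ≠ 0 := fun f hf => coeff_zero_ne_of_mem hr f hf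
  have hDS : ∀ f ∈ cycFactors F r, starHom f ∈ cycFactors F r :=
    fun f hf => star_mem p hr hrp f hf
  have hinvol : ∀ x : ↥(cycFactors F r), DS (cycFactors F r) starHom hDS
      (DS (cycFactors F r) starHom hDS x) = x := by
    intro x
    apply Subtype.ext
    show star (star x.1) = x.1
    exact star_star_of_monic (hS1 x.1 x.2).2.1 (hS0 x.1 x.2)
  have hcardS : Fintype.card ↥(cycFactors F r) = t := by
    rw [Fintype.card_coe, card_cycFactors p hr hrp hF hi ht]
  have hfreeOdd : Odd i → ∀ x : ↥(cycFactors F r), DS (cycFactors F r) starHom hDS x ≠ x := by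
    intro hodd x h
    have h2 : star x.1 = x.1 := congrArg Subtype.val h
    have hdeg := (hS1 x.1 x.2).2.2.1
    exact star_ne_of_odd p hr hr2 hrp x.1 x.2 (by rw [hdeg]; exact hodd) h2
  have hfixEven : Even i → ∀ x : ↥(cycFactors F r), DS (cycFactors F r) starHom hDS x = x := by
    intro hev x
    apply Subtype.ext
    show star x.1 = x.1
    exact star_eq_of_even hr hF hi hi0 hev x.1 x.2
  have hxfacts : ∀ i' : ℕ, i = i' + i' → ((Fintype.card F : ℕ) : ZMod r) ≠ 0 ∧
      ((Fintype.card F : ℕ) : ZMod r) ≠ 1 ∧ ((Fintype.card F : ℕ) : ZMod r) ^ i' = -1 := by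
    intro i' hi'
    have hi'0 : 0 < i' := by omega
    have hxi : orderOf ((Fintype.card F : ℕ) : ZMod r) = 2 * i' := by
      rw [hF, ← hi]; omega
    refine ⟨?_, ?_, pow_half_order _ hi'0 hxi⟩
    · intro h0
      have h := pow_orderOf_eq_one ((Fintype.card F : ℕ) : ZMod r)
      rw [hxi, h0, zero_pow (by omega)] at h
      exact zero_ne_one h
    · intro h
      rw [h, orderOf_one] at hxi
      omega
  obtain ⟨bad, hbaddef⟩ : ∃ bad : Prop, bad = (Even i ∧ i ∣ 2 * m ∧ Odd (2 * m / i)) :=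
    ⟨_, rfl⟩
  have hbad : bad → i ∣ 2 * m := by
    rw [hbaddef]
    exact fun h => h.2.1
  have hcardι : Fintype.card (Fin m ⊕ Fin m) = 2 * m := by
    simp only [Fintype.card_sum, Fintype.card_fin]
    ring
  have hexcl : ∀ A : Matrix (Fin m ⊕ Fin m) (Fin m ⊕ Fin m) F,
      (∀ v, stdPlus m F (A *ᵥ v) = stdPlus m F v) → A ^ r = 1 →
      ((X - 1 : F[X]) ∣ A.charpoly ∨ ¬ bad) := by
    intro A hA hAr
    by_cases hb : bad
    · left
      by_contra hnd
      have hfix := no_fix_of_not_dvd A hnd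
      rw [hbaddef] at hb
      obtain ⟨⟨i', hi'⟩, ⟨c, hc⟩, hoddc⟩ := hb
      rw [hc, Nat.mul_div_cancel_left c hi0] at hoddc
      obtain ⟨hx0, hx1, hxh⟩ := hxfacts i' hi'
      have hmc : m = i' * c := by
        have : (i' + i') * c = 2 * (i' * c) := by ring
        rw [hi', this] at hc
        omega
      have hxm : ((Fintype.card F : ℕ) : ZMod r) ^ m = -1 := by
        rw [hmc, pow_mul, hxh, hoddc.neg_one_pow]
      exact excl_plus A (fun v => by rw [← stdPlus_apply, ← stdPlus_apply]; exact hA v) hr2 hAr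
        hfix hx0 hx1 hxm
    · right
      exact hb
  have hexist : ∀ χ : F[X], χ.Monic → χ.natDegree = Fintype.card (Fin m ⊕ Fin m) →
      Smooth (X ^ r - 1) χ → ¬ Smooth (X - 1) χ → Helper24.Star.starHom χ = χ →
      ((X - 1 : F[X]) ∣ χ ∨ ¬ bad) →
      ∃ g : ↥(Cfsg.isometryGroup F (Cfsg.quadFormPlus m F)), g.1.1.charpoly = χ ∧
        ∃ N : ℕ, ¬ p ∣ N ∧ g.1.1 ^ N = 1 := by
    intro χ hmon hd hs hns hsd hg
    rw [hcardι] at hd
    rw [hbaddef] at hg
    exact hexist_plus p hF m r i hr hr2 hrp hi hi0 χ hmon hd hs hns hsd hg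
  have hA := card_classes_eq_good_polys p (stdPlus m F) (stdPlus_nondeg m)
    (Cfsg.quadFormPlus m F) (stdPlus_apply m) r hr hr2 hrp
    (fun χ => (X - 1 : F[X]) ∣ χ ∨ ¬ bad) hexcl hexist
  rw [hA, hcardι, card_good_polys (cycFactors F r) (X ^ r - 1) i (2 * m) hS1 hS2 h1 hi0 starHom
    star_X_sub_one hDS (by omega) bad hbad]
  by_cases hodd : Odd i
  · rw [if_pos hodd]
    have hnb : ¬ bad := by
      rw [hbaddef]
      intro h
      exact (Nat.not_even_iff_odd.mpr hodd) h.1
    rw [if_neg hnb, Cfsg.Agent.Lib.Helper24.InvMul.card_invariant_free _ hinvol (hfreeOdd hodd),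
      hcardS]
    have : 2 * m / i / 2 = m / i := by
      rw [Nat.div_div_eq_div_mul, mul_comm i 2, Nat.mul_div_mul_left _ _ (by norm_num : 0 < 2)]
    rw [this]
  · rw [if_neg hodd]
    have hev : Even i := Nat.not_odd_iff_even.mp hodd
    by_cases hb : i ∣ 2 * m ∧ Odd (2 * m / i)
    · have hbb : bad := by
        rw [hbaddef]
        exact ⟨hev, hb⟩
      rw [if_pos hbb, if_pos hb,
        Cfsg.Agent.Lib.Helper24.InvMul.card_invariant_id _ (hfixEven hev), hcardS]
      apply pascal_sub _ _ _ ht0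
      exact Nat.div_pos (Nat.le_of_dvd (by omega) hb.1) hi0
    · have hbb : ¬ bad := by
        rw [hbaddef]
        intro h
        exact hb h.2
      rw [if_neg hbb, if_neg hb,
        Cfsg.Agent.Lib.Helper24.InvMul.card_invariant_id _ (hfixEven hev), hcardS, Nat.sub_zero]

/-- classes of elements of odd prime order in `O⁻_{2n+2}(q)` -/
theorem card_minus_prime_order_classes (p : ℕ) [Fact p.Prime] [CharP F p] {q : ℕ}
    (hF : Fintype.card F = q) (n r i t : ℕ) (a c : F)
    (hac : ∀ z₁ z₂ : F, z₁ ^ 2 + a * z₁ * z₂ + c * z₂ ^ 2 = 0 → z₁ = 0 ∧ z₂ = 0)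
    (hr : r.Prime) (hr2 : r ≠ 2) (hrp : r ≠ p) (hi : i = orderOf (q : ZMod r))
    (ht : t * i = r - 1) :
    Nat.card {C : ConjClasses ↥(Cfsg.isometryGroup F (Cfsg.quadFormMinus n F a c)) //
      ∃ g : ↥(Cfsg.isometryGroup F (Cfsg.quadFormMinus n F a c)),
        ConjClasses.mk g = C ∧ orderOf g = r} =
      if Odd i then Nat.choose ((n + 1) / i + t / 2) (t / 2) - 1 -
        (if i ∣ n + 1 then Nat.choose ((n + 1) / i + t / 2 - 1) (t / 2 - 1) else 0)
      else Nat.choose (2 * (n + 1) / i + t) t - 1 -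
        (if i ∣ 2 * (n + 1) ∧ Even (2 * (n + 1) / i) then
          Nat.choose (2 * (n + 1) / i + t - 1) (t - 1) else 0) := by
  classical
  have hp : p.Prime := Fact.out
  haveI : Fact r.Prime := ⟨hr⟩
  have hi0 : 0 < i := by
    rcases Nat.eq_zero_or_pos i with h | h
    · rw [h, mul_zero] at ht
      have := hr.two_le
      omega
    · exact h
  have ht0 : 0 < t := by
    rcases Nat.eq_zero_or_pos t with h | h
    · rw [h, zero_mul] at ht
      have := hr.two_le
      omega
    · exact h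
  have h1 : (X - 1 : F[X]) ∣ X ^ r - 1 := by
    rw [← cyclotomic_prime_mul_X_sub_one F r]
    exact dvd_mul_left _ _
  have hcyc : cyclotomic r F ∣ X ^ r - 1 := by
    rw [← cyclotomic_prime_mul_X_sub_one F r]
    exact dvd_mul_right _ _
  have hS1 : ∀ f ∈ cycFactors F r, Irreducible f ∧ f.Monic ∧ f.natDegree = i ∧
      f ∣ (X ^ r - 1 : F[X]) ∧ f ≠ X - 1 := by
    intro f hf
    have h2 := (mem_cycFactors_iff r f).mp hf
    exact ⟨h2.1, h2.2.1, natDegree_of_mem_cycFactors p hr hrp hF hi f hf, h2.2.2.trans hcyc,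
      ne_X_sub_one_of_mem p hr hrp f hf⟩
  have hS2 : ∀ f : F[X], Irreducible f → f.Monic → f ∣ (X ^ r - 1 : F[X]) →
      f = X - 1 ∨ f ∈ cycFactors F r := fun f hf hm hd => factor_cases hr f hf hm hd
  have hS0 : ∀ f ∈ cycFactors F r, f.coeff 0 ≠ 0 := fun f hf => coeff_zero_ne_of_mem hr f hf
  have hDS : ∀ f ∈ cycFactors F r, starHom f ∈ cycFactors F r :=
    fun f hf => star_mem p hr hrp f hf
  have hinvol : ∀ x : ↥(cycFactors F r), DS (cycFactors F r) starHom hDS
      (DS (cycFactors F r) starHom hDS x) = x := by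
    intro x
    apply Subtype.ext
    show star (star x.1) = x.1
    exact star_star_of_monic (hS1 x.1 x.2).2.1 (hS0 x.1 x.2)
  have hcardS : Fintype.card ↥(cycFactors F r) = t := by
    rw [Fintype.card_coe, card_cycFactors p hr hrp hF hi ht]
  have hfreeOdd : Odd i → ∀ x : ↥(cycFactors F r), DS (cycFactors F r) starHom hDS x ≠ x := by
    intro hodd x h
    have h2 : star x.1 = x.1 := congrArg Subtype.val h
    have hdeg := (hS1 x.1 x.2).2.2.1
    exact star_ne_of_odd p hr hr2 hrp x.1 x.2 (by rw [hdeg]; exact hodd) h2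
  have hfixEven : Even i → ∀ x : ↥(cycFactors F r), DS (cycFactors F r) starHom hDS x = x := by
    intro hev x
    apply Subtype.ext
    show star x.1 = x.1
    exact star_eq_of_even hr hF hi hi0 hev x.1 x.2
  have hxfacts : ∀ i' : ℕ, i = i' + i' → ((Fintype.card F : ℕ) : ZMod r) ≠ 0 ∧
      ((Fintype.card F : ℕ) : ZMod r) ≠ 1 ∧ ((Fintype.card F : ℕ) : ZMod r) ^ i' = -1 := by
    intro i' hi'
    have hi'0 : 0 < i' := by omega
    have hxi : orderOf ((Fintype.card F : ℕ) : ZMod r) = 2 * i' := by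
      rw [hF, ← hi]; omega
    refine ⟨?_, ?_, pow_half_order _ hi'0 hxi⟩
    · intro h0
      have h := pow_orderOf_eq_one ((Fintype.card F : ℕ) : ZMod r)
      rw [hxi, h0, zero_pow (by omega)] at h
      exact zero_ne_one h
    · intro h
      rw [h, orderOf_one] at hxi
      omega
  obtain ⟨bad, hbaddef⟩ : ∃ bad : Prop, bad = (if Odd i then i ∣ n + 1 else
      i ∣ 2 * (n + 1) ∧ Even (2 * (n + 1) / i)) := ⟨_, rfl⟩
  have hbad : bad → i ∣ 2 * (n + 1) := by
    rw [hbaddef]
    split_ifs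
    · exact fun h => Dvd.dvd.mul_left h 2
    · exact fun h => h.1
  have hcardι : Fintype.card ((Fin n ⊕ Fin n) ⊕ Fin 2) = 2 * (n + 1) := by
    simp only [Fintype.card_sum, Fintype.card_fin]
    ring
  have hexcl : ∀ A : Matrix ((Fin n ⊕ Fin n) ⊕ Fin 2) ((Fin n ⊕ Fin n) ⊕ Fin 2) F,
      (∀ v, stdMinus n F a c (A *ᵥ v) = stdMinus n F a c v) → A ^ r = 1 →
      ((X - 1 : F[X]) ∣ A.charpoly ∨ ¬ bad) := by
    intro A hA hAr
    have hA' : ∀ v, Cfsg.quadFormMinus n F a c (A *ᵥ v) = Cfsg.quadFormMinus n F a c v := by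
      intro v
      rw [← stdMinus_apply, ← stdMinus_apply]
      exact hA v
    by_cases hb : bad
    · left
      by_contra hnd
      have hfix := no_fix_of_not_dvd A hnd
      rw [hbaddef] at hb
      by_cases hodd : Odd i
      · exact excl_minus_odd p hF a c hac A hA' hr hr2 hrp hi hodd hAr hfix
      · rw [if_neg hodd] at hb
        obtain ⟨i', hi'⟩ := Nat.not_odd_iff_even.mp hodd
        obtain ⟨⟨c', hc⟩, hevc⟩ := hb
        rw [hc, Nat.mul_div_cancel_left c' hi0] at hevc
        obtain ⟨hx0, hx1, hxh⟩ := hxfacts i' hi'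
        have hmc : n + 1 = i' * c' := by
          have : (i' + i') * c' = 2 * (i' * c') := by ring
          rw [hi', this] at hc
          omega
        have hxm : ((Fintype.card F : ℕ) : ZMod r) ^ (n + 1) = 1 := by
          rw [hmc, pow_mul, hxh, hevc.neg_one_pow]
        exact excl_minus a c hac A hA' hr2 hAr hfix hx0 hx1 hxm
    · right
      exact hb
  have hexist : ∀ χ : F[X], χ.Monic → χ.natDegree = Fintype.card ((Fin n ⊕ Fin n) ⊕ Fin 2) →
      Smooth (X ^ r - 1) χ → ¬ Smooth (X - 1) χ → Helper24.Star.starHom χ = χ →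
      ((X - 1 : F[X]) ∣ χ ∨ ¬ bad) →
      ∃ g : ↥(Cfsg.isometryGroup F (Cfsg.quadFormMinus n F a c)), g.1.1.charpoly = χ ∧
        ∃ N : ℕ, ¬ p ∣ N ∧ g.1.1 ^ N = 1 := by
    intro χ hmon hd hs hns hsd hg
    rw [hcardι] at hd
    rw [hbaddef] at hg
    exact hexist_minus p hF n r i a c hac hr hr2 hrp hi hi0 χ hmon hd hs hns hsd hg
  have hA := card_classes_eq_good_polys p (stdMinus n F a c) (stdMinus_nondeg n hac)
    (Cfsg.quadFormMinus n F a c) (stdMinus_apply n a c) r hr hr2 hrp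
    (fun χ => (X - 1 : F[X]) ∣ χ ∨ ¬ bad) hexcl hexist
  rw [hA, hcardι, card_good_polys (cycFactors F r) (X ^ r - 1) i (2 * (n + 1)) hS1 hS2 h1 hi0
    starHom star_X_sub_one hDS (by omega) bad hbad]
  by_cases hodd : Odd i
  · rw [if_pos hodd]
    have hdiv2 : 2 * (n + 1) / i / 2 = (n + 1) / i := by
      rw [Nat.div_div_eq_div_mul, mul_comm i 2, Nat.mul_div_mul_left _ _ (by norm_num : 0 < 2)]
    by_cases hd : i ∣ n + 1
    · have hbb : bad := by
        rw [hbaddef, if_pos hodd]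
        exact hd
      rw [if_pos hbb, if_pos hd,
        Cfsg.Agent.Lib.Helper24.InvMul.card_invariant_free _ hinvol (hfreeOdd hodd), hcardS]
      obtain ⟨l, hl⟩ := hd
      have hl0 : 1 ≤ l := by
        rcases Nat.eq_zero_or_pos l with h | h
        · rw [h, mul_zero] at hl; omega
        · exact h
      have e1 : (n + 1) / i = l := by rw [hl, Nat.mul_div_cancel_left l hi0]
      have e2 : 2 * (n + 1) / i = 2 * l := by
        have : 2 * (n + 1) = i * (2 * l) := by rw [hl]; ring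
        rw [this, Nat.mul_div_cancel_left _ hi0]
      have e3 : (2 * l - 1) / 2 = l - 1 := by omega
      rw [e1, e2, e3]
      have htev : Even t := by
        obtain ⟨k, hk⟩ := hr.eq_two_or_odd'.resolve_left hr2
        have h2 : Even (t * i) := by rw [ht, hk]; exact ⟨k, by omega⟩
        rcases Nat.even_mul.mp h2 with h | h
        · exact h
        · exact absurd hodd (Nat.not_odd_iff_even.mpr h)
      obtain ⟨s, hs⟩ := htev
      have hs1 : 1 ≤ s := by omega
      have e4 : t / 2 = s := by omega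
      rw [e4]
      exact pascal_sub l s hl0 hs1
    · have hbb : ¬ bad := by
        rw [hbaddef, if_pos hodd]
        exact hd
      rw [if_neg hbb, if_neg hd,
        Cfsg.Agent.Lib.Helper24.InvMul.card_invariant_free _ hinvol (hfreeOdd hodd), hcardS,
        hdiv2, Nat.sub_zero]
  · rw [if_neg hodd]
    have hev : Even i := Nat.not_odd_iff_even.mp hodd
    by_cases hb : i ∣ 2 * (n + 1) ∧ Even (2 * (n + 1) / i)
    · have hbb : bad := by
        rw [hbaddef, if_neg hodd]
        exact hb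
      rw [if_pos hbb, if_pos hb,
        Cfsg.Agent.Lib.Helper24.InvMul.card_invariant_id _ (hfixEven hev), hcardS]
      apply pascal_sub _ _ _ ht0
      exact Nat.div_pos (Nat.le_of_dvd (by omega) hb.1) hi0
    · have hbb : ¬ bad := by
        rw [hbaddef, if_neg hodd]
        exact hb
      rw [if_neg hbb, if_neg hb,
        Cfsg.Agent.Lib.Helper24.InvMul.card_invariant_id _ (hfixEven hev), hcardS, Nat.sub_zero]

end Cfsg.Agent.Lib.Helper24.OEv
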