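import Mathlib
import Cfsg.Agent.Lib.Helper27.OrthParab3
import Cfsg.Agent.Lib.Helper27.QuadBridge

set_option autoImplicit false
set_option linter.style.haveILetI false
set_option linter.unusedSimpArgs false
set_option linter.unusedSectionVars false

namespace Cfsg.Agent.Lib.Helper24.OLag

open Cfsg Matrix QuadraticMap Module
open Cfsg.Agent.Lib.Helper19.OrthRefl Cfsg.Agent.Lib.Helper27.OrthPlane
open Cfsg.Agent.Lib.Helper19.Parity Cfsg.Agent.Lib.Helper27.OrthParab

variable {F : Type*} [Field F] [Fintype F] {ι : Type} [Fintype ι] [DecidableEq ι]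

open scoped Classical in
/-- Siegel transformation, total version. -/
noncomputable def sgl (Q : QuadraticForm F (ι → F)) (hQ : (polarBilin Q).Nondegenerate)
    (p u : ι → F) : ↥(Cfsg.isometryGroup F ⇑Q) :=
  if h : Q p = 0 ∧ polar (⇑Q) p u = 0 then siegel Q hQ p u h.1 h.2 else 1

variable (Q : QuadraticForm F (ι → F)) (hQ : (polarBilin Q).Nondegenerate)

theorem sgl_eq {p u : ι → F} (hp : Q p = 0) (hpu : polar (⇑Q) p u = 0) :
    sgl Q hQ p u = siegel Q hQ p u hp hpu := by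
  unfold sgl
  rw [dif_pos ⟨hp, hpu⟩]

theorem act_sgl {p u : ι → F} (hp : Q p = 0) (hpu : polar (⇑Q) p u = 0) (hu : Q u = 0)
    (v : ι → F) :
    act (sgl Q hQ p u) v = v + polar (⇑Q) u v • p - polar (⇑Q) p v • u := by
  rw [sgl_eq Q hQ hp hpu, act_siegel, hu, zero_smul, sub_zero]

theorem sgl_mem_Omega (hn : 5 ≤ Fintype.card ι) (p u : ι → F) :
    sgl Q hQ p u ∈ Cfsg.Omega F ⇑Q := by
  unfold sgl
  split_ifs with h
  · exact siegel_mem_Omega Q hQ hn p u h.1 h.2
  · exact Subgroup.one_mem _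

theorem conj_sgl (g : ↥(Cfsg.isometryGroup F ⇑Q)) {p u : ι → F} (hp : Q p = 0)
    (hpu : polar (⇑Q) p u = 0) :
    g * sgl Q hQ p u * g⁻¹ = sgl Q hQ (act g p) (act g u) := by
  have hp' : Q (act g p) = 0 := by rw [Q_act g]; exact hp
  have hpu' : polar (⇑Q) (act g p) (act g u) = 0 := by rw [polar_act g]; exact hpu
  rw [sgl_eq Q hQ hp hpu, sgl_eq Q hQ hp' hpu']
  exact conj_siegel Q hQ p u hp hpu g hp' hpu'

theorem sgl_mul {p u u' : ι → F} (hp : Q p = 0) (hpu : polar (⇑Q) p u = 0)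
    (hpu' : polar (⇑Q) p u' = 0) :
    sgl Q hQ p u * sgl Q hQ p u' = sgl Q hQ p (u + u') := by
  have h3 : polar (⇑Q) p (u + u') = 0 := by rw [polar_add_right, hpu, hpu', add_zero]
  rw [sgl_eq Q hQ hp hpu, sgl_eq Q hQ hp hpu', sgl_eq Q hQ hp h3]
  exact siegel_mul Q hQ p u u' hp hpu hpu' h3

theorem sgl_zero_left (u : ι → F) : sgl Q hQ 0 u = 1 := by
  have h0 : Q (0 : ι → F) = 0 := QuadraticMap.map_zero Q
  have h1 : polar (⇑Q) 0 u = 0 := polar_zero_left _ _
  rw [sgl_eq Q hQ h0 h1]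
  exact siegel_zero_left Q hQ u h0 h1

/-- The commutator of two Siegel elements attached to totally singular lines with exactly one
non-orthogonality. -/
theorem sgl_comm_eq {a b a' b' : ι → F} (ha : Q a = 0) (hb : Q b = 0) (ha' : Q a' = 0)
    (hb' : Q b' = 0) (hab : polar (⇑Q) a b = 0) (hab' : polar (⇑Q) a' b' = 0)
    (h1 : polar (⇑Q) a a' = 0) (h2 : polar (⇑Q) a b' = 0) (h3 : polar (⇑Q) b a' = 0) :
    sgl Q hQ a b * sgl Q hQ a' b' =
      sgl Q hQ a (-(polar (⇑Q) b b') • a') * (sgl Q hQ a' b' * sgl Q hQ a b) := by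
  have haa : polar (⇑Q) a a = 0 := polar_self_of_singular Q ha
  have hbb : polar (⇑Q) b b = 0 := polar_self_of_singular Q hb
  have ha'a' : polar (⇑Q) a' a' = 0 := polar_self_of_singular Q ha'
  have hb'b' : polar (⇑Q) b' b' = 0 := polar_self_of_singular Q hb'
  have hba : polar (⇑Q) b a = 0 := by rw [polar_comm]; exact hab
  have hb'a' : polar (⇑Q) b' a' = 0 := by rw [polar_comm]; exact hab'
  have h1' : polar (⇑Q) a' a = 0 := by rw [polar_comm]; exact h1
  have h2' : polar (⇑Q) b' a = 0 := by rw [polar_comm]; exact h2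
  have h3' : polar (⇑Q) a' b = 0 := by rw [polar_comm]; exact h3
  have h4' : polar (⇑Q) b' b = polar (⇑Q) b b' := polar_comm _ _ _
  have hc : Q (-(polar (⇑Q) b b') • a') = 0 := by
    rw [QuadraticMap.map_smul, ha', smul_zero]
  have hac : polar (⇑Q) a (-(polar (⇑Q) b b') • a') = 0 := by
    rw [polar_smul_right, h1, smul_zero]
  apply ext_act
  intro v
  rw [act_mul, act_mul, act_mul, act_sgl Q hQ ha' hab' hb', act_sgl Q hQ ha hab hb,
    act_sgl Q hQ ha hab hb, act_sgl Q hQ ha' hab' hb', act_sgl Q hQ ha hac hc]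
  simp only [polar_add_right, polar_sub_right, polar_smul_right, polar_smul_left,
    polar_add_left, polar_sub_left, smul_eq_mul, haa, hbb, ha'a', hb'b', hab, hab', hba, hb'a',
    h1, h2, h3, h1', h2', h3', h4', mul_zero, add_zero, zero_add, sub_zero, smul_add, smul_sub,
    smul_smul]
  module

theorem sgl_flip {x x' : ι → F} (hx : Q x = 0) (hx' : Q x' = 0)
    (hxx' : polar (⇑Q) x x' = 0) : sgl Q hQ x' (-x) = sgl Q hQ x x' := by
  have h1 : polar (⇑Q) x' (-x) = 0 := by rw [polar_neg_right, polar_comm, hxx', neg_zero]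
  have h2 : Q (-x) = 0 := by rw [QuadraticMap.map_neg]; exact hx
  apply ext_act
  intro v
  rw [act_sgl Q hQ hx' h1 h2, act_sgl Q hQ hx hxx' hx', polar_neg_left]
  module


theorem sgl_swap {x x' : ι → F} (hx : Q x = 0) (hx' : Q x' = 0)
    (hxx' : polar (⇑Q) x x' = 0) (t : F) : sgl Q hQ x' (t • x) = sgl Q hQ x ((-t) • x') := by
  have h1 : polar (⇑Q) x' (t • x) = 0 := by rw [polar_smul_right, polar_comm, hxx', smul_zero]
  have h2 : Q (t • x) = 0 := by rw [QuadraticMap.map_smul, hx, smul_zero]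
  have h3 : polar (⇑Q) x ((-t) • x') = 0 := by rw [polar_smul_right, hxx', smul_zero]
  have h4 : Q ((-t) • x') = 0 := by rw [QuadraticMap.map_smul, hx', smul_zero]
  apply ext_act
  intro v
  rw [act_sgl Q hQ hx' h1 h2, act_sgl Q hQ hx h3 h4, polar_smul_left, polar_smul_left]
  simp only [smul_eq_mul, smul_smul]
  module

theorem sgl_smul_left {p u : ι → F} (hp : Q p = 0) (t : F) (hpu : polar (⇑Q) p (t • u) = 0) :
    sgl Q hQ (t • p) u = sgl Q hQ p (t • u) := by
  have h1 : Q (t • p) = 0 := by rw [QuadraticMap.map_smul, hp, smul_zero]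
  have h2 : polar (⇑Q) (t • p) u = 0 := by
    rw [polar_smul_left, ← polar_smul_right]; exact hpu
  rw [sgl_eq Q hQ h1 h2, sgl_eq Q hQ hp hpu]
  exact siegel_smul_left Q hQ p u t h1 h2 hp hpu

/-- A pair of complementary totally singular subspaces. -/
structure LPair (X Y : Submodule F (ι → F)) : Prop where
  tsX : ∀ u ∈ X, Q u = 0
  tsY : ∀ u ∈ Y, Q u = 0
  disj : X ⊓ Y = ⊥
  sup : X ⊔ Y = ⊤

variable {Q}

theorem LPair.symm {X Y : Submodule F (ι → F)} (h : LPair Q X Y) : LPair Q Y X :=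
  ⟨h.tsY, h.tsX, by rw [inf_comm]; exact h.disj, by rw [sup_comm]; exact h.sup⟩

theorem LPair.polX {X Y : Submodule F (ι → F)} (h : LPair Q X Y) {u v : ι → F} (hu : u ∈ X)
    (hv : v ∈ X) : polar (⇑Q) u v = 0 := ts_polar Q h.tsX hu hv

theorem LPair.polY {X Y : Submodule F (ι → F)} (h : LPair Q X Y) {u v : ι → F} (hu : u ∈ Y)
    (hv : v ∈ Y) : polar (⇑Q) u v = 0 := ts_polar Q h.tsY hu hv

theorem LPair.decomp {X Y : Submodule F (ι → F)} (h : LPair Q X Y)
    (v : ι → F) : ∃ x ∈ X, ∃ y ∈ Y, v = x + y := by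
  have : v ∈ X ⊔ Y := by rw [h.sup]; exact Submodule.mem_top
  obtain ⟨x, hx, y, hy, hxy⟩ := Submodule.mem_sup.mp this
  exact ⟨x, hx, y, hy, hxy.symm⟩

theorem LPair.inter {X Y : Submodule F (ι → F)} (h : LPair Q X Y) {v : ι → F} (hx : v ∈ X)
    (hy : v ∈ Y) : v = 0 := by
  have : v ∈ X ⊓ Y := ⟨hx, hy⟩
  rwa [h.disj, Submodule.mem_bot] at this

include hQ in
theorem LPair.exists_pair {X Y : Submodule F (ι → F)} (h : LPair Q X Y) {x : ι → F}
    (hx : x ∈ X) (hx0 : x ≠ 0) : ∃ y ∈ Y, polar (⇑Q) x y ≠ 0 := by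
  obtain ⟨v, hv⟩ : ∃ v, polar (⇑Q) x v ≠ 0 := by
    by_contra hcon
    push Not at hcon
    exact hx0 (hQ.1 x (fun y => by simpa using hcon y))
  obtain ⟨x', hx', y, hy, rfl⟩ := h.decomp v
  refine ⟨y, hy, ?_⟩
  rwa [polar_add_right, h.polX hx hx', zero_add] at hv

include hQ in
theorem LPair.eq_zero_of_forall {X Y : Submodule F (ι → F)} (h : LPair Q X Y) {x : ι → F}
    (hx : x ∈ X) (hall : ∀ y ∈ Y, polar (⇑Q) x y = 0) : x = 0 := by
  by_contra h0
  obtain ⟨y, hy, hxy⟩ := h.exists_pair hQ hx h0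
  exact hxy (hall y hy)

include hQ in
/-- Separation: a vector of `Y` orthogonal to `x, x₁` but not to `x₂ ∉ ⟨x, x₁⟩`. -/
theorem LPair.exists_sep {X Y : Submodule F (ι → F)} (h : LPair Q X Y) {x x₁ x₂ : ι → F}
    (hx : x ∈ X) (hx₁ : x₁ ∈ X) (hx₂ : x₂ ∈ X) (hni : x₂ ∉ Submodule.span F {x, x₁}) :
    ∃ y ∈ Y, polar (⇑Q) x y = 0 ∧ polar (⇑Q) x₁ y = 0 ∧ polar (⇑Q) x₂ y = 1 := by
  by_contra hcon
  have hall : ∀ y ∈ Y, polar (⇑Q) x y = 0 → polar (⇑Q) x₁ y = 0 → polar (⇑Q) x₂ y = 0 := by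
    intro y hy h1 h2
    by_contra h3
    apply hcon
    refine ⟨(polar (⇑Q) x₂ y)⁻¹ • y, Y.smul_mem _ hy, ?_, ?_, ?_⟩
    · rw [polar_smul_right, h1, smul_zero]
    · rw [polar_smul_right, h2, smul_zero]
    · rw [polar_smul_right, smul_eq_mul, inv_mul_cancel₀ h3]
  obtain ⟨L, hL⟩ : ∃ L : Fin 2 → (↥Y →ₗ[F] F), L = ![(polarBilin Q x).comp Y.subtype,
      (polarBilin Q x₁).comp Y.subtype] := ⟨_, rfl⟩
  have hker : ⨅ i, LinearMap.ker (L i) ≤ LinearMap.ker ((polarBilin Q x₂).comp Y.subtype) := by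
    intro y hy
    rw [Submodule.mem_iInf] at hy
    have h0 := hy 0
    have h1 := hy 1
    rw [hL] at h0 h1
    simp only [Matrix.cons_val_zero, Matrix.cons_val_one, LinearMap.mem_ker, LinearMap.comp_apply,
      Submodule.subtype_apply, polarBilin_apply_apply] at h0 h1
    rw [LinearMap.mem_ker, LinearMap.comp_apply, Submodule.subtype_apply, polarBilin_apply_apply]
    exact hall y y.2 h0 h1
  have hspan := mem_span_of_iInf_ker_le_ker hker
  obtain ⟨c, hc⟩ := (Submodule.mem_span_range_iff_exists_fun F).1 hspan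
  have hz : x₂ - c 0 • x - c 1 • x₁ = 0 := by
    apply h.eq_zero_of_forall hQ
      (X.sub_mem (X.sub_mem hx₂ (X.smul_mem _ hx)) (X.smul_mem _ hx₁))
    intro y hy
    have h1 := congrArg (fun f : ↥Y →ₗ[F] F => f ⟨y, hy⟩) hc
    simp only [Fin.sum_univ_two, LinearMap.add_apply, LinearMap.smul_apply, hL,
      Matrix.cons_val_zero, Matrix.cons_val_one, LinearMap.comp_apply, Submodule.subtype_apply,
      polarBilin_apply_apply, smul_eq_mul] at h1
    rw [polar_sub_left, polar_sub_left, polar_smul_left, polar_smul_left, smul_eq_mul,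
      smul_eq_mul, ← h1]
    ring
  apply hni
  rw [Submodule.mem_span_pair]
  refine ⟨c 0, c 1, ?_⟩
  have : x₂ = c 0 • x + c 1 • x₁ := by
    have := sub_eq_zero.mp hz
    rw [sub_eq_iff_eq_add] at this
    rw [this]
    abel
  exact this.symm

end Cfsg.Agent.Lib.Helper24.OLag
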