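import Mathlib
import Cfsg.Agent.Lib.Helper24.OLagA

set_option autoImplicit false
set_option linter.style.haveILetI false
set_option linter.unusedSimpArgs false
set_option linter.unusedSectionVars false

namespace Cfsg.Agent.Lib.Helper24.OLag

open Cfsg Matrix QuadraticMap Module
open Cfsg.Agent.Lib.Helper19.OrthRefl Cfsg.Agent.Lib.Helper27.OrthPlane
open Cfsg.Agent.Lib.Helper19.Parity Cfsg.Agent.Lib.Helper27.OrthParab

variable {F : Type*} [Field F] [Fintype F] {ι : Type} [Fintype ι] [DecidableEq ι]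
variable {Q : QuadraticForm F (ι → F)} (hQ : (polarBilin Q).Nondegenerate)

theorem fin_cut' {V : Type*} [AddCommGroup V] [Module F V] [FiniteDimensional F V]
    (Z : Submodule F V) (φ : V →ₗ[F] F) :
    finrank F Z ≤ finrank F (Z ⊓ LinearMap.ker φ : Submodule F V) + 1 := by
  have h1 := Submodule.finrank_sup_add_finrank_inf_eq Z (LinearMap.ker φ)
  have h2 := LinearMap.finrank_range_add_finrank_ker φ
  have h3 : finrank F (LinearMap.range φ) ≤ 1 := by
    have := Submodule.finrank_le (LinearMap.range φ)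
    rwa [finrank_self] at this
  have h4 : finrank F (Z ⊔ LinearMap.ker φ : Submodule F V) ≤ finrank F V :=
    Submodule.finrank_le _
  omega

theorem mem_cut' {Z : Submodule F (ι → F)} {w x : ι → F} :
    x ∈ (Z ⊓ LinearMap.ker (polarBilin Q w) : Submodule F (ι → F)) ↔
      x ∈ Z ∧ polar (⇑Q) w x = 0 := by
  rw [Submodule.mem_inf, LinearMap.mem_ker, polarBilin_apply_apply]

theorem finrank_span_single_le' (u : ι → F) : finrank F (Submodule.span F {u}) ≤ 1 := by
  by_cases hu : u = 0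
  · rw [hu, Submodule.span_zero_singleton, finrank_bot]
    exact Nat.zero_le _
  · rw [finrank_span_singleton hu]

theorem finrank_span_pair_le' (u w : ι → F) : finrank F (Submodule.span F {u, w}) ≤ 2 := by
  have h1 : Submodule.span F {u, w} = Submodule.span F {u} ⊔ Submodule.span F {w} := by
    rw [← Submodule.span_union]
    rfl
  rw [h1]
  have h2 := Submodule.finrank_add_le_finrank_add_finrank (Submodule.span F {u})
    (Submodule.span F {w})
  have h3 : finrank F (Submodule.span F {u}) ≤ 1 := finrank_span_single_le' u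
  have h4 : finrank F (Submodule.span F {w}) ≤ 1 := finrank_span_single_le' w
  omega

theorem exists_not_mem_span_pair {Z : Submodule F (ι → F)} (hZ : 3 ≤ finrank F Z)
    (u w : ι → F) : ∃ z ∈ Z, z ∉ Submodule.span F {u, w} := by
  have hlt : ¬ Z ≤ Submodule.span F {u, w} := by
    intro hle
    have := Submodule.finrank_mono hle
    have h2 := finrank_span_pair_le' u w
    omega
  exact SetLike.not_le_iff_exists.mp hlt

/-- `N` contains the standard root elements of the stabiliser of the pair. -/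
def Std (hQ : (polarBilin Q).Nondegenerate) (N : Subgroup ↥(Cfsg.isometryGroup F ⇑Q))
    (X Y : Submodule F (ι → F)) : Prop :=
  ∀ x ∈ X, ∀ y ∈ Y, polar (⇑Q) x y = 0 → sgl Q hQ x y ∈ N

theorem Std.symm {N : Subgroup ↥(Cfsg.isometryGroup F ⇑Q)} {X Y : Submodule F (ι → F)}
    (hL : LPair Q X Y) (h : Std hQ N X Y) : Std hQ N Y X := by
  intro y hy x hx hyx
  have hxy : polar (⇑Q) x y = 0 := by rw [polar_comm]; exact hyx
  have := sgl_swap Q hQ (hL.tsX x hx) (hL.tsY y hy) hxy 1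
  rw [one_smul] at this
  rw [this]
  exact h x hx _ (Y.smul_mem _ hy) (by rw [polar_smul_right, hxy, smul_zero])

/-- Propagation of root elements inside `X`. -/
theorem prop_step {N : Subgroup ↥(Cfsg.isometryGroup F ⇑Q)} {X Y : Submodule F (ι → F)}
    (hL : LPair Q X Y) (hN : Std hQ N X Y) {x x₁ x₂ : ι → F} (hx : x ∈ X) (hx₁ : x₁ ∈ X)
    (hx₂ : x₂ ∈ X) (hni : x₁ ∉ Submodule.span F {x, x₂})
    (hP : ∀ t : F, sgl Q hQ x (t • x₁) ∈ N) : ∀ t : F, sgl Q hQ x (t • x₂) ∈ N := by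
  obtain ⟨y, hyY, h1, h2, h3⟩ := hL.exists_sep hQ hx hx₂ hx₁ hni
  intro t
  have hQx := hL.tsX x hx
  have hQx₁ := hL.tsX x₁ hx₁
  have hQx₂ := hL.tsX x₂ hx₂
  have hQy := hL.tsY y hyY
  have hb : Q ((-t) • x₁) = 0 := by rw [QuadraticMap.map_smul, hQx₁, smul_zero]
  have hab : polar (⇑Q) x ((-t) • x₁) = 0 := by
    rw [polar_smul_right, hL.polX hx hx₁, smul_zero]
  have h3' : polar (⇑Q) ((-t) • x₁) x₂ = 0 := by
    rw [polar_smul_left, hL.polX hx₁ hx₂, smul_zero]
  have key := sgl_comm_eq Q hQ hQx hb hQx₂ hQy hab h2 (hL.polX hx hx₂) h1 h3'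
  have hβ : -(polar (⇑Q) ((-t) • x₁) y) • x₂ = t • x₂ := by
    rw [polar_smul_left, h3, smul_eq_mul, mul_one, neg_neg]
  rw [hβ] at key
  have m1 : sgl Q hQ x ((-t) • x₁) ∈ N := hP (-t)
  have m2 : sgl Q hQ x₂ y ∈ N := hN x₂ hx₂ y hyY h2
  have e : sgl Q hQ x (t • x₂) = sgl Q hQ x ((-t) • x₁) * sgl Q hQ x₂ y *
      (sgl Q hQ x₂ y * sgl Q hQ x ((-t) • x₁))⁻¹ := by
    rw [key]
    group
  rw [e]
  exact N.mul_mem (N.mul_mem m1 m2) (N.inv_mem (N.mul_mem m2 m1))

theorem all_X {N : Subgroup ↥(Cfsg.isometryGroup F ⇑Q)} {X Y : Submodule F (ι → F)}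
    (hL : LPair Q X Y) (hX : 3 ≤ finrank F X) (hN : Std hQ N X Y) {x x₁ : ι → F} (hx : x ∈ X)
    (hx₁ : x₁ ∈ X) (hni : x₁ ∉ Submodule.span F {x})
    (hP : ∀ t : F, sgl Q hQ x (t • x₁) ∈ N) :
    ∀ x₂ ∈ X, ∀ t : F, sgl Q hQ x (t • x₂) ∈ N := by
  have first : ∀ x₂ ∈ X, x₂ ∉ Submodule.span F {x, x₁} → ∀ t : F, sgl Q hQ x (t • x₂) ∈ N := by
    intro x₂ hx₂ hx₂n
    apply prop_step hQ hL hN hx hx₁ hx₂ _ hP
    intro hmem
    obtain ⟨α, β, hαβ⟩ := Submodule.mem_span_pair.mp hmem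
    by_cases hβ : β = 0
    · apply hni
      rw [Submodule.mem_span_singleton]
      exact ⟨α, by rw [← hαβ, hβ, zero_smul, add_zero]⟩
    · apply hx₂n
      rw [Submodule.mem_span_pair]
      refine ⟨-(β⁻¹ * α), β⁻¹, ?_⟩
      rw [← hαβ, smul_add, smul_smul, smul_smul, inv_mul_cancel₀ hβ, one_smul, neg_smul]
      abel
  intro x₂ hx₂
  by_cases hx₂n : x₂ ∈ Submodule.span F {x, x₁}
  · obtain ⟨x₃, hx₃, hx₃n⟩ := exists_not_mem_span_pair hX x x₁
    have hP₃ := first x₃ hx₃ hx₃n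
    apply prop_step hQ hL hN hx hx₃ hx₂ _ hP₃
    intro hmem
    apply hx₃n
    have hle : Submodule.span F {x, x₂} ≤ Submodule.span F {x, x₁} := by
      rw [Submodule.span_le]
      rintro z (rfl | rfl)
      · exact Submodule.subset_span (by simp)
      · exact hx₂n
    exact hle hmem
  · exact first x₂ hx₂ hx₂n

/-- `x` is a centre. -/
theorem center_X {N : Subgroup ↥(Cfsg.isometryGroup F ⇑Q)} {X Y : Submodule F (ι → F)}
    (hL : LPair Q X Y) (hX : 3 ≤ finrank F X) (hN : Std hQ N X Y) {x x₁ : ι → F} (hx : x ∈ X)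
    (hx₁ : x₁ ∈ X) (hni : x₁ ∉ Submodule.span F {x})
    (hP : ∀ t : F, sgl Q hQ x (t • x₁) ∈ N) :
    ∀ u : ι → F, polar (⇑Q) x u = 0 → sgl Q hQ x u ∈ N := by
  have hall := all_X hQ hL hX hN hx hx₁ hni hP
  intro u hu
  obtain ⟨x₂, hx₂, y₂, hy₂, rfl⟩ := hL.decomp u
  have h1 : polar (⇑Q) x x₂ = 0 := hL.polX hx hx₂
  have h2 : polar (⇑Q) x y₂ = 0 := by
    rw [polar_add_right, h1, zero_add] at hu
    exact hu
  rw [← sgl_mul Q hQ (hL.tsX x hx) h1 h2]
  have := hall x₂ hx₂ 1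
  rw [one_smul] at this
  exact N.mul_mem this (hN x hx y₂ hy₂ h2)

theorem all_centers_X {N : Subgroup ↥(Cfsg.isometryGroup F ⇑Q)} {X Y : Submodule F (ι → F)}
    (hL : LPair Q X Y) (hX : 3 ≤ finrank F X) (hN : Std hQ N X Y) {x x₁ : ι → F} (hx : x ∈ X)
    (hx0 : x ≠ 0) (hx₁ : x₁ ∈ X) (hni : x₁ ∉ Submodule.span F {x})
    (hP : ∀ t : F, sgl Q hQ x (t • x₁) ∈ N) :
    ∀ x' ∈ X, ∀ u : ι → F, polar (⇑Q) x' u = 0 → sgl Q hQ x' u ∈ N := by
  have hall := all_X hQ hL hX hN hx hx₁ hni hP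
  have hcx := center_X hQ hL hX hN hx hx₁ hni hP
  intro x' hx' u hu
  by_cases hmem : x' ∈ Submodule.span F {x}
  · obtain ⟨c, rfl⟩ := Submodule.mem_span_singleton.mp hmem
    have h1 : polar (⇑Q) x (c • u) = 0 := by
      rw [polar_smul_right, ← polar_smul_left]; exact hu
    rw [sgl_smul_left Q hQ (hL.tsX x hx) c h1]
    exact hcx _ h1
  · have hni' : x ∉ Submodule.span F {x'} := by
      intro h
      obtain ⟨c, hc⟩ := Submodule.mem_span_singleton.mp h
      apply hmem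
      rw [Submodule.mem_span_singleton]
      have hc0 : c ≠ 0 := by
        rintro rfl
        rw [zero_smul] at hc
        exact hx0 hc.symm
      exact ⟨c⁻¹, by rw [← hc, smul_smul, inv_mul_cancel₀ hc0, one_smul]⟩
    have hP' : ∀ t : F, sgl Q hQ x' (t • x) ∈ N := by
      intro t
      rw [sgl_swap Q hQ (hL.tsX x hx) (hL.tsX x' hx') (hL.polX hx hx') t]
      exact hall x' hx' (-t)
    exact center_X hQ hL hX hN hx' hx hni' hP' u hu


/-- The key step: a family of root elements attached to a totally singular line meeting `Y`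
trivially yields a root element attached to a line inside `X`. -/
theorem exists_root {N : Subgroup ↥(Cfsg.isometryGroup F ⇑Q)} {X Y : Submodule F (ι → F)}
    (hL : LPair Q X Y) (hX : 5 ≤ finrank F X) (hN : Std hQ N X Y) {a' b' : ι → F}
    (ha' : Q a' = 0) (hb' : Q b' = 0) (hab : polar (⇑Q) a' b' = 0)
    (hNY : ∀ α β : F, α • a' + β • b' ∈ Y → α = 0 ∧ β = 0)
    (hfam : ∀ t : F, sgl Q hQ a' (t • b') ∈ N) :
    ∃ x ∈ X, x ≠ 0 ∧ ∃ x₁ ∈ X, x₁ ∉ Submodule.span F {x} ∧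
      ∀ t : F, sgl Q hQ x (t • x₁) ∈ N := by
  obtain ⟨x₁, hx₁, y₁, hy₁, ha'd⟩ := hL.decomp a'
  obtain ⟨x₂, hx₂, y₂, hy₂, hb'd⟩ := hL.decomp b'
  have hind : ∀ α β : F, α • x₁ + β • x₂ = 0 → α = 0 ∧ β = 0 := by
    intro α β h0
    apply hNY
    have : α • a' + β • b' = (α • x₁ + β • x₂) + (α • y₁ + β • y₂) := by
      rw [ha'd, hb'd, smul_add, smul_add]
      abel
    rw [this, h0, zero_add]
    exact Y.add_mem (Y.smul_mem _ hy₁) (Y.smul_mem _ hy₂)
  -- the vector x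
  have hdim : 3 ≤ finrank F (X ⊓ LinearMap.ker (polarBilin Q a') ⊓
      LinearMap.ker (polarBilin Q b') : Submodule F (ι → F)) := by
    have c1 := fin_cut' X (polarBilin Q a')
    have c2 := fin_cut' (X ⊓ LinearMap.ker (polarBilin Q a')) (polarBilin Q b')
    omega
  obtain ⟨x, hxZ, hxn⟩ := exists_not_mem_span_pair hdim x₁ x₂
  rw [mem_cut', mem_cut'] at hxZ
  obtain ⟨⟨hxX, q1⟩, q2⟩ := hxZ
  have hxa' : polar (⇑Q) x a' = 0 := by rw [polar_comm]; exact q1
  have hxb' : polar (⇑Q) x b' = 0 := by rw [polar_comm]; exact q2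
  have hx0 : x ≠ 0 := by
    rintro rfl
    exact hxn (Submodule.zero_mem _)
  have hx₁0 : x₁ ≠ 0 := by
    rintro rfl
    have := hind 1 0 (by rw [smul_zero, zero_smul, add_zero])
    exact one_ne_zero this.1
  -- x₂ ∉ span {x, x₁}
  have hx₂n : x₂ ∉ Submodule.span F {x, x₁} := by
    intro hmem
    obtain ⟨α, β, hαβ⟩ := Submodule.mem_span_pair.mp hmem
    by_cases hα : α = 0
    · rw [hα, zero_smul, zero_add] at hαβ
      have := hind β (-1) (by rw [hαβ, neg_smul, one_smul, add_neg_cancel])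
      have h1 : (-1 : F) = 0 := this.2
      exact one_ne_zero (neg_eq_zero.mp h1)
    · apply hxn
      rw [Submodule.mem_span_pair]
      refine ⟨-(α⁻¹ * β), α⁻¹, ?_⟩
      rw [← hαβ, smul_add, smul_smul, smul_smul, inv_mul_cancel₀ hα, one_smul, neg_smul]
      abel
  obtain ⟨y, hyY, h1, h2, h3⟩ := hL.exists_sep hQ hxX hx₁ hx₂ hx₂n
  have hQx := hL.tsX x hxX
  have hQy := hL.tsY y hyY
  have hya' : polar (⇑Q) y a' = 0 := by
    rw [ha'd, polar_add_right, polar_comm, h2, hL.polY hyY hy₁, add_zero]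
  have hyb' : polar (⇑Q) y b' = 1 := by
    rw [hb'd, polar_add_right, polar_comm, h3, hL.polY hyY hy₂, add_zero]
  have hxy₁ : polar (⇑Q) x y₁ = 0 := by
    have := hxa'
    rw [ha'd, polar_add_right, hL.polX hxX hx₁, zero_add] at this
    exact this
  have hcomm : ∀ t : F, sgl Q hQ x ((-t) • a') ∈ N := by
    intro t
    have hb : Q (t • b') = 0 := by rw [QuadraticMap.map_smul, hb', smul_zero]
    have hab2 : polar (⇑Q) a' (t • b') = 0 := by rw [polar_smul_right, hab, smul_zero]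
    have h2' : polar (⇑Q) x (t • b') = 0 := by rw [polar_smul_right, hxb', smul_zero]
    have key := sgl_comm_eq Q hQ hQx hQy ha' hb h1 hab2 hxa' h2' hya'
    have hβ : -(polar (⇑Q) y (t • b')) • a' = (-t) • a' := by
      rw [polar_smul_right, hyb', smul_eq_mul, mul_one]
    rw [hβ] at key
    have m1 : sgl Q hQ x y ∈ N := hN x hxX y hyY h1
    have m2 : sgl Q hQ a' (t • b') ∈ N := hfam t
    have e : sgl Q hQ x ((-t) • a') = sgl Q hQ x y * sgl Q hQ a' (t • b') *
        (sgl Q hQ a' (t • b') * sgl Q hQ x y)⁻¹ := by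
      rw [key]
      group
    rw [e]
    exact N.mul_mem (N.mul_mem m1 m2) (N.inv_mem (N.mul_mem m2 m1))
  refine ⟨x, hxX, hx0, x₁, hx₁, ?_, ?_⟩
  · intro hmem
    obtain ⟨c, hc⟩ := Submodule.mem_span_singleton.mp hmem
    have hc0 : c ≠ 0 := by
      rintro rfl
      rw [zero_smul] at hc
      exact hx₁0 hc.symm
    apply hxn
    rw [Submodule.mem_span_pair]
    exact ⟨c⁻¹, 0, by rw [← hc, smul_smul, inv_mul_cancel₀ hc0, one_smul, zero_smul, add_zero]⟩
  · intro t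
    have e1 : (-(-t)) • a' = t • x₁ + t • y₁ := by rw [neg_neg, ha'd, smul_add]
    have h5 : polar (⇑Q) x (t • x₁) = 0 := by rw [polar_smul_right, hL.polX hxX hx₁, smul_zero]
    have h6 : polar (⇑Q) x (t • y₁) = 0 := by rw [polar_smul_right, hxy₁, smul_zero]
    have m3 := hcomm (-t)
    rw [e1, ← sgl_mul Q hQ hQx h5 h6] at m3
    have m4 : sgl Q hQ x (t • y₁) ∈ N := hN x hxX _ (Y.smul_mem _ hy₁) h6
    have := N.mul_mem m3 (N.inv_mem m4)
    rwa [mul_inv_cancel_right] at this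

end Cfsg.Agent.Lib.Helper24.OLag
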