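import Mathlib
import Cfsg.Agent.Lib.Helper24.OLagB

set_option autoImplicit false
set_option linter.style.haveILetI false
set_option linter.unusedSimpArgs false
set_option linter.unusedSectionVars false

namespace Cfsg.Agent.Lib.Helper24.OLag

open Cfsg Matrix QuadraticMap Module
open Cfsg.Agent.Lib.Helper19.OrthRefl Cfsg.Agent.Lib.Helper27.OrthPlane
open Cfsg.Agent.Lib.Helper19.Parity Cfsg.Agent.Lib.Helper27.OrthParab

variable {F : Type*} [Field F] [Fintype F] {ι : Type} [Fintype ι] [DecidableEq ι]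
variable {Q : QuadraticForm F (ι → F)} (hQ : (polarBilin Q).Nondegenerate)

include hQ in
/-- Dual families in a pair of complementary totally singular subspaces. -/
theorem exists_dual_bases {X Y : Submodule F (ι → F)}
    (h : LPair Q X Y) {k : ℕ} (hX : finrank F X = k) (hY : finrank F Y = k) :
    ∃ (bX : Basis (Fin k) F X) (bY : Basis (Fin k) F Y),
      ∀ i j, polar (⇑Q) (bX i : ι → F) (bY j : ι → F) = if i = j then 1 else 0 := by
  classical
  obtain ⟨bX⟩ : Nonempty (Basis (Fin k) F X) := ⟨Module.finBasisOfFinrankEq F X hX⟩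
  obtain ⟨Φ, hΦ⟩ : ∃ Φ : Y →ₗ[F] (Fin k → F), ∀ (y : Y) (i : Fin k),
      Φ y i = polar (⇑Q) (bX i : ι → F) (y : ι → F) :=
    ⟨LinearMap.pi (fun i => (polarBilin Q (bX i : ι → F)).comp Y.subtype),
      fun y i => by simp [polarBilin_apply_apply]⟩
  have hinj : Function.Injective Φ := by
    rw [← LinearMap.ker_eq_bot, LinearMap.ker_eq_bot']
    intro y hy
    have h1 : ∀ x ∈ X, polar (⇑Q) (y : ι → F) x = 0 := by
      intro x hx
      have hx' : x = ∑ i, (bX.repr ⟨x, hx⟩ i) • (bX i : ι → F) := by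
        have := bX.sum_repr ⟨x, hx⟩
        have h2 := congrArg (fun z : X => (z : ι → F)) this
        simp only [Submodule.coe_sum, Submodule.coe_smul] at h2
        exact h2.symm
      have hlin : polar (⇑Q) (y : ι → F) x = polarBilin Q (y : ι → F) x := rfl
      rw [hlin, hx', map_sum]
      apply Finset.sum_eq_zero
      intro i _
      rw [map_smul, polarBilin_apply_apply, polar_comm, ← hΦ, hy]
      simp
    have := h.symm.eq_zero_of_forall hQ y.2 h1
    exact Subtype.ext this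
  have hdim : finrank F Y = finrank F (Fin k → F) := by
    rw [hY, Module.finrank_fintype_fun_eq_card, Fintype.card_fin]
  obtain ⟨Φe, hΦe⟩ : ∃ Φe : Y ≃ₗ[F] (Fin k → F), ∀ y, Φe y = Φ y :=
    ⟨LinearMap.linearEquivOfInjective Φ hinj hdim, fun y => rfl⟩
  refine ⟨bX, Basis.ofEquivFun Φe, fun i j => ?_⟩
  rw [← hΦ, ← hΦe]
  have : Φe ((Basis.ofEquivFun Φe) j) = Pi.single j 1 := by
    rw [Basis.coe_ofEquivFun, LinearEquiv.apply_symm_apply]
  rw [this, Pi.single_apply]

/-- The reflection interchanging a hyperbolic pair. -/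
theorem refl_swap {e f : ι → F} (he : Q e = 0) (hf : Q f = 0) (hef : polar (⇑Q) e f = 1)
    (hv : Q (e - f) ≠ 0) :
    act (refl Q (e - f) hv) e = f ∧ act (refl Q (e - f) hv) f = e := by
  have hQv : Q (e - f) = -1 := by rw [Q_sub', he, hf, hef]; ring
  have hee : polar (⇑Q) e e = 0 := polar_self_of_singular Q he
  have hff : polar (⇑Q) f f = 0 := polar_self_of_singular Q hf
  have hfe : polar (⇑Q) f e = 1 := by rw [polar_comm]; exact hef
  have hinv : (Q (e - f))⁻¹ = -1 := by rw [hQv]; norm_num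
  constructor
  · rw [act_refl, hinv, polar_sub_left, hee, hfe]
    simp only [zero_sub, mul_neg, mul_one, neg_neg, one_smul]
    abel
  · rw [act_refl, hinv, polar_sub_left, hef, hff]
    simp only [sub_zero, mul_one, neg_smul, one_smul, sub_neg_eq_add]
    abel

theorem refl_fix {e f : ι → F} (hv : Q (e - f) ≠ 0) {x : ι → F} (hxe : polar (⇑Q) e x = 0)
    (hxf : polar (⇑Q) f x = 0) : act (refl Q (e - f) hv) x = x := by
  apply act_refl_of_polar_eq_zero
  rw [polar_sub_left, hxe, hxf, sub_zero]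

include hQ in
/-- An element of `Ω` interchanging the two members of the pair (even dimension). -/
theorem exists_swap (hn : 5 ≤ Fintype.card ι) {X Y : Submodule F (ι → F)} (h : LPair Q X Y)
    {k : ℕ} (hke : Even k) (hX : finrank F X = k) (hY : finrank F Y = k) :
    ∃ s : ↥(Cfsg.isometryGroup F ⇑Q), s ∈ Cfsg.Omega F ⇑Q ∧
      (∀ x ∈ X, act s x ∈ Y) ∧ (∀ y ∈ Y, act s y ∈ X) := by
  obtain ⟨bX, bY, hdual⟩ := exists_dual_bases hQ h hX hY
  obtain ⟨m, hm⟩ := hke
  have hQe : ∀ i, Q (bX i : ι → F) = 0 := fun i => h.tsX _ (bX i).2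
  have hQf : ∀ i, Q (bY i : ι → F) = 0 := fun i => h.tsY _ (bY i).2
  have hee : ∀ i j, polar (⇑Q) (bX i : ι → F) (bX j : ι → F) = 0 :=
    fun i j => h.polX (bX i).2 (bX j).2
  have hff : ∀ i j, polar (⇑Q) (bY i : ι → F) (bY j : ι → F) = 0 :=
    fun i j => h.polY (bY i).2 (bY j).2
  have hef1 : ∀ i, polar (⇑Q) (bX i : ι → F) (bY i : ι → F) = 1 := by
    intro i
    rw [hdual, if_pos rfl]
  have hef0 : ∀ i j, i ≠ j → polar (⇑Q) (bX i : ι → F) (bY j : ι → F) = 0 := by
    intro i j hij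
    rw [hdual, if_neg hij]
  have hfe0 : ∀ i j, i ≠ j → polar (⇑Q) (bY j : ι → F) (bX i : ι → F) = 0 := by
    intro i j hij
    rw [polar_comm, hef0 i j hij]
  have hQv : ∀ i, Q ((bX i : ι → F) - (bY i : ι → F)) = -1 := by
    intro i
    rw [Q_sub', hQe, hQf, hef1]
    ring
  have hv : ∀ i, Q ((bX i : ι → F) - (bY i : ι → F)) ≠ 0 := by
    intro i
    rw [hQv]
    exact neg_ne_zero.mpr one_ne_zero
  have key : ∀ r : ℕ, r ≤ m → ∃ s : ↥(Cfsg.isometryGroup F ⇑Q), s ∈ Cfsg.Omega F ⇑Q ∧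
      (∀ j : Fin k, j.val < 2 * r → act s (bX j : ι → F) = (bY j : ι → F) ∧
        act s (bY j : ι → F) = (bX j : ι → F)) ∧
      (∀ j : Fin k, 2 * r ≤ j.val → act s (bX j : ι → F) = (bX j : ι → F) ∧
        act s (bY j : ι → F) = (bY j : ι → F)) := by
    intro r
    induction r with
    | zero =>
      intro _
      exact ⟨1, Subgroup.one_mem _, fun j hj => absurd hj (by omega),
        fun j _ => ⟨act_one _, act_one _⟩⟩
    | succ r ih =>
      intro hr
      obtain ⟨s, hs, hlt, hge⟩ := ih (by omega)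
      obtain ⟨i₀, hi₀⟩ : ∃ i : Fin k, i = ⟨2 * r, by omega⟩ := ⟨_, rfl⟩
      obtain ⟨i₁, hi₁⟩ : ∃ i : Fin k, i = ⟨2 * r + 1, by omega⟩ := ⟨_, rfl⟩
      have hv₀ : i₀.val = 2 * r := by rw [hi₀]
      have hv₁ : i₁.val = 2 * r + 1 := by rw [hi₁]
      have h01 : i₀ ≠ i₁ := by
        intro h0
        rw [h0] at hv₀
        omega
      have hτ : refl Q _ (hv i₀) * refl Q _ (hv i₁) ∈ Cfsg.Omega F ⇑Q :=
        refl_mul_refl_mem_Omega' Q hQ hn _ _ (hv i₀) (hv i₁) (by rw [hQv, hQv])
      have fixX : ∀ i j : Fin k, i ≠ j →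
          act (refl Q _ (hv i)) (bX j : ι → F) = (bX j : ι → F) :=
        fun i j hij => refl_fix (hv i) (hee i j) (hfe0 j i (Ne.symm hij))
      have fixY : ∀ i j : Fin k, i ≠ j →
          act (refl Q _ (hv i)) (bY j : ι → F) = (bY j : ι → F) :=
        fun i j hij => refl_fix (hv i) (hef0 i j hij) (hff i j)
      have sw : ∀ i : Fin k, act (refl Q _ (hv i)) (bX i : ι → F) = (bY i : ι → F) ∧
          act (refl Q _ (hv i)) (bY i : ι → F) = (bX i : ι → F) :=
        fun i => refl_swap (hQe i) (hQf i) (hef1 i) (hv i)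
      refine ⟨refl Q _ (hv i₀) * refl Q _ (hv i₁) * s, Subgroup.mul_mem _ hτ hs, ?_, ?_⟩
      · intro j hj
        by_cases hj0 : j = i₀
        · rw [hj0, act_mul, act_mul, act_mul, act_mul, (hge i₀ (by omega)).1,
            (hge i₀ (by omega)).2, fixX i₁ i₀ (Ne.symm h01), fixY i₁ i₀ (Ne.symm h01)]
          exact sw i₀
        by_cases hj1 : j = i₁
        · rw [hj1, act_mul, act_mul, act_mul, act_mul, (hge i₁ (by omega)).1,
            (hge i₁ (by omega)).2, (sw i₁).1, (sw i₁).2, fixX i₀ i₁ h01, fixY i₀ i₁ h01]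
          exact ⟨rfl, rfl⟩
        · have hjr : j.val < 2 * r := by
            have h1 : j.val ≠ 2 * r := fun h0 => hj0 (Fin.ext (by rw [h0, hv₀]))
            have h2 : j.val ≠ 2 * r + 1 := fun h0 => hj1 (Fin.ext (by rw [h0, hv₁]))
            omega
          rw [act_mul, act_mul, act_mul, act_mul, (hlt j hjr).1, (hlt j hjr).2,
            fixY i₁ j (Ne.symm hj1), fixX i₁ j (Ne.symm hj1), fixY i₀ j (Ne.symm hj0),
            fixX i₀ j (Ne.symm hj0)]
          exact ⟨rfl, rfl⟩
      · intro j hj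
        have hj0 : j ≠ i₀ := by
          intro h0
          rw [h0, hv₀] at hj
          omega
        have hj1 : j ≠ i₁ := by
          intro h0
          rw [h0, hv₁] at hj
          omega
        rw [act_mul, act_mul, act_mul, act_mul, (hge j (by omega)).1, (hge j (by omega)).2,
          fixY i₁ j (Ne.symm hj1), fixX i₁ j (Ne.symm hj1), fixY i₀ j (Ne.symm hj0),
          fixX i₀ j (Ne.symm hj0)]
        exact ⟨rfl, rfl⟩
  obtain ⟨s, hs, hlt, -⟩ := key m le_rfl
  refine ⟨s, hs, ?_, ?_⟩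
  · intro x hx
    have hx' : x = ∑ i, (bX.repr ⟨x, hx⟩ i) • (bX i : ι → F) := by
      have := bX.sum_repr ⟨x, hx⟩
      have h2 := congrArg (fun z : X => (z : ι → F)) this
      simp only [Submodule.coe_sum, Submodule.coe_smul] at h2
      exact h2.symm
    rw [hx', ← actEquiv_apply, map_sum]
    apply Y.sum_mem
    intro i _
    rw [map_smul, actEquiv_apply, (hlt i (by omega)).1]
    exact Y.smul_mem _ (bY i).2
  · intro y hy
    have hy' : y = ∑ i, (bY.repr ⟨y, hy⟩ i) • (bY i : ι → F) := by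
      have := bY.sum_repr ⟨y, hy⟩
      have h2 := congrArg (fun z : Y => (z : ι → F)) this
      simp only [Submodule.coe_sum, Submodule.coe_smul] at h2
      exact h2.symm
    rw [hy', ← actEquiv_apply, map_sum]
    apply X.sum_mem
    intro i _
    rw [map_smul, actEquiv_apply, (hlt i (by omega)).2]
    exact X.smul_mem _ (bX i).2

end Cfsg.Agent.Lib.Helper24.OLag
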