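import Mathlib
import Cfsg.Agent.Lib.Helper24.OLagC

set_option autoImplicit false
set_option linter.style.haveILetI false
set_option linter.unusedSimpArgs false
set_option linter.unusedSectionVars false

namespace Cfsg.Agent.Lib.Helper24.OLag

open Cfsg Cfsg.Geo Matrix QuadraticMap Module
open Cfsg.Agent.Lib.Helper19.OrthRefl Cfsg.Agent.Lib.Helper27.OrthPlane
open Cfsg.Agent.Lib.Helper19.Parity Cfsg.Agent.Lib.Helper27.OrthParab

variable {F : Type*} [Field F] [Fintype F] {ι : Type} [Fintype ι] [DecidableEq ι]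

section gen

variable {Q' : (ι → F) → F}

theorem act_injective (g : ↥(Cfsg.isometryGroup F Q')) : Function.Injective (act g) := by
  intro x y hxy
  have := congrArg (act g⁻¹) hxy
  rwa [act_inv_act, act_inv_act] at this

theorem act_eq_zero {g : ↥(Cfsg.isometryGroup F Q')} {x : ι → F} (h : act g x = 0) : x = 0 := by
  apply act_injective g
  rw [h, act_zero]

theorem map_eq_of_maps (g : ↥(Cfsg.isometryGroup F Q'))
    {W W' : Submodule F (ι → F)} (hdim : finrank F W = finrank F W')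
    (hmaps : ∀ w ∈ W, act g w ∈ W') :
    W.map (Matrix.toLin' ((g : GL ι F) : Matrix ι ι F)) = W' := by
  have hinj : Function.Injective (Matrix.toLin' ((g : GL ι F) : Matrix ι ι F)) := by
    intro x y hxy
    rw [Matrix.toLin'_apply, Matrix.toLin'_apply] at hxy
    exact act_injective g hxy
  apply Submodule.eq_of_le_of_finrank_eq
  · rintro _ ⟨w, hw, rfl⟩
    rw [Matrix.toLin'_apply]
    exact hmaps w hw
  · rw [← hdim]
    exact (LinearEquiv.finrank_eq (Submodule.equivMapOfInjective _ hinj W)).symm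

theorem mem_dstab_of_fix {D : Fin 2 → Submodule F (ι → F)} (g : ↥(Cfsg.isometryGroup F Q'))
    (h0 : ∀ w ∈ D 0, act g w ∈ D 0) (h1 : ∀ w ∈ D 1, act g w ∈ D 1) :
    (g : GL ι F) ∈ decompositionStabilizer D := by
  refine ⟨1, fun i => ?_⟩
  fin_cases i
  · exact map_eq_of_maps g rfl h0
  · exact map_eq_of_maps g rfl h1

theorem mem_dstab_of_swap {D : Fin 2 → Submodule F (ι → F)}
    (hdim : finrank F (D 0) = finrank F (D 1)) (g : ↥(Cfsg.isometryGroup F Q'))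
    (h0 : ∀ w ∈ D 0, act g w ∈ D 1) (h1 : ∀ w ∈ D 1, act g w ∈ D 0) :
    (g : GL ι F) ∈ decompositionStabilizer D := by
  refine ⟨Equiv.swap 0 1, fun i => ?_⟩
  fin_cases i
  · exact map_eq_of_maps g hdim h0
  · exact map_eq_of_maps g hdim.symm h1

theorem dstab_cases {D : Fin 2 → Submodule F (ι → F)} {g : ↥(Cfsg.isometryGroup F Q')}
    (hg : (g : GL ι F) ∈ decompositionStabilizer D) (i : Fin 2) :
    ∀ w ∈ D i, act g w ∈ D 0 ∨ act g w ∈ D 1 := by
  obtain ⟨σ, hσ⟩ := hg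
  intro w hw
  have h1 : act g w ∈ D (σ i) := by
    rw [← hσ i]
    exact ⟨w, hw, by rw [Matrix.toLin'_apply]; rfl⟩
  rcases Fin.exists_fin_two.mp ⟨σ i, rfl⟩ with h | h
  · left; rwa [← h]
  · right; rwa [← h]

theorem union_lemma {W P R : Submodule F (ι → F)} (g : ↥(Cfsg.isometryGroup F Q'))
    (h : ∀ w ∈ W, act g w ∈ P ∨ act g w ∈ R) :
    (∀ w ∈ W, act g w ∈ P) ∨ (∀ w ∈ W, act g w ∈ R) := by
  by_contra hcon
  push Not at hcon
  obtain ⟨⟨x, hx, hxP⟩, ⟨y, hy, hyQ⟩⟩ := hcon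
  have hxQ : act g x ∈ R := (h x hx).resolve_left hxP
  have hyP : act g y ∈ P := (h y hy).resolve_right hyQ
  rcases h (x + y) (W.add_mem hx hy) with h1 | h1
  · rw [act_add] at h1
    apply hxP
    have := P.sub_mem h1 hyP
    rwa [add_sub_cancel_right] at this
  · rw [act_add] at h1
    apply hyQ
    have := R.sub_mem h1 hxQ
    rwa [add_sub_cancel_left] at this

end gen

variable {Q : QuadraticForm F (ι → F)} (hQ : (polarBilin Q).Nondegenerate)

/-- Every standard totally singular line is mapped by `g` to a line meeting both `X` and `Y`. -/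
def Bad (g : ↥(Cfsg.isometryGroup F ⇑Q)) (X Y : Submodule F (ι → F)) : Prop :=
  ∀ x₀ ∈ X, ∀ y₀ ∈ Y, polar (⇑Q) x₀ y₀ = 0 →
    (∃ α β : F, ¬ (α = 0 ∧ β = 0) ∧ α • act g x₀ + β • act g y₀ ∈ Y) ∧
    (∃ α β : F, ¬ (α = 0 ∧ β = 0) ∧ α • act g x₀ + β • act g y₀ ∈ X)

theorem Bad.symm {g : ↥(Cfsg.isometryGroup F ⇑Q)} {X Y : Submodule F (ι → F)}
    (h : Bad g X Y) : Bad g Y X := by
  intro y₀ hy₀ x₀ hx₀ hyx
  have hxy : polar (⇑Q) x₀ y₀ = 0 := by rw [polar_comm]; exact hyx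
  obtain ⟨⟨α, β, hne, hm⟩, ⟨α', β', hne', hm'⟩⟩ := h x₀ hx₀ y₀ hy₀ hxy
  refine ⟨⟨β', α', fun hh => hne' ⟨hh.2, hh.1⟩, by rw [add_comm]; exact hm'⟩,
    ⟨β, α, fun hh => hne ⟨hh.2, hh.1⟩, by rw [add_comm]; exact hm⟩⟩

theorem bad_claim {g : ↥(Cfsg.isometryGroup F ⇑Q)} {X Y : Submodule F (ι → F)}
    (hL : LPair Q X Y) (hY : 4 ≤ finrank F Y) (hbad : Bad g X Y) :
    ∀ x₀ ∈ X, act g x₀ ∈ X ∨ act g x₀ ∈ Y := by
  intro x₀ hx₀
  by_contra hcon
  push Not at hcon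
  obtain ⟨hnX, hnY⟩ := hcon
  obtain ⟨p, hp, r, hr, hpr⟩ := hL.decomp (act g x₀)
  have hp0 : p ≠ 0 := by
    rintro rfl
    apply hnY
    rw [hpr, zero_add]
    exact hr
  have hr0 : r ≠ 0 := by
    rintro rfl
    apply hnX
    rw [hpr, add_zero]
    exact hp
  have hW : 3 ≤ finrank F (Y ⊓ LinearMap.ker (polarBilin Q x₀) : Submodule F (ι → F)) := by
    have := fin_cut' Y (polarBilin Q x₀)
    omega
  have hmaps : ∀ y₀ ∈ (Y ⊓ LinearMap.ker (polarBilin Q x₀) : Submodule F (ι → F)),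
      act g y₀ ∈ Submodule.span F {p, r} := by
    intro y₀ hy₀
    rw [mem_cut'] at hy₀
    obtain ⟨hy₀Y, hxy⟩ := hy₀
    obtain ⟨⟨α, β, hne, hm⟩, ⟨α', β', hne', hm'⟩⟩ := hbad x₀ hx₀ y₀ hy₀Y hxy
    obtain ⟨p', hp', r', hr', hpr'⟩ := hL.decomp (act g y₀)
    -- X-component
    have e1 : α • p + β • p' = 0 := by
      apply hL.inter (X.add_mem (X.smul_mem _ hp) (X.smul_mem _ hp'))
      have : α • p + β • p' = (α • act g x₀ + β • act g y₀) - (α • r + β • r') := by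
        rw [hpr, hpr', smul_add, smul_add]
        abel
      rw [this]
      exact Y.sub_mem hm (Y.add_mem (Y.smul_mem _ hr) (Y.smul_mem _ hr'))
    have e2 : α' • r + β' • r' = 0 := by
      apply hL.inter _ (Y.add_mem (Y.smul_mem _ hr) (Y.smul_mem _ hr'))
      have : α' • r + β' • r' = (α' • act g x₀ + β' • act g y₀) - (α' • p + β' • p') := by
        rw [hpr, hpr', smul_add, smul_add]
        abel
      rw [this]
      exact X.sub_mem hm' (X.add_mem (X.smul_mem _ hp) (X.smul_mem _ hp'))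
    have hβ : β ≠ 0 := by
      rintro rfl
      rw [zero_smul, add_zero] at e1
      rcases smul_eq_zero.mp e1 with h0 | h0
      · exact hne ⟨h0, rfl⟩
      · exact hp0 h0
    have hβ' : β' ≠ 0 := by
      rintro rfl
      rw [zero_smul, add_zero] at e2
      rcases smul_eq_zero.mp e2 with h0 | h0
      · exact hne' ⟨h0, rfl⟩
      · exact hr0 h0
    have ep : p' = (-(β⁻¹ * α)) • p := by
      have : β • p' = -(α • p) := eq_neg_of_add_eq_zero_right e1
      calc p' = β⁻¹ • (β • p') := by rw [smul_smul, inv_mul_cancel₀ hβ, one_smul]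
        _ = (-(β⁻¹ * α)) • p := by rw [this, smul_neg, smul_smul, neg_smul]
    have er : r' = (-(β'⁻¹ * α')) • r := by
      have : β' • r' = -(α' • r) := eq_neg_of_add_eq_zero_right e2
      calc r' = β'⁻¹ • (β' • r') := by rw [smul_smul, inv_mul_cancel₀ hβ', one_smul]
        _ = (-(β'⁻¹ * α')) • r := by rw [this, smul_neg, smul_smul, neg_smul]
    rw [hpr', Submodule.mem_span_pair]
    exact ⟨-(β⁻¹ * α), -(β'⁻¹ * α'), by rw [← ep, ← er]⟩
  -- dimension contradiction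
  have hinj : Function.Injective (Matrix.toLin' ((g : GL ι F) : Matrix ι ι F)) := by
    intro x y hxy
    rw [Matrix.toLin'_apply, Matrix.toLin'_apply] at hxy
    exact act_injective g hxy
  have hle : (Y ⊓ LinearMap.ker (polarBilin Q x₀) : Submodule F (ι → F)).map
      (Matrix.toLin' ((g : GL ι F) : Matrix ι ι F)) ≤ Submodule.span F {p, r} := by
    rintro _ ⟨w, hw, rfl⟩
    rw [Matrix.toLin'_apply]
    exact hmaps w hw
  have h1 := Submodule.finrank_mono hle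
  have h2 := (LinearEquiv.finrank_eq (Submodule.equivMapOfInjective _ hinj
    (Y ⊓ LinearMap.ker (polarBilin Q x₀) : Submodule F (ι → F))))
  have h3 := finrank_span_pair_le' p r
  omega

/-- A good standard pair for an element outside the stabiliser. -/
theorem exists_good_pair {g : ↥(Cfsg.isometryGroup F ⇑Q)} {X Y : Submodule F (ι → F)}
    (hL : LPair Q X Y) (hX : 4 ≤ finrank F X) (hY : 4 ≤ finrank F Y)
    (hg : ¬ ((∀ x ∈ X, act g x ∈ X) ∧ (∀ y ∈ Y, act g y ∈ Y)))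
    (hg' : ¬ ((∀ x ∈ X, act g x ∈ Y) ∧ (∀ y ∈ Y, act g y ∈ X))) :
    ∃ x₀ ∈ X, ∃ y₀ ∈ Y, polar (⇑Q) x₀ y₀ = 0 ∧
      ((∀ α β : F, α • act g x₀ + β • act g y₀ ∈ Y → α = 0 ∧ β = 0) ∨
       (∀ α β : F, α • act g x₀ + β • act g y₀ ∈ X → α = 0 ∧ β = 0)) := by
  by_contra hcon
  push Not at hcon
  have hbad : Bad g X Y := by
    intro x₀ hx₀ y₀ hy₀ hxy
    obtain ⟨⟨α, β, hm, hne⟩, ⟨α', β', hm', hne'⟩⟩ := hcon x₀ hx₀ y₀ hy₀ hxy
    exact ⟨⟨α, β, fun hh => hne hh.1 hh.2, hm⟩, ⟨α', β', fun hh => hne' hh.1 hh.2, hm'⟩⟩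
  have cA := bad_claim hL hY hbad
  have cB : ∀ y₀ ∈ Y, act g y₀ ∈ X ∨ act g y₀ ∈ Y := by
    intro y₀ hy₀
    exact (bad_claim hL.symm hX hbad.symm y₀ hy₀).symm
  -- a non-zero standard pair
  obtain ⟨x₁, hx₁, hx₁0⟩ : ∃ x ∈ X, x ≠ 0 := by
    have : X ≠ ⊥ := by
      intro h0
      rw [h0, finrank_bot] at hX
      omega
    exact Submodule.exists_mem_ne_zero_of_ne_bot this
  obtain ⟨y₁, hy₁, hy₁0⟩ : ∃ y ∈ (Y ⊓ LinearMap.ker (polarBilin Q x₁) : Submodule F (ι → F)),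
      y ≠ 0 := by
    have c1 := fin_cut' Y (polarBilin Q x₁)
    have : (Y ⊓ LinearMap.ker (polarBilin Q x₁) : Submodule F (ι → F)) ≠ ⊥ := by
      intro h0
      rw [h0, finrank_bot] at c1
      omega
    exact Submodule.exists_mem_ne_zero_of_ne_bot this
  rw [mem_cut'] at hy₁
  obtain ⟨hy₁Y, hxy₁⟩ := hy₁
  obtain ⟨⟨α, β, hne, hm⟩, ⟨α', β', hne', hm'⟩⟩ := hbad x₁ hx₁ y₁ hy₁Y hxy₁
  have hzero : ∀ a b : F, a • act g x₁ + b • act g y₁ = 0 → a = 0 ∧ b = 0 := by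
    intro a b h0
    have h1 : act g (a • x₁ + b • y₁) = 0 := by rw [act_add, act_smul, act_smul]; exact h0
    have h2 := act_eq_zero h1
    have h3 : a • x₁ = -(b • y₁) := eq_neg_of_add_eq_zero_left h2
    have h4 : a • x₁ = 0 :=
      hL.inter (X.smul_mem _ hx₁) (by rw [h3]; exact Y.neg_mem (Y.smul_mem _ hy₁Y))
    have h5 : b • y₁ = 0 := by
      rw [h4] at h3
      exact neg_eq_zero.mp h3.symm
    exact ⟨(smul_eq_zero.mp h4).resolve_right hx₁0, (smul_eq_zero.mp h5).resolve_right hy₁0⟩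
  rcases union_lemma g cA with u0 | u0 <;> rcases union_lemma g cB with u1 | u1
  · -- both into X
    have hmX : α • act g x₁ + β • act g y₁ ∈ X :=
      X.add_mem (X.smul_mem _ (u0 x₁ hx₁)) (X.smul_mem _ (u1 y₁ hy₁Y))
    exact hne (hzero α β (hL.inter hmX hm))
  · exact hg ⟨u0, u1⟩
  · exact hg' ⟨u0, u1⟩
  · have hmY : α' • act g x₁ + β' • act g y₁ ∈ Y :=
      Y.add_mem (Y.smul_mem _ (u0 x₁ hx₁)) (Y.smul_mem _ (u1 y₁ hy₁Y))
    exact hne' (hzero α' β' (hL.inter hm' hmY))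

end Cfsg.Agent.Lib.Helper24.OLag
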