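import Mathlib
import Cfsg.Agent.Lib.Helper24.OLagD

set_option autoImplicit false
set_option linter.style.haveILetI false
set_option linter.unusedSimpArgs false
set_option linter.unusedSectionVars false

namespace Cfsg.Agent.Lib.Helper24.OLag

open Cfsg Cfsg.Geo Matrix QuadraticMap Module
open Cfsg.Agent.Lib.Helper19.OrthRefl Cfsg.Agent.Lib.Helper27.OrthPlane
open Cfsg.Agent.Lib.Helper19.Parity Cfsg.Agent.Lib.Helper27.OrthParab

variable {F : Type*} [Field F] [Fintype F] {ι : Type} [Fintype ι] [DecidableEq ι]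

theorem main (Q : QuadraticForm F (ι → F)) (hQ : (polarBilin Q).Nondegenerate)
    (hn : 13 ≤ Fintype.card ι) (k : ℕ) (hk : 2 * k = Fintype.card ι) (hke : Even k)
    (D : Fin 2 → Submodule F (ι → F)) (hD : IsMDecomposition k D)
    (hts : ∀ i, IsTotallySingularQuad (⇑Q) (D i)) :
    IsMaximalIn (omegaGL (⇑Q)) (decompositionStabilizer D ⊓ omegaGL (⇑Q)) := by
  classical
  have hr0 := hD.finrank_eq 0
  have hr1 := hD.finrank_eq 1
  have hk7 : 7 ≤ k := by omega
  have hdisj : D 0 ⊓ D 1 = ⊥ :=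
    disjoint_iff.mp (hD.indep.pairwiseDisjoint (by decide : (0 : Fin 2) ≠ 1))
  have hsup : D 0 ⊔ D 1 = ⊤ := by
    rw [eq_top_iff, ← hD.iSup_eq_top]
    apply iSup_le
    intro i
    fin_cases i
    · exact le_sup_left
    · exact le_sup_right
  have hLP : LPair Q (D 0) (D 1) := ⟨hts 0, hts 1, hdisj, hsup⟩
  have hStd : ∀ x ∈ D 0, ∀ y ∈ D 1, polar (⇑Q) x y = 0 →
      ((sgl Q hQ x y : ↥(Cfsg.isometryGroup F ⇑Q)) : GL ι F) ∈
        decompositionStabilizer D ⊓ omegaGL (⇑Q) := by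
    intro x hx y hy hxy
    refine ⟨?_, mem_omegaGL_of_mem_Omega _ (sgl_mem_Omega Q hQ (by omega) x y)⟩
    apply mem_dstab_of_fix
    · intro w hw
      rw [act_sgl Q hQ (hts 0 x hx) hxy (hts 1 y hy), hLP.polX hx hw, zero_smul, sub_zero]
      exact (D 0).add_mem hw ((D 0).smul_mem _ hx)
    · intro w hw
      rw [act_sgl Q hQ (hts 0 x hx) hxy (hts 1 y hy), hLP.polY hy hw, zero_smul, add_zero]
      exact (D 1).sub_mem hw ((D 1).smul_mem _ hy)
  refine ⟨lt_of_le_of_ne inf_le_right ?_, ?_⟩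
  · -- proper
    intro htop
    obtain ⟨x, hx, hx0⟩ : ∃ x ∈ D 0, x ≠ 0 := by
      have : D 0 ≠ ⊥ := by
        intro h0
        rw [h0, finrank_bot] at hr0
        omega
      exact Submodule.exists_mem_ne_zero_of_ne_bot this
    obtain ⟨x', hx', hx'n⟩ : ∃ x' ∈ D 0, x' ∉ Submodule.span F {x} := by
      have hlt : ¬ D 0 ≤ Submodule.span F {x} := by
        intro hle
        have := Submodule.finrank_mono hle
        rw [finrank_span_singleton hx0] at this
        omega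
      exact SetLike.not_le_iff_exists.mp hlt
    obtain ⟨y, hy, hxy⟩ := hLP.exists_pair hQ hx hx0
    have hxx' : polar (⇑Q) x x' = 0 := hLP.polX hx hx'
    have hA : ((sgl Q hQ x x' : ↥(Cfsg.isometryGroup F ⇑Q)) : GL ι F) ∈
        decompositionStabilizer D := by
      have h1 : ((sgl Q hQ x x' : ↥(Cfsg.isometryGroup F ⇑Q)) : GL ι F) ∈ omegaGL (⇑Q) :=
        mem_omegaGL_of_mem_Omega _ (sgl_mem_Omega Q hQ (by omega) x x')
      rw [← htop] at h1
      exact h1.1
    have e : act (sgl Q hQ x x') y = y + polar (⇑Q) x' y • x - polar (⇑Q) x y • x' :=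
      act_sgl Q hQ (hts 0 x hx) hxx' (hts 0 x' hx') y
    have hz : polar (⇑Q) x' y • x - polar (⇑Q) x y • x' ≠ 0 := by
      intro h0
      apply hx'n
      rw [Submodule.mem_span_singleton]
      refine ⟨(polar (⇑Q) x y)⁻¹ * polar (⇑Q) x' y, ?_⟩
      rw [← smul_smul, sub_eq_zero.mp h0, smul_smul, inv_mul_cancel₀ hxy, one_smul]
    have hzX : polar (⇑Q) x' y • x - polar (⇑Q) x y • x' ∈ D 0 :=
      (D 0).sub_mem ((D 0).smul_mem _ hx) ((D 0).smul_mem _ hx')
    have hy0 : y ≠ 0 := by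
      rintro rfl
      rw [polar_zero_right] at hxy
      exact hxy rfl
    rcases dstab_cases hA 1 y hy with h | h
    · rw [e, add_sub_assoc] at h
      have : y ∈ D 0 := by
        have := (D 0).sub_mem h hzX
        rwa [add_sub_cancel_right] at this
      exact hy0 (hLP.inter this hy)
    · rw [e, add_sub_assoc] at h
      have : polar (⇑Q) x' y • x - polar (⇑Q) x y • x' ∈ D 1 := by
        have := (D 1).sub_mem h hy
        rwa [add_sub_cancel_left] at this
      exact hz (hLP.inter hzX this)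
  · -- maximal
    intro M hKM hMtop
    by_cases hMK : M = decompositionStabilizer D ⊓ omegaGL (⇑Q)
    · exact Or.inl hMK
    right
    obtain ⟨g₀, hg₀M, hg₀K⟩ : ∃ g ∈ M, g ∉ decompositionStabilizer D := by
      by_contra hcon
      push Not at hcon
      exact hMK (le_antisymm (fun g hg => ⟨hcon g hg, hMtop hg⟩) hKM)
    obtain ⟨g, hgΩ, rfl⟩ := Subgroup.mem_map.mp (hMtop hg₀M)
    obtain ⟨N, hNdef⟩ : ∃ N : Subgroup ↥(Cfsg.isometryGroup F ⇑Q),
        N = M.comap (Cfsg.isometryGroup F ⇑Q).subtype := ⟨_, rfl⟩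
    have memN : ∀ a : ↥(Cfsg.isometryGroup F ⇑Q), a ∈ N ↔ (a : GL ι F) ∈ M := by
      intro a
      rw [hNdef, Subgroup.mem_comap]
      rfl
    have hgN : g ∈ N := (memN g).mpr hg₀M
    have hStdN : Std hQ N (D 0) (D 1) :=
      fun x hx y hy hxy => (memN _).mpr (hKM (hStd x hx y hy hxy))
    have hStdN' : Std hQ N (D 1) (D 0) := hStdN.symm hQ hLP
    -- swap
    obtain ⟨s, hsΩ, hs0, hs1⟩ := exists_swap hQ (by omega) hLP hke hr0 hr1
    have hsM : (s : GL ι F) ∈ M :=
      hKM ⟨mem_dstab_of_swap (by rw [hr0, hr1]) s hs0 hs1, mem_omegaGL_of_mem_Omega s hsΩ⟩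
    have hsinvM : ((s⁻¹ : ↥(Cfsg.isometryGroup F ⇑Q)) : GL ι F) ∈ M := by
      rw [Subgroup.coe_inv]
      exact M.inv_mem hsM
    have toCenters : ∀ {P : Submodule F (ι → F)}, (∀ p ∈ P, Q p = 0) →
        (∀ x' ∈ P, ∀ u : ι → F, polar (⇑Q) x' u = 0 → sgl Q hQ x' u ∈ N) →
        ∀ p ∈ P, p ∈ Centers Q hQ M := by
      intro P hP hall p hp
      refine ⟨hP p hp, fun u hp' hpu => ?_⟩
      have := hall p hp u hpu
      rw [sgl_eq Q hQ hp' hpu] at this
      exact (memN _).mp this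
    have transfer : ∀ {P R : Submodule F (ι → F)}, (∀ x ∈ R, act s x ∈ P) →
        (∀ p ∈ P, p ∈ Centers Q hQ M) → ∀ y ∈ R, y ∈ Centers Q hQ M := by
      intro P R hRP hP y hy
      have h1 := centers_act Q hQ M (hP _ (hRP y hy)) s⁻¹ hsinvM
      rwa [act_inv_act] at h1
    have hfin : (∀ p ∈ D 0, p ∈ Centers Q hQ M) → (∀ p ∈ D 1, p ∈ Centers Q hQ M) →
        M = omegaGL (⇑Q) := by
      intro hCX hCY
      obtain ⟨x, hx, hx0⟩ : ∃ x ∈ D 0, x ≠ 0 := by
        have : D 0 ≠ ⊥ := by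
          intro h0
          rw [h0, finrank_bot] at hr0
          omega
        exact Submodule.exists_mem_ne_zero_of_ne_bot this
      obtain ⟨y, hy, hxy⟩ := hLP.exists_pair hQ hx hx0
      apply eq_omega_of_centers Q hQ (by omega) M hMtop
      intro z hz
      exact centers_all Q hQ (by omega) M (hCX x hx) (hCY y hy) hxy z hz
    have hg1 : ¬ ((∀ x ∈ D 0, act g x ∈ D 0) ∧ (∀ y ∈ D 1, act g y ∈ D 1)) :=
      fun h => hg₀K (mem_dstab_of_fix g h.1 h.2)
    have hg2 : ¬ ((∀ x ∈ D 0, act g x ∈ D 1) ∧ (∀ y ∈ D 1, act g y ∈ D 0)) :=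
      fun h => hg₀K (mem_dstab_of_swap (by rw [hr0, hr1]) g h.1 h.2)
    obtain ⟨x₀, hx₀, y₀, hy₀, hxy₀, hcase⟩ :=
      exists_good_pair hLP (by omega) (by omega) hg1 hg2
    have hyx₀ : polar (⇑Q) y₀ x₀ = 0 := by rw [polar_comm]; exact hxy₀
    have hQx₀ := hts 0 x₀ hx₀
    have hQy₀ := hts 1 y₀ hy₀
    rcases hcase with hNY | hNX
    · have hfam : ∀ t : F, sgl Q hQ (act g x₀) (t • act g y₀) ∈ N := by
        intro t
        have h1 : sgl Q hQ x₀ (t • y₀) ∈ N :=
          hStdN x₀ hx₀ _ ((D 1).smul_mem t hy₀) (by rw [polar_smul_right, hxy₀, smul_zero])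
        have h2 := N.mul_mem (N.mul_mem hgN h1) (N.inv_mem hgN)
        rwa [conj_sgl Q hQ g hQx₀ (by rw [polar_smul_right, hxy₀, smul_zero]), act_smul] at h2
      obtain ⟨x, hxX, hx0, x₁, hx₁, hni, hP⟩ := exists_root hQ hLP (by omega) hStdN
        (by rw [Q_act g]; exact hQx₀) (by rw [Q_act g]; exact hQy₀)
        (by rw [polar_act g]; exact hxy₀) hNY hfam
      have hall := all_centers_X hQ hLP (by omega) hStdN hxX hx0 hx₁ hni hP
      have hCX := toCenters (hts 0) hall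
      exact hfin hCX (transfer hs1 hCX)
    · have hfam : ∀ t : F, sgl Q hQ (act g y₀) (t • act g x₀) ∈ N := by
        intro t
        have h1 : sgl Q hQ y₀ (t • x₀) ∈ N :=
          hStdN' y₀ hy₀ _ ((D 0).smul_mem t hx₀) (by rw [polar_smul_right, hyx₀, smul_zero])
        have h2 := N.mul_mem (N.mul_mem hgN h1) (N.inv_mem hgN)
        rwa [conj_sgl Q hQ g hQy₀ (by rw [polar_smul_right, hyx₀, smul_zero]), act_smul] at h2
      have hNX' : ∀ α β : F, α • act g y₀ + β • act g x₀ ∈ D 0 → α = 0 ∧ β = 0 := by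
        intro α β hm
        rw [add_comm] at hm
        exact (hNX β α hm).symm
      obtain ⟨x, hxX, hx0, x₁, hx₁, hni, hP⟩ := exists_root hQ hLP.symm (by omega) hStdN'
        (by rw [Q_act g]; exact hQy₀) (by rw [Q_act g]; exact hQx₀)
        (by rw [polar_act g]; exact hyx₀) hNX' hfam
      have hall := all_centers_X hQ hLP.symm (by omega) hStdN' hxX hx0 hx₁ hni hP
      have hCY := toCenters (hts 1) hall
      exact hfin (transfer hs0 hCY) hCY

end Cfsg.Agent.Lib.Helper24.OLag
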