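import Mathlib
import Cfsg.Agent.S5642
import Cfsg.Agent.Lib.Helper19.QuadWitt

set_option autoImplicit false
set_option linter.style.haveILetI false

namespace Cfsg.Agent.Lib.Helper24.OSim

open Matrix Module Cfsg.Agent.S0772

variable {F : Type*} [Field F] {n : ℕ}

/-- Symmetric non-degenerate bilinear form on `F^n`. -/
structure SF (B : LinearMap.BilinForm F (Fin n → F)) : Prop where
  symm : ∀ x y, B x y = B y x
  nd : ∀ v, v ≠ 0 → ∃ x, B v x ≠ 0

theorem SF.nondeg {B : LinearMap.BilinForm F (Fin n → F)} (h : SF B) : B.Nondegenerate := by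
  constructor
  · intro m hm
    by_contra h0
    obtain ⟨x, hx⟩ := h.nd m h0
    exact hx (hm x)
  · intro m hm
    by_contra h0
    obtain ⟨x, hx⟩ := h.nd m h0
    apply hx
    rw [h.symm]
    exact hm x

theorem exists_aniso {B : LinearMap.BilinForm F (Fin n → F)} (hB : SF B) (h2 : (2 : F) ≠ 0)
    (Z : Submodule F (Fin n → F)) (hZ : n < 2 * finrank F Z) : ∃ z ∈ Z, B z z ≠ 0 := by
  by_contra hcon
  push Not at hcon
  have h0 : ∀ z ∈ Z, ∀ z' ∈ Z, B z z' = 0 := by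
    intro z hz z' hz'
    have h1 := hcon (z + z') (Z.add_mem hz hz')
    have h2' := hcon z hz
    have h3 := hcon z' hz'
    have h4 : B z' z = B z z' := hB.symm z' z
    simp only [map_add, LinearMap.add_apply] at h1
    rw [h2', h3, h4] at h1
    have : (2 : F) * B z z' = 0 := by linear_combination h1
    rcases mul_eq_zero.mp this with h | h
    · exact absurd h h2
    · exact h
  have hle : Z ≤ B.orthogonal Z := by
    intro z hz
    rw [LinearMap.BilinForm.mem_orthogonal_iff]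
    intro z' hz'
    exact h0 z' hz' z hz
  have h5 := Submodule.finrank_mono hle
  rw [LinearMap.BilinForm.finrank_orthogonal hB.nondeg] at h5
  rw [Module.finrank_fintype_fun_eq_card, Fintype.card_fin] at h5
  omega

theorem fin_cut (Z : Submodule F (Fin n → F)) (φ : (Fin n → F) →ₗ[F] F) :
    finrank F Z ≤ finrank F (Z ⊓ LinearMap.ker φ : Submodule F (Fin n → F)) + 1 := by
  have h1 := Submodule.finrank_sup_add_finrank_inf_eq Z (LinearMap.ker φ)
  have h2 := LinearMap.finrank_range_add_finrank_ker φ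
  have h3 : finrank F (LinearMap.range φ) ≤ 1 := by
    have := Submodule.finrank_le (LinearMap.range φ)
    rwa [finrank_self] at this
  have h4 : finrank F (Z ⊔ LinearMap.ker φ : Submodule F (Fin n → F)) ≤
      finrank F (Fin n → F) := Submodule.finrank_le _
  omega

theorem finrank_top' : finrank F (⊤ : Submodule F (Fin n → F)) = n := by
  rw [finrank_top, Module.finrank_fintype_fun_eq_card, Fintype.card_fin]

theorem mem_cut {Z : Submodule F (Fin n → F)} {φ : (Fin n → F) →ₗ[F] F} {x : Fin n → F} :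
    x ∈ (Z ⊓ LinearMap.ker φ : Submodule F (Fin n → F)) ↔ x ∈ Z ∧ φ x = 0 := by
  rw [Submodule.mem_inf, LinearMap.mem_ker]


theorem exists_both_ne {B : LinearMap.BilinForm F (Fin n → F)} (hB : SF B)
    {x a : Fin n → F} (hx : x ≠ 0) (ha : a ≠ 0) : ∃ b, B x b ≠ 0 ∧ B a b ≠ 0 := by
  obtain ⟨b₁, hb₁⟩ := hB.nd x hx
  obtain ⟨b₂, hb₂⟩ := hB.nd a ha
  by_cases h1 : B a b₁ = 0
  · by_cases h2 : B x b₂ = 0
    · refine ⟨b₁ + b₂, ?_, ?_⟩
      · rw [map_add, h2, add_zero]; exact hb₁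
      · rw [map_add, h1, zero_add]; exact hb₂
    · exact ⟨b₂, h2, hb₂⟩
  · exact ⟨b₁, hb₁, h1⟩

theorem exists_sep {B₁ B₂ : LinearMap.BilinForm F (Fin n → F)} (hB₁ : SF B₁) (hB₂ : SF B₂)
    (hn : 1 ≤ n) (hne : ∀ c : F, ∃ u v, B₂ u v ≠ c * B₁ u v) :
    ∃ x a, B₁ x a = 0 ∧ B₂ x a ≠ 0 := by
  by_contra hcon
  push Not at hcon
  have key1 : ∀ x : Fin n → F, x ≠ 0 → ∃ c : F, ∀ a, B₂ x a = c * B₁ x a := by
    intro x hx
    obtain ⟨a₀, ha₀⟩ := hB₁.nd x hx
    refine ⟨B₂ x a₀ / B₁ x a₀, fun a => ?_⟩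
    have h1 : B₁ x (a - (B₁ x a / B₁ x a₀) • a₀) = 0 := by
      rw [map_sub, map_smul, smul_eq_mul]
      field_simp
      ring
    have h2 := hcon _ _ h1
    rw [map_sub, map_smul, smul_eq_mul] at h2
    field_simp
    field_simp at h2
    linear_combination h2
  have key2 : ∀ (x a : Fin n → F) (c d : F), (∀ b, B₂ x b = c * B₁ x b) →
      (∀ b, B₂ a b = d * B₁ a b) → B₁ x a ≠ 0 → c = d := by
    intro x a c d hc hd hxa
    have h1 := hc a
    have h2 := hd x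
    rw [hB₂.symm a x, hB₁.symm a x] at h2
    have : (c - d) * B₁ x a = 0 := by linear_combination h2 - h1
    rcases mul_eq_zero.mp this with h | h
    · exact sub_eq_zero.mp h
    · exact absurd h hxa
  have hx₀ : ∃ x₀ : Fin n → F, x₀ ≠ 0 := by
    refine ⟨fun _ => 1, fun h => ?_⟩
    have := congrFun h ⟨0, by omega⟩
    simp at this
  obtain ⟨x₀, hx₀⟩ := hx₀
  obtain ⟨c₀, hc₀⟩ := key1 x₀ hx₀
  obtain ⟨u, v, huv⟩ := hne c₀
  apply huv
  by_cases hu : u = 0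
  · rw [hu]; simp
  obtain ⟨d, hd⟩ := key1 u hu
  obtain ⟨b, hb1, hb2⟩ := exists_both_ne hB₁ hx₀ hu
  have hb0 : b ≠ 0 := by
    intro h
    rw [h] at hb1
    simp at hb1
  obtain ⟨e, he⟩ := key1 b hb0
  have e1 : c₀ = e := key2 x₀ b c₀ e hc₀ he hb1
  have e2 : d = e := key2 u b d e hd he hb2
  rw [hd v, e2, ← e1]

theorem exists_pair {B₁ B₂ : LinearMap.BilinForm F (Fin n → F)} (hB₁ : SF B₁) (hB₂ : SF B₂)
    (h2 : (2 : F) ≠ 0) (hn : 13 ≤ n) (hne : ∀ c : F, ∃ u v, B₂ u v ≠ c * B₁ u v) :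
    ∃ x a, B₂ x x ≠ 0 ∧ B₁ a a ≠ 0 ∧ B₁ a x = 0 ∧ B₂ a x ≠ 0 := by
  obtain ⟨x₀, a₀, h1, h2'⟩ := exists_sep hB₁ hB₂ (by omega) hne
  -- adjust a
  have hA : ∃ a, B₁ a a ≠ 0 ∧ B₁ a x₀ = 0 ∧ B₂ a x₀ ≠ 0 := by
    by_cases ha : B₁ a₀ a₀ = 0
    · have hd : n < 2 * finrank F (((⊤ : Submodule F (Fin n → F)) ⊓ LinearMap.ker (B₁ x₀)
          ⊓ LinearMap.ker (B₂ x₀) ⊓ LinearMap.ker (B₁ a₀) : Submodule F (Fin n → F))) := by
        have e1 := fin_cut (⊤ : Submodule F (Fin n → F)) (B₁ x₀)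
        have e2 := fin_cut ((⊤ : Submodule F (Fin n → F)) ⊓ LinearMap.ker (B₁ x₀)) (B₂ x₀)
        have e3 := fin_cut ((⊤ : Submodule F (Fin n → F)) ⊓ LinearMap.ker (B₁ x₀)
          ⊓ LinearMap.ker (B₂ x₀)) (B₁ a₀)
        rw [finrank_top'] at e1
        omega
      obtain ⟨k, hk, hkk⟩ := exists_aniso hB₁ h2 _ hd
      rw [mem_cut, mem_cut, mem_cut] at hk
      obtain ⟨⟨⟨-, k1⟩, k2⟩, k3⟩ := hk
      refine ⟨a₀ + k, ?_, ?_, ?_⟩
      · simp only [map_add, LinearMap.add_apply]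
        rw [ha, k3, hB₁.symm k a₀, k3]
        simpa using hkk
      · simp only [map_add, LinearMap.add_apply]
        rw [hB₁.symm a₀ x₀, h1, hB₁.symm k x₀, k1, add_zero]
      · simp only [map_add, LinearMap.add_apply]
        rw [hB₂.symm k x₀, k2, add_zero, hB₂.symm a₀ x₀]
        exact h2'
    · exact ⟨a₀, ha, by rw [hB₁.symm]; exact h1, by rw [hB₂.symm]; exact h2'⟩
  obtain ⟨a, ha, hax, hax2⟩ := hA
  by_cases hx : B₂ x₀ x₀ = 0
  · have hd : n < 2 * finrank F (((⊤ : Submodule F (Fin n → F)) ⊓ LinearMap.ker (B₁ a)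
        ⊓ LinearMap.ker (B₂ a) ⊓ LinearMap.ker (B₂ x₀) : Submodule F (Fin n → F))) := by
      have e1 := fin_cut (⊤ : Submodule F (Fin n → F)) (B₁ a)
      have e2 := fin_cut ((⊤ : Submodule F (Fin n → F)) ⊓ LinearMap.ker (B₁ a)) (B₂ a)
      have e3 := fin_cut ((⊤ : Submodule F (Fin n → F)) ⊓ LinearMap.ker (B₁ a)
        ⊓ LinearMap.ker (B₂ a)) (B₂ x₀)
      rw [finrank_top'] at e1
      omega
    obtain ⟨k, hk, hkk⟩ := exists_aniso hB₂ h2 _ hd
    rw [mem_cut, mem_cut, mem_cut] at hk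
    obtain ⟨⟨⟨-, k1⟩, k2⟩, k3⟩ := hk
    refine ⟨x₀ + k, a, ?_, ha, ?_, ?_⟩
    · simp only [map_add, LinearMap.add_apply]
      rw [hx, k3, hB₂.symm k x₀, k3]
      simpa using hkk
    · rw [map_add, hax, k1, add_zero]
    · rw [map_add, k2, add_zero]
      exact hax2
  · exact ⟨x₀, a, hx, ha, hax, hax2⟩

end Cfsg.Agent.Lib.Helper24.OSim
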