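import Mathlib
import Cfsg.Agent.Lib.Helper24.OSimA

set_option autoImplicit false
set_option linter.style.haveILetI false

namespace Cfsg.Agent.Lib.Helper24.OSim

open Matrix Module Cfsg.Agent.S0772

variable {F : Type*} [Field F] {n : ℕ}

/-- The vector representing the functional `v ↦ B v x`. -/
def bv (B : LinearMap.BilinForm F (Fin n → F)) (x : Fin n → F) : Fin n → F :=
  fun j => B (Pi.single j 1) x

theorem bv_dot (B : LinearMap.BilinForm F (Fin n → F)) (x v : Fin n → F) :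
    bv B x ⬝ᵥ v = B v x := by
  have hv : v = ∑ j, v j • (Pi.single j 1 : Fin n → F) := by
    ext i
    simp [Finset.sum_apply, Pi.single_apply]
  conv_rhs => rw [hv]
  rw [map_sum, LinearMap.sum_apply]
  simp only [map_smul, LinearMap.smul_apply, smul_eq_mul, dotProduct, bv]
  exact Finset.sum_congr rfl fun j _ => mul_comm _ _

theorem bv_add (B : LinearMap.BilinForm F (Fin n → F)) (x y : Fin n → F) :
    bv B (x + y) = bv B x + bv B y := by
  ext j
  simp [bv]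

theorem bv_smul (B : LinearMap.BilinForm F (Fin n → F)) (c : F) (x : Fin n → F) :
    bv B (c • x) = c • bv B x := by
  ext j
  simp [bv]

theorem bv_neg (B : LinearMap.BilinForm F (Fin n → F)) (x : Fin n → F) :
    bv B (-x) = - bv B x := by
  ext j
  simp [bv]

theorem bv_zero (B : LinearMap.BilinForm F (Fin n → F)) : bv B 0 = 0 := by
  ext j
  simp [bv]

/-- The reflection in `x`. -/
def Rm (B : LinearMap.BilinForm F (Fin n → F)) (x : Fin n → F) : Matrix (Fin n) (Fin n) F :=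
  Tm (-(2 / B x x) • x) (bv B x)

theorem Rm_mulVec (B : LinearMap.BilinForm F (Fin n → F)) (x v : Fin n → F) :
    Rm B x *ᵥ v = v - (2 * B v x / B x x) • x := by
  unfold Rm
  rw [Tm_mulVec, bv_dot, smul_smul, sub_eq_add_neg, ← neg_smul]
  congr 2
  ring

theorem det_Rm {B : LinearMap.BilinForm F (Fin n → F)} {x : Fin n → F} (hx : B x x ≠ 0) :
    (Rm B x).det = -1 := by
  unfold Rm
  rw [det_Tm, dotProduct_smul, bv_dot, smul_eq_mul]
  field_simp
  ring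

theorem Rm_mul_self {B : LinearMap.BilinForm F (Fin n → F)} {x : Fin n → F} (hx : B x x ≠ 0) :
    Rm B x * Rm B x = 1 := by
  rw [Matrix.ext_iff_mulVec]
  intro v
  rw [← Matrix.mulVec_mulVec, Rm_mulVec, Rm_mulVec, Matrix.one_mulVec]
  simp only [map_sub, map_smul, LinearMap.sub_apply, LinearMap.smul_apply, smul_eq_mul]
  rw [sub_sub, ← add_smul]
  have : 2 * B v x / B x x + 2 * (B v x - 2 * B v x / B x x * B x x) / B x x = 0 := by
    field_simp
    ring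
  rw [this, zero_smul, sub_zero]

theorem Rm_iso {B : LinearMap.BilinForm F (Fin n → F)} (hB : SF B) {x : Fin n → F}
    (hx : B x x ≠ 0) (u v : Fin n → F) : B (Rm B x *ᵥ u) (Rm B x *ᵥ v) = B u v := by
  rw [Rm_mulVec, Rm_mulVec]
  simp only [map_sub, map_smul, LinearMap.sub_apply, LinearMap.smul_apply, smul_eq_mul]
  rw [hB.symm x v]
  field_simp
  ring

theorem Rm_comm {B₁ B₂ : LinearMap.BilinForm F (Fin n → F)} (hB₁ : SF B₁)
    {a y : Fin n → F} (h1 : B₁ a y = 0) (h2 : B₂ a y = 0) :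
    Rm B₁ a * Rm B₂ y = Rm B₂ y * Rm B₁ a := by
  rw [Matrix.ext_iff_mulVec]
  intro v
  rw [← Matrix.mulVec_mulVec, ← Matrix.mulVec_mulVec, Rm_mulVec, Rm_mulVec, Rm_mulVec, Rm_mulVec]
  simp only [map_sub, map_smul, LinearMap.sub_apply, LinearMap.smul_apply, smul_eq_mul]
  rw [hB₁.symm y a, h1, h2, mul_zero, mul_zero, sub_zero, sub_zero]
  abel

theorem Rm_comm_formula {B₁ B₂ : LinearMap.BilinForm F (Fin n → F)} (hB₁ : SF B₁)
    {a x : Fin n → F} (ha : B₁ a a ≠ 0) (hx : B₂ x x ≠ 0) (h1 : B₁ a x = 0) :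
    Rm B₂ x * Rm B₁ a * (Rm B₂ x * Rm B₁ a) =
      Tm x ((-(4 * B₂ a x / (B₂ x x * B₁ a a))) • bv B₁ a) := by
  rw [Matrix.ext_iff_mulVec]
  intro v
  rw [← Matrix.mulVec_mulVec, ← Matrix.mulVec_mulVec, ← Matrix.mulVec_mulVec, Tm_mulVec,
    smul_dotProduct, bv_dot, Rm_mulVec B₁ a v, Rm_mulVec B₂ x, Rm_mulVec B₁ a, Rm_mulVec B₂ x]
  simp only [map_sub, map_smul, LinearMap.sub_apply, LinearMap.smul_apply, smul_eq_mul]
  rw [hB₁.symm x a, h1]
  simp only [mul_zero, sub_zero]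
  have e : ∀ (p q r s : F), v - p • a - q • x - r • a - s • x = v - (p + r) • a - (q + s) • x := by
    intro p q r s
    rw [add_smul, add_smul]
    abel
  rw [e]
  have e1 : 2 * B₁ v a / B₁ a a + 2 * (B₁ v a - 2 * B₁ v a / B₁ a a * B₁ a a) / B₁ a a = 0 := by
    field_simp
    ring
  rw [e1, zero_smul, sub_zero, sub_eq_add_neg, ← neg_smul]
  congr 2
  field_simp
  ring


/-- The reflection as an element of `GL`. -/
noncomputable def rho (B : LinearMap.BilinForm F (Fin n → F)) (x : Fin n → F) (hx : B x x ≠ 0) :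
    GL (Fin n) F :=
  Matrix.GeneralLinearGroup.mkOfDetNeZero (Rm B x) (by rw [det_Rm hx]; simp)

theorem rho_coe (B : LinearMap.BilinForm F (Fin n → F)) (x : Fin n → F) (hx : B x x ≠ 0) :
    ((rho B x hx : GL (Fin n) F) : Matrix (Fin n) (Fin n) F) = Rm B x := rfl

theorem rho_mul_self (B : LinearMap.BilinForm F (Fin n → F)) (x : Fin n → F) (hx : B x x ≠ 0) :
    rho B x hx * rho B x hx = 1 := by
  apply Units.ext
  rw [Units.val_mul, rho_coe, Rm_mul_self hx, Units.val_one]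

theorem rho_inv (B : LinearMap.BilinForm F (Fin n → F)) (x : Fin n → F) (hx : B x x ≠ 0) :
    (rho B x hx)⁻¹ = rho B x hx := inv_eq_of_mul_eq_one_left (rho_mul_self B x hx)

theorem rho_comm {B₁ B₂ : LinearMap.BilinForm F (Fin n → F)} (hB₁ : SF B₁)
    {a y : Fin n → F} (ha : B₁ a a ≠ 0) (hy : B₂ y y ≠ 0) (h1 : B₁ a y = 0) (h2 : B₂ a y = 0) :
    Commute (rho B₁ a ha) (rho B₂ y hy) := by
  apply Units.ext
  rw [Units.val_mul, Units.val_mul, rho_coe, rho_coe]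
  exact Rm_comm hB₁ h1 h2

/-- `M` contains all products of two reflections of `B`. -/
def Good (M : Subgroup (GL (Fin n) F)) (B : LinearMap.BilinForm F (Fin n → F)) : Prop :=
  ∀ x y, B x x ≠ 0 → B y y ≠ 0 → InK M (Rm B x * Rm B y)

theorem Good.mem {M : Subgroup (GL (Fin n) F)} {B : LinearMap.BilinForm F (Fin n → F)}
    (h : Good M B) {x y : Fin n → F} (hx : B x x ≠ 0) (hy : B y y ≠ 0) :
    rho B x hx * rho B y hy ∈ M :=
  h x y hx hy _ (by rw [Units.val_mul, rho_coe, rho_coe])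

theorem grp_aux {G : Type*} [Group G] (Y2 X2 A B : G) (hY2 : Y2 * Y2 = 1) (hX2 : X2 * X2 = 1)
    (hA : A * A = 1) (hB : B * B = 1) (c3 : Commute A Y2) (c6 : Commute B Y2)
    (c7 : Commute B X2) :
    (Y2 * X2)⁻¹ * (A * B) * (Y2 * X2) * (A * B)⁻¹ = X2 * A * (X2 * A) := by
  have iY : Y2⁻¹ = Y2 := inv_eq_of_mul_eq_one_left hY2
  have iX : X2⁻¹ = X2 := inv_eq_of_mul_eq_one_left hX2
  have iA : A⁻¹ = A := inv_eq_of_mul_eq_one_left hA
  have iB : B⁻¹ = B := inv_eq_of_mul_eq_one_left hB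
  rw [_root_.mul_inv_rev, _root_.mul_inv_rev, iY, iX, iA, iB]
  have h1 : Y2 * (A * B) * Y2 = A * B := by
    rw [← (c3.mul_left c6).eq, mul_assoc, hY2, mul_one]
  calc X2 * Y2 * (A * B) * (Y2 * X2) * (B * A)
      = X2 * (Y2 * (A * B) * Y2) * X2 * (B * A) := by group
    _ = X2 * (A * B) * X2 * (B * A) := by rw [h1]
    _ = X2 * A * (B * X2) * B * A := by group
    _ = X2 * A * (X2 * B) * B * A := by rw [c7.eq]
    _ = X2 * A * X2 * (B * B) * A := by group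
    _ = X2 * A * (X2 * A) := by rw [hB]; group

theorem exists_transv {B₁ B₂ : LinearMap.BilinForm F (Fin n → F)} (hB₁ : SF B₁) (hB₂ : SF B₂)
    (h2 : (2 : F) ≠ 0) (hn : 13 ≤ n) {M : Subgroup (GL (Fin n) F)} (hG₁ : Good M B₁)
    (hG₂ : Good M B₂) {x a : Fin n → F} (hx : B₂ x x ≠ 0) (ha : B₁ a a ≠ 0) (h1 : B₁ a x = 0) :
    InK M (Tm x ((-(4 * B₂ a x / (B₂ x x * B₁ a a))) • bv B₁ a)) := by
  -- choose b
  have hd : n < 2 * finrank F (((⊤ : Submodule F (Fin n → F)) ⊓ LinearMap.ker (B₁ x)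
      ⊓ LinearMap.ker (B₂ x) : Submodule F (Fin n → F))) := by
    have e1 := fin_cut (⊤ : Submodule F (Fin n → F)) (B₁ x)
    have e2 := fin_cut ((⊤ : Submodule F (Fin n → F)) ⊓ LinearMap.ker (B₁ x)) (B₂ x)
    rw [finrank_top'] at e1
    omega
  obtain ⟨b, hb, hbb⟩ := exists_aniso hB₁ h2 _ hd
  rw [mem_cut, mem_cut] at hb
  obtain ⟨⟨-, b1⟩, b2⟩ := hb
  have hd' : n < 2 * finrank F (((⊤ : Submodule F (Fin n → F)) ⊓ LinearMap.ker (B₁ a)
      ⊓ LinearMap.ker (B₂ a) ⊓ LinearMap.ker (B₁ b) ⊓ LinearMap.ker (B₂ b) :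
        Submodule F (Fin n → F))) := by
    have e1 := fin_cut (⊤ : Submodule F (Fin n → F)) (B₁ a)
    have e2 := fin_cut ((⊤ : Submodule F (Fin n → F)) ⊓ LinearMap.ker (B₁ a)) (B₂ a)
    have e3 := fin_cut ((⊤ : Submodule F (Fin n → F)) ⊓ LinearMap.ker (B₁ a)
      ⊓ LinearMap.ker (B₂ a)) (B₁ b)
    have e4 := fin_cut ((⊤ : Submodule F (Fin n → F)) ⊓ LinearMap.ker (B₁ a)
      ⊓ LinearMap.ker (B₂ a) ⊓ LinearMap.ker (B₁ b)) (B₂ b)
    rw [finrank_top'] at e1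
    omega
  obtain ⟨y, hy, hyy⟩ := exists_aniso hB₂ h2 _ hd'
  rw [mem_cut, mem_cut, mem_cut, mem_cut] at hy
  obtain ⟨⟨⟨⟨-, y1⟩, y2⟩, y3⟩, y4⟩ := hy
  have c3 : Commute (rho B₁ a ha) (rho B₂ y hyy) := rho_comm hB₁ ha hyy y1 y2
  have c6 : Commute (rho B₁ b hbb) (rho B₂ y hyy) := rho_comm hB₁ hbb hyy y3 y4
  have c7 : Commute (rho B₁ b hbb) (rho B₂ x hx) :=
    rho_comm hB₁ hbb hx (by rw [hB₁.symm]; exact b1) (by rw [hB₂.symm]; exact b2)
  have m1 : rho B₂ y hyy * rho B₂ x hx ∈ M := hG₂.mem hyy hx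
  have m2 : rho B₁ a ha * rho B₁ b hbb ∈ M := hG₁.mem ha hbb
  have m3 : (rho B₂ y hyy * rho B₂ x hx)⁻¹ * (rho B₁ a ha * rho B₁ b hbb) *
      (rho B₂ y hyy * rho B₂ x hx) * (rho B₁ a ha * rho B₁ b hbb)⁻¹ ∈ M :=
    M.mul_mem (M.mul_mem (M.mul_mem (M.inv_mem m1) m2) m1) (M.inv_mem m2)
  rw [grp_aux _ _ _ _ (rho_mul_self _ _ _) (rho_mul_self _ _ _) (rho_mul_self _ _ _)
    (rho_mul_self _ _ _) c3 c6 c7] at m3
  intro g hg
  have : g = rho B₂ x hx * rho B₁ a ha * (rho B₂ x hx * rho B₁ a ha) := by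
    apply Units.ext
    rw [hg, Units.val_mul, Units.val_mul, rho_coe, rho_coe, Rm_comm_formula hB₁ ha hx h1]
  rw [this]
  exact m3

end Cfsg.Agent.Lib.Helper24.OSim
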