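import Mathlib
import Cfsg.Agent.Lib.Helper24.OSimB

set_option autoImplicit false
set_option linter.style.haveILetI false

namespace Cfsg.Agent.Lib.Helper24.OSim

open Matrix Module Cfsg.Agent.S0772

variable {F : Type*} [Field F] {n : ℕ}

theorem irr {B : LinearMap.BilinForm F (Fin n → F)} (hB : SF B) (h2 : (2 : F) ≠ 0)
    {Z X : Submodule F (Fin n → F)} (hXZ : X ≤ Z) (hX : X ≠ ⊥)
    (hZnd : ∀ a ∈ Z, a ≠ 0 → ∃ v ∈ Z, B v a ≠ 0) (hZd : n + 4 < 2 * finrank F Z)
    (hinv : ∀ x ∈ Z, ∀ y ∈ Z, B x x ≠ 0 → B y y ≠ 0 → ∀ v ∈ X,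
      Rm B x *ᵥ (Rm B y *ᵥ v) ∈ X) : X = Z := by
  have claim2 : ∀ a ∈ X, B a a ≠ 0 → ∀ x ∈ Z, B x x ≠ 0 → B a x ≠ 0 → x ∈ X := by
    intro a haX haa x hxZ hxx hax
    have h := hinv x hxZ a (hXZ haX) hxx haa a haX
    rw [Rm_mulVec B a a, Rm_mulVec] at h
    have e : (a - (2 * B a a / B a a) • a) = -a := by
      rw [mul_div_assoc, div_self haa, mul_one, two_smul]
      abel
    rw [e] at h
    have h' := X.add_mem h haX
    have e2 : -a - (2 * B (-a) x / B x x) • x + a = (2 * B a x / B x x) • x := by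
      rw [map_neg, LinearMap.neg_apply, mul_neg, neg_div, neg_smul]
      abel
    rw [e2] at h'
    have hc : (2 * B a x / B x x) ≠ 0 := div_ne_zero (mul_ne_zero h2 hax) hxx
    have := X.smul_mem (2 * B a x / B x x)⁻¹ h'
    rwa [smul_smul, inv_mul_cancel₀ hc, one_smul] at this
  have step1 : ∃ a ∈ X, B a a ≠ 0 := by
    obtain ⟨a, haX, ha0⟩ := Submodule.exists_mem_ne_zero_of_ne_bot hX
    by_cases haa : B a a ≠ 0
    · exact ⟨a, haX, haa⟩
    · rw [not_not] at haa
      obtain ⟨v, hvZ, hva⟩ := hZnd a (hXZ haX) ha0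
      have hx : ∃ x ∈ Z, B x x ≠ 0 ∧ B a x ≠ 0 := by
        by_cases hvv : B v v = 0
        · refine ⟨v + a, Z.add_mem hvZ (hXZ haX), ?_, ?_⟩
          · simp only [map_add, LinearMap.add_apply]
            rw [hvv, haa, hB.symm a v]
            intro h
            apply hva
            have : (2 : F) * B v a = 0 := by linear_combination h
            rcases mul_eq_zero.mp this with h' | h'
            · exact absurd h' h2
            · exact h'
          · rw [map_add, haa, add_zero, hB.symm]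
            exact hva
        · exact ⟨v, hvZ, hvv, by rw [hB.symm]; exact hva⟩
      obtain ⟨x, hxZ, hxx, hax⟩ := hx
      have hd : n < 2 * finrank F (Z ⊓ LinearMap.ker (B a) : Submodule F (Fin n → F)) := by
        have := fin_cut Z (B a)
        omega
      obtain ⟨y, hy, hyy⟩ := exists_aniso hB h2 _ hd
      rw [mem_cut] at hy
      have h := hinv x hxZ y hy.1 hxx hyy a haX
      rw [Rm_mulVec B y a, hy.2, mul_zero, zero_div, zero_smul, sub_zero, Rm_mulVec] at h
      have h' := X.sub_mem haX h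
      rw [sub_sub_cancel] at h'
      have hc : (2 * B a x / B x x) ≠ 0 := div_ne_zero (mul_ne_zero h2 hax) hxx
      have := X.smul_mem (2 * B a x / B x x)⁻¹ h'
      rw [smul_smul, inv_mul_cancel₀ hc, one_smul] at this
      exact ⟨x, this, hxx⟩
  obtain ⟨a, haX, haa⟩ := step1
  have claim3 : ∀ x ∈ Z, B x x ≠ 0 → x ∈ X := by
    intro x hxZ hxx
    by_cases hax : B a x ≠ 0
    · exact claim2 a haX haa x hxZ hxx hax
    · rw [not_not] at hax
      have hz : ∃ z ∈ Z, B z z ≠ 0 ∧ B a z ≠ 0 ∧ B z x ≠ 0 := by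
        by_cases hs : B a a + B x x ≠ 0
        · refine ⟨a + x, Z.add_mem (hXZ haX) hxZ, ?_, ?_, ?_⟩
          · simp only [map_add, LinearMap.add_apply]
            rw [hB.symm x a, hax]
            simpa using hs
          · rw [map_add, hax, add_zero]
            exact haa
          · rw [map_add, LinearMap.add_apply, hax, zero_add]
            exact hxx
        · rw [not_not] at hs
          have hd : n < 2 * finrank F (Z ⊓ LinearMap.ker (B a) ⊓ LinearMap.ker (B x) :
              Submodule F (Fin n → F)) := by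
            have e1 := fin_cut Z (B a)
            have e2 := fin_cut (Z ⊓ LinearMap.ker (B a)) (B x)
            omega
          obtain ⟨w, hw, hww⟩ := exists_aniso hB h2 _ hd
          rw [mem_cut, mem_cut] at hw
          obtain ⟨⟨hwZ, w1⟩, w2⟩ := hw
          refine ⟨a + x + w, Z.add_mem (Z.add_mem (hXZ haX) hxZ) hwZ, ?_, ?_, ?_⟩
          · simp only [map_add, LinearMap.add_apply]
            rw [hB.symm x a, hax, hB.symm w a, w1, hB.symm w x, w2]
            intro h
            apply hww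
            linear_combination h - hs
          · rw [map_add, map_add, hax, w1, add_zero, add_zero]
            exact haa
          · simp only [map_add, LinearMap.add_apply]
            rw [hax, hB.symm w x, w2, zero_add, add_zero]
            exact hxx
      obtain ⟨z, hzZ, hzz, haz, hzx⟩ := hz
      have hzX := claim2 a haX haa z hzZ hzz haz
      exact claim2 z hzX hzz x hxZ hxx hzx
  apply le_antisymm hXZ
  intro v hvZ
  by_cases hvv : B v v ≠ 0
  · exact claim3 v hvZ hvv
  · rw [not_not] at hvv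
    have hd : n < 2 * finrank F (Z ⊓ LinearMap.ker (B v) : Submodule F (Fin n → F)) := by
      have := fin_cut Z (B v)
      omega
    obtain ⟨x, hx, hxx⟩ := exists_aniso hB h2 _ hd
    rw [mem_cut] at hx
    have h1 : v + x ∈ X := by
      apply claim3 _ (Z.add_mem hvZ hx.1)
      simp only [map_add, LinearMap.add_apply]
      rw [hvv, hx.2, hB.symm x v, hx.2]
      simpa using hxx
    have h2' := claim3 x hx.1 hxx
    have := X.sub_mem h1 h2'
    rwa [add_sub_cancel_right] at this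


/-! ### Transvections in `M` -/

/-- The transvection with centre `u` and functional `v ↦ B v w` lies in `M`. -/
def TT (M : Subgroup (GL (Fin n) F)) (B : LinearMap.BilinForm F (Fin n → F))
    (u w : Fin n → F) : Prop := InK M (Tm u (bv B w))

theorem Tm_zero_right (u : Fin n → F) : Tm u (0 : Fin n → F) = 1 := by
  rw [Matrix.ext_iff_mulVec]
  intro v
  rw [Tm_mulVec, zero_dotProduct, zero_smul, add_zero, Matrix.one_mulVec]

theorem InK_one (M : Subgroup (GL (Fin n) F)) : InK M (1 : Matrix (Fin n) (Fin n) F) := by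
  intro g hg
  have : g = 1 := Units.ext (by rw [hg, Units.val_one])
  rw [this]
  exact M.one_mem

theorem det_Tm_ne {u φ : Fin n → F} (h : φ ⬝ᵥ u = 0) : (Tm u φ).det ≠ 0 := by
  rw [det_Tm, h, add_zero]
  exact one_ne_zero

theorem TT_zero_right (M : Subgroup (GL (Fin n) F)) (B : LinearMap.BilinForm F (Fin n → F))
    (u : Fin n → F) : TT M B u 0 := by
  unfold TT
  rw [bv_zero, Tm_zero_right]
  exact InK_one M

theorem TT_add_right {M : Subgroup (GL (Fin n) F)} {B : LinearMap.BilinForm F (Fin n → F)}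
    {u w w' : Fin n → F} (h : B u w = 0) (h' : B u w' = 0) (hT : TT M B u w)
    (hT' : TT M B u w') : TT M B u (w + w') := by
  unfold TT at *
  rw [bv_add, ← Cfsg.Agent.S5642.Tm_mul_Tm u _ _ (by rw [bv_dot]; exact h)]
  exact Cfsg.Agent.S5642.InK_mul M _ _ (det_Tm_ne (by rw [bv_dot]; exact h))
    (det_Tm_ne (by rw [bv_dot]; exact h')) hT hT'

theorem TT_neg_right {M : Subgroup (GL (Fin n) F)} {B : LinearMap.BilinForm F (Fin n → F)}
    {u w : Fin n → F} (h : B u w = 0) (hT : TT M B u w) : TT M B u (-w) := by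
  unfold TT at *
  intro g hg
  have hd : (Tm u (bv B w)).det ≠ 0 := det_Tm_ne (by rw [bv_dot]; exact h)
  have hm := hT (Matrix.GeneralLinearGroup.mkOfDetNeZero _ hd) rfl
  have : g * Matrix.GeneralLinearGroup.mkOfDetNeZero _ hd = 1 := by
    apply Units.ext
    rw [Units.val_mul, hg, Units.val_one]
    change Tm u (bv B (-w)) * Tm u (bv B w) = 1
    rw [Cfsg.Agent.S5642.Tm_mul_Tm u _ _ (by rw [bv_dot, map_neg, h, neg_zero]), bv_neg,
      neg_add_cancel, Tm_zero_right]
  have e : g = (Matrix.GeneralLinearGroup.mkOfDetNeZero _ hd)⁻¹ := eq_inv_of_mul_eq_one_left this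
  rw [e]
  exact M.inv_mem hm

theorem Tm_smul_center' (l : F) (b φ : Fin n → F) : Tm (l • b) φ = Tm b (l • φ) := by
  rw [Matrix.ext_iff_mulVec]
  intro v
  rw [Tm_mulVec, Tm_mulVec, smul_dotProduct, smul_smul, smul_eq_mul, mul_comm]

theorem TT_smul_iff {M : Subgroup (GL (Fin n) F)} {B : LinearMap.BilinForm F (Fin n → F)}
    (c : F) (u w : Fin n → F) : TT M B (c • u) w ↔ TT M B u (c • w) := by
  unfold TT
  rw [Tm_smul_center', bv_smul]

theorem Tm_add_center (u u' φ : Fin n → F) (h : φ ⬝ᵥ u' = 0) :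
    Tm u φ * Tm u' φ = Tm (u + u') φ := by
  rw [Matrix.ext_iff_mulVec]
  intro v
  rw [← Matrix.mulVec_mulVec, Tm_mulVec, Tm_mulVec, Tm_mulVec, dotProduct_add, dotProduct_smul,
    h, smul_zero, add_zero, smul_add]
  abel

theorem TT_add_left {M : Subgroup (GL (Fin n) F)} {B : LinearMap.BilinForm F (Fin n → F)}
    {u u' w : Fin n → F} (h : B u w = 0) (h' : B u' w = 0) (hT : TT M B u w)
    (hT' : TT M B u' w) : TT M B (u + u') w := by
  unfold TT at *
  rw [← Tm_add_center u u' _ (by rw [bv_dot]; exact h')]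
  exact Cfsg.Agent.S5642.InK_mul M _ _ (det_Tm_ne (by rw [bv_dot]; exact h))
    (det_Tm_ne (by rw [bv_dot]; exact h')) hT hT'

theorem TT_neg_left {M : Subgroup (GL (Fin n) F)} {B : LinearMap.BilinForm F (Fin n → F)}
    {u w : Fin n → F} (h : B u w = 0) (hT : TT M B u w) : TT M B (-u) w := by
  have := TT_neg_right h hT
  rw [← neg_one_smul F w, ← TT_smul_iff, neg_one_smul] at this
  exact this

theorem bv_conj {B : LinearMap.BilinForm F (Fin n → F)} (g : GL (Fin n) F)
    (hg : ∀ x y, B ((g : Matrix (Fin n) (Fin n) F) *ᵥ x)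
      ((g : Matrix (Fin n) (Fin n) F) *ᵥ y) = B x y) (w : Fin n → F) :
    (bv B w) ᵥ* ((g⁻¹ : GL (Fin n) F) : Matrix (Fin n) (Fin n) F) =
      bv B ((g : Matrix (Fin n) (Fin n) F) *ᵥ w) := by
  apply Cfsg.Agent.S5642.vec_ext
  intro y
  rw [← Matrix.dotProduct_mulVec, bv_dot, bv_dot, ← hg]
  congr 2
  rw [Matrix.mulVec_mulVec, ← Units.val_mul, mul_inv_cancel, Units.val_one, Matrix.one_mulVec]

theorem TT_conj {M : Subgroup (GL (Fin n) F)} {B : LinearMap.BilinForm F (Fin n → F)}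
    (hB : SF B) (hG : Good M B) {x y : Fin n → F} (hx : B x x ≠ 0) (hy : B y y ≠ 0)
    {u w : Fin n → F} (hT : TT M B u w) :
    TT M B (Rm B x *ᵥ (Rm B y *ᵥ u)) (Rm B x *ᵥ (Rm B y *ᵥ w)) := by
  unfold TT at *
  have hm := hG.mem hx hy
  have h1 := InK_conj M _ hm _ hT
  rw [conj_Tm, bv_conj] at h1
  · rw [Units.val_mul, rho_coe, rho_coe, ← Matrix.mulVec_mulVec, ← Matrix.mulVec_mulVec] at h1
    exact h1
  · intro a b
    rw [Units.val_mul, rho_coe, rho_coe, ← Matrix.mulVec_mulVec, ← Matrix.mulVec_mulVec,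
      Rm_iso hB hx, Rm_iso hB hy]


theorem Rm_fix {B : LinearMap.BilinForm F (Fin n → F)} {y v : Fin n → F} (h : B v y = 0) :
    Rm B y *ᵥ v = v := by
  rw [Rm_mulVec, h, mul_zero, zero_div, zero_smul, sub_zero]

theorem hyp_scale {B : LinearMap.BilinForm F (Fin n → F)} (hB : SF B) (h2 : (2 : F) ≠ 0)
    {e e' : Fin n → F} (he : B e e = 0) (he' : B e' e' = 0) (hee' : B e e' = 1) {c : F}
    (hc : c ≠ 0) :
    B (e - e') (e - e') ≠ 0 ∧ B (e - c • e') (e - c • e') ≠ 0 ∧
      Rm B (e - e') *ᵥ (Rm B (e - c • e') *ᵥ e) = c • e := by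
  have hee : B e' e = 1 := by rw [hB.symm]; exact hee'
  have n1 : B (e - e') (e - e') = -2 := by
    simp only [map_sub, LinearMap.sub_apply]
    rw [he, he', hee', hee]
    ring
  have n2 : B (e - c • e') (e - c • e') = -(2 * c) := by
    simp only [map_sub, map_smul, LinearMap.sub_apply, LinearMap.smul_apply, smul_eq_mul]
    rw [he, he', hee', hee]
    ring
  have n1' : B (e - e') (e - e') ≠ 0 := by
    rw [n1]
    exact neg_ne_zero.mpr h2
  have n2' : B (e - c • e') (e - c • e') ≠ 0 := by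
    rw [n2]
    exact neg_ne_zero.mpr (mul_ne_zero h2 hc)
  refine ⟨n1', n2', ?_⟩
  have s1 : Rm B (e - c • e') *ᵥ e = c • e' := by
    rw [Rm_mulVec, n2]
    have : B e (e - c • e') = -c := by
      simp only [map_sub, map_smul, smul_eq_mul]
      rw [he, hee']
      ring
    rw [this]
    have e1 : 2 * -c / -(2 * c) = 1 := by
      field_simp
    rw [e1, one_smul]
    abel
  rw [s1, Rm_mulVec, n1]
  have : B (c • e') (e - e') = c := by
    simp only [map_sub, map_smul, LinearMap.smul_apply, smul_eq_mul]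
    rw [hee, he']
    ring
  rw [this]
  have e1 : 2 * c / -2 = -c := by
    field_simp
  rw [e1, neg_smul, smul_sub]
  abel

theorem full_perp {B : LinearMap.BilinForm F (Fin n → F)} (hB : SF B) (h2 : (2 : F) ≠ 0)
    (hn : 13 ≤ n) {M : Subgroup (GL (Fin n) F)} (hG : Good M B) {e e' w : Fin n → F}
    (he : B e e = 0) (he' : B e' e' = 0) (hee' : B e e' = 1) (hw : w ≠ 0)
    (hwe : B e w = 0) (hwe' : B e' w = 0) (hT : TT M B e w) :
    ∀ w', B e w' = 0 → B e' w' = 0 → TT M B e w' := by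
  have hee : B e' e = 1 := by rw [hB.symm]; exact hee'
  obtain ⟨W₁, hW₁⟩ : ∃ W : Submodule F (Fin n → F),
      W = ((⊤ : Submodule F (Fin n → F)) ⊓ LinearMap.ker (B e) ⊓ LinearMap.ker (B e')) :=
    ⟨_, rfl⟩
  have memW : ∀ v, v ∈ W₁ ↔ B e v = 0 ∧ B e' v = 0 := by
    intro v
    rw [hW₁, mem_cut, mem_cut]
    simp
  have hWd : n + 4 < 2 * finrank F W₁ := by
    have e1 := fin_cut (⊤ : Submodule F (Fin n → F)) (B e)
    have e2 := fin_cut ((⊤ : Submodule F (Fin n → F)) ⊓ LinearMap.ker (B e)) (B e')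
    rw [finrank_top'] at e1
    rw [hW₁]
    omega
  obtain ⟨X₁, hX₁⟩ : ∃ X : Submodule F (Fin n → F), ∀ v, v ∈ X ↔ (v ∈ W₁ ∧ TT M B e v) := by
    refine ⟨{ carrier := {v | v ∈ W₁ ∧ TT M B e v}
              add_mem' := ?_
              zero_mem' := ?_
              smul_mem' := ?_ }, fun v => Iff.rfl⟩
    · rintro a b ⟨ha, hTa⟩ ⟨hb, hTb⟩
      exact ⟨W₁.add_mem ha hb, TT_add_right ((memW a).mp ha).1 ((memW b).mp hb).1 hTa hTb⟩
    · exact ⟨W₁.zero_mem, TT_zero_right M B e⟩
    · rintro c v ⟨hv, hTv⟩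
      refine ⟨W₁.smul_mem c hv, ?_⟩
      by_cases hc : c = 0
      · rw [hc, zero_smul]
        exact TT_zero_right M B e
      obtain ⟨n1, n2, hs⟩ := hyp_scale hB h2 he he' hee' hc
      have h1 := TT_conj hB hG n1 n2 hTv
      obtain ⟨v1, v2⟩ := (memW v).mp hv
      have f1 : Rm B (e - c • e') *ᵥ v = v := by
        apply Rm_fix
        rw [map_sub, map_smul, hB.symm v e, hB.symm v e', v1, v2]
        simp
      have f2 : Rm B (e - e') *ᵥ v = v := by
        apply Rm_fix
        rw [map_sub, hB.symm v e, hB.symm v e', v1, v2]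
        simp
      rw [hs, f1, f2] at h1
      exact (TT_smul_iff c e v).mp h1
  have hXW : X₁ ≤ W₁ := fun v hv => ((hX₁ v).mp hv).1
  have hXne : X₁ ≠ ⊥ := by
    intro h
    have : w ∈ X₁ := (hX₁ w).mpr ⟨(memW w).mpr ⟨hwe, hwe'⟩, hT⟩
    rw [h, Submodule.mem_bot] at this
    exact hw this
  have hnd : ∀ a ∈ W₁, a ≠ 0 → ∃ v ∈ W₁, B v a ≠ 0 := by
    intro a ha ha0
    obtain ⟨a1, a2⟩ := (memW a).mp ha
    obtain ⟨v₀, hv₀⟩ := hB.nd a ha0
    refine ⟨v₀ - (B e' v₀) • e - (B e v₀) • e', (memW _).mpr ⟨?_, ?_⟩, ?_⟩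
    · simp only [map_sub, map_smul, smul_eq_mul]
      rw [he, hee']
      ring
    · simp only [map_sub, map_smul, smul_eq_mul]
      rw [he', hee]
      ring
    · simp only [map_sub, map_smul, LinearMap.sub_apply, LinearMap.smul_apply, smul_eq_mul]
      rw [a1, a2, hB.symm v₀ a]
      simpa using hv₀
  have hinv : ∀ x ∈ W₁, ∀ y ∈ W₁, B x x ≠ 0 → B y y ≠ 0 → ∀ v ∈ X₁,
      Rm B x *ᵥ (Rm B y *ᵥ v) ∈ X₁ := by
    intro x hx y hy hxx hyy v hv
    obtain ⟨hvW, hTv⟩ := (hX₁ v).mp hv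
    rw [hX₁]
    constructor
    · rw [Rm_mulVec, Rm_mulVec]
      exact W₁.sub_mem (W₁.sub_mem hvW (W₁.smul_mem _ hy)) (W₁.smul_mem _ hx)
    · have h1 := TT_conj hB hG hxx hyy hTv
      rw [Rm_fix ((memW y).mp hy).1, Rm_fix ((memW x).mp hx).1] at h1
      exact h1
  have hXeq := irr hB h2 hXW hXne hnd hWd hinv
  intro w' h1 h2'
  have : w' ∈ X₁ := by
    rw [hXeq]
    exact (memW w').mpr ⟨h1, h2'⟩
  exact ((hX₁ w').mp this).2

end Cfsg.Agent.Lib.Helper24.OSim
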