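import Mathlib
import Cfsg.Agent.Lib.Helper24.OSimC

set_option autoImplicit false
set_option linter.style.haveILetI false

namespace Cfsg.Agent.Lib.Helper24.OSim

open Matrix Module Cfsg.Agent.S0772

variable {F : Type*} [Field F] {n : ℕ}

theorem bv_surj {B : LinearMap.BilinForm F (Fin n → F)} (hB : SF B) (φ : Fin n → F) :
    ∃ w, bv B w = φ := by
  obtain ⟨L, hL⟩ : ∃ L : (Fin n → F) →ₗ[F] (Fin n → F), ∀ w, L w = bv B w :=
    ⟨{ toFun := bv B, map_add' := bv_add B, map_smul' := bv_smul B }, fun _ => rfl⟩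
  have hinj : Function.Injective L := by
    rw [← LinearMap.ker_eq_bot, LinearMap.ker_eq_bot']
    intro w hw
    rw [hL] at hw
    by_contra h0
    obtain ⟨x, hx⟩ := hB.nd w h0
    apply hx
    rw [hB.symm, ← bv_dot, hw, zero_dotProduct]
  obtain ⟨w, hw⟩ := (LinearMap.injective_iff_surjective.mp hinj) φ
  exact ⟨w, by rw [← hL, hw]⟩

theorem exists_partner {B : LinearMap.BilinForm F (Fin n → F)} (hB : SF B) (h2 : (2 : F) ≠ 0)
    {e w₀ : Fin n → F} (he0 : e ≠ 0) (he : B e e = 0) (hw : B w₀ w₀ ≠ 0) (hew : B e w₀ = 0) :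
    ∃ e', B e' e' = 0 ∧ B e e' = 1 ∧ B e' w₀ = 0 := by
  obtain ⟨v₀, hv₀⟩ := hB.nd e he0
  obtain ⟨v, hv1, hv2⟩ : ∃ v, B e v = 1 ∧ B v w₀ = 0 := by
    refine ⟨(1 / B e v₀) • v₀ - (B ((1 / B e v₀) • v₀) w₀ / B w₀ w₀) • w₀, ?_, ?_⟩
    · simp only [map_sub, map_smul, smul_eq_mul]
      rw [hew]
      field_simp
      ring
    · simp only [map_sub, map_smul, LinearMap.sub_apply, LinearMap.smul_apply, smul_eq_mul]
      field_simp
      ring
  have hve : B v e = 1 := by rw [hB.symm]; exact hv1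
  refine ⟨v - (B v v / 2) • e, ?_, ?_, ?_⟩
  · simp only [map_sub, map_smul, LinearMap.sub_apply, LinearMap.smul_apply, smul_eq_mul]
    rw [he, hv1, hve]
    field_simp
    ring
  · simp only [map_sub, map_smul, smul_eq_mul]
    rw [he, hv1]
    ring
  · simp only [map_sub, map_smul, LinearMap.sub_apply, LinearMap.smul_apply, smul_eq_mul]
    rw [hew, hv2]
    ring

theorem full_center {B : LinearMap.BilinForm F (Fin n → F)} (hB : SF B) (h2 : (2 : F) ≠ 0)
    (hn : 13 ≤ n) {M : Subgroup (GL (Fin n) F)} (hG : Good M B) {e e' w : Fin n → F}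
    (he : B e e = 0) (he' : B e' e' = 0) (hee' : B e e' = 1) (hw : w ≠ 0)
    (hwe : B e w = 0) (hwe' : B e' w = 0) (hT : TT M B e w) : A M e := by
  have hee : B e' e = 1 := by rw [hB.symm]; exact hee'
  have star := full_perp hB h2 hn hG he he' hee' hw hwe hwe' hT
  have hd : n < 2 * finrank F (((⊤ : Submodule F (Fin n → F)) ⊓ LinearMap.ker (B e)
      ⊓ LinearMap.ker (B e') : Submodule F (Fin n → F))) := by
    have e1 := fin_cut (⊤ : Submodule F (Fin n → F)) (B e)
    have e2 := fin_cut ((⊤ : Submodule F (Fin n → F)) ⊓ LinearMap.ker (B e)) (B e')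
    rw [finrank_top'] at e1
    omega
  obtain ⟨z, hz, hzz⟩ := exists_aniso hB h2 _ hd
  rw [mem_cut, mem_cut] at hz
  obtain ⟨⟨-, z1⟩, z2⟩ := hz
  have hd' : n < 2 * finrank F (((⊤ : Submodule F (Fin n → F)) ⊓ LinearMap.ker (B e)
      ⊓ LinearMap.ker (B e') ⊓ LinearMap.ker (B z) : Submodule F (Fin n → F))) := by
    have e1 := fin_cut (⊤ : Submodule F (Fin n → F)) (B e)
    have e2 := fin_cut ((⊤ : Submodule F (Fin n → F)) ⊓ LinearMap.ker (B e)) (B e')
    have e3 := fin_cut ((⊤ : Submodule F (Fin n → F)) ⊓ LinearMap.ker (B e)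
      ⊓ LinearMap.ker (B e')) (B z)
    rw [finrank_top'] at e1
    omega
  obtain ⟨w'', hw'', hww⟩ := exists_aniso hB h2 _ hd'
  rw [mem_cut, mem_cut, mem_cut] at hw''
  obtain ⟨⟨⟨-, y1⟩, y2⟩, y3⟩ := hw''
  have hw0 : w'' ≠ 0 := by
    intro h
    rw [h] at hww
    simp at hww
  have hze : B z e = 0 := by rw [hB.symm]; exact z1
  have hze' : B z e' = 0 := by rw [hB.symm]; exact z2
  obtain ⟨e'', he''def⟩ : ∃ e'' : Fin n → F, e'' = e' + z + (-(B z z) / 2) • e := ⟨_, rfl⟩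
  have he''0 : B e'' e'' = 0 := by
    rw [he''def]
    simp only [map_add, map_smul, LinearMap.add_apply, LinearMap.smul_apply, smul_eq_mul]
    rw [he, he', hee', hee, z1, z2, hze, hze']
    field_simp
    ring
  have hee'' : B e e'' = 1 := by
    rw [he''def]
    simp only [map_add, map_smul, smul_eq_mul]
    rw [he, hee', z1]
    ring
  have hTw'' : TT M B e w'' := star w'' y1 y2
  have hw''e'' : B e'' w'' = 0 := by
    rw [he''def]
    simp only [map_add, map_smul, LinearMap.add_apply, LinearMap.smul_apply, smul_eq_mul]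
    rw [y1, y2, y3]
    ring
  have star2 := full_perp hB h2 hn hG he he''0 hee'' hw0 y1 hw''e'' hTw''
  have all : ∀ v, B e v = 0 → TT M B e v := by
    intro v hv
    obtain ⟨c, hc⟩ : ∃ c : F, c = B e' v := ⟨_, rfl⟩
    have h1 : TT M B e ((c / B z z) • z) := by
      apply star
      · rw [map_smul, z1, smul_zero]
      · rw [map_smul, z2, smul_zero]
    have h2a : TT M B e ((c / B z z) • z - c • e) := by
      apply star2
      · rw [map_sub, map_smul, map_smul, z1, he]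
        simp
      · rw [he''def]
        simp only [map_add, map_sub, map_smul, LinearMap.add_apply, LinearMap.smul_apply,
          smul_eq_mul]
        rw [he, hee, z1, z2, hze]
        field_simp
        ring
    have b1 : B e ((c / B z z) • z) = 0 := by rw [map_smul, z1, smul_zero]
    have b2 : B e ((c / B z z) • z - c • e) = 0 := by
      rw [map_sub, map_smul, map_smul, z1, he]
      simp
    have h3 : TT M B e (c • e) := by
      have := TT_add_right b1 (by rw [map_neg, b2, neg_zero]) h1 (TT_neg_right b2 h2a)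
      have e3 : (c / B z z) • z + -((c / B z z) • z - c • e) = c • e := by abel
      rwa [e3] at this
    have h4 : TT M B e (v - c • e) := by
      apply star
      · rw [map_sub, map_smul, he, hv]
        simp
      · rw [map_sub, map_smul, hee, ← hc]
        simp
    have b4 : B e (v - c • e) = 0 := by
      rw [map_sub, map_smul, he, hv]
      simp
    have := TT_add_right b4 (by rw [map_smul, he, smul_zero]) h4 h3
    rwa [sub_add_cancel] at this
  intro φ hφ
  obtain ⟨w', rfl⟩ := bv_surj hB φ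
  apply all
  rw [← bv_dot]
  exact hφ


theorem iso_center [Finite F] {B : LinearMap.BilinForm F (Fin n → F)} (hB : SF B)
    (h2 : (2 : F) ≠ 0) (hn : 13 ≤ n) {M : Subgroup (GL (Fin n) F)} (hG : Good M B)
    {u₀ w₀ : Fin n → F} (hu : u₀ ≠ 0) (hw : B w₀ w₀ ≠ 0) (h : B u₀ w₀ = 0)
    (hT : TT M B u₀ w₀) : ∃ e, e ≠ 0 ∧ B e e = 0 ∧ B e w₀ = 0 ∧ TT M B e w₀ := by
  by_cases huu : B u₀ u₀ = 0
  · exact ⟨u₀, hu, huu, h, hT⟩
  have hwu : B w₀ u₀ = 0 := by rw [hB.symm]; exact h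
  have hdim : n ≤ finrank F (((⊤ : Submodule F (Fin n → F)) ⊓ LinearMap.ker (B w₀)
      ⊓ LinearMap.ker (B u₀) : Submodule F (Fin n → F))) + 2 := by
    have e1 := fin_cut (⊤ : Submodule F (Fin n → F)) (B w₀)
    have e2 := fin_cut ((⊤ : Submodule F (Fin n → F)) ⊓ LinearMap.ker (B w₀)) (B u₀)
    rw [finrank_top'] at e1
    omega
  obtain ⟨ε', hε', hε'0, hε'ε'⟩ := Cfsg.Agent.Lib.Helper19.QuadWitt.exists_singular_of_three
    (Q := B.toQuadraticMap) _ (by omega : 3 ≤ finrank F (((⊤ : Submodule F (Fin n → F)) ⊓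
      LinearMap.ker (B w₀) ⊓ LinearMap.ker (B u₀) : Submodule F (Fin n → F))))
  rw [LinearMap.BilinMap.toQuadraticMap_apply] at hε'ε'
  rw [mem_cut, mem_cut] at hε'
  obtain ⟨⟨-, p1⟩, p2⟩ := hε'
  have hε'w : B ε' w₀ = 0 := by rw [hB.symm]; exact p1
  have hε'u : B ε' u₀ = 0 := by rw [hB.symm]; exact p2
  obtain ⟨y, hy, hyy⟩ := exists_aniso hB h2 (((⊤ : Submodule F (Fin n → F)) ⊓
    LinearMap.ker (B w₀) ⊓ LinearMap.ker (B u₀) : Submodule F (Fin n → F))) (by omega)
  rw [mem_cut, mem_cut] at hy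
  obtain ⟨⟨-, q1⟩, q2⟩ := hy
  -- the vector v
  obtain ⟨v₀, hv₀⟩ := hB.nd ε' hε'0
  obtain ⟨v₁, hv1, hv2⟩ : ∃ v, B ε' v = 1 ∧ B v w₀ = 0 := by
    refine ⟨(1 / B ε' v₀) • v₀ - (B ((1 / B ε' v₀) • v₀) w₀ / B w₀ w₀) • w₀, ?_, ?_⟩
    · simp only [map_sub, map_smul, smul_eq_mul]
      rw [hε'w]
      field_simp
      ring
    · simp only [map_sub, map_smul, LinearMap.sub_apply, LinearMap.smul_apply, smul_eq_mul]
      field_simp
      ring
  obtain ⟨v, hva, hvb, hvc⟩ : ∃ v, B ε' v = 1 ∧ B v w₀ = 0 ∧ B v u₀ ≠ 0 := by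
    by_cases hc : B v₁ u₀ = 0
    · refine ⟨v₁ + u₀, ?_, ?_, ?_⟩
      · rw [map_add, hv1, hε'u, add_zero]
      · rw [map_add, LinearMap.add_apply, hv2, h, add_zero]
      · rw [map_add, LinearMap.add_apply, hc, zero_add]
        exact huu
    · exact ⟨v₁, hv1, hv2, hc⟩
  have hvε' : B v ε' = 1 := by rw [hB.symm]; exact hva
  obtain ⟨ε, hεdef⟩ : ∃ ε : Fin n → F, ε = v - (B v v / 2) • ε' := ⟨_, rfl⟩
  have hεε : B ε ε = 0 := by
    rw [hεdef]
    simp only [map_sub, map_smul, LinearMap.sub_apply, LinearMap.smul_apply, smul_eq_mul]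
    rw [hε'ε', hva, hvε']
    field_simp
    ring
  have hεε' : B ε ε' = 1 := by
    rw [hεdef]
    simp only [map_sub, map_smul, LinearMap.sub_apply, LinearMap.smul_apply, smul_eq_mul]
    rw [hε'ε', hvε']
    ring
  have hε'ε : B ε' ε = 1 := by rw [hB.symm]; exact hεε'
  have hεw : B ε w₀ = 0 := by
    rw [hεdef]
    simp only [map_sub, map_smul, LinearMap.sub_apply, LinearMap.smul_apply, smul_eq_mul]
    rw [hvb, hε'w]
    ring
  obtain ⟨d, hd⟩ : ∃ d : F, d = B v u₀ := ⟨_, rfl⟩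
  have hd0 : d ≠ 0 := by rw [hd]; exact hvc
  have hεu : B ε u₀ = d := by
    rw [hεdef]
    simp only [map_sub, map_smul, LinearMap.sub_apply, LinearMap.smul_apply, smul_eq_mul]
    rw [hε'u, hd]
    ring
  have hx1 : B (ε + ε') (ε + ε') = 2 := by
    simp only [map_add, LinearMap.add_apply]
    rw [hεε, hε'ε', hεε', hε'ε]
    ring
  have hx2 : B (ε - ε') (ε - ε') = -2 := by
    simp only [map_sub, LinearMap.sub_apply]
    rw [hεε, hε'ε', hεε', hε'ε]
    ring
  have hx1' : B (ε + ε') (ε + ε') ≠ 0 := by rw [hx1]; exact h2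
  have hx2' : B (ε - ε') (ε - ε') ≠ 0 := by rw [hx2]; exact neg_ne_zero.mpr h2
  have t1 := TT_conj hB hG hx1' hyy hT
  have t2 := TT_conj hB hG hx2' hyy hT
  have fy_u : Rm B y *ᵥ u₀ = u₀ := Rm_fix q2
  have fy_w : Rm B y *ᵥ w₀ = w₀ := Rm_fix q1
  have f1w : Rm B (ε + ε') *ᵥ w₀ = w₀ := by
    apply Rm_fix
    rw [map_add, hB.symm w₀ ε, hB.symm w₀ ε', hεw, hε'w, add_zero]
  have f2w : Rm B (ε - ε') *ᵥ w₀ = w₀ := by
    apply Rm_fix
    rw [map_sub, hB.symm w₀ ε, hB.symm w₀ ε', hεw, hε'w, sub_zero]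
  have f1u : Rm B (ε + ε') *ᵥ u₀ = u₀ - d • (ε + ε') := by
    rw [Rm_mulVec, hx1, map_add, hB.symm u₀ ε, hB.symm u₀ ε', hεu, hε'u, add_zero]
    congr 2
    field_simp
  have f2u : Rm B (ε - ε') *ᵥ u₀ = u₀ + d • (ε - ε') := by
    rw [Rm_mulVec, hx2, map_sub, hB.symm u₀ ε, hB.symm u₀ ε', hεu, hε'u, sub_zero,
      sub_eq_add_neg, ← neg_smul]
    congr 2
    field_simp
  rw [fy_u, fy_w, f1w, f1u] at t1
  rw [fy_u, fy_w, f2w, f2u] at t2
  have c1 : B (u₀ - d • (ε + ε')) w₀ = 0 := by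
    simp only [map_sub, map_add, map_smul, LinearMap.sub_apply, LinearMap.add_apply,
      LinearMap.smul_apply, smul_eq_mul]
    rw [h, hεw, hε'w]
    ring
  have c2 : B (u₀ + d • (ε - ε')) w₀ = 0 := by
    simp only [map_sub, map_add, map_smul, LinearMap.sub_apply, LinearMap.add_apply,
      LinearMap.smul_apply, smul_eq_mul]
    rw [h, hεw, hε'w]
    ring
  have c3 : B (-(u₀ - d • (ε + ε'))) w₀ = 0 := by
    rw [map_neg, LinearMap.neg_apply, c1, neg_zero]
  have t3 := TT_add_left c3 c2 (TT_neg_left c1 t1) t2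
  have e3 : -(u₀ - d • (ε + ε')) + (u₀ + d • (ε - ε')) = (2 * d) • ε := by
    rw [smul_add, smul_sub, mul_smul, two_smul]
    abel
  rw [e3] at t3
  refine ⟨(2 * d) • ε, ?_, ?_, ?_, t3⟩
  · intro h0
    rcases smul_eq_zero.mp h0 with h' | h'
    · exact (mul_ne_zero h2 hd0) h'
    · rw [h'] at hεε'
      simp at hεε'
  · simp only [map_smul, LinearMap.smul_apply, smul_eq_mul]
    rw [hεε]
    ring
  · simp only [map_smul, LinearMap.smul_apply, smul_eq_mul]
    rw [hεw]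
    ring


theorem A_zero' (M : Subgroup (GL (Fin n) F)) : A M (0 : Fin n → F) := by
  intro φ _ g hg
  have : g = 1 := by
    apply Units.ext
    rw [hg, Units.val_one, Matrix.ext_iff_mulVec]
    intro x
    rw [Tm_mulVec, smul_zero, add_zero, Matrix.one_mulVec]
  rw [this]
  exact one_mem M

theorem A_smul_center' (M : Subgroup (GL (Fin n) F)) (l : F) (b : Fin n → F) (hb : A M b) :
    A M (l • b) := by
  by_cases hl : l = 0
  · rw [hl, zero_smul]
    exact A_zero' M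
  intro φ hφ
  rw [Tm_smul_center']
  apply hb
  rw [dotProduct_smul, smul_eq_mul] at hφ
  rw [smul_dotProduct, smul_eq_mul]
  rcases mul_eq_zero.mp hφ with h | h
  · exact absurd h hl
  · rw [h, mul_zero]

theorem A_add {B : LinearMap.BilinForm F (Fin n → F)} (hB : SF B)
    {M : Subgroup (GL (Fin n) F)} {a a' : Fin n → F} (ha : A M a) (ha' : A M a') :
    A M (a + a') := by
  by_cases h : ∃ w, B a' w = 0 ∧ B a w ≠ 0
  · obtain ⟨w, hw1, hw2⟩ := h
    obtain ⟨ψ, hψ⟩ : ∃ ψ : Fin n → F, ψ = bv B ((1 / B a w) • w) := ⟨_, rfl⟩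
    have h1 : ψ ⬝ᵥ a' = 0 := by rw [hψ, bv_dot, map_smul, hw1, smul_zero]
    have h2 : ψ ⬝ᵥ a = 1 := by
      rw [hψ, bv_dot, map_smul, smul_eq_mul]
      field_simp
    have hd : (Tm a' ψ).det ≠ 0 := det_Tm_ne h1
    have hm : Matrix.GeneralLinearGroup.mkOfDetNeZero (Tm a' ψ) hd ∈ M := ha' ψ h1 _ rfl
    have := A_smul M _ hm a ha
    have e : ((Matrix.GeneralLinearGroup.mkOfDetNeZero (Tm a' ψ) hd : GL (Fin n) F) :
        Matrix (Fin n) (Fin n) F) *ᵥ a = a + a' := by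
      change Tm a' ψ *ᵥ a = _
      rw [Tm_mulVec, h2, one_smul]
    rwa [e] at this
  · push Not at h
    by_cases h0 : a' = 0
    · rw [h0, add_zero]
      exact ha
    · obtain ⟨v₀, hv₀⟩ := hB.nd a' h0
      have : a = (B a v₀ / B a' v₀) • a' := by
        by_contra hne
        have hne' : a - (B a v₀ / B a' v₀) • a' ≠ 0 := sub_ne_zero.mpr hne
        obtain ⟨x, hx⟩ := hB.nd _ hne'
        apply hx
        have h1 : B a' (x - (B a' x / B a' v₀) • v₀) = 0 := by
          rw [map_sub, map_smul, smul_eq_mul]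
          field_simp
          ring
        have h2 := h _ h1
        rw [map_sub, map_smul, smul_eq_mul] at h2
        rw [map_sub, LinearMap.sub_apply, map_smul, LinearMap.smul_apply, smul_eq_mul]
        field_simp
        field_simp at h2
        linear_combination h2
      have e2 : (B a v₀ / B a' v₀) • a' + a' = (B a v₀ / B a' v₀ + 1) • a' := by
        rw [add_smul, one_smul]
      rw [this, e2]
      exact A_smul_center' M _ a' ha'

theorem core [Finite F] {B₁ B₂ : LinearMap.BilinForm F (Fin n → F)} (hB₁ : SF B₁)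
    (hB₂ : SF B₂) (h2 : (2 : F) ≠ 0) (hn : 13 ≤ n) {M : Subgroup (GL (Fin n) F)}
    (hG₁ : Good M B₁) (hG₂ : Good M B₂) (hne : ∀ c : F, ∃ u v, B₂ u v ≠ c * B₁ u v)
    (g : GL (Fin n) F) (hg : (g : Matrix (Fin n) (Fin n) F).det = 1) : g ∈ M := by
  obtain ⟨x, a, hx, ha, h1, h3⟩ := exists_pair hB₁ hB₂ h2 hn hne
  have hT := exists_transv hB₁ hB₂ h2 hn hG₁ hG₂ hx ha h1
  obtain ⟨c, hc⟩ : ∃ c : F, c = -(4 * B₂ a x / (B₂ x x * B₁ a a)) := ⟨_, rfl⟩
  have h4 : (4 : F) ≠ 0 := by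
    have : (4 : F) = 2 * 2 := by norm_num
    rw [this]
    exact mul_ne_zero h2 h2
  have hc0 : c ≠ 0 := by
    rw [hc]
    exact neg_ne_zero.mpr (div_ne_zero (mul_ne_zero h4 h3) (mul_ne_zero hx ha))
  rw [← hc] at hT
  have hT' : TT M B₁ x (c • a) := by
    unfold TT
    rw [bv_smul]
    exact hT
  have hx0 : x ≠ 0 := by
    intro h
    rw [h] at hx
    simp at hx
  have hww : B₁ (c • a) (c • a) ≠ 0 := by
    simp only [map_smul, LinearMap.smul_apply, smul_eq_mul]
    exact mul_ne_zero hc0 (mul_ne_zero hc0 ha)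
  have hxw : B₁ x (c • a) = 0 := by
    rw [map_smul, hB₁.symm x a, h1, smul_zero]
  obtain ⟨e, he0, hee, hew, hTe⟩ := iso_center hB₁ h2 hn hG₁ hx0 hww hxw hT'
  obtain ⟨e', he', hee', he'w⟩ := exists_partner hB₁ h2 he0 hee hww hew
  have hw0 : c • a ≠ 0 := by
    intro h
    rw [h] at hww
    simp at hww
  have hA := full_center hB₁ h2 hn hG₁ hee he' hee' hw0 hew he'w hTe
  obtain ⟨X, hX⟩ : ∃ X : Submodule F (Fin n → F), ∀ v, v ∈ X ↔ A M v :=
    ⟨{ carrier := {v | A M v}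
       add_mem' := fun {a b} ha hb => A_add hB₁ ha hb
       zero_mem' := A_zero' M
       smul_mem' := fun c v hv => A_smul_center' M c v hv }, fun _ => Iff.rfl⟩
  have hXtop : X = ⊤ := by
    apply irr hB₁ h2 le_top
    · intro h
      have : e ∈ X := (hX e).mpr hA
      rw [h, Submodule.mem_bot] at this
      exact he0 this
    · intro a _ ha0
      obtain ⟨v, hv⟩ := hB₁.nd a ha0
      exact ⟨v, Submodule.mem_top, by rw [hB₁.symm]; exact hv⟩
    · rw [finrank_top']
      omega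
    · intro x _ y _ hxx hyy v hv
      rw [hX] at hv ⊢
      have := A_smul M _ (hG₁.mem hxx hyy) v hv
      rwa [Units.val_mul, rho_coe, rho_coe, ← Matrix.mulVec_mulVec] at this
  apply Cfsg.Agent.S5631.mem_of_A_all (by omega) M _ g hg
  intro a
  rw [← hX, hXtop]
  exact Submodule.mem_top

end Cfsg.Agent.Lib.Helper24.OSim
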