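import Mathlib
import Cfsg.Agent.Lib.Helper24.OSimD
import Cfsg.Prelude.Def_GeometricClasses

set_option autoImplicit false
set_option linter.style.haveILetI false

namespace Cfsg.Agent.Lib.Helper24.OSim

open Matrix Module Cfsg.Agent.S0772 Cfsg.Geo Cfsg.Agent.Lib.Helper27.GLStab

variable {F : Type*} [Field F] {n : ℕ}

theorem two_ne_zero_of_odd' [Fintype F] (hF : Odd (Fintype.card F)) : (2 : F) ≠ 0 := by
  intro h
  have hchar : ringChar F = 2 :=
    CharP.ringChar_of_prime_eq_zero Nat.prime_two (by exact_mod_cast h)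
  have := FiniteField.even_card_of_char_two hchar
  rcases hF with ⟨k, hk⟩
  omega

/-- The polar form of `Q` as a bundled bilinear form. -/
noncomputable def polarBF (Q : (Fin n → F) → F) (hQ : IsNondegenerateQuadraticForm Q) :
    LinearMap.BilinForm F (Fin n → F) :=
  LinearMap.mk₂ F (QuadraticMap.polar Q) hQ.polar_bilinear.add_left
    hQ.polar_bilinear.smul_left hQ.polar_bilinear.add_right hQ.polar_bilinear.smul_right

theorem polarBF_apply (Q : (Fin n → F) → F) (hQ : IsNondegenerateQuadraticForm Q)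
    (x y : Fin n → F) : polarBF Q hQ x y = QuadraticMap.polar Q x y := rfl

theorem polarBF_sf (Q : (Fin n → F) → F) (hQ : IsNondegenerateQuadraticForm Q) :
    SF (polarBF Q hQ) := by
  constructor
  · intro x y
    rw [polarBF_apply, polarBF_apply, QuadraticMap.polar_comm]
  · intro v hv
    obtain ⟨x, hx⟩ := (hQ.nondegenerate v hv).2
    exact ⟨x, hx⟩

theorem polarBF_self (Q : (Fin n → F) → F) (hQ : IsNondegenerateQuadraticForm Q)
    (x : Fin n → F) : polarBF Q hQ x x = 2 * Q x := by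
  rw [polarBF_apply, QuadraticMap.polar]
  have : x + x = (2 : F) • x := by rw [two_smul]
  rw [this, hQ.smul]
  ring

theorem Q_eq (Q : (Fin n → F) → F) (hQ : IsNondegenerateQuadraticForm Q) (h2 : (2 : F) ≠ 0)
    (x : Fin n → F) : Q x = polarBF Q hQ x x / 2 := by
  rw [polarBF_self]
  field_simp


theorem good_of_le (Q : (Fin n → F) → F) (hQ : IsNondegenerateQuadraticForm Q)
    (h2 : (2 : F) ≠ 0) {M : Subgroup (GL (Fin n) F)}
    (hM : quadSimilarityGroup Q ⊓ specialLinear (Fin n) F ≤ M) : Good M (polarBF Q hQ) := by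
  intro x y hx hy g hg
  apply hM
  refine Subgroup.mem_inf.mpr ⟨?_, ?_⟩
  · refine ⟨1, fun v => ?_⟩
    rw [Units.val_one, one_mul, hg, ← Matrix.mulVec_mulVec, Q_eq Q hQ h2, Q_eq Q hQ h2 v,
      Rm_iso (polarBF_sf Q hQ) hx, Rm_iso (polarBF_sf Q hQ) hy]
  · rw [mem_specialLinear_iff, hg, Matrix.det_mul, det_Rm hx, det_Rm hy]
    ring

/-- The form `B (h⁻¹ x) (h⁻¹ y)`. -/
noncomputable def conjBF (B : LinearMap.BilinForm F (Fin n → F)) (h : GL (Fin n) F) :
    LinearMap.BilinForm F (Fin n → F) :=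
  B.comp (Matrix.toLin' ((h⁻¹ : GL (Fin n) F) : Matrix (Fin n) (Fin n) F))
    (Matrix.toLin' ((h⁻¹ : GL (Fin n) F) : Matrix (Fin n) (Fin n) F))

theorem conjBF_apply (B : LinearMap.BilinForm F (Fin n → F)) (h : GL (Fin n) F)
    (x y : Fin n → F) : conjBF B h x y =
      B (((h⁻¹ : GL (Fin n) F) : Matrix (Fin n) (Fin n) F) *ᵥ x)
        (((h⁻¹ : GL (Fin n) F) : Matrix (Fin n) (Fin n) F) *ᵥ y) := by
  unfold conjBF
  rw [LinearMap.BilinForm.comp_apply, Matrix.toLin'_apply, Matrix.toLin'_apply]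

theorem h_hinv (h : GL (Fin n) F) (v : Fin n → F) :
    (h : Matrix (Fin n) (Fin n) F) *ᵥ
      (((h⁻¹ : GL (Fin n) F) : Matrix (Fin n) (Fin n) F) *ᵥ v) = v := by
  rw [Matrix.mulVec_mulVec, ← Units.val_mul, mul_inv_cancel, Units.val_one, Matrix.one_mulVec]

theorem hinv_h (h : GL (Fin n) F) (v : Fin n → F) :
    ((h⁻¹ : GL (Fin n) F) : Matrix (Fin n) (Fin n) F) *ᵥ
      ((h : Matrix (Fin n) (Fin n) F) *ᵥ v) = v := by
  rw [Matrix.mulVec_mulVec, ← Units.val_mul, inv_mul_cancel, Units.val_one, Matrix.one_mulVec]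

theorem conjBF_sf {B : LinearMap.BilinForm F (Fin n → F)} (hB : SF B) (h : GL (Fin n) F) :
    SF (conjBF B h) := by
  constructor
  · intro x y
    rw [conjBF_apply, conjBF_apply, hB.symm]
  · intro v hv
    have hv' : ((h⁻¹ : GL (Fin n) F) : Matrix (Fin n) (Fin n) F) *ᵥ v ≠ 0 := by
      intro h0
      apply hv
      rw [← h_hinv h v, h0, Matrix.mulVec_zero]
    obtain ⟨x, hx⟩ := hB.nd _ hv'
    refine ⟨(h : Matrix (Fin n) (Fin n) F) *ᵥ x, ?_⟩
    rw [conjBF_apply, hinv_h]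
    exact hx

theorem Rm_conjBF (B : LinearMap.BilinForm F (Fin n → F)) (h : GL (Fin n) F) (x : Fin n → F) :
    Rm (conjBF B h) x = (h : Matrix (Fin n) (Fin n) F) *
      Rm B (((h⁻¹ : GL (Fin n) F) : Matrix (Fin n) (Fin n) F) *ᵥ x) *
        ((h⁻¹ : GL (Fin n) F) : Matrix (Fin n) (Fin n) F) := by
  rw [Matrix.ext_iff_mulVec]
  intro v
  rw [← Matrix.mulVec_mulVec, ← Matrix.mulVec_mulVec, Rm_mulVec, Rm_mulVec, Matrix.mulVec_sub,
    Matrix.mulVec_smul, h_hinv, h_hinv, conjBF_apply, conjBF_apply]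

theorem good_conj {B : LinearMap.BilinForm F (Fin n → F)} {M : Subgroup (GL (Fin n) F)}
    (hG : Good M B) {h : GL (Fin n) F} (hh : h ∈ M) : Good M (conjBF B h) := by
  intro x y hx hy
  rw [conjBF_apply] at hx hy
  have h1 := InK_conj M h hh _ (hG _ _ hx hy)
  have e : Rm (conjBF B h) x * Rm (conjBF B h) y = (h : Matrix (Fin n) (Fin n) F) *
      (Rm B (((h⁻¹ : GL (Fin n) F) : Matrix (Fin n) (Fin n) F) *ᵥ x) *
        Rm B (((h⁻¹ : GL (Fin n) F) : Matrix (Fin n) (Fin n) F) *ᵥ y)) *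
        ((h⁻¹ : GL (Fin n) F) : Matrix (Fin n) (Fin n) F) := by
    rw [Rm_conjBF, Rm_conjBF]
    have e1 : ((h⁻¹ : GL (Fin n) F) : Matrix (Fin n) (Fin n) F) *
        (h : Matrix (Fin n) (Fin n) F) = 1 := by
      rw [← Units.val_mul, inv_mul_cancel, Units.val_one]
    calc (h : Matrix (Fin n) (Fin n) F) *
          Rm B (((h⁻¹ : GL (Fin n) F) : Matrix (Fin n) (Fin n) F) *ᵥ x) *
          ((h⁻¹ : GL (Fin n) F) : Matrix (Fin n) (Fin n) F) *
          ((h : Matrix (Fin n) (Fin n) F) *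
            Rm B (((h⁻¹ : GL (Fin n) F) : Matrix (Fin n) (Fin n) F) *ᵥ y) *
            ((h⁻¹ : GL (Fin n) F) : Matrix (Fin n) (Fin n) F))
        = (h : Matrix (Fin n) (Fin n) F) *
          Rm B (((h⁻¹ : GL (Fin n) F) : Matrix (Fin n) (Fin n) F) *ᵥ x) *
          (((h⁻¹ : GL (Fin n) F) : Matrix (Fin n) (Fin n) F) *
            (h : Matrix (Fin n) (Fin n) F)) *
            Rm B (((h⁻¹ : GL (Fin n) F) : Matrix (Fin n) (Fin n) F) *ᵥ y) *
            ((h⁻¹ : GL (Fin n) F) : Matrix (Fin n) (Fin n) F) := by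
          simp only [Matrix.mul_assoc]
      _ = _ := by
          rw [e1, Matrix.mul_one]
          simp only [Matrix.mul_assoc]
  rw [e]
  exact h1

theorem not_sim_transv (Q : (Fin n → F) → F) (hQ : IsNondegenerateQuadraticForm Q)
    (h2 : (2 : F) ≠ 0) (hn : 13 ≤ n) :
    ∃ g : GL (Fin n) F, g ∈ specialLinear (Fin n) F ∧ g ∉ quadSimilarityGroup Q := by
  have hB := polarBF_sf Q hQ
  obtain ⟨w, -, hww⟩ := exists_aniso hB h2 (⊤ : Submodule F (Fin n → F))
    (by rw [finrank_top']; omega)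
  have hd : n < 2 * finrank F (((⊤ : Submodule F (Fin n → F)) ⊓
      LinearMap.ker (polarBF Q hQ w) : Submodule F (Fin n → F))) := by
    have e1 := fin_cut (⊤ : Submodule F (Fin n → F)) (polarBF Q hQ w)
    rw [finrank_top'] at e1
    omega
  obtain ⟨u, hu, huu⟩ := exists_aniso hB h2 _ hd
  rw [mem_cut] at hu
  have hwu : polarBF Q hQ w u = 0 := hu.2
  have huw : polarBF Q hQ u w = 0 := by rw [hB.symm]; exact hwu
  have hdet : (Tm u (bv (polarBF Q hQ) w)).det ≠ 0 := det_Tm_ne (by rw [bv_dot]; exact huw)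
  refine ⟨Matrix.GeneralLinearGroup.mkOfDetNeZero _ hdet, ?_, ?_⟩
  · rw [mem_specialLinear_iff]
    change (Tm u (bv (polarBF Q hQ) w)).det = 1
    rw [det_Tm, bv_dot, huw, add_zero]
  · rintro ⟨c, hc⟩
    have h1 := hc u
    have h3 := hc w
    change Q (Tm u (bv (polarBF Q hQ) w) *ᵥ u) = _ at h1
    change Q (Tm u (bv (polarBF Q hQ) w) *ᵥ w) = _ at h3
    rw [Tm_mulVec, bv_dot, huw, zero_smul, add_zero] at h1
    have hQu : Q u ≠ 0 := by
      intro h0
      apply huu
      rw [polarBF_self, h0, mul_zero]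
    have hc1 : (c : F) = 1 := by
      have : ((c : F) - 1) * Q u = 0 := by linear_combination -h1
      rcases mul_eq_zero.mp this with h | h
      · exact sub_eq_zero.mp h
      · exact absurd h hQu
    rw [Tm_mulVec, bv_dot, hc1, one_mul, Q_eq Q hQ h2, Q_eq Q hQ h2 w] at h3
    simp only [map_add, map_smul, LinearMap.add_apply, LinearMap.smul_apply, smul_eq_mul] at h3
    rw [hwu, huw] at h3
    have h3' := (div_left_inj' h2).mp h3
    have : polarBF Q hQ w w * polarBF Q hQ w w * polarBF Q hQ u u = 0 := by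
      linear_combination h3'
    rcases mul_eq_zero.mp this with h | h
    · rcases mul_eq_zero.mp h with h' | h'
      · exact hww h'
      · exact hww h'
    · exact huu h

theorem main [Fintype F] (hn : 13 ≤ n) (hodd : Odd (Fintype.card F)) (Q : (Fin n → F) → F)
    (hQ : IsNondegenerateQuadraticForm Q) :
    IsMaximalIn (specialLinear (Fin n) F)
      (quadSimilarityGroup Q ⊓ specialLinear (Fin n) F) := by
  have h2 : (2 : F) ≠ 0 := two_ne_zero_of_odd' hodd
  have hB₁ := polarBF_sf Q hQ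
  constructor
  · apply lt_of_le_of_ne inf_le_right
    intro heq
    obtain ⟨g, hg1, hg2⟩ := not_sim_transv Q hQ h2 hn
    rw [← heq] at hg1
    exact hg2 (Subgroup.mem_inf.mp hg1).1
  · intro M hM1 hM2
    by_cases hMH : M = quadSimilarityGroup Q ⊓ specialLinear (Fin n) F
    · exact Or.inl hMH
    right
    have hex : ∃ h ∈ M, h ∉ quadSimilarityGroup Q ⊓ specialLinear (Fin n) F := by
      by_contra hcon
      push Not at hcon
      exact hMH (le_antisymm hcon hM1)
    obtain ⟨h, hhM, hhH⟩ := hex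
    have hhS : h ∈ specialLinear (Fin n) F := hM2 hhM
    have hhQ : h ∉ quadSimilarityGroup Q := fun hq => hhH (Subgroup.mem_inf.mpr ⟨hq, hhS⟩)
    have hG₁ : Good M (polarBF Q hQ) := good_of_le Q hQ h2 hM1
    have hG₂ : Good M (conjBF (polarBF Q hQ) h) := good_conj hG₁ hhM
    have hB₂ := conjBF_sf hB₁ h
    have hne : ∀ c : F, ∃ u v, conjBF (polarBF Q hQ) h u v ≠ c * polarBF Q hQ u v := by
      intro c
      by_contra hcon
      push Not at hcon
      have hc0 : c ≠ 0 := by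
        intro h0
        have hx₀ : ∃ x₀ : Fin n → F, x₀ ≠ 0 := by
          refine ⟨fun _ => 1, fun h => ?_⟩
          have := congrFun h ⟨0, by omega⟩
          simp at this
        obtain ⟨x₀, hx₀⟩ := hx₀
        obtain ⟨y, hy⟩ := hB₂.nd x₀ hx₀
        apply hy
        rw [hcon, h0, zero_mul]
      apply hhQ
      have hinv : h⁻¹ ∈ quadSimilarityGroup Q := by
        refine ⟨Units.mk0 c hc0, fun v => ?_⟩
        rw [Units.val_mk0, Q_eq Q hQ h2, Q_eq Q hQ h2 v, ← conjBF_apply, hcon]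
        ring
      have := (quadSimilarityGroup Q).inv_mem hinv
      rwa [inv_inv] at this
    apply le_antisymm hM2
    intro g hg
    exact core hB₁ hB₂ h2 hn hG₁ hG₂ hne g ((mem_specialLinear_iff g).mp hg)

end Cfsg.Agent.Lib.Helper24.OSim
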