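import Mathlib
import Cfsg.Agent.Lib.Helper24.OddAct
import Cfsg.Agent.Lib.Helper24.OmegaAll
import Cfsg.Agent.Lib.Helper14.FrattiniQuot
import Cfsg.Agent.Lib.Helper2.PGroupFrattini

set_option autoImplicit false

namespace Cfsg.Agent.Lib.Helper24

variable {G : Type*} [Group G]

/-- An odd-order element normalizing a finite `2`-group `F` and all its subgroups of index `2`
centralizes `F` (Burnside: odd automorphisms trivial on `F/Φ(F)` are trivial). -/
theorem odd_centralizes_of_normalizes_index_two [Finite G] {a : G} (hodd : Odd (orderOf a))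
    (F : Subgroup G) (hF : IsPGroup 2 F) (hnorm : ∀ x ∈ F, a * x * a⁻¹ ∈ F)
    (hco : ∀ M : Subgroup G, M ≤ F → M.relIndex F = 2 → ∀ x ∈ M, a * x * a⁻¹ ∈ M) :
    ∀ x ∈ F, a * x * a⁻¹ = x := by
  haveI : Fact (Nat.Prime 2) := ⟨Nat.prime_two⟩
  have ha : a ∈ Subgroup.normalizer (F : Set G) := mem_normalizer_of_conj_mem F hnorm
  obtain ⟨r, hr⟩ : ∃ r, (frattini F).index = 2 ^ r := hF.index (frattini F)
  obtain ⟨S, hS⟩ : ∃ S : Subgroup (Subgroup.normalizer (F : Set G)),
      S = Subgroup.zpowers ⟨a, ha⟩ := ⟨_, rfl⟩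
  obtain ⟨A, hAdef⟩ : ∃ A : Subgroup (MulAut F), A = S.map F.normalizerMonoidHom := ⟨_, rfl⟩
  have hA : ∀ β ∈ A, ∀ y : F, β y * y⁻¹ ∈ frattini F := by
    intro β hβ y
    rw [hAdef] at hβ
    obtain ⟨⟨g, hg⟩, hgS, rfl⟩ := hβ
    have hgz : g ∈ Subgroup.zpowers a := by
      rw [hS] at hgS
      obtain ⟨k, hk⟩ := Subgroup.mem_zpowers_iff.mp hgS
      have := congrArg Subtype.val hk
      refine Subgroup.mem_zpowers_iff.mpr ⟨k, ?_⟩
      simpa using this
    simp only [frattini, Order.radical, Subgroup.mem_iInf, Set.mem_setOf_eq]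
    intro M' hM'
    have hidx : M'.index = 2 := Cfsg.Agent.Lib.Helper2.index_of_isCoatom_of_isPGroup hF hM'
    have hMle : M'.map F.subtype ≤ F := Subgroup.map_subtype_le _
    have hrel : (M'.map F.subtype).relIndex F = 2 := by
      have h0 : (M'.map F.subtype).subgroupOf F = M' :=
        Subgroup.comap_map_eq_self_of_injective F.subtype_injective M'
      rw [Subgroup.relIndex, h0]; exact hidx
    have haN : a ∈ Subgroup.normalizer ((M'.map F.subtype : Subgroup G) : Set G) :=
      mem_normalizer_of_conj_mem _ (hco _ hMle hrel)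
    have hgN : g ∈ Subgroup.normalizer ((M'.map F.subtype : Subgroup G) : Set G) := by
      obtain ⟨k, rfl⟩ := Subgroup.mem_zpowers_iff.mp hgz
      exact zpow_mem haN k
    rw [Subgroup.mul_mem_iff_of_index_two hidx, inv_mem_iff]
    have hmem : ∀ z : F, z ∈ M' ↔ (z : G) ∈ M'.map F.subtype := by
      intro z
      constructor
      · intro hz; exact ⟨z, hz, rfl⟩
      · rintro ⟨w, hw, hwz⟩
        have : w = z := Subtype.ext hwz
        rwa [← this]
    rw [hmem, hmem]
    have : ((F.normalizerMonoidHom ⟨g, hg⟩ y : F) : G) = g * y * g⁻¹ := rfl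
    rw [this]
    exact ((Subgroup.mem_normalizer_iff.mp hgN) (y : G)).symm
  have hdvd1 := Cfsg.Agent.Lib.Helper14.card_dvd_of_trivial_on_frattini_quot hF hr A hA
  have hdvd2 : Nat.card A ∣ orderOf a := by
    have h1 : Nat.card A ∣ Nat.card S := by
      rw [hAdef]; exact Subgroup.card_map_dvd _ _
    have h2 : Nat.card S = orderOf a := by
      rw [hS, Nat.card_zpowers]
      exact (Subgroup.orderOf_mk a ha)
    rwa [h2] at h1
  have hcard : Nat.card A = 1 := by
    obtain ⟨j, hj⟩ := IsPGroup.iff_card.mp (hF.to_subgroup (frattini F))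
    rw [hj, ← pow_mul] at hdvd1
    have hcop : Nat.Coprime (orderOf a) (2 ^ (j * r)) :=
      Nat.Coprime.pow_right _ (Nat.coprime_two_right.mpr hodd)
    exact Nat.eq_one_of_dvd_coprimes hcop hdvd2 hdvd1
  have hAbot : A = ⊥ := Subgroup.card_eq_one.mp hcard
  have hα : F.normalizerMonoidHom ⟨a, ha⟩ = 1 := by
    have hmem : F.normalizerMonoidHom ⟨a, ha⟩ ∈ A := by
      rw [hAdef]; exact ⟨_, by rw [hS]; exact Subgroup.mem_zpowers _, rfl⟩
    rw [hAbot] at hmem
    exact Subgroup.mem_bot.mp hmem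
  intro x hx
  have := congrArg (fun β : MulAut F => ((β ⟨x, hx⟩ : F) : G)) hα
  exact this

/-- An odd-order element normalizing a cyclic `2`-group centralizes it. -/
theorem odd_centralizes_cyclic_two_group [Finite G] {a : G} (hodd : Odd (orderOf a))
    (C : Subgroup G) (hC : IsPGroup 2 C) (hcyc : IsCyclic C)
    (hnorm : ∀ x ∈ C, a * x * a⁻¹ ∈ C) :
    ∀ x ∈ C, a * x * a⁻¹ = x := by
  classical
  have hab : ∀ x ∈ C, ∀ y ∈ C, x * y = y * x := by
    intro x hx y hy
    have hcomm : ∀ u v : C, u * v = v * u := by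
      haveI := hcyc
      intro u v
      obtain ⟨g, hg⟩ := IsCyclic.exists_generator (α := C)
      obtain ⟨i, rfl⟩ := Subgroup.mem_zpowers_iff.mp (hg u)
      obtain ⟨j, rfl⟩ := Subgroup.mem_zpowers_iff.mp (hg v)
      rw [← zpow_add, ← zpow_add, add_comm]
    have := congrArg Subtype.val (hcomm ⟨x, hx⟩ ⟨y, hy⟩)
    exact this
  apply odd_centralizes_abelian_two_group hodd C hC hab hnorm
  intro x hx hx2
  by_contra hne
  haveI := hcyc
  haveI : Fintype C := Fintype.ofFinite _
  have hle := IsCyclic.card_pow_eq_one_le (α := C) (n := 2) (by norm_num)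
  have hx' : a * x * a⁻¹ ∈ C := hnorm x hx
  have hxsq : x ^ 2 = 1 := by rw [← hx2]; exact pow_orderOf_eq_one x
  have hx1 : x ≠ 1 := by
    intro h; rw [h, orderOf_one] at hx2; omega
  have hsub : ({(1 : C), ⟨x, hx⟩, ⟨a * x * a⁻¹, hx'⟩} : Finset C) ⊆
      Finset.univ.filter (fun z : C => z ^ 2 = 1) := by
    intro z hz
    simp only [Finset.mem_insert, Finset.mem_singleton] at hz
    simp only [Finset.mem_filter, Finset.mem_univ, true_and]
    rcases hz with rfl | rfl | rfl
    · simp
    · exact Subtype.ext hxsq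
    · apply Subtype.ext
      show (a * x * a⁻¹) ^ 2 = 1
      rw [conj_pow, hxsq]; group
  have hcard3 : ({(1 : C), ⟨x, hx⟩, ⟨a * x * a⁻¹, hx'⟩} : Finset C).card = 3 := by
    rw [Finset.card_insert_of_notMem, Finset.card_insert_of_notMem, Finset.card_singleton]
    · simp only [Finset.mem_singleton]
      intro h
      exact hne (congrArg Subtype.val h).symm
    · simp only [Finset.mem_insert, Finset.mem_singleton, not_or]
      constructor
      · intro h; exact hx1 (congrArg Subtype.val h).symm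
      · intro h
        have h1 : a * x * a⁻¹ = 1 := (congrArg Subtype.val h).symm
        apply hx1
        have : x = a⁻¹ * (a * x * a⁻¹) * a := by group
        rw [this, h1]; group
  have := Finset.card_le_card hsub
  omega

end Cfsg.Agent.Lib.Helper24
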