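import Mathlib
import Cfsg.Agent.Lib.Helper5.PrimeOrdA

set_option autoImplicit false
set_option linter.style.haveILetI false
set_option linter.unusedSimpArgs false
set_option linter.unusedSectionVars false

namespace Cfsg.Agent.Lib.Helper24.Ord3

open Polynomial

/-- the polynomial `X^2+X+1` -/
noncomputable def f3 (F : Type*) [Field F] : F[X] := X ^ 2 + X + 1

theorem f3_monic (F : Type*) [Field F] : (f3 F).Monic := by
  unfold f3
  monicity!

theorem f3_natDegree (F : Type*) [Field F] : (f3 F).natDegree = 2 := by
  unfold f3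
  compute_degree!

theorem three_ne_zero_of_card {F : Type*} [Field F] [Fintype F] (hq : Fintype.card F % 3 = 2) :
    (3 : F) ≠ 0 := by
  intro h3
  obtain ⟨p, hp⟩ := CharP.exists F
  haveI := hp
  haveI : Fact p.Prime := ⟨CharP.char_is_prime F p⟩
  have h1 : ((3 : ℕ) : F) = 0 := by exact_mod_cast h3
  have h2 : p ∣ 3 := (CharP.cast_eq_zero_iff F p 3).mp h1
  have h3' : p = 3 := (Nat.prime_dvd_prime_iff_eq (Fact.out : p.Prime) Nat.prime_three).mp h2
  obtain ⟨k, -, hk⟩ := FiniteField.card F p
  rw [hk, h3'] at hq
  have : (3 : ℕ) ^ (k : ℕ) % 3 = 0 := by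
    have hk0 : (k : ℕ) ≠ 0 := k.pos.ne'
    exact Nat.mod_eq_zero_of_dvd (dvd_pow_self 3 hk0)
  omega

theorem no_root {F : Type*} [Field F] [Fintype F] (hq : Fintype.card F % 3 = 2) (w : F) :
    w ^ 2 + w + 1 ≠ 0 := by
  classical
  intro hw
  have h3 := three_ne_zero_of_card hq
  have hw3 : w ^ 3 = 1 := by
    have : w ^ 3 - 1 = (w - 1) * (w ^ 2 + w + 1) := by ring
    rw [hw, mul_zero, sub_eq_zero] at this
    exact this
  have hw1 : w ≠ 1 := by
    intro h1
    rw [h1] at hw
    apply h3
    rw [← hw]
    ring
  have hw0 : w ≠ 0 := by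
    intro h0
    rw [h0] at hw3
    simp at hw3
  have ho : orderOf (Units.mk0 w hw0) = 3 := by
    apply orderOf_eq_prime
    · apply Units.ext
      simpa using hw3
    · intro h
      apply hw1
      have := congrArg Units.val h
      simpa using this
  have hd : orderOf (Units.mk0 w hw0) ∣ Fintype.card Fˣ := orderOf_dvd_card
  rw [ho, Fintype.card_units] at hd
  have hpos : 0 < Fintype.card F := Fintype.card_pos
  omega

theorem irr_f3 {F : Type*} [Field F] [Fintype F] (hq : Fintype.card F % 3 = 2) :
    Irreducible (f3 F) := by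
  have hd := f3_natDegree F
  rw [(f3_monic F).irreducible_iff_roots_eq_zero_of_degree_le_three (by omega) (by omega)]
  rw [Multiset.eq_zero_iff_forall_notMem]
  intro w hw
  rw [mem_roots (f3_monic F).ne_zero] at hw
  have : (f3 F).eval w = w ^ 2 + w + 1 := by
    unfold f3
    simp
  rw [IsRoot.def, this] at hw
  exact no_root hq w hw

/-- a matrix killed by a monic irreducible polynomial has characteristic polynomial a power
of it -/
theorem charpoly_eq_pow {F : Type*} [Field F] {n : Type*} [Fintype n] [DecidableEq n]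
    (A : Matrix n n F) (f : F[X]) (hf : Irreducible f) (hfm : f.Monic) (hA : aeval A f = 0) :
    ∃ k, A.charpoly = f ^ k := by
  classical
  have hc0 : A.charpoly ≠ 0 := (Matrix.charpoly_monic A).ne_zero
  have hall : ∀ g ∈ UniqueFactorizationMonoid.normalizedFactors A.charpoly, g = f := by
    intro g hg
    have hgi := UniqueFactorizationMonoid.irreducible_of_normalized_factor g hg
    have hgd := UniqueFactorizationMonoid.dvd_of_mem_normalizedFactors hg
    have hgn := UniqueFactorizationMonoid.normalize_normalized_factor g hg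
    have hgf : g ∣ f := Cfsg.Agent.Lib.Helper5.PrimeOrd.dvd_of_dvd_charpoly A g hgi hgd f hA
    have hass : Associated g f := hgi.associated_of_dvd hf hgf
    have h1 := normalize_eq_normalize_iff.mpr ⟨hass.dvd, hass.symm.dvd⟩
    rw [hgn, hfm.normalize_eq_self] at h1
    exact h1
  refine ⟨Multiset.card (UniqueFactorizationMonoid.normalizedFactors A.charpoly), ?_⟩
  have h2 := Multiset.eq_replicate_card.mpr hall
  have h3 := UniqueFactorizationMonoid.prod_normalizedFactors hc0
  rw [h2, Multiset.prod_replicate] at h3
  exact (eq_of_monic_of_associated (hfm.pow _) (Matrix.charpoly_monic A) h3).symm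

/-- same, with the exponent determined -/
theorem charpoly_eq_of_aeval {F : Type*} [Field F] {n : Type*} [Fintype n] [DecidableEq n]
    (A B : Matrix n n F) (f : F[X]) (hf : Irreducible f) (hfm : f.Monic) (hA : aeval A f = 0)
    (hB : aeval B f = 0) : A.charpoly = B.charpoly := by
  obtain ⟨k, hk⟩ := charpoly_eq_pow A f hf hfm hA
  obtain ⟨l, hl⟩ := charpoly_eq_pow B f hf hfm hB
  have hd : f.natDegree ≠ 0 := by
    intro h0
    have := hf.natDegree_pos
    omega
  have h1 : (f ^ k).natDegree = (f ^ l).natDegree := by
    rw [← hk, ← hl, Matrix.charpoly_natDegree_eq_dim, Matrix.charpoly_natDegree_eq_dim]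
  rw [hfm.natDegree_pow, hfm.natDegree_pow] at h1
  have : k = l := Nat.eq_of_mul_eq_mul_right (Nat.pos_of_ne_zero hd) h1
  rw [hk, hl, this]

/-- an `F`-linear endomorphism of `K = F[ω]` commuting with multiplication by `ω` is a
multiplication -/
theorem lin_eq_mul {F K : Type*} [Field F] [Field K] [Algebra F K] (ω : K)
    (hgen : ∀ y : K, ∃ P : F[X], y = aeval ω P) (T : K →ₗ[F] K)
    (hT : ∀ y, T (ω * y) = ω * T y) (y : K) : T y = T 1 * y := by
  have key : ∀ (P : F[X]) (v : K), T (aeval ω P * v) = aeval ω P * T v := by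
    intro P
    induction P using Polynomial.induction_on' with
    | add p q hp hq =>
      intro v
      rw [map_add, add_mul, map_add, hp, hq, add_mul]
    | monomial k a =>
      intro v
      rw [aeval_monomial]
      have hk : ∀ (k : ℕ) (v : K), T (ω ^ k * v) = ω ^ k * T v := by
        intro k
        induction k with
        | zero => intro v; simp
        | succ k ih =>
          intro v
          rw [pow_succ', mul_assoc, hT, ih, mul_assoc]
      rw [mul_assoc, ← Algebra.smul_def, map_smul, hk, Algebra.smul_def, mul_assoc]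
  obtain ⟨P, hP⟩ := hgen y
  have := key P 1
  rw [mul_one] at this
  rw [hP, this, mul_comm]

end Cfsg.Agent.Lib.Helper24.Ord3
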