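import Mathlib
import Cfsg.Agent.S2639
import Cfsg.Agent.Lib.Helper24.Ord3A

set_option autoImplicit false
set_option linter.style.haveILetI false
set_option linter.unusedSimpArgs false
set_option linter.unusedSectionVars false

namespace Cfsg.Agent.Lib.Helper24.Ord3

open Matrix Kronecker Polynomial
open Cfsg.Agent.S2678 (R₁ R₁_apply R₁_injective)
open Cfsg.Agent.S2639 (Mε key inv_herm e2 J₂ reindex_J₂)

section comm

variable {F K : Type*} [Field F] [Field K] [Algebra F K] {d : Type*} [Fintype d] [DecidableEq d]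
  (b : Module.Basis d F K) {n : Type*} [Fintype n] [DecidableEq n]

/-- a matrix commuting with the matrix of multiplication by `ω` is the matrix of a
multiplication -/
theorem mat_eq_leftMul (ω : K) (hgen : ∀ y : K, ∃ P : F[X], y = aeval ω P) (B : Matrix d d F)
    (hB : B * Algebra.leftMulMatrix b ω = Algebra.leftMulMatrix b ω * B) :
    ∃ z : K, B = Algebra.leftMulMatrix b z := by
  obtain ⟨T, hT⟩ : ∃ T : K →ₗ[F] K, T = Matrix.toLin b b B := ⟨_, rfl⟩
  have hB' : LinearMap.toMatrix b b T = B := by rw [hT, LinearMap.toMatrix_toLin]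
  have hcomm : ∀ y, T (ω * y) = ω * T y := by
    intro y
    have h1 : T ∘ₗ (Algebra.lmul F K ω) = (Algebra.lmul F K ω) ∘ₗ T := by
      apply (LinearMap.toMatrix b b).injective
      rw [LinearMap.toMatrix_comp b b b, LinearMap.toMatrix_comp b b b, hB',
        ← Algebra.leftMulMatrix_apply]
      exact hB
    have := LinearMap.congr_fun h1 y
    simpa using this
  refine ⟨T 1, ?_⟩
  rw [← hB', Algebra.leftMulMatrix_apply]
  congr 1
  ext y
  rw [lin_eq_mul ω hgen T hcomm y]
  simp

/-- the commutant of the scalar `ω` in the restriction of scalars -/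
theorem exists_R₁_of_comm (ω : K) (hgen : ∀ y : K, ∃ P : F[X], y = aeval ω P)
    (A : Matrix (n × d) (n × d) F)
    (hA : A * R₁ b (ω • (1 : Matrix n n K)) = R₁ b (ω • (1 : Matrix n n K)) * A) :
    ∃ g : Matrix n n K, A = R₁ b g := by
  have hblock : ∀ i j, ∃ z : K,
      (Matrix.of fun s t => A (i, s) (j, t)) = Algebra.leftMulMatrix b z := by
    intro i j
    apply mat_eq_leftMul b ω hgen
    ext s t
    have h := congrFun (congrFun hA (i, s)) (j, t)
    rw [Matrix.mul_apply, Matrix.mul_apply, Fintype.sum_prod_type, Fintype.sum_prod_type] at h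
    simp only [R₁_apply, Matrix.smul_apply, Matrix.one_apply, smul_eq_mul] at h
    rw [Finset.sum_eq_single j, Finset.sum_eq_single i] at h
    · simpa [Matrix.mul_apply] using h
    · intro k _ hk
      simp [Ne.symm hk]
    · simp
    · intro k _ hk
      simp [hk]
    · simp
  choose g hg using hblock
  refine ⟨Matrix.of g, ?_⟩
  ext ⟨i, s⟩ ⟨j, t⟩
  rw [R₁_apply]
  have := congrFun (congrFun (hg i j) s) t
  simpa using this

end comm

section herm

variable {F K : Type*} [Field F] [Field K] [Algebra F K] {d : Type*} [Fintype d] [DecidableEq d]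
  (b : Module.Basis d F K) {n : Type*} [Fintype n] [DecidableEq n]
  (σ : K →+* K) (hσ : ∀ c : F, σ (algebraMap F K c) = algebraMap F K c) (ε : K)

include hσ in
theorem herm_entry (g : Matrix n n K) (i j : n) (s t : d) :
    ((R₁ b g)ᵀ * ((1 : Matrix n n F) ⊗ₖ Mε b σ ε) * R₁ b g) (i, s) (j, t)
      = Algebra.trace F K (ε * ((gᵀ * g.map σ) i j * (b s * σ (b t)))) := by
  rw [Matrix.mul_apply, Fintype.sum_prod_type]
  have h1 : ∀ (k' : n) (v : d), ((R₁ b g)ᵀ * ((1 : Matrix n n F) ⊗ₖ Mε b σ ε)) (i, s) (k', v)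
      = ∑ u, Algebra.leftMulMatrix b (g k' i) u s * Mε b σ ε u v := by
    intro k' v
    rw [Matrix.mul_apply, Fintype.sum_prod_type]
    simp only [Matrix.transpose_apply, R₁_apply, kronecker_apply, Matrix.one_apply]
    rw [Finset.sum_eq_single k']
    · simp
    · intro k _ hk
      simp [hk]
    · simp
  simp only [h1, R₁_apply]
  simp only [key b σ hσ ε]
  rw [← map_sum]
  have h2 : ∑ k, ε * (g k i * b s * σ (g k j * b t)) =
      ε * ((∑ k, g k i * σ (g k j)) * (b s * σ (b t))) := by
    rw [Finset.sum_mul, Finset.mul_sum]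
    apply Finset.sum_congr rfl
    intro k _
    rw [map_mul]
    ring
  have h3 : ∑ k, g k i * σ (g k j) = (gᵀ * g.map σ) i j := by
    rw [Matrix.mul_apply]
    rfl
  rw [h2, h3]

include hσ in
/-- the converse of `inv_herm` -/
theorem unitary_of_inv_herm (hε : ε ≠ 0) (htr : ∃ z : K, Algebra.trace F K z ≠ 0)
    (g : Matrix n n K)
    (h : (R₁ b g)ᵀ * ((1 : Matrix n n F) ⊗ₖ Mε b σ ε) * R₁ b g =
      (1 : Matrix n n F) ⊗ₖ Mε b σ ε) :
    gᵀ * g.map σ = 1 := by
  ext i j
  obtain ⟨c, hc⟩ : ∃ c : K, c = (gᵀ * g.map σ) i j - (1 : Matrix n n K) i j := ⟨_, rfl⟩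
  have h0 : ∀ s t, Algebra.trace F K (ε * (c * (b s * σ (b t)))) = 0 := by
    intro s t
    have h1 := herm_entry b σ hσ ε g i j s t
    rw [h] at h1
    have h2 : ((1 : Matrix n n F) ⊗ₖ Mε b σ ε) (i, s) (j, t) =
        Algebra.trace F K (ε * ((1 : Matrix n n K) i j * (b s * σ (b t)))) := by
      rw [kronecker_apply, Matrix.one_apply, Matrix.one_apply]
      by_cases hij : i = j
      · simp [hij, Mε]
      · simp [hij]
    rw [h2] at h1
    rw [hc, sub_mul, mul_sub, map_sub, ← h1, sub_self]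
  have h1 : ∀ (y : K) (t : d), Algebra.trace F K (ε * (c * (y * σ (b t)))) = 0 := by
    intro y t
    rw [← b.sum_repr y, Finset.sum_mul, Finset.mul_sum, Finset.mul_sum, map_sum]
    apply Finset.sum_eq_zero
    intro s _
    rw [smul_mul_assoc, mul_smul_comm, mul_smul_comm, map_smul, h0, smul_zero]
  have hc0 : c = 0 := by
    by_contra hne
    obtain ⟨z, hz⟩ := htr
    haveI : Nonempty d := b.index_nonempty
    obtain ⟨t⟩ := ‹Nonempty d›
    have hw : σ (b t) ≠ 0 := by
      rw [Ne, map_eq_zero]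
      exact b.ne_zero t
    have h2 := h1 (z / (ε * c * σ (b t))) t
    have h3 : ε * (c * (z / (ε * c * σ (b t)) * σ (b t))) = z := by
      field_simp
    rw [h3] at h2
    exact hz h2
  rw [hc, sub_eq_zero] at hc0
  exact hc0

end herm

end Cfsg.Agent.Lib.Helper24.Ord3
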