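import Mathlib
import Cfsg.Agent.S2639
import Cfsg.Agent.Lib.Helper24.Ord3B
import Cfsg.Agent.Lib.Helper19.PSUGraph1

set_option autoImplicit false
set_option linter.style.haveILetI false
set_option linter.unusedSimpArgs false
set_option linter.unusedSectionVars false

namespace Cfsg.Agent.Lib.Helper24.Ord3

open Matrix Kronecker Polynomial
open Cfsg.Agent.S2678 (R₁ R₁_apply R₁_injective)
open Cfsg.Agent.S2639 (Mε key inv_herm e2 J₂ reindex_J₂)

/-- membership in the symplectic group after reindexing -/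
theorem reindex_mem_sp {F : Type*} [Field F] {n : Type*} [Fintype n] [DecidableEq n]
    (A : Matrix (n × Fin 2) (n × Fin 2) F) :
    Matrix.reindex (e2 n) (e2 n) A ∈ Matrix.symplecticGroup n F ↔
      Aᵀ * ((1 : Matrix n n F) ⊗ₖ J₂ F) * A = (1 : Matrix n n F) ⊗ₖ J₂ F := by
  rw [SymplecticGroup.mem_iff']
  have hJ : J n F = - Matrix.reindex (e2 n) (e2 n) ((1 : Matrix n n F) ⊗ₖ J₂ F) := by
    rw [reindex_J₂, neg_neg]
  rw [hJ, Matrix.mul_neg, Matrix.neg_mul, neg_inj]
  have h1 : (Matrix.reindex (e2 n) (e2 n) A)ᵀ *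
      Matrix.reindex (e2 n) (e2 n) ((1 : Matrix n n F) ⊗ₖ J₂ F) * Matrix.reindex (e2 n) (e2 n) A =
      Matrix.reindex (e2 n) (e2 n) (Aᵀ * ((1 : Matrix n n F) ⊗ₖ J₂ F) * A) := by
    simp only [Matrix.reindex_apply, Matrix.transpose_submatrix, Matrix.submatrix_mul_equiv]
  rw [h1]
  exact (Matrix.reindex (e2 n) (e2 n)).injective.eq_iff

/-- The model: a fixed-point-free element of order three of `Sp_2m(q)` whose centraliser is a copy
of `GU_m(q)`. -/
theorem model_card {F K : Type*} [Field F] [Fintype F] [Field K] [Fintype K] [Algebra F K]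
    {q : ℕ} (hF : Fintype.card F = q) (hK : Fintype.card K = q ^ 2) (hq : q % 3 = 2)
    (ω : K) (hω : ω ^ 2 + ω + 1 = 0) (hgen : ∀ y : K, ∃ P : F[X], y = aeval ω P) (m : ℕ) :
    ∃ x₀ : Matrix.symplecticGroup (Fin m) F,
      ((x₀ : Matrix (Fin m ⊕ Fin m) (Fin m ⊕ Fin m) F) ^ 2 +
        (x₀ : Matrix (Fin m ⊕ Fin m) (Fin m ⊕ Fin m) F) + 1 = 0) ∧
      Nat.card (Subgroup.centralizer ({x₀} : Set (Matrix.symplecticGroup (Fin m) F))) =
        Nat.card (Cfsg.GU m K q) := by
  classical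
  have hq2 : 2 ≤ q := by
    rw [← hF]
    exact Fintype.one_lt_card
  have hfr : Module.finrank F K = 2 := by
    have h1 := Module.card_eq_pow_finrank (K := F) (V := K)
    rw [hK, hF] at h1
    exact (Nat.pow_right_injective hq2 h1).symm
  obtain ⟨b⟩ : Nonempty (Module.Basis (Fin 2) F K) := ⟨Module.finBasisOfFinrankEq F K hfr⟩
  obtain ⟨σ, hσ⟩ : ∃ σ : K →+* K, σ = Cfsg.Agent.Lib.Helper27.Unitary.conjHom hK := ⟨_, rfl⟩
  have hσq : ∀ x : K, σ x = x ^ q := by
    intro x
    rw [hσ]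
    rfl
  have hσF : ∀ c : F, σ (algebraMap F K c) = algebraMap F K c := by
    intro c
    rw [hσq, ← map_pow, ← hF, FiniteField.pow_card]
  have hσσ : ∀ x : K, σ (σ x) = x := by
    intro x
    rw [hσq, hσq, ← pow_mul, ← pow_two, ← hK, FiniteField.pow_card]
  have htr : ∀ z : K, algebraMap F K (Algebra.trace F K z) = z + σ z := by
    intro z
    rw [FiniteField.algebraMap_trace_eq_sum_pow, hfr, Finset.sum_range_succ, Finset.sum_range_one,
      pow_zero, pow_one, pow_one, Nat.card_eq_fintype_card, hF, hσq]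
  obtain ⟨ε, hε0, hε'⟩ := Cfsg.Agent.Lib.Helper27.Unitary.exists_theta hK
  have hε : σ ε = -ε := by
    rw [hσq]
    exact (neg_eq_of_add_eq_zero_right hε').symm
  have hanti : ∀ x y : K,
      Algebra.trace F K (ε * (x * σ y)) = - Algebra.trace F K (ε * (y * σ x)) := by
    intro x y
    apply (algebraMap F K).injective
    rw [map_neg, htr, htr]
    simp only [map_mul, hσσ, hε]
    ring
  have halt : ∀ x : K, Algebra.trace F K (ε * (x * σ x)) = 0 := by
    intro x
    apply (algebraMap F K).injective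
    rw [map_zero, htr]
    simp only [map_mul, hσσ, hε]
    ring
  obtain ⟨μ, hμ⟩ : ∃ μ : F, μ = Mε b σ ε 0 1 := ⟨_, rfl⟩
  have hM : Mε b σ ε = μ • J₂ F := by
    ext s t
    fin_cases s <;> fin_cases t
    · simp [Mε, J₂, halt]
    · simp [J₂, hμ]
    · simp only [J₂, hμ, Mε]
      simpa using hanti _ _
    · simp [Mε, J₂, halt]
  have htrne : ∃ z : K, Algebra.trace F K z ≠ 0 := by
    obtain ⟨z, hz1⟩ := Algebra.trace_surjective F K (1 : F)
    exact ⟨z, by rw [hz1]; exact one_ne_zero⟩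
  have hμ0 : μ ≠ 0 := by
    intro h0
    have hM0 : Mε b σ ε = 0 := by rw [hM, h0, zero_smul]
    have hb0 : b 0 ≠ 0 := b.ne_zero 0
    have hz : ∀ z : K, Algebra.trace F K z = 0 := by
      intro z
      have h := key b σ hσF ε (z / ε / b 0) (1 / b 0) 0 0
      rw [hM0] at h
      simp only [Matrix.zero_apply, mul_zero, Finset.sum_const_zero, zero_mul] at h
      rw [div_mul_cancel₀ _ hb0, div_mul_cancel₀ _ hb0, map_one, mul_one,
        mul_div_cancel₀ _ hε0] at h
      exact h.symm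
    obtain ⟨z, hz1⟩ := htrne
    exact hz1 (hz z)
  -- the two forms of the invariance
  have hJM : ∀ A : Matrix (Fin m × Fin 2) (Fin m × Fin 2) F,
      Aᵀ * ((1 : Matrix (Fin m) (Fin m) F) ⊗ₖ J₂ F) * A = (1 : Matrix (Fin m) (Fin m) F) ⊗ₖ J₂ F ↔
      Aᵀ * ((1 : Matrix (Fin m) (Fin m) F) ⊗ₖ Mε b σ ε) * A =
        (1 : Matrix (Fin m) (Fin m) F) ⊗ₖ Mε b σ ε := by
    intro A
    rw [hM, kronecker_smul, Matrix.mul_smul, Matrix.smul_mul]
    constructor
    · intro h
      rw [h]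
    · intro h
      exact smul_right_injective _ hμ0 h
  -- the ring homomorphism
  obtain ⟨ρ, hρ⟩ : ∃ ρ : Matrix (Fin m) (Fin m) K →+*
      Matrix (Fin m ⊕ Fin m) (Fin m ⊕ Fin m) F,
      ρ = (Matrix.reindexAlgEquiv F F (e2 (Fin m))).toRingEquiv.toRingHom.comp (R₁ b) := ⟨_, rfl⟩
  have hρa : ∀ g, ρ g = Matrix.reindex (e2 (Fin m)) (e2 (Fin m)) (R₁ b g) := by
    intro g
    rw [hρ]
    rfl
  have hρinj : Function.Injective ρ := by
    intro g g' h
    rw [hρa, hρa] at h
    exact R₁_injective b ((Matrix.reindex (e2 (Fin m)) (e2 (Fin m))).injective h)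
  have hρmem : ∀ g : Matrix (Fin m) (Fin m) K,
      ρ g ∈ Matrix.symplecticGroup (Fin m) F ↔ gᵀ * g.map σ = 1 := by
    intro g
    rw [hρa, reindex_mem_sp, hJM]
    constructor
    · intro h
      exact unitary_of_inv_herm b σ hσF ε hε0 htrne g h
    · intro h
      exact inv_herm b σ hσF ε g h
  have hGU : ∀ g : GL (Fin m) K, g ∈ Cfsg.GU m K q ↔ g.1ᵀ * g.1.map σ = 1 := by
    intro g
    rw [Cfsg.Agent.Lib.Helper19.PSUGraph.mat_mem_GU_iff hK, hσ]
    rfl
  -- ω
  have hω3 : ω ^ 3 = 1 := by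
    have : ω ^ 3 - 1 = (ω - 1) * (ω ^ 2 + ω + 1) := by ring
    rw [hω, mul_zero, sub_eq_zero] at this
    exact this
  have hωσ : ω * σ ω = 1 := by
    rw [hσq, ← pow_succ']
    obtain ⟨t, ht⟩ : ∃ t, q + 1 = 3 * t := ⟨(q + 1) / 3, by omega⟩
    rw [ht, pow_mul, hω3, one_pow]
  obtain ⟨w, hw⟩ : ∃ w : Matrix (Fin m) (Fin m) K, w = ω • (1 : Matrix (Fin m) (Fin m) K) :=
    ⟨_, rfl⟩
  have hwu : wᵀ * w.map σ = 1 := by
    rw [hw, Matrix.smul_one_eq_diagonal, Matrix.diagonal_transpose,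
      Matrix.diagonal_map (map_zero σ), Matrix.diagonal_mul_diagonal]
    simp only [hωσ]
    exact Matrix.diagonal_one
  have hwc : ∀ g : Matrix (Fin m) (Fin m) K, w * g = g * w := by
    intro g
    rw [hw, smul_mul_assoc, one_mul, mul_smul_comm, mul_one]
  have hwf : w ^ 2 + w + 1 = 0 := by
    rw [hw, _root_.smul_pow, one_pow]
    have h1 : (ω ^ 2) • (1 : Matrix (Fin m) (Fin m) K) + ω • (1 : Matrix (Fin m) (Fin m) K) + 1 =
        (ω ^ 2 + ω + 1) • (1 : Matrix (Fin m) (Fin m) K) := by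
      rw [add_smul, add_smul, one_smul]
    rw [h1, hω, zero_smul]
  refine ⟨⟨ρ w, (hρmem w).mpr hwu⟩, ?_, ?_⟩
  · show ρ w ^ 2 + ρ w + 1 = 0
    rw [← map_pow, ← map_add, ← map_one ρ, ← map_add, hwf, map_zero]
  · symm
    have hmemc : ∀ g : ↥(Cfsg.GU m K q),
        (⟨ρ g.1.1, (hρmem g.1.1).mpr ((hGU g.1).mp g.2)⟩ : Matrix.symplecticGroup (Fin m) F) ∈
          Subgroup.centralizer
            ({⟨ρ w, (hρmem w).mpr hwu⟩} : Set (Matrix.symplecticGroup (Fin m) F)) := by
      intro g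
      rw [Subgroup.mem_centralizer_iff]
      intro h hh
      rw [Set.mem_singleton_iff] at hh
      rw [hh]
      apply Subtype.ext
      show ρ w * ρ g.1.1 = ρ g.1.1 * ρ w
      rw [← map_mul, ← map_mul, hwc]
    apply Nat.card_eq_of_bijective (fun g => ⟨_, hmemc g⟩)
    constructor
    · intro g g' h
      have h1 : ρ g.1.1 = ρ g'.1.1 := congrArg (fun z => (z.1.1 : Matrix _ _ F)) h
      exact Subtype.ext (Units.ext (hρinj h1))
    · rintro ⟨y, hy⟩
      rw [Subgroup.mem_centralizer_iff] at hy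
      have hy1 := hy _ (Set.mem_singleton _)
      have hy2 : ρ w * y.1 = y.1 * ρ w := congrArg Subtype.val hy1
      -- pull back
      obtain ⟨A, hA⟩ : ∃ A : Matrix (Fin m × Fin 2) (Fin m × Fin 2) F,
          Matrix.reindex (e2 (Fin m)) (e2 (Fin m)) A = y.1 :=
        ⟨(Matrix.reindex (e2 (Fin m)) (e2 (Fin m))).symm y.1, Equiv.apply_symm_apply _ _⟩
      have hAc : A * R₁ b w = R₁ b w * A := by
        apply (Matrix.reindex (e2 (Fin m)) (e2 (Fin m))).injective
        have h1 : ∀ X Y : Matrix (Fin m × Fin 2) (Fin m × Fin 2) F,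
            Matrix.reindex (e2 (Fin m)) (e2 (Fin m)) (X * Y) =
              Matrix.reindex (e2 (Fin m)) (e2 (Fin m)) X *
                Matrix.reindex (e2 (Fin m)) (e2 (Fin m)) Y := by
          intro X Y
          simp only [Matrix.reindex_apply, Matrix.submatrix_mul_equiv]
        rw [h1, h1, hA, ← hρa, hy2]
      rw [hw] at hAc
      obtain ⟨g, hg⟩ := exists_R₁_of_comm b ω hgen A hAc
      have hyρ : ρ g = y.1 := by rw [hρa, ← hg, hA]
      have hgu : gᵀ * g.map σ = 1 := by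
        rw [← hρmem, hyρ]
        exact y.2
      have hgunit : IsUnit g := by
        have h1 := congrArg Matrix.transpose hgu
        rw [Matrix.transpose_mul, Matrix.transpose_transpose, Matrix.transpose_one] at h1
        exact (Matrix.isUnit_iff_isUnit_det g).mpr (Matrix.isUnit_det_of_left_inverse h1)
      obtain ⟨g', hg'⟩ := hgunit
      have hg'm : g' ∈ Cfsg.GU m K q := by
        rw [hGU, hg']
        exact hgu
      refine ⟨⟨g', hg'm⟩, ?_⟩
      apply Subtype.ext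
      apply Subtype.ext
      show ρ g'.1 = y.1
      rw [hg', hyρ]

end Cfsg.Agent.Lib.Helper24.Ord3
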