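import Mathlib
import Cfsg.Agent.Lib.Helper24.Ord3C
import Cfsg.Agent.Lib.Helper27.UOrder
import Cfsg.Agent.S2389

set_option autoImplicit false
set_option linter.style.haveILetI false
set_option linter.unusedSimpArgs false
set_option linter.unusedSectionVars false

namespace Cfsg.Agent.Lib.Helper24.Ord3

open Matrix Polynomial

/-- The model element with the order of its centraliser. -/
theorem exists_model {F : Type*} [Field F] [Fintype F] {q : ℕ} (hF : Fintype.card F = q)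
    (hq : q % 3 = 2) (m : ℕ) :
    ∃ x₀ : Matrix.symplecticGroup (Fin m) F,
      ((x₀ : Matrix (Fin m ⊕ Fin m) (Fin m ⊕ Fin m) F) ^ 2 +
        (x₀ : Matrix (Fin m ⊕ Fin m) (Fin m ⊕ Fin m) F) + 1 = 0) ∧
      Nat.card (Subgroup.centralizer ({x₀} : Set (Matrix.symplecticGroup (Fin m) F))) =
        q ^ (m * (m - 1) / 2) *
          ∏ i ∈ Finset.range m, (if Even i then q ^ (i + 1) + 1 else q ^ (i + 1) - 1) := by
  have hcard3 : Fintype.card F % 3 = 2 := by rw [hF]; exact hq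
  haveI : Fact (Irreducible (f3 F)) := ⟨irr_f3 hcard3⟩
  haveI : Module.Finite F (AdjoinRoot (f3 F)) :=
    (AdjoinRoot.powerBasis (f3_monic F).ne_zero).finite
  haveI : Finite (AdjoinRoot (f3 F)) := Module.finite_of_finite F
  haveI : Fintype (AdjoinRoot (f3 F)) := Fintype.ofFinite _
  have hfr : Module.finrank F (AdjoinRoot (f3 F)) = 2 := by
    rw [(AdjoinRoot.powerBasis (f3_monic F).ne_zero).finrank, AdjoinRoot.powerBasis_dim,
      f3_natDegree]
  have hK : Fintype.card (AdjoinRoot (f3 F)) = q ^ 2 := by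
    rw [Module.card_eq_pow_finrank (K := F), hfr, hF]
  have hω : (AdjoinRoot.root (f3 F)) ^ 2 + AdjoinRoot.root (f3 F) + 1 = 0 := by
    have h := AdjoinRoot.eval₂_root (f3 F)
    unfold f3 at h ⊢
    simpa using h
  have hgen : ∀ y : AdjoinRoot (f3 F), ∃ P : F[X], y = aeval (AdjoinRoot.root (f3 F)) P := by
    intro y
    induction y using AdjoinRoot.induction_on with
    | ih P => exact ⟨P, (AdjoinRoot.aeval_eq P).symm⟩
  obtain ⟨x₀, h1, h2⟩ := model_card hF hK hq _ hω hgen m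
  exact ⟨x₀, h1, by rw [h2, Cfsg.Agent.Lib.Helper27.Unitary.card_GU hK]⟩

/-- conjugate elements have centralisers of the same order -/
theorem card_centralizer_of_isConj {G : Type*} [Group G] (x y : G) (h : IsConj x y) :
    Nat.card (Subgroup.centralizer ({x} : Set G)) = Nat.card (Subgroup.centralizer ({y} : Set G)) := by
  obtain ⟨c, hc⟩ := isConj_iff.mp h
  subst hc
  apply Nat.card_congr
  refine ⟨fun z => ⟨c * z.1 * c⁻¹, ?_⟩, fun z => ⟨c⁻¹ * z.1 * c, ?_⟩, ?_, ?_⟩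
  · have hz := Subgroup.mem_centralizer_singleton_iff.mp z.2
    rw [Subgroup.mem_centralizer_singleton_iff]
    have e1 : c * z.1 * c⁻¹ * (c * x * c⁻¹) = c * (z.1 * x) * c⁻¹ := by group
    have e2 : c * x * c⁻¹ * (c * z.1 * c⁻¹) = c * (x * z.1) * c⁻¹ := by group
    rw [e1, e2, hz]
  · have hz := Subgroup.mem_centralizer_singleton_iff.mp z.2
    rw [Subgroup.mem_centralizer_singleton_iff]
    have e1 : c⁻¹ * z.1 * c * x = c⁻¹ * (z.1 * (c * x * c⁻¹)) * c := by group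
    have e2 : x * (c⁻¹ * z.1 * c) = c⁻¹ * ((c * x * c⁻¹) * z.1) * c := by group
    rw [e1, e2, hz]
  · intro z
    apply Subtype.ext
    show c⁻¹ * (c * z.1 * c⁻¹) * c = z.1
    group
  · intro z
    apply Subtype.ext
    show c * (c⁻¹ * z.1 * c) * c⁻¹ = z.1
    group

/-- The order of the centraliser of a fixed-point-free element of order three. -/
theorem card_centralizer_order_three {F : Type*} [Field F] [Fintype F] {q : ℕ}
    (hF : Fintype.card F = q) (hq : q % 3 = 2) (m : ℕ)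
    (x : Matrix.symplecticGroup (Fin m) F) (hx3 : x ^ 3 = 1)
    (hfpf : IsUnit ((x : Matrix (Fin m ⊕ Fin m) (Fin m ⊕ Fin m) F) - 1)) :
    Nat.card (Subgroup.centralizer ({x} : Set (Matrix.symplecticGroup (Fin m) F))) =
      q ^ (m * (m - 1) / 2) *
        ∏ i ∈ Finset.range m, (if Even i then q ^ (i + 1) + 1 else q ^ (i + 1) - 1) := by
  classical
  obtain ⟨x₀, hx₀, hcard⟩ := exists_model hF hq m
  have hcard3 : Fintype.card F % 3 = 2 := by rw [hF]; exact hq
  obtain ⟨p, hp⟩ := CharP.exists F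
  haveI := hp
  haveI : Fact p.Prime := ⟨CharP.char_is_prime F p⟩
  have hp3 : p ≠ 3 := by
    intro h3
    apply three_ne_zero_of_card hcard3
    have := CharP.cast_eq_zero F p
    rw [h3] at this
    exact_mod_cast this
  have hcop : Nat.Coprime 3 p :=
    (Nat.coprime_primes Nat.prime_three (Fact.out : p.Prime)).mpr (Ne.symm hp3)
  -- the polynomial kills x
  have hxf : (x : Matrix (Fin m ⊕ Fin m) (Fin m ⊕ Fin m) F) ^ 2 +
      (x : Matrix (Fin m ⊕ Fin m) (Fin m ⊕ Fin m) F) + 1 = 0 := by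
    have h3 : (x : Matrix (Fin m ⊕ Fin m) (Fin m ⊕ Fin m) F) ^ 3 = 1 := congrArg Subtype.val hx3
    obtain ⟨u, hu⟩ := hfpf
    have h1 : ((x : Matrix (Fin m ⊕ Fin m) (Fin m ⊕ Fin m) F) - 1) *
        ((x : Matrix (Fin m ⊕ Fin m) (Fin m ⊕ Fin m) F) ^ 2 +
          (x : Matrix (Fin m ⊕ Fin m) (Fin m ⊕ Fin m) F) + 1) = 0 := by
      have h2 : ((x : Matrix (Fin m ⊕ Fin m) (Fin m ⊕ Fin m) F) - 1) *
          ((x : Matrix (Fin m ⊕ Fin m) (Fin m ⊕ Fin m) F) ^ 2 +
            (x : Matrix (Fin m ⊕ Fin m) (Fin m ⊕ Fin m) F) + 1) =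
          (x : Matrix (Fin m ⊕ Fin m) (Fin m ⊕ Fin m) F) ^ 3 - 1 := by noncomm_ring
      rw [h2, h3, sub_self]
    rw [← hu] at h1
    exact (Units.mul_right_eq_zero u).mp h1
  have hx₀3 : x₀ ^ 3 = 1 := by
    apply Subtype.ext
    show (x₀ : Matrix (Fin m ⊕ Fin m) (Fin m ⊕ Fin m) F) ^ 3 = 1
    have h2 : (x₀ : Matrix (Fin m ⊕ Fin m) (Fin m ⊕ Fin m) F) ^ 3 - 1 =
        ((x₀ : Matrix (Fin m ⊕ Fin m) (Fin m ⊕ Fin m) F) - 1) *
          ((x₀ : Matrix (Fin m ⊕ Fin m) (Fin m ⊕ Fin m) F) ^ 2 +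
            (x₀ : Matrix (Fin m ⊕ Fin m) (Fin m ⊕ Fin m) F) + 1) := by noncomm_ring
    rw [hx₀, mul_zero, sub_eq_zero] at h2
    exact h2
  have haev : ∀ A : Matrix (Fin m ⊕ Fin m) (Fin m ⊕ Fin m) F, A ^ 2 + A + 1 = 0 →
      aeval A (f3 F) = 0 := by
    intro A hA
    unfold f3
    rw [map_add, map_add, map_pow, aeval_X, map_one]
    exact hA
  have hc : (x : Matrix (Fin m ⊕ Fin m) (Fin m ⊕ Fin m) F).charpoly =
      (x₀ : Matrix (Fin m ⊕ Fin m) (Fin m ⊕ Fin m) F).charpoly :=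
    charpoly_eq_of_aeval _ _ (f3 F) (irr_f3 hcard3) (f3_monic F) (haev _ hxf) (haev _ hx₀)
  have hox : (orderOf x).Coprime p :=
    Nat.Coprime.coprime_dvd_left (orderOf_dvd_of_pow_eq_one hx3) hcop
  have hox₀ : (orderOf x₀).Coprime p :=
    Nat.Coprime.coprime_dvd_left (orderOf_dvd_of_pow_eq_one hx₀3) hcop
  have hconj : IsConj x x₀ := Cfsg.Agent.S2389.result p m x x₀ hox hox₀ hc
  rw [card_centralizer_of_isConj x x₀ hconj, hcard]

end Cfsg.Agent.Lib.Helper24.Ord3
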