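import Mathlib
import Cfsg.Agent.Lib.Helper24.OrthDecomp
import Cfsg.Agent.Lib.Helper27.SympWitt

set_option autoImplicit false
set_option linter.style.haveILetI false

namespace Cfsg.Agent.Lib.Helper24.OrthDecompSp

open Cfsg Cfsg.Agent.Lib.Helper27.SympTransv Cfsg.Agent.Lib.Helper24.OrthDecomp

variable {F : Type*} [Field F]

theorem symp_orth_decomposition {d : ℕ} (hd : 1 ≤ d)
    (X : Matrix (Fin d ⊕ Fin d) (Fin d ⊕ Fin d) F) (hX : X ∈ Matrix.symplecticGroup (Fin d) F)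
    (z : F) (hXX : X * X = z • (1 : Matrix (Fin d ⊕ Fin d) (Fin d ⊕ Fin d) F))
    {a' t : ℕ} (hat : d = a' * t) (ha' : 1 ≤ a') :
    ∃ D : Fin t → Submodule F (Fin d ⊕ Fin d → F), (∀ j, Module.finrank F ↥(D j) = 2 * a') ∧
      iSupIndep D ∧ iSup D = ⊤ ∧
      (∀ j, ∀ u ∈ D j, u ≠ 0 → ∃ v ∈ D j, sympForm d F u v ≠ 0) ∧
      (∀ j j', j ≠ j' → ∀ u ∈ D j, ∀ v ∈ D j', sympForm d F u v = 0) ∧
      ∃ σ : Equiv.Perm (Fin t), ∀ j, (D j).map (Matrix.toLin' X) = D (σ j) := by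
  have hx : ∀ v, Matrix.toLin' X (Matrix.toLin' X v) = z • v := by
    intro v
    rw [← LinearMap.comp_apply, ← Matrix.toLin'_mul, hXX]
    simp
  have hinv : ∀ a b, sympB d F (Matrix.toLin' X a) (Matrix.toLin' X b) = sympB d F a b := by
    intro a b
    rw [sympB_apply, sympB_apply, Matrix.toLin'_apply, Matrix.toLin'_apply]
    exact sp_preserves X hX a b
  have hnd : ∀ a, (∀ b, sympB d F a b = 0) → a = 0 := by
    intro a ha
    by_contra hne
    obtain ⟨b, -, hb⟩ := nondegOn_top a Submodule.mem_top hne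
    apply hb
    rw [← sympB_apply]
    exact ha b
  have hz0 : z ≠ 0 := by
    rintro rfl
    have hne : (Pi.single (Sum.inl ⟨0, hd⟩) 1 : Fin d ⊕ Fin d → F) ≠ 0 := by
      intro h
      have := congrFun h (Sum.inl ⟨0, hd⟩)
      simp at this
    obtain ⟨b, hb⟩ : ∃ b, sympB d F (Pi.single (Sum.inl ⟨0, hd⟩) 1) b ≠ 0 := by
      by_contra hcon
      push Not at hcon
      exact hne (hnd _ hcon)
    have h1 := hinv (Matrix.toLin' X (Pi.single (Sum.inl ⟨0, hd⟩) 1)) (Matrix.toLin' X b)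
    rw [hx, hx, hinv, zero_smul, zero_smul] at h1
    apply hb
    rw [← h1]
    simp
  have hdim : Module.finrank F (Fin d ⊕ Fin d → F) = 2 * d := by
    rw [Module.finrank_fintype_fun_eq_card, Fintype.card_sum, Fintype.card_fin]
    ring
  obtain ⟨D, h1, h2, h3, h4, h5, h6⟩ := exists_orth_decomposition (sympB d F)
    (fun v => sympB_isAlt v) hnd (Matrix.toLin' X) z hz0 hinv hx hdim hat ha'
  refine ⟨D, h1, h2, h3, ?_, ?_, h6⟩
  · intro j u hu hu0
    obtain ⟨v, hv, hne⟩ := h4 j u hu hu0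
    exact ⟨v, hv, by rw [← sympB_apply]; exact hne⟩
  · intro j j' hjj' u hu v hv
    rw [← sympB_apply]
    exact h5 j j' hjj' u hu v hv

end Cfsg.Agent.Lib.Helper24.OrthDecompSp
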