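import Mathlib
import Cfsg.Agent.Lib.Helper19.OrthCD2e
import Cfsg.Agent.Lib.Helper19.QuadStd
import Cfsg.Prelude.Def_SporadicB

/-!
# Orthogonal transvections over `F₂` form a generating class of 3-transpositions

For a quadratic form `Q` on `ι → ZMod 2` with non-degenerate polar form and `card ι ≠ 4`, the isometries
`g` with `rank (g - 1) = 1` are exactly the reflections (`mem_D_iff`), and they form a class of
3-transpositions generating the isometry group (`main`, `main'`).  Built on helper19's `OrthRefl` library.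
-/

set_option autoImplicit false
set_option linter.style.haveILetI false
set_option linter.unusedSectionVars false

namespace Cfsg.Agent.Lib.Helper24
namespace OrthTransp
open Matrix QuadraticMap Module Cfsg.Agent.Lib.Helper19.OrthRefl Cfsg.Agent.Lib.Helper19.Parity

variable {ι : Type} [Fintype ι] [DecidableEq ι]

theorem zmod2_cases (a : ZMod 2) : a = 0 ∨ a = 1 := by
  revert a; decide

theorem two_eq_zero' : (2 : ZMod 2) = 0 := by decide

theorem vec_neg (x : ι → ZMod 2) : -x = x := c2_neg two_eq_zero' x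

/-- a rank-one matrix is an outer product -/
theorem rank_one_eq_vecMulVec' {F : Type*} [Field F] (M : Matrix ι ι F)
    (h : M.rank = 1) : ∃ a b : ι → F, M = Matrix.vecMulVec a b := by
  classical
  have h1 : Module.finrank F (LinearMap.range M.mulVecLin) = 1 := h
  obtain ⟨⟨a, ha⟩, _, hspan⟩ := finrank_eq_one_iff'.mp h1
  have hcol : ∀ j : ι, ∃ c : F, c • a = M.mulVecLin (Pi.single j 1) := by
    intro j
    obtain ⟨c, hc⟩ := hspan ⟨M.mulVecLin (Pi.single j 1), LinearMap.mem_range_self _ _⟩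
    exact ⟨c, congrArg Subtype.val hc⟩
  choose b hb using hcol
  refine ⟨a, b, ?_⟩
  ext i j
  have := congrFun (hb j) i
  rw [Matrix.mulVecLin_apply, Matrix.mulVec_single_one] at this
  rw [Matrix.vecMulVec_apply]
  simp only [Pi.smul_apply, smul_eq_mul] at this
  rw [mul_comm]
  exact this.symm

theorem rank_ne_zero_of_ne_zero {F : Type*} [Field F] (M : Matrix ι ι F) (h : M ≠ 0) :
    M.rank ≠ 0 := by
  intro h0
  apply h
  have h1 : Module.finrank F (LinearMap.range M.mulVecLin) = 0 := h0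
  rw [Submodule.finrank_eq_zero, LinearMap.range_eq_bot] at h1
  ext i j
  have := congrFun (LinearMap.congr_fun h1 (Pi.single j 1)) i
  simpa [Matrix.mulVecLin_apply] using this

variable (Q : QuadraticForm (ZMod 2) (ι → ZMod 2))

/-- the orthogonal transvections -/
def D : Set ↥(Cfsg.isometryGroup (ZMod 2) ⇑Q) :=
  {g | (((g : Matrix.GeneralLinearGroup ι (ZMod 2)) : Matrix ι ι (ZMod 2)) - 1).rank = 1}

theorem Q_eq_one {v : ι → ZMod 2} (hv : Q v ≠ 0) : Q v = 1 :=
  (zmod2_cases (Q v)).resolve_left hv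

theorem act_refl₂ (v : ι → ZMod 2) (hv : Q v ≠ 0) (x : ι → ZMod 2) :
    act (refl Q v hv) x = x + polar (⇑Q) v x • v := by
  rw [act_refl, Q_eq_one Q hv, inv_one, one_mul, c2_sub two_eq_zero']

theorem dotProduct_polarVec (v x : ι → ZMod 2) :
    Cfsg.polarVec (⇑Q) v ⬝ᵥ x = polar (⇑Q) v x := by
  have hx : x = ∑ j, x j • (Pi.single j 1 : ι → ZMod 2) := by
    funext i
    simp [Finset.sum_apply, Pi.single_apply]
  conv_rhs => rw [hx]
  have : polar (⇑Q) v (∑ j, x j • (Pi.single j 1 : ι → ZMod 2)) =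
      ∑ j, x j * polar (⇑Q) v (Pi.single j 1) := by
    have h := map_sum ((polarBilin Q) v) (fun j => x j • (Pi.single j 1 : ι → ZMod 2)) Finset.univ
    simp only [map_smul, smul_eq_mul] at h
    exact h
  rw [this]
  unfold Cfsg.polarVec dotProduct
  refine Finset.sum_congr rfl (fun j _ => ?_)
  ring


theorem vecMulVec_mulVec' {F : Type*} [Field F] (a b x : ι → F) :
    Matrix.vecMulVec a b *ᵥ x = (b ⬝ᵥ x) • a := by
  funext i
  simp only [Matrix.mulVec, dotProduct, Matrix.vecMulVec_apply, Pi.smul_apply, smul_eq_mul,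
    Finset.sum_mul]
  refine Finset.sum_congr rfl (fun j _ => ?_)
  ring

theorem exists_polar_ne_zero (hQ : (polarBilin Q).Nondegenerate) {v : ι → ZMod 2} (hv : v ≠ 0) :
    ∃ x, polar (⇑Q) v x ≠ 0 := by
  by_contra h
  simp only [not_exists, not_not] at h
  apply hv
  have h1 : ∀ x, (polarBilin Q) x v = 0 := by
    intro x
    show polar (⇑Q) x v = 0
    rw [QuadraticMap.polar_comm]; exact h x
  exact hQ.2 v h1

theorem ne_zero_of_Q_ne_zero {v : ι → ZMod 2} (hv : Q v ≠ 0) : v ≠ 0 := by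
  intro h; apply hv; rw [h, QuadraticMap.map_zero]

theorem refl_ne_one (hQ : (polarBilin Q).Nondegenerate) (v : ι → ZMod 2) (hv : Q v ≠ 0) :
    refl Q v hv ≠ 1 := by
  intro h
  obtain ⟨x, hx⟩ := exists_polar_ne_zero Q hQ (ne_zero_of_Q_ne_zero Q hv)
  have h1 := act_refl₂ Q v hv x
  rw [h, act_one] at h1
  have h2 : polar (⇑Q) v x • v = 0 := by
    have := h1.symm
    rwa [add_eq_left] at this
  rw [(zmod2_cases _).resolve_left hx, one_smul] at h2
  exact ne_zero_of_Q_ne_zero Q hv h2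

theorem refl_mem_D (hQ : (polarBilin Q).Nondegenerate) (v : ι → ZMod 2) (hv : Q v ≠ 0) :
    refl Q v hv ∈ D Q := by
  show ((((refl Q v hv : ↥(Cfsg.isometryGroup (ZMod 2) ⇑Q)) : Matrix.GeneralLinearGroup ι (ZMod 2)) :
    Matrix ι ι (ZMod 2)) - 1).rank = 1
  rw [refl_coe]
  have hM : Cfsg.reflectionMatrix (⇑Q) v - 1 =
      Matrix.vecMulVec (-(Q v)⁻¹ • v) (Cfsg.polarVec (⇑Q) v) := by
    unfold Cfsg.reflectionMatrix
    rw [Matrix.smul_vecMulVec, neg_smul]
    abel
  rw [hM]
  apply le_antisymm (Matrix.rank_vecMulVec_le _ _)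
  rw [Nat.one_le_iff_ne_zero]
  apply rank_ne_zero_of_ne_zero
  rw [← hM]
  intro h0
  apply refl_ne_one Q hQ v hv
  apply Subtype.ext
  apply Units.ext
  rw [refl_coe]
  exact sub_eq_zero.mp h0

theorem mem_D_iff (hQ : (polarBilin Q).Nondegenerate) (g : ↥(Cfsg.isometryGroup (ZMod 2) ⇑Q)) :
    g ∈ D Q ↔ ∃ (v : ι → ZMod 2) (hv : Q v ≠ 0), g = refl Q v hv := by
  constructor
  · intro hg
    obtain ⟨a, b, hab⟩ := rank_one_eq_vecMulVec' _ hg
    have hact : ∀ x, act g x = x + (b ⬝ᵥ x) • a := by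
      intro x
      rw [act_def]
      have : ((g : Matrix.GeneralLinearGroup ι (ZMod 2)) : Matrix ι ι (ZMod 2)) =
          1 + Matrix.vecMulVec a b := by rw [← hab]; abel
      rw [this, Matrix.add_mulVec, Matrix.one_mulVec, vecMulVec_mulVec']
    have hMne : Matrix.vecMulVec a b ≠ 0 := by
      intro h0
      rw [← hab] at h0
      have : (((g : Matrix.GeneralLinearGroup ι (ZMod 2)) : Matrix ι ι (ZMod 2)) - 1).rank = 1 := hg
      rw [h0, Matrix.rank_zero] at this
      exact zero_ne_one this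
    have hb : b ≠ 0 := by
      intro h0; apply hMne; rw [h0]; ext i j; simp [Matrix.vecMulVec_apply]
    have ha : a ≠ 0 := by
      intro h0; apply hMne; rw [h0]; ext i j; simp [Matrix.vecMulVec_apply]
    -- the isometry condition
    have hiso : ∀ x, b ⬝ᵥ x = 1 → polar (⇑Q) a x = Q a := by
      intro x hx
      have h1 := Q_act g x
      rw [hact x, hx, one_smul] at h1
      have h2 : Q (x + a) = Q x + Q a + polar (⇑Q) x a := by
        unfold QuadraticMap.polar; ring
      rw [h2, QuadraticMap.polar_comm] at h1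
      have h3 : Q a + polar (⇑Q) a x = 0 := by linear_combination h1
      have : polar (⇑Q) a x = -Q a := by linear_combination h3
      rw [this]
      rcases zmod2_cases (Q a) with h | h <;> rw [h] <;> decide
    obtain ⟨j, hj⟩ : ∃ j, b j ≠ 0 := by
      by_contra h
      simp only [not_exists, not_not] at h
      exact hb (funext h)
    have hx₀ : b ⬝ᵥ (Pi.single j 1 : ι → ZMod 2) = 1 := by
      rw [dotProduct_single, mul_one]
      exact (zmod2_cases _).resolve_left hj
    have hpol : ∀ x, polar (⇑Q) a x = Q a * (b ⬝ᵥ x) := by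
      intro x
      rcases zmod2_cases (b ⬝ᵥ x) with hx | hx
      · have h1 : b ⬝ᵥ (x + Pi.single j 1) = 1 := by
          rw [dotProduct_add, hx, hx₀, zero_add]
        have h2 := hiso _ h1
        have h3 := hiso _ hx₀
        rw [QuadraticMap.polar_add_right, h3] at h2
        rw [hx, mul_zero]
        linear_combination h2
      · rw [hx, mul_one]; exact hiso x hx
    have hQa : Q a ≠ 0 := by
      intro h0
      obtain ⟨x, hx⟩ := exists_polar_ne_zero Q hQ ha
      rw [hpol x, h0, zero_mul] at hx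
      exact hx rfl
    refine ⟨a, hQa, ?_⟩
    apply ext_act
    intro x
    rw [hact x, act_refl₂, hpol x, Q_eq_one Q hQa, one_mul]
  · rintro ⟨v, hv, rfl⟩
    exact refl_mem_D Q hQ v hv


theorem refl_congr {u v : ι → ZMod 2} (h : u = v) (hu : Q u ≠ 0) (hv : Q v ≠ 0) :
    refl Q u hu = refl Q v hv := by
  subst h; rfl

theorem orderOf_refl (hQ : (polarBilin Q).Nondegenerate) (v : ι → ZMod 2) (hv : Q v ≠ 0) :
    orderOf (refl Q v hv) = 2 :=
  orderOf_eq_prime (by rw [pow_two]; exact refl_mul_self Q v hv) (refl_ne_one Q hQ v hv)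

theorem conj_refl₂ (u v : ι → ZMod 2) (hu : Q u ≠ 0) (hv : Q v ≠ 0)
    (hw : Q (v + polar (⇑Q) u v • u) ≠ 0) :
    refl Q u hu * refl Q v hv * refl Q u hu = refl Q (v + polar (⇑Q) u v • u) hw := by
  have h1 : Q (act (refl Q u hu) v) ≠ 0 := by rw [Q_act (refl Q u hu) v]; exact hv
  have h2 := conj_refl Q v hv (refl Q u hu) h1
  rw [refl_inv] at h2
  rw [h2]
  exact refl_congr Q (act_refl₂ Q u hu v) h1 hw

theorem pair_refl (u v : ι → ZMod 2) (hu : Q u ≠ 0) (hv : Q v ≠ 0) :
    (refl Q u hu * refl Q v hv) ^ 2 = 1 ∨ (refl Q u hu * refl Q v hv) ^ 3 = 1 := by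
  rcases zmod2_cases (polar (⇑Q) u v) with hc | hc
  · left
    have hw : Q (v + polar (⇑Q) u v • u) ≠ 0 := by rw [hc, zero_smul, add_zero]; exact hv
    have h1 := conj_refl₂ Q u v hu hv hw
    have h2 : refl Q (v + polar (⇑Q) u v • u) hw = refl Q v hv :=
      refl_congr Q (by rw [hc, zero_smul, add_zero]) hw hv
    rw [h2] at h1
    -- ru rv ru = rv
    rw [pow_two]
    calc refl Q u hu * refl Q v hv * (refl Q u hu * refl Q v hv)
        = (refl Q u hu * refl Q v hv * refl Q u hu) * refl Q v hv := by group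
      _ = 1 := by rw [h1, refl_mul_self]
  · right
    have hc' : polar (⇑Q) v u = 1 := by rw [QuadraticMap.polar_comm]; exact hc
    have hQuv : Q (v + u) ≠ 0 := by
      have : Q (v + u) = Q v + Q u + polar (⇑Q) v u := by unfold QuadraticMap.polar; ring
      rw [this, Q_eq_one Q hu, Q_eq_one Q hv, hc']
      decide
    have hw1 : Q (v + polar (⇑Q) u v • u) ≠ 0 := by rw [hc, one_smul]; exact hQuv
    have hw2 : Q (u + polar (⇑Q) v u • v) ≠ 0 := by rw [hc', one_smul, add_comm]; exact hQuv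
    have h1 := conj_refl₂ Q u v hu hv hw1
    have h2 := conj_refl₂ Q v u hv hu hw2
    have e1 : refl Q (v + polar (⇑Q) u v • u) hw1 = refl Q (v + u) hQuv :=
      refl_congr Q (by rw [hc, one_smul]) hw1 hQuv
    have e2 : refl Q (u + polar (⇑Q) v u • v) hw2 = refl Q (v + u) hQuv :=
      refl_congr Q (by rw [hc', one_smul, add_comm]) hw2 hQuv
    rw [e1] at h1
    rw [e2] at h2
    calc (refl Q u hu * refl Q v hv) ^ 3
        = (refl Q u hu * refl Q v hv * refl Q u hu) * (refl Q v hv * refl Q u hu * refl Q v hv) := by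
          rw [pow_three]; group
      _ = 1 := by rw [h1, h2, refl_mul_self]

theorem D_eq_Rset (hQ : (polarBilin Q).Nondegenerate) : D Q = Rset Q := by
  ext g
  rw [mem_D_iff Q hQ]
  rfl

theorem main (hQ : (polarBilin Q).Nondegenerate) (h4 : Fintype.card ι ≠ 4) (hex : ∃ v, Q v ≠ 0) :
    Cfsg.IsThreeTranspositionClass (D Q) := by
  refine ⟨⟨?_, ?_⟩, ?_, ?_⟩
  · intro d hd
    obtain ⟨v, hv, rfl⟩ := (mem_D_iff Q hQ d).mp hd
    exact orderOf_refl Q hQ v hv
  · intro d hd e he
    obtain ⟨u, hu, rfl⟩ := (mem_D_iff Q hQ d).mp hd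
    obtain ⟨v, hv, rfl⟩ := (mem_D_iff Q hQ e).mp he
    exact pair_refl Q u v hu hv
  · obtain ⟨v₀, hv₀⟩ := hex
    refine ⟨refl Q v₀ hv₀, refl_mem_D Q hQ v₀ hv₀, ?_⟩
    have hbad : ¬ Bad Q (⊤ : Submodule (ZMod 2) (ι → ZMod 2)) := by
      rintro ⟨_, hd, _⟩
      rw [finrank_top, Module.finrank_fintype_fun_eq_card] at hd
      exact h4 hd
    ext g
    show _ ↔ IsConj _ _
    rw [isConj_iff]
    constructor
    · intro hg
      obtain ⟨v, hv, rfl⟩ := (mem_D_iff Q hQ g).mp hg
      obtain ⟨t, _, ht⟩ := exists_TW_map two_eq_zero' Q hQ (nondeg_top hQ) hbad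
        (Submodule.mem_top : v₀ ∈ (⊤ : Submodule (ZMod 2) (ι → ZMod 2)))
        (Submodule.mem_top : v ∈ (⊤ : Submodule (ZMod 2) (ι → ZMod 2))) hv₀
        (by rw [Q_eq_one Q hv₀, Q_eq_one Q hv])
      refine ⟨t, ?_⟩
      have h1 : Q (act t v₀) ≠ 0 := by rw [Q_act t v₀]; exact hv₀
      rw [conj_refl Q v₀ hv₀ t h1]
      exact refl_congr Q ht h1 hv
    · rintro ⟨c, rfl⟩
      have h1 : Q (act c v₀) ≠ 0 := by rw [Q_act c v₀]; exact hv₀
      rw [conj_refl Q v₀ hv₀ c h1]
      exact refl_mem_D Q hQ _ h1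
  · rw [D_eq_Rset Q hQ]
    exact closure_Rset_c2 two_eq_zero' Q hQ (Or.inr h4)


theorem exists_nonsingular [Nonempty ι] (hQ : (polarBilin Q).Nondegenerate) : ∃ v, Q v ≠ 0 := by
  by_contra h
  simp only [not_exists, not_not] at h
  obtain ⟨i⟩ := (inferInstance : Nonempty ι)
  have hv : (Pi.single i 1 : ι → ZMod 2) ≠ 0 := by
    intro h0
    have := congrFun h0 i
    simp at this
  obtain ⟨x, hx⟩ := exists_polar_ne_zero Q hQ hv
  apply hx
  unfold QuadraticMap.polar
  rw [h, h, h]; ring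

theorem main' [Nonempty ι] (Q' : (ι → ZMod 2) → ZMod 2) (h : ⇑Q = Q')
    (hQ : (polarBilin Q).Nondegenerate) (h4 : Fintype.card ι ≠ 4) :
    Cfsg.IsThreeTranspositionClass {g : ↥(Cfsg.isometryGroup (ZMod 2) Q') |
      (((g : Matrix.GeneralLinearGroup ι (ZMod 2)) : Matrix ι ι (ZMod 2)) - 1).rank = 1} := by
  subst h
  exact main Q hQ h4 (exists_nonsingular Q hQ)

end OrthTransp
end Cfsg.Agent.Lib.Helper24
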