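import Mathlib

/-!
# Maximal element order of `PGL_d(q)`

`order_bound`: `(q-1) * orderOf ḡ ≤ q^d - 1` for every `ḡ ∈ GL_d(F)/Z` (via `F[g]`, Cayley–Hamilton);
`exists_singer`: a Singer cycle attains the bound.
-/

set_option autoImplicit false
set_option linter.style.haveILetI false
set_option linter.unusedSectionVars false

namespace Cfsg.Agent.Lib.Helper24
namespace PGLOrder
open Matrix Polynomial

variable {F : Type*} [Field F] [Fintype F]

/-- `c • g^i` is a combination of `1, g, …, g^(d-1)` -/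
theorem smul_pow_eq_sum (d : ℕ) (M : Matrix (Fin d) (Fin d) F) (c : F) (i : ℕ) :
    ∃ a : Fin d → F, c • M ^ i = ∑ j : Fin d, a j • M ^ (j : ℕ) := by
  classical
  rw [Matrix.pow_eq_aeval_mod_charpoly]
  set r := (X ^ i %ₘ M.charpoly : F[X]) with hr
  have hdeg : r.natDegree < d ∨ d = 0 := by
    rcases Nat.eq_zero_or_pos d with h | h
    · right; exact h
    · left
      have h1 : (M.charpoly).natDegree = d := by
        rw [Matrix.charpoly_natDegree_eq_dim, Fintype.card_fin]
      have hne : M.charpoly ≠ 1 := by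
        intro e
        rw [e] at h1
        simp at h1
        omega
      have := Polynomial.natDegree_modByMonic_lt (X ^ i) (Matrix.charpoly_monic M) hne
      rwa [h1] at this
  rcases hdeg with hdeg | hd0
  · refine ⟨fun j => c * r.coeff j, ?_⟩
    rw [Polynomial.aeval_eq_sum_range' hdeg, Finset.smul_sum, ← Fin.sum_univ_eq_sum_range
      (fun j => c • (r.coeff j • M ^ j)) d]
    refine Finset.sum_congr rfl (fun j _ => ?_)
    rw [smul_smul]
  · subst hd0
    refine ⟨fun _ => 0, ?_⟩
    ext a b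
    exact a.elim0

end PGLOrder
end Cfsg.Agent.Lib.Helper24

namespace Cfsg.Agent.Lib.Helper24
namespace PGLOrder
open Matrix Polynomial

variable {F : Type*} [Field F] [Fintype F]

theorem order_bound (d : ℕ) (hd : 1 ≤ d) (g : GL (Fin d) F) :
    (Fintype.card F - 1) *
      orderOf (QuotientGroup.mk g : GL (Fin d) F ⧸ Subgroup.center (GL (Fin d) F))
      ≤ Fintype.card F ^ d - 1 := by
  classical
  haveI : Nonempty (Fin d) := ⟨⟨0, hd⟩⟩
  set gb : GL (Fin d) F ⧸ Subgroup.center (GL (Fin d) F) := QuotientGroup.mk g with hgb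
  set m := orderOf gb with hm
  have hmpos : 0 < m := orderOf_pos gb
  set M : Matrix (Fin d) (Fin d) F := g.val with hM
  -- the group level map
  let θ : Fˣ × Fin m → GL (Fin d) F := fun x => Matrix.GeneralLinearGroup.scalar (Fin d) x.1 * g ^ (x.2 : ℕ)
  have hscal : ∀ c : Fˣ, (QuotientGroup.mk (Matrix.GeneralLinearGroup.scalar (Fin d) c) :
      GL (Fin d) F ⧸ Subgroup.center (GL (Fin d) F)) = 1 := by
    intro c
    rw [QuotientGroup.eq_one_iff, Matrix.GeneralLinearGroup.center_eq_range_scalar]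
    exact ⟨c, rfl⟩
  have hθinj : Function.Injective θ := by
    rintro ⟨c, i⟩ ⟨c', j⟩ h
    have h1 := congrArg (fun u => (QuotientGroup.mk u :
      GL (Fin d) F ⧸ Subgroup.center (GL (Fin d) F))) h
    simp only [θ, QuotientGroup.mk_mul, hscal, one_mul, QuotientGroup.mk_pow] at h1
    have hij : (i : ℕ) = j := by
      have := pow_injOn_Iio_orderOf (x := gb) (Set.mem_Iio.mpr i.isLt) (Set.mem_Iio.mpr j.isLt) h1
      exact this
    have hij' : i = j := Fin.ext hij
    subst hij'
    have h2 : Matrix.GeneralLinearGroup.scalar (Fin d) c = Matrix.GeneralLinearGroup.scalar (Fin d) c' :=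
      mul_right_cancel h
    have h3 := congrArg (fun u : GL (Fin d) F => (u : Matrix (Fin d) (Fin d) F) ⟨0, hd⟩ ⟨0, hd⟩) h2
    simp only [Matrix.GeneralLinearGroup.coe_scalar, Matrix.scalar_apply, Matrix.diagonal_apply_eq] at h3
    have : c = c' := Units.ext h3
    rw [this]
  -- the coefficient vectors
  have hex : ∀ x : Fˣ × Fin m, ∃ a : Fin d → F, ((θ x : GL (Fin d) F) : Matrix (Fin d) (Fin d) F) =
      ∑ j : Fin d, a j • M ^ (j : ℕ) := by
    rintro ⟨c, i⟩
    obtain ⟨a, ha⟩ := smul_pow_eq_sum d M (c : F) (i : ℕ)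
    refine ⟨a, ?_⟩
    rw [← ha]
    simp only [θ, Units.val_mul, Matrix.GeneralLinearGroup.coe_scalar, Units.val_pow_eq_pow_val]
    rw [← hM]
    ext a b
    simp [Matrix.scalar_apply, Matrix.diagonal_mul, Matrix.smul_apply]
  choose ψ₀ hψ₀ using hex
  let ψ : Option (Fˣ × Fin m) → (Fin d → F) := fun o => match o with
    | none => 0
    | some x => ψ₀ x
  have hψinj : Function.Injective ψ := by
    have hne : ∀ x : Fˣ × Fin m, ψ₀ x ≠ 0 := by
      intro x h0
      have := hψ₀ x
      rw [h0] at this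
      simp only [Pi.zero_apply, zero_smul, Finset.sum_const_zero] at this
      have h1 : ((θ x : GL (Fin d) F) : Matrix (Fin d) (Fin d) F) *
          (((θ x)⁻¹ : GL (Fin d) F) : Matrix (Fin d) (Fin d) F) = 1 := by
        rw [← Units.val_mul, mul_inv_cancel, Units.val_one]
      rw [this, zero_mul] at h1
      exact zero_ne_one h1
    intro o o' h
    rcases o with _ | x <;> rcases o' with _ | x'
    · rfl
    · exact absurd h.symm (hne x')
    · exact absurd h (hne x)
    · have h' : ψ₀ x = ψ₀ x' := h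
      have : ((θ x : GL (Fin d) F) : Matrix (Fin d) (Fin d) F) =
          ((θ x' : GL (Fin d) F) : Matrix (Fin d) (Fin d) F) := by
        rw [hψ₀ x, hψ₀ x', h']
      rw [hθinj (Units.ext this)]
  have hcard := Fintype.card_le_of_injective ψ hψinj
  rw [Fintype.card_option, Fintype.card_prod, Fintype.card_units, Fintype.card_fin,
    Fintype.card_fun, Fintype.card_fin] at hcard
  omega

end PGLOrder
end Cfsg.Agent.Lib.Helper24

namespace Cfsg.Agent.Lib.Helper24
namespace PGLOrder
open Matrix Polynomial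

variable {F : Type*} [Field F] [Fintype F]

theorem exists_singer (d : ℕ) (hd : 1 ≤ d) : ∃ g : GL (Fin d) F,
    Fintype.card F ^ d - 1 ≤ (Fintype.card F - 1) *
      orderOf (QuotientGroup.mk g : GL (Fin d) F ⧸ Subgroup.center (GL (Fin d) F)) := by
  classical
  obtain ⟨p, hp⟩ := CharP.exists F
  haveI := hp
  haveI : Fact p.Prime := ⟨CharP.char_is_prime F p⟩
  haveI : NeZero d := ⟨by omega⟩
  let L := FiniteField.Extension F p d
  have hfr : Module.finrank F L = d := FiniteField.finrank_extension F p d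
  have hcardL : Nat.card L = Fintype.card F ^ d := by
    rw [FiniteField.natCard_extension, Nat.card_eq_fintype_card]
  let b : Module.Basis (Fin d) F L := Module.finBasisOfFinrankEq F L hfr
  let Λ : L →ₐ[F] Matrix (Fin d) (Fin d) F := Algebra.leftMulMatrix b
  have hΛinj : Function.Injective Λ := Algebra.leftMulMatrix_injective b
  haveI : Fintype L := Fintype.ofFinite L
  obtain ⟨ζ, hζ⟩ := IsCyclic.exists_generator (α := Lˣ)
  have hordζ : orderOf ζ = Fintype.card F ^ d - 1 := by
    rw [orderOf_eq_card_of_forall_mem_zpowers hζ, Nat.card_units, hcardL]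
  let s : GL (Fin d) F := Units.map (Λ : L →* Matrix (Fin d) (Fin d) F) ζ
  refine ⟨s, ?_⟩
  set k := orderOf (QuotientGroup.mk s : GL (Fin d) F ⧸ Subgroup.center (GL (Fin d) F)) with hk
  have hkpos : 0 < k := orderOf_pos _
  have h1 : (QuotientGroup.mk (s ^ k) : GL (Fin d) F ⧸ Subgroup.center (GL (Fin d) F)) = 1 := by
    rw [QuotientGroup.mk_pow, hk, pow_orderOf_eq_one]
  rw [QuotientGroup.eq_one_iff, Matrix.GeneralLinearGroup.mem_center_iff_val_mem_range_scalar] at h1
  obtain ⟨c, hc⟩ := h1
  have hval : ((s ^ k : GL (Fin d) F) : Matrix (Fin d) (Fin d) F) = Λ ((ζ : L) ^ k) := by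
    rw [Units.val_pow_eq_pow_val, map_pow]
    rfl
  have hsc : Matrix.scalar (Fin d) c = Λ (algebraMap F L c) := by
    rw [AlgHom.commutes]
    rfl
  rw [hval, hsc] at hc
  have hζk : (ζ : L) ^ k = algebraMap F L c := (hΛinj hc).symm
  have hc0 : c ≠ 0 := by
    intro h0
    rw [h0, map_zero] at hζk
    exact (pow_ne_zero k ζ.ne_zero) hζk
  have hpow : (ζ : L) ^ (k * (Fintype.card F - 1)) = 1 := by
    rw [pow_mul, hζk, ← map_pow, FiniteField.pow_card_sub_one_eq_one c hc0, map_one]
  have hpow' : ζ ^ (k * (Fintype.card F - 1)) = 1 := Units.ext (by simpa using hpow)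
  have hdvd := orderOf_dvd_of_pow_eq_one hpow'
  rw [hordζ] at hdvd
  have hq : 1 < Fintype.card F := Fintype.one_lt_card
  have hpos : 0 < k * (Fintype.card F - 1) := Nat.mul_pos hkpos (by omega)
  have := Nat.le_of_dvd hpos hdvd
  rw [mul_comm] at this
  exact this

end PGLOrder
end Cfsg.Agent.Lib.Helper24
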