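import Mathlib
import Cfsg.Agent.Lib.Helper24.SpCentC
import Cfsg.Agent.Lib.Helper27.SympFrames

set_option autoImplicit false
set_option linter.style.haveILetI false
set_option linter.unusedSimpArgs false
set_option linter.unusedSectionVars false

namespace Cfsg.Agent.Lib.Helper24.PPair

open Matrix Cfsg
open Cfsg.Agent.Lib.Helper27.SympTransv Cfsg.Agent.Lib.Helper27.SpInvol
open Cfsg.Agent.Lib.Helper24.SpCent

variable {F : Type*} [Field F] {d : ℕ}

/-- totally isotropic subspaces -/
def TI (U : Submodule F (Fin d ⊕ Fin d → F)) : Prop :=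
  ∀ u ∈ U, ∀ v ∈ U, sympForm d F u v = 0

theorem finrank_ti_le {U : Submodule F (Fin d ⊕ Fin d → F)} (hU : TI U) :
    Module.finrank F U ≤ d := by
  have hle : U ≤ perp U := by
    intro x hx
    rw [mem_perp]
    intro w hw
    exact hU w hw x hx
  have h1 := Submodule.finrank_mono hle
  rw [finrank_perp] at h1
  omega

theorem finrank_of_compl {U W : Submodule F (Fin d ⊕ Fin d → F)} (h : IsCompl U W)
    (hU : TI U) (hW : TI W) : Module.finrank F U = d ∧ Module.finrank F W = d := by
  have h1 := Submodule.finrank_add_eq_of_isCompl h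
  rw [finrank_space] at h1
  have h2 := finrank_ti_le hU
  have h3 := finrank_ti_le hW
  omega

theorem eq_zero_of_perp {U W : Submodule F (Fin d ⊕ Fin d → F)} (h : IsCompl U W)
    (x : Fin d ⊕ Fin d → F) (hxU : ∀ a ∈ U, sympForm d F a x = 0)
    (hxW : ∀ b ∈ W, sympForm d F b x = 0) : x = 0 := by
  apply sf_nondeg
  intro v
  have hv : v ∈ U ⊔ W := by rw [h.sup_eq_top]; exact Submodule.mem_top
  obtain ⟨a, ha, b, hb, rfl⟩ := Submodule.mem_sup.mp hv
  rw [sf_add_right, sf_swap a x, sf_swap b x, hxU a ha, hxW b hb]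
  ring

theorem span_eq_of_li {U : Submodule F (Fin d ⊕ Fin d → F)} (hd : Module.finrank F U = d)
    (u : Fin d → (Fin d ⊕ Fin d → F)) (hu : ∀ i, u i ∈ U) (hli : LinearIndependent F u) :
    Submodule.span F (Set.range u) = U := by
  apply Submodule.eq_of_le_of_finrank_eq
  · rw [Submodule.span_le]
    rintro _ ⟨i, rfl⟩
    exact hu i
  · rw [finrank_span_eq_card hli, Fintype.card_fin, hd]

theorem exists_dual {U W : Submodule F (Fin d ⊕ Fin d → F)} (h : IsCompl U W)
    (hU : TI U) (hW : TI W) (u : Fin d → (Fin d ⊕ Fin d → F)) (hu : ∀ i, u i ∈ U)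
    (hli : LinearIndependent F u) :
    ∃ w : Fin d → (Fin d ⊕ Fin d → F), (∀ j, w j ∈ W) ∧
      ∀ i j, sympForm d F (u i) (w j) = if i = j then -1 else 0 := by
  classical
  obtain ⟨hdU, hdW⟩ := finrank_of_compl h hU hW
  have hspan := span_eq_of_li hdU u hu hli
  obtain ⟨T, hT⟩ : ∃ T : W →ₗ[F] (Fin d → F), ∀ x i, T x i = sympForm d F (u i) x.1 := by
    refine ⟨LinearMap.pi (fun i => (sympB d F (u i)).domRestrict W), ?_⟩
    intro x i
    rw [LinearMap.pi_apply, LinearMap.domRestrict_apply, sympB_apply]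
  have hinj : Function.Injective T := by
    rw [← LinearMap.ker_eq_bot, LinearMap.ker_eq_bot']
    intro x hx
    apply Subtype.ext
    apply eq_zero_of_perp h x.1
    · intro a ha
      rw [← hspan] at ha
      have h1 : x.1 ∈ perp (Submodule.span F (Set.range u)) := by
        rw [mem_perp_span_iff]
        intro i
        rw [← hT, hx]
        rfl
      exact (mem_perp.mp h1) a ha
    · intro b hb
      exact hW b hb x.1 x.2
  have hsurj : Function.Surjective T := by
    apply (LinearMap.injective_iff_surjective_of_finrank_eq_finrank ?_).mp hinj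
    rw [hdW, Module.finrank_fintype_fun_eq_card, Fintype.card_fin]
  choose w hw using fun j : Fin d => hsurj (Pi.single j (-1))
  refine ⟨fun j => (w j).1, fun j => (w j).2, ?_⟩
  intro i j
  rw [← hT, hw, Pi.single_apply]

theorem dual_unique {U W : Submodule F (Fin d ⊕ Fin d → F)} (h : IsCompl U W)
    (hU : TI U) (hW : TI W) (u : Fin d → (Fin d ⊕ Fin d → F)) (hu : ∀ i, u i ∈ U)
    (hli : LinearIndependent F u) (w w' : Fin d → (Fin d ⊕ Fin d → F))
    (hw : ∀ j, w j ∈ W) (hw' : ∀ j, w' j ∈ W)
    (hr : ∀ i j, sympForm d F (u i) (w j) = sympForm d F (u i) (w' j)) : w = w' := by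
  obtain ⟨hdU, hdW⟩ := finrank_of_compl h hU hW
  have hspan := span_eq_of_li hdU u hu hli
  funext j
  have h0 : w j - w' j = 0 := by
    apply eq_zero_of_perp h
    · intro a ha
      rw [← hspan] at ha
      have h1 : w j - w' j ∈ perp (Submodule.span F (Set.range u)) := by
        rw [mem_perp_span_iff]
        intro i
        rw [sf_sub_right, hr, sub_self]
      exact (mem_perp.mp h1) a ha
    · intro b hb
      exact hW b hb _ (W.sub_mem (hw j) (hw' j))
  exact sub_eq_zero.mp h0

/-- the matrix with prescribed columns -/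
def frameMat (u w : Fin d → (Fin d ⊕ Fin d → F)) : Matrix (Fin d ⊕ Fin d) (Fin d ⊕ Fin d) F :=
  Matrix.of (fun a s => Sum.elim u w s a)

theorem frameMat_mem (u w : Fin d → (Fin d ⊕ Fin d → F))
    (huu : ∀ i j, sympForm d F (u i) (u j) = 0) (hww : ∀ i j, sympForm d F (w i) (w j) = 0)
    (huw : ∀ i j, sympForm d F (u i) (w j) = if i = j then -1 else 0) :
    frameMat u w ∈ symplecticGroup (Fin d) F := by
  rw [← SymplecticGroup.transpose_mem_iff, SymplecticGroup.mem_iff, transpose_transpose]
  ext s t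
  rw [orth_entry]
  have hcol : ∀ s, (fun a => frameMat u w a s) = Sum.elim u w s := fun s => rfl
  rw [hcol, hcol]
  rcases s with i | i <;> rcases t with j | j
  · simp only [Sum.elim_inl, huu, Matrix.J, Matrix.fromBlocks_apply₁₁, Matrix.zero_apply]
  · simp only [Sum.elim_inl, Sum.elim_inr, huw, Matrix.J, Matrix.fromBlocks_apply₁₂,
      Matrix.neg_apply, Matrix.one_apply]
    by_cases hij : i = j <;> simp [hij]
  · simp only [Sum.elim_inl, Sum.elim_inr, Matrix.J, Matrix.fromBlocks_apply₂₁,
      Matrix.one_apply]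
    rw [sf_swap, huw]
    by_cases hij : i = j
    · subst hij; simp
    · have : ¬ j = i := fun h => hij h.symm
      simp [hij, this]
  · simp only [Sum.elim_inr, hww, Matrix.J, Matrix.fromBlocks_apply₂₂, Matrix.zero_apply]

theorem frameMat_mulVec_inl (u w : Fin d → (Fin d ⊕ Fin d → F)) (i : Fin d) :
    frameMat u w *ᵥ Pi.single (Sum.inl i) 1 = u i := by
  rw [Matrix.mulVec_single_one]
  rfl

theorem frameMat_mulVec_inr (u w : Fin d → (Fin d ⊕ Fin d → F)) (j : Fin d) :
    frameMat u w *ᵥ Pi.single (Sum.inr j) 1 = w j := by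
  rw [Matrix.mulVec_single_one]
  rfl

end Cfsg.Agent.Lib.Helper24.PPair
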