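import Mathlib
import Cfsg.Agent.Lib.Helper24.PPairA

set_option autoImplicit false
set_option linter.style.haveILetI false
set_option linter.unusedSimpArgs false
set_option linter.unusedSectionVars false

namespace Cfsg.Agent.Lib.Helper24.PPair

open Matrix Cfsg
open Cfsg.Agent.Lib.Helper27.SympTransv Cfsg.Agent.Lib.Helper27.SpInvol
open Cfsg.Agent.Lib.Helper24.SpCent

variable {F : Type*} [Field F] {d : ℕ}

/-- the standard Lagrangians -/
def E0 (d : ℕ) (F : Type*) [Field F] : Submodule F (Fin d ⊕ Fin d → F) where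
  carrier := {v | ∀ j, v (Sum.inr j) = 0}
  add_mem' := by
    intro a b ha hb j
    rw [Pi.add_apply, ha j, hb j, add_zero]
  zero_mem' := fun j => rfl
  smul_mem' := by
    intro c a ha j
    rw [Pi.smul_apply, ha j, smul_zero]

def F0 (d : ℕ) (F : Type*) [Field F] : Submodule F (Fin d ⊕ Fin d → F) where
  carrier := {v | ∀ i, v (Sum.inl i) = 0}
  add_mem' := by
    intro a b ha hb j
    rw [Pi.add_apply, ha j, hb j, add_zero]
  zero_mem' := fun j => rfl
  smul_mem' := by
    intro c a ha j
    rw [Pi.smul_apply, ha j, smul_zero]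

theorem mem_E0 (v : Fin d ⊕ Fin d → F) : v ∈ E0 d F ↔ ∀ j, v (Sum.inr j) = 0 := Iff.rfl

theorem mem_F0 (v : Fin d ⊕ Fin d → F) : v ∈ F0 d F ↔ ∀ i, v (Sum.inl i) = 0 := Iff.rfl

theorem TI_E0 : TI (E0 d F) := by
  intro u hu v hv
  rw [sf_apply]
  apply Finset.sum_eq_zero
  intro i _
  rw [hu i, hv i]
  ring

theorem TI_F0 : TI (F0 d F) := by
  intro u hu v hv
  rw [sf_apply]
  apply Finset.sum_eq_zero
  intro i _
  rw [hu i, hv i]
  ring

theorem isCompl_E0_F0 : IsCompl (E0 d F) (F0 d F) := by
  constructor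
  · rw [Submodule.disjoint_def]
    intro v hE hF
    funext a
    rcases a with i | j
    · exact hF i
    · exact hE j
  · rw [codisjoint_iff, eq_top_iff]
    intro v _
    rw [Submodule.mem_sup]
    refine ⟨fun a => Sum.elim (fun i => v (Sum.inl i)) (fun _ => 0) a, fun j => rfl,
      fun a => Sum.elim (fun _ => 0) (fun j => v (Sum.inr j)) a, fun i => rfl, ?_⟩
    funext a
    rcases a with i | j
    · simp
    · simp

/-- standard basis vectors -/
def eL (i : Fin d) : Fin d ⊕ Fin d → F := Pi.single (Sum.inl i) 1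
def eR (j : Fin d) : Fin d ⊕ Fin d → F := Pi.single (Sum.inr j) 1

theorem eL_mem (i : Fin d) : (eL i : Fin d ⊕ Fin d → F) ∈ E0 d F := by
  intro j
  unfold eL
  rw [Pi.single_apply, if_neg (by simp)]

theorem eR_mem (j : Fin d) : (eR j : Fin d ⊕ Fin d → F) ∈ F0 d F := by
  intro i
  unfold eR
  rw [Pi.single_apply, if_neg (by simp)]

theorem eL_li : LinearIndependent F (eL (F := F) (d := d)) := by
  have h := (Pi.basisFun F (Fin d ⊕ Fin d)).linearIndependent.comp Sum.inl Sum.inl_injective
  convert h using 1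
  funext i
  unfold eL
  rw [Function.comp_apply, Pi.basisFun_apply]

theorem eR_li : LinearIndependent F (eR (F := F) (d := d)) := by
  have h := (Pi.basisFun F (Fin d ⊕ Fin d)).linearIndependent.comp Sum.inr Sum.inr_injective
  convert h using 1
  funext i
  unfold eR
  rw [Function.comp_apply, Pi.basisFun_apply]

theorem sf_eL_eR (i j : Fin d) :
    sympForm d F (eL i) (eR j) = if i = j then -1 else 0 := by
  unfold eR eL
  rw [sf_single_inr, Pi.single_apply]
  by_cases hij : i = j
  · subst hij; simp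
  · have : ¬ (Sum.inl j : Fin d ⊕ Fin d) = Sum.inl i := fun h => hij (Sum.inl_injective h).symm
    rw [if_neg this, if_neg hij, neg_zero]

theorem span_eL : Submodule.span F (Set.range (eL (F := F) (d := d))) = E0 d F :=
  span_eq_of_li (finrank_of_compl isCompl_E0_F0 TI_E0 TI_F0).1 eL eL_mem eL_li

theorem span_eR : Submodule.span F (Set.range (eR (F := F) (d := d))) = F0 d F := by
  apply Submodule.eq_of_le_of_finrank_eq
  · rw [Submodule.span_le]
    rintro _ ⟨i, rfl⟩
    exact eR_mem i
  · rw [finrank_span_eq_card eR_li, Fintype.card_fin,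
      (finrank_of_compl isCompl_E0_F0 TI_E0 TI_F0).2]

theorem map_E0 (M : symplecticGroup (Fin d) F) :
    (E0 d F).map (actL M).toLinearMap =
      Submodule.span F (Set.range (fun i => act M (eL i))) := by
  rw [← span_eL, Submodule.map_span, ← Set.range_comp]
  rfl

theorem map_F0 (M : symplecticGroup (Fin d) F) :
    (F0 d F).map (actL M).toLinearMap =
      Submodule.span F (Set.range (fun i => act M (eR i))) := by
  rw [← span_eR, Submodule.map_span, ← Set.range_comp]
  rfl

theorem TI_map (M : symplecticGroup (Fin d) F) {U : Submodule F (Fin d ⊕ Fin d → F)}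
    (hU : TI U) : TI (U.map (actL M).toLinearMap) := by
  rintro _ ⟨a, ha, rfl⟩ _ ⟨b, hb, rfl⟩
  show sympForm d F (act M a) (act M b) = 0
  rw [act_preserves]
  exact hU a ha b hb

theorem isCompl_map (M : symplecticGroup (Fin d) F) {U W : Submodule F (Fin d ⊕ Fin d → F)}
    (h : IsCompl U W) :
    IsCompl (U.map (actL M).toLinearMap) (W.map (actL M).toLinearMap) :=
  (Submodule.orderIsoMapComap (actL M)).isCompl h

/-- ordered pairs of complementary Lagrangians -/
abbrev PPt (d : ℕ) (F : Type*) [Field F] : Type _ :=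
  {P : Submodule F (Fin d ⊕ Fin d → F) × Submodule F (Fin d ⊕ Fin d → F) //
    IsCompl P.1 P.2 ∧ (∀ u ∈ P.1, ∀ v ∈ P.1, sympForm d F u v = 0) ∧
      (∀ u ∈ P.2, ∀ v ∈ P.2, sympForm d F u v = 0)}

def Phi (M : symplecticGroup (Fin d) F) : PPt d F :=
  ⟨((E0 d F).map (actL M).toLinearMap, (F0 d F).map (actL M).toLinearMap),
    isCompl_map M isCompl_E0_F0, TI_map M TI_E0, TI_map M TI_F0⟩

end Cfsg.Agent.Lib.Helper24.PPair
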