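import Mathlib
import Cfsg.Agent.Lib.Helper24.PPairB

set_option autoImplicit false
set_option linter.style.haveILetI false
set_option linter.unusedSimpArgs false
set_option linter.unusedSectionVars false

namespace Cfsg.Agent.Lib.Helper24.PPair

open Matrix Cfsg
open Cfsg.Agent.Lib.Helper27.SympTransv Cfsg.Agent.Lib.Helper27.SpInvol
open Cfsg.Agent.Lib.Helper24.SpCent

variable {F : Type*} [Field F] {d : ℕ}

theorem actL_li (M : symplecticGroup (Fin d) F) {ι : Type*} (v : ι → (Fin d ⊕ Fin d → F))
    (hv : LinearIndependent F v) : LinearIndependent F (fun i => act M (v i)) := by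
  have := hv.map' (actL M).toLinearMap (LinearMap.ker_eq_bot.mpr (actL M).injective)
  exact this

theorem eq_of_cols (M M' : symplecticGroup (Fin d) F)
    (hL : ∀ i, act M (eL i) = act M' (eL i)) (hR : ∀ j, act M (eR j) = act M' (eR j)) :
    M = M' := by
  apply Subtype.ext
  ext a s
  rcases s with i | j
  · have := congrFun (hL i) a
    unfold act eL at this
    rw [Matrix.mulVec_single_one, Matrix.mulVec_single_one] at this
    exact this
  · have := congrFun (hR j) a
    unfold act eR at this
    rw [Matrix.mulVec_single_one, Matrix.mulVec_single_one] at this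
    exact this

theorem card_fibre' [Fintype F] (U W : Submodule F (Fin d ⊕ Fin d → F)) (hc : IsCompl U W)
    (hUt : TI U) (hWt : TI W) :
    Nat.card {M : symplecticGroup (Fin d) F //
      (E0 d F).map (actL M).toLinearMap = U ∧ (F0 d F).map (actL M).toLinearMap = W} =
      ∏ i : Fin d, (Fintype.card F ^ d - Fintype.card F ^ (i : ℕ)) := by
  classical
  obtain ⟨hdU, hdW⟩ := finrank_of_compl hc hUt hWt
  have hB := card_linearIndependent (K := F) (V := U) (k := d) (by rw [hdU])
  rw [hdU] at hB
  rw [← hB]
  apply Nat.card_congr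
  refine Equiv.ofBijective (fun M => ⟨fun i => ⟨act M.1 (eL i), ?_⟩, ?_⟩) ⟨?_, ?_⟩
  · have h := M.2.1
    have h2 : act M.1 (eL i) ∈ (E0 d F).map (actL M.1).toLinearMap := ⟨eL i, eL_mem i, rfl⟩
    exact (SetLike.ext_iff.mp h _).mp h2
  · apply LinearIndependent.of_comp U.subtype
    exact actL_li M.1 eL eL_li
  · rintro ⟨M, hMU⟩ ⟨M', hMU'⟩ h
    have hL : ∀ i, act M (eL i) = act M' (eL i) := by
      intro i
      have h1 := congrArg Subtype.val h
      have h2 := congrFun h1 i
      exact congrArg Subtype.val h2
    have hR : (fun j => act M (eR j)) = fun j => act M' (eR j) := by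
      apply dual_unique hc hUt hWt (fun i => act M (eL i))
      · intro i
        rw [← hMU.1]
        exact ⟨eL i, eL_mem i, rfl⟩
      · exact actL_li M eL eL_li
      · intro j
        rw [← hMU.2]
        exact ⟨eR j, eR_mem j, rfl⟩
      · intro j
        rw [← hMU'.2]
        exact ⟨eR j, eR_mem j, rfl⟩
      · intro i j
        show sympForm d F (act M (eL i)) (act M (eR j)) =
          sympForm d F (act M (eL i)) (act M' (eR j))
        rw [act_preserves, hL i, act_preserves]
    apply Subtype.ext
    exact eq_of_cols M M' hL (fun j => congrFun hR j)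
  · rintro ⟨s, hs⟩
    obtain ⟨u, hu⟩ : ∃ u : Fin d → (Fin d ⊕ Fin d → F), u = fun i => (s i).1 := ⟨_, rfl⟩
    have huU : ∀ i, u i ∈ U := by
      intro i; rw [hu]; exact (s i).2
    have huli : LinearIndependent F u := by
      have := hs.map' U.subtype (LinearMap.ker_eq_bot.mpr U.injective_subtype)
      rw [hu]
      exact this
    obtain ⟨w, hwW, huw⟩ := exists_dual hc hUt hWt u huU huli
    have hmem := frameMat_mem u w (fun i j => hUt _ (huU i) _ (huU j))
      (fun i j => hWt _ (hwW i) _ (hwW j)) huw
    obtain ⟨M, hM⟩ : ∃ M : symplecticGroup (Fin d) F, M.1 = frameMat u w := ⟨⟨_, hmem⟩, rfl⟩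
    have hML : ∀ i, act M (eL i) = u i := by
      intro i
      unfold act eL
      rw [hM]
      exact frameMat_mulVec_inl u w i
    have hMR : ∀ j, act M (eR j) = w j := by
      intro j
      unfold act eR
      rw [hM]
      exact frameMat_mulVec_inr u w j
    have hwli : LinearIndependent F w := by
      have := actL_li M eR eR_li
      have e : (fun j => act M (eR j)) = w := funext hMR
      rw [e] at this
      exact this
    have hPhi : (E0 d F).map (actL M).toLinearMap = U ∧ (F0 d F).map (actL M).toLinearMap = W := by
      constructor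
      · rw [map_E0]
        have e : (fun i => act M (eL i)) = u := funext hML
        rw [e]
        exact span_eq_of_li hdU u huU huli
      · rw [map_F0]
        have e : (fun j => act M (eR j)) = w := funext hMR
        rw [e]
        exact span_eq_of_li hdW w hwW hwli
    refine ⟨⟨M, hPhi⟩, ?_⟩
    apply Subtype.ext
    funext i
    apply Subtype.ext
    show act M (eL i) = (s i).1
    rw [hML, hu]

theorem card_fibre [Fintype F] (P : PPt d F) :
    Nat.card {M : symplecticGroup (Fin d) F // Phi M = P} =
      ∏ i : Fin d, (Fintype.card F ^ d - Fintype.card F ^ (i : ℕ)) := by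
  classical
  rw [← card_fibre' P.1.1 P.1.2 P.2.1 P.2.2.1 P.2.2.2]
  apply Nat.card_congr
  apply Equiv.subtypeEquivRight
  intro M
  constructor
  · intro h
    have := congrArg Subtype.val h
    exact ⟨congrArg Prod.fst this, congrArg Prod.snd this⟩
  · rintro ⟨h1, h2⟩
    apply Subtype.ext
    exact Prod.ext h1 h2

theorem card_pairs_mul [Fintype F] :
    Nat.card (PPt d F) * ∏ i : Fin d, (Fintype.card F ^ d - Fintype.card F ^ (i : ℕ)) =
      Nat.card (symplecticGroup (Fin d) F) := by
  classical
  have : Finite (PPt d F) := Subtype.finite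
  have := Fintype.ofFinite (PPt d F)
  rw [← Nat.card_congr (Equiv.sigmaFiberEquiv (Phi (F := F) (d := d))), Nat.card_sigma,
    Finset.sum_congr rfl (fun P _ => card_fibre P), Finset.sum_const, Finset.card_univ,
    smul_eq_mul]
  congr 1
  exact Nat.card_eq_fintype_card

end Cfsg.Agent.Lib.Helper24.PPair
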