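import Mathlib

set_option autoImplicit false
set_option linter.style.haveILetI false
set_option linter.unusedSimpArgs false
set_option linter.unusedSectionVars false

namespace Cfsg.Agent.Lib.Helper24.PPair

open Finset

theorem prod_sub_eq (q d : ℕ) (_hq : 1 ≤ q) :
    ∏ i : Fin d, (q ^ d - q ^ (i : ℕ)) =
      (∏ i ∈ Finset.range d, q ^ i) * ∏ i ∈ Finset.range d, (q ^ (i + 1) - 1) := by
  rw [Fin.prod_univ_eq_prod_range (fun i => q ^ d - q ^ i) d]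
  rw [← Finset.prod_range_reflect (fun i => q ^ (i + 1) - 1) d, ← Finset.prod_mul_distrib]
  apply Finset.prod_congr rfl
  intro i hi
  rw [Finset.mem_range] at hi
  have h1 : d - 1 - i + 1 = d - i := by omega
  rw [h1, Nat.mul_sub, mul_one, ← pow_add]
  congr 2
  omega

theorem prod_sq_sub (q d : ℕ) (hq : 1 ≤ q) :
    ∏ i ∈ Finset.range d, (q ^ (2 * (i + 1)) - 1) =
      (∏ i ∈ Finset.range d, (q ^ (i + 1) - 1)) * ∏ i ∈ Finset.range d, (q ^ (i + 1) + 1) := by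
  rw [← Finset.prod_mul_distrib]
  apply Finset.prod_congr rfl
  intro i _
  obtain ⟨y, hy⟩ := Nat.exists_eq_add_of_le (Nat.one_le_pow (i + 1) q hq)
  rw [pow_mul', hy]
  have h1 : (1 + y) ^ 2 = y * (1 + y + 1) + 1 := by ring
  rw [h1, Nat.add_sub_cancel, Nat.add_sub_cancel_left]

theorem key_eq {q d N : ℕ} (hq : 2 ≤ q)
    (hN : N * ∏ i : Fin d, (q ^ d - q ^ (i : ℕ)) =
      q ^ (d ^ 2) * ∏ i ∈ Finset.range d, (q ^ (2 * (i + 1)) - 1)) :
    N * (∏ i ∈ Finset.range d, q ^ i) =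
      q ^ (d ^ 2) * ∏ i ∈ Finset.range d, (q ^ (i + 1) + 1) := by
  rw [prod_sub_eq q d (by omega), prod_sq_sub q d (by omega)] at hN
  have hA : 0 < ∏ i ∈ Finset.range d, (q ^ (i + 1) - 1) := by
    apply Finset.prod_pos
    intro i _
    have : 2 ≤ q ^ (i + 1) := by
      calc 2 ≤ q := hq
        _ = q ^ 1 := (pow_one q).symm
        _ ≤ q ^ (i + 1) := Nat.pow_le_pow_right (by omega) (by omega)
    omega
  apply Nat.eq_of_mul_eq_mul_right hA
  rw [mul_assoc, hN]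
  ring

theorem two_dvd_of_eq {q d N : ℕ} (hq : 2 ≤ q) (hodd : Odd q) (hd : 1 ≤ d)
    (hN : N * ∏ i : Fin d, (q ^ d - q ^ (i : ℕ)) =
      q ^ (d ^ 2) * ∏ i ∈ Finset.range d, (q ^ (2 * (i + 1)) - 1)) : 2 ∣ N := by
  have h2 := key_eq hq hN
  have hB : 2 ∣ ∏ i ∈ Finset.range d, (q ^ (i + 1) + 1) := by
    have h0 : 0 ∈ Finset.range d := Finset.mem_range.mpr (by omega)
    have h1 : 2 ∣ q ^ (0 + 1) + 1 := by
      rw [zero_add, pow_one]
      obtain ⟨k, hk⟩ := hodd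
      exact ⟨k + 1, by omega⟩
    exact h1.trans (Finset.dvd_prod_of_mem (fun i => q ^ (i + 1) + 1) h0)
  have h3 : 2 ∣ N * ∏ i ∈ Finset.range d, q ^ i := by
    rw [h2]
    exact hB.mul_left _
  have hcop : Nat.Coprime 2 (∏ i ∈ Finset.range d, q ^ i) := by
    apply Nat.Coprime.prod_right
    intro i _
    exact (Nat.coprime_two_left.mpr hodd).pow_right i
  exact hcop.dvd_of_dvd_mul_right h3

theorem exists_dvd_pow_add_one {q d N r : ℕ} (hq : 2 ≤ q) (hr : r.Prime) (hrq : ¬ r ∣ q)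
    (hN : N * ∏ i : Fin d, (q ^ d - q ^ (i : ℕ)) =
      q ^ (d ^ 2) * ∏ i ∈ Finset.range d, (q ^ (2 * (i + 1)) - 1))
    (hrN : r ∣ N) : ∃ j, 1 ≤ j ∧ j ≤ d ∧ r ∣ q ^ j + 1 := by
  have h2 := key_eq hq hN
  have h3 : r ∣ q ^ (d ^ 2) * ∏ i ∈ Finset.range d, (q ^ (i + 1) + 1) := by
    rw [← h2]
    exact hrN.mul_right _
  rcases hr.dvd_mul.mp h3 with h | h
  · exact absurd (hr.dvd_of_dvd_pow h) hrq
  · rw [hr.prime.dvd_finsetProd_iff] at h
    obtain ⟨i, hi, hri⟩ := h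
    rw [Finset.mem_range] at hi
    exact ⟨i + 1, by omega, by omega, hri⟩

theorem orderOf_even_of_dvd {q r j : ℕ} (hr : r.Prime) (hr2 : r ≠ 2) (hj1 : 1 ≤ j)
    (hj : r ∣ q ^ j + 1) :
    Even (orderOf (q : ZMod r)) ∧ orderOf (q : ZMod r) ≤ 2 * j ∧ 0 < orderOf (q : ZMod r) := by
  haveI : Fact r.Prime := ⟨hr⟩
  have h1 : ((q : ZMod r)) ^ j = -1 := by
    have := (ZMod.natCast_eq_zero_iff (q ^ j + 1) r).mpr hj
    push_cast at this
    exact eq_neg_of_add_eq_zero_left this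
  have h2 : ((q : ZMod r)) ^ (2 * j) = 1 := by
    rw [mul_comm, pow_mul, h1]
    norm_num
  have hdvd : orderOf (q : ZMod r) ∣ 2 * j := orderOf_dvd_of_pow_eq_one h2
  have hpos : 0 < orderOf (q : ZMod r) := Nat.pos_of_dvd_of_pos hdvd (by omega)
  refine ⟨?_, Nat.le_of_dvd (by omega) hdvd, hpos⟩
  by_contra hodd
  rw [Nat.not_even_iff_odd] at hodd
  have hcop : Nat.Coprime (orderOf (q : ZMod r)) 2 := Nat.coprime_two_right.mpr hodd
  have hdj : orderOf (q : ZMod r) ∣ j := hcop.dvd_of_dvd_mul_left hdvd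
  have h3 : ((q : ZMod r)) ^ j = 1 := orderOf_dvd_iff_pow_eq_one.mp hdj
  rw [h1] at h3
  have h4 : (2 : ZMod r) = 0 := by
    have : (1 : ZMod r) + 1 = 0 := by
      nth_rewrite 1 [← h3]
      ring
    rw [← this]
    norm_num
  have h5 : ((2 : ℕ) : ZMod r) = 0 := by exact_mod_cast h4
  rw [ZMod.natCast_eq_zero_iff] at h5
  exact hr2 ((Nat.prime_dvd_prime_iff_eq hr Nat.prime_two).mp h5)

end Cfsg.Agent.Lib.Helper24.PPair
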