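import Mathlib
import Cfsg.Agent.Lib.Helper24.StarE

set_option autoImplicit false
set_option linter.style.haveILetI false
set_option linter.unusedSimpArgs false
set_option linter.unusedSectionVars false

namespace Cfsg.Agent.Lib.Helper24.PPair

open Polynomial Matrix Cfsg.Agent.Lib.Helper5.PrimeOrd Cfsg.Agent.Lib.Helper24.Pal
  Cfsg.Agent.Lib.Helper24.Star

variable {F : Type*} [Field F] [Fintype F] (p : ℕ) [Fact p.Prime] [CharP F p]

theorem cycFactors_nonempty (r : ℕ) (hr : r.Prime) : ∃ f : F[X], f ∈ cycFactors F r := by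
  have hnu : ¬ IsUnit (cyclotomic r F) := by
    apply not_isUnit_of_natDegree_pos
    rw [natDegree_cyclotomic, Nat.totient_prime hr]
    have := hr.two_le
    omega
  obtain ⟨π, hπm, hπi, c, hc⟩ := exists_monic_irreducible_factor (cyclotomic r F) hnu
  exact ⟨π, (mem_cycFactors_iff r π).mpr ⟨hπi, hπm, ⟨c, hc⟩⟩⟩

theorem exists_elt {q : ℕ} (hq : Fintype.card F = q) (d r i : ℕ) (hr : r.Prime)
    (hrp : r ≠ p)
    (hi : i = orderOf (q : ZMod r)) (hi0 : 0 < i) (hev : Even i) (hid : i ≤ 2 * d) :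
    ∃ (g : Matrix.symplecticGroup (Fin d) F) (f : F[X]), f ∈ cycFactors F r ∧
      (g : Matrix (Fin d ⊕ Fin d) (Fin d ⊕ Fin d) F).charpoly = f * (X - 1) ^ (2 * d - i) ∧
      ∃ N, ¬ p ∣ N ∧ (g : Matrix (Fin d ⊕ Fin d) (Fin d ⊕ Fin d) F) ^ N = 1 := by
  have hp : p.Prime := Fact.out
  obtain ⟨f, hf⟩ := cycFactors_nonempty (F := F) r hr
  have hfm := (mem_cycFactors_iff r f).mp hf
  have hdeg : f.natDegree = i := natDegree_of_mem_cycFactors p hr hrp hq hi f hf
  have hstar : star f = f := star_eq_of_even hr hq hi hi0 hev f hf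
  have h0 := coeff_zero_ne_of_mem hr f hf
  have hne := ne_X_sub_one_of_mem p hr hrp f hf
  have hf1 : f.eval 1 ≠ 0 := by
    intro h
    have h1 : (X - 1 : F[X]) = X - C 1 := by simp
    have hdvd : (X - C 1) ∣ f := dvd_iff_isRoot.mpr h
    have hass : Associated (X - C 1) f := (irreducible_X_sub_C 1).associated_of_dvd hfm.1 hdvd
    have := eq_of_monic_of_associated (monic_X_sub_C 1) hfm.2.1 hass
    rw [← h1] at this
    exact hne this.symm
  have hfrev : f.reverse = f := pal_of_star_eq h0 hstar hf1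
  have hkev : Even (2 * d - i) := by
    rw [Nat.even_sub hid]
    exact ⟨fun _ => hev, fun _ => even_two_mul d⟩
  obtain ⟨χ, hχ⟩ : ∃ χ : F[X], χ = f * (X - 1) ^ (2 * d - i) := ⟨_, rfl⟩
  have h1 : (X - 1 : F[X]) = X - C 1 := by simp
  have hXm : ((X - 1 : F[X]) ^ (2 * d - i)).Monic := by
    rw [h1]
    exact (monic_X_sub_C 1).pow _
  have hm : χ.Monic := by
    rw [hχ]
    exact hfm.2.1.mul hXm
  have hrev : χ.reverse = χ := by
    rw [hχ, reverse_mul_of_domain, star_X_sub_one_pow_even hkev, hfrev]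
  have hd : χ.natDegree = 2 * d := by
    rw [hχ, hfm.2.1.natDegree_mul hXm, hdeg, h1, natDegree_pow, natDegree_X_sub_C]
    omega
  obtain ⟨k, g, hg, hk, N, hN, hgN⟩ := exists_sp_of_spReal (spReal_of_pal hp d χ hm hrev hd)
  have hkd : k = d := by omega
  subst hkd
  exact ⟨g, f, hf, by rw [hg, hχ], N, hN, hgN⟩

/-- the element has `r`-th power one -/
theorem elt_pow {d r k : ℕ} (hr : r.Prime) (g : Matrix (Fin d ⊕ Fin d) (Fin d ⊕ Fin d) F)
    (f : F[X]) (hf : f ∈ cycFactors F r) (hg : g.charpoly = f * (X - 1) ^ k)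
    {N : ℕ} (hN : ¬ p ∣ N) (hgN : g ^ N = 1) : g ^ r = 1 := by
  rw [mat_pow_eq_one_iff_smooth p g hN hgN r hr.pos, hg]
  intro h hh hdvd
  rcases hh.prime.dvd_or_dvd hdvd with h1 | h1
  · have hfm := (mem_cycFactors_iff r f).mp hf
    have hass : Associated h f := hh.associated_of_dvd hfm.1 h1
    exact hass.dvd.trans (dvd_X_pow_sub_one_of_mem hr f hf)
  · have h2 := hh.prime.dvd_of_dvd_pow h1
    have h3 : (X - 1 : F[X]) ∣ X ^ r - 1 := by
      have := sub_dvd_pow_sub_pow (X : F[X]) 1 r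
      rwa [one_pow] at this
    exact h2.trans h3

/-- the element is not scalar -/
theorem elt_not_scalar {d r k i q : ℕ} (hr : r.Prime) (hrp : r ≠ p) (hq : Fintype.card F = q)
    (hi : i = orderOf (q : ZMod r)) (hi2 : 2 ≤ i)
    (g : Matrix (Fin d ⊕ Fin d) (Fin d ⊕ Fin d) F)
    (f : F[X]) (hf : f ∈ cycFactors F r) (hg : g.charpoly = f * (X - 1) ^ k) (z : F) :
    g ≠ z • (1 : Matrix (Fin d ⊕ Fin d) (Fin d ⊕ Fin d) F) := by
  intro hz
  have hfm := (mem_cycFactors_iff r f).mp hf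
  have hdeg : f.natDegree = i := natDegree_of_mem_cycFactors p hr hrp hq hi f hf
  have hae : aeval g (X - C z : F[X]) = 0 := by
    rw [map_sub, aeval_X, aeval_C, hz, Algebra.algebraMap_eq_smul_one, sub_self]
  have hdvd : f ∣ X - C z :=
    dvd_of_dvd_charpoly g f hfm.1 (by rw [hg]; exact dvd_mul_right _ _) _ hae
  have := natDegree_le_of_dvd hdvd (X_sub_C_ne_zero z)
  rw [natDegree_X_sub_C, hdeg] at this
  omega

end Cfsg.Agent.Lib.Helper24.PPair
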