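import Mathlib
import Cfsg.Agent.Lib.Helper24.PPairC
import Cfsg.Agent.Lib.Helper24.StarE

set_option autoImplicit false
set_option linter.style.haveILetI false
set_option linter.unusedSimpArgs false
set_option linter.unusedSectionVars false

namespace Cfsg.Agent.Lib.Helper24.PPair

open Matrix Cfsg Polynomial
open Cfsg.Agent.Lib.Helper27.SympTransv Cfsg.Agent.Lib.Helper27.SpInvol
open Cfsg.Agent.Lib.Helper24.SpCent Cfsg.Agent.Lib.Helper24.Pal Cfsg.Agent.Lib.Helper24.Star

variable {F : Type*} [Field F] {d : ℕ}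

theorem exists_frame [Fintype F] (U W : Submodule F (Fin d ⊕ Fin d → F)) (hc : IsCompl U W)
    (hUt : TI U) (hWt : TI W) :
    ∃ M : symplecticGroup (Fin d) F,
      (E0 d F).map (actL M).toLinearMap = U ∧ (F0 d F).map (actL M).toLinearMap = W := by
  have h := card_fibre' U W hc hUt hWt
  have hq : 1 < Fintype.card F := Fintype.one_lt_card
  have hpos : 0 < ∏ i : Fin d, (Fintype.card F ^ d - Fintype.card F ^ (i : ℕ)) := by
    apply Finset.prod_pos
    intro i _
    have := Nat.pow_lt_pow_right hq i.2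
    omega
  rw [← h] at hpos
  have hne : Nonempty {M : symplecticGroup (Fin d) F //
      (E0 d F).map (actL M).toLinearMap = U ∧ (F0 d F).map (actL M).toLinearMap = W} := by
    by_contra hcon
    rw [not_nonempty_iff] at hcon
    rw [Nat.card_of_isEmpty] at hpos
    exact lt_irrefl _ hpos
  obtain ⟨M, hM⟩ := hne
  exact ⟨M, hM⟩

/-- block form of a symplectic matrix preserving the standard pair -/
theorem block_form (h : symplecticGroup (Fin d) F)
    (hE : ∀ v ∈ E0 d F, act h v ∈ E0 d F) (hF : ∀ v ∈ F0 d F, act h v ∈ F0 d F) :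
    ∃ A D : Matrix (Fin d) (Fin d) F, h.1 = fromBlocks A 0 0 D ∧ A * Dᵀ = 1 ∧ D * Aᵀ = 1 := by
  have h21 : h.1.toBlocks₂₁ = 0 := by
    ext j i
    have := hE (eL i) (eL_mem i) j
    unfold act eL at this
    rw [Matrix.mulVec_single_one] at this
    exact this
  have h12 : h.1.toBlocks₁₂ = 0 := by
    ext i j
    have := hF (eR j) (eR_mem j) i
    unfold act eR at this
    rw [Matrix.mulVec_single_one] at this
    exact this
  have hform : h.1 = fromBlocks h.1.toBlocks₁₁ 0 0 h.1.toBlocks₂₂ := by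
    conv_lhs => rw [← Matrix.fromBlocks_toBlocks h.1, h12, h21]
  refine ⟨h.1.toBlocks₁₁, h.1.toBlocks₂₂, hform, ?_⟩
  have hmem := h.2
  rw [SymplecticGroup.mem_iff, hform] at hmem
  unfold Matrix.J at hmem
  rw [Matrix.fromBlocks_transpose, Matrix.fromBlocks_multiply, Matrix.fromBlocks_multiply,
    Matrix.fromBlocks_inj] at hmem
  obtain ⟨-, e12, e21, -⟩ := hmem
  simp only [Matrix.mul_zero, Matrix.zero_mul, zero_add, add_zero, Matrix.mul_one,
    Matrix.mul_neg, Matrix.neg_mul, neg_inj, Matrix.transpose_zero] at e12 e21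
  exact ⟨e12, e21⟩

theorem charpoly_split [Fintype F] (g : symplecticGroup (Fin d) F)
    (U W : Submodule F (Fin d ⊕ Fin d → F)) (hc : IsCompl U W) (hUt : TI U) (hWt : TI W)
    (hgU : U.map (Matrix.toLin' g.1) = U) (hgW : W.map (Matrix.toLin' g.1) = W) :
    ∃ a b : F[X], g.1.charpoly = a * b ∧ b = star a ∧ a = star b := by
  obtain ⟨M, hMU, hMW⟩ := exists_frame U W hc hUt hWt
  obtain ⟨h, hh⟩ : ∃ h : symplecticGroup (Fin d) F, h = M⁻¹ * g * M := ⟨_, rfl⟩
  have hact : ∀ v, act h v = act M⁻¹ (act g (act M v)) := by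
    intro v
    rw [hh, act_mul, act_mul]
  have hgact : ∀ v, act g v = Matrix.toLin' g.1 v := fun v => rfl
  have hE : ∀ v ∈ E0 d F, act h v ∈ E0 d F := by
    intro v hv
    have h1 : act M v ∈ U := (SetLike.ext_iff.mp hMU _).mp ⟨v, hv, rfl⟩
    have h2 : act g (act M v) ∈ U := (SetLike.ext_iff.mp hgU _).mp ⟨_, h1, rfl⟩
    obtain ⟨v', hv', e⟩ := (SetLike.ext_iff.mp hMU _).mpr h2
    rw [hact]
    have e' : act M v' = act g (act M v) := e
    rw [← e', act_inv_act]
    exact hv'
  have hF : ∀ v ∈ F0 d F, act h v ∈ F0 d F := by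
    intro v hv
    have h1 : act M v ∈ W := (SetLike.ext_iff.mp hMW _).mp ⟨v, hv, rfl⟩
    have h2 : act g (act M v) ∈ W := (SetLike.ext_iff.mp hgW _).mp ⟨_, h1, rfl⟩
    obtain ⟨v', hv', e⟩ := (SetLike.ext_iff.mp hMW _).mpr h2
    rw [hact]
    have e' : act M v' = act g (act M v) := e
    rw [← e', act_inv_act]
    exact hv'
  obtain ⟨A, D, hform, hAD, hDA⟩ := block_form h hE hF
  have hconj : IsConj h g := by
    rw [isConj_iff]
    refine ⟨M, ?_⟩
    rw [hh]
    group
  have hchar := sp_charpoly_eq_of_isConj hconj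
  refine ⟨A.charpoly, D.charpoly, ?_, ?_, ?_⟩
  · rw [← hchar, hform, Matrix.charpoly_fromBlocks_zero₁₂]
  · have := charpoly_of_inv' hAD
    rw [Matrix.charpoly_transpose] at this
    exact this
  · have := charpoly_of_inv' hDA
    rw [Matrix.charpoly_transpose] at this
    exact this

theorem no_fixed_pair [Fintype F] (g : symplecticGroup (Fin d) F) (f : F[X]) (k : ℕ)
    (hfi : Irreducible f) (hfm : f.Monic) (hfs : star f = f) (hfne : f ≠ X - 1)
    (hg : g.1.charpoly = f * (X - 1) ^ k)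
    (U W : Submodule F (Fin d ⊕ Fin d → F)) (hc : IsCompl U W) (hUt : TI U) (hWt : TI W)
    (hgU : U.map (Matrix.toLin' g.1) = U) (hgW : W.map (Matrix.toLin' g.1) = W) : False := by
  obtain ⟨a, b, hab, hb, ha⟩ := charpoly_split g U W hc hUt hWt hgU hgW
  have hdvd : f ∣ a * b := by
    rw [← hab, hg]
    exact dvd_mul_right _ _
  have hboth : f ∣ a ∧ f ∣ b := by
    rcases hfi.prime.dvd_or_dvd hdvd with h | h
    · refine ⟨h, ?_⟩
      have := star_dvd h
      rwa [hfs, ← hb] at this
    · refine ⟨?_, h⟩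
      have := star_dvd h
      rwa [hfs, ← ha] at this
  have h2 : f * f ∣ f * (X - 1) ^ k := by
    rw [← hg, hab]
    exact mul_dvd_mul hboth.1 hboth.2
  have h3 : f ∣ (X - 1) ^ k := (mul_dvd_mul_iff_left hfi.ne_zero).mp h2
  have h4 : f ∣ X - 1 := hfi.prime.dvd_of_dvd_pow h3
  have h1 : (X - 1 : F[X]) = X - C 1 := by simp
  rw [h1] at h4
  have hass : Associated f (X - C 1) := hfi.associated_of_dvd (irreducible_X_sub_C 1) h4
  have := eq_of_monic_of_associated hfm (monic_X_sub_C 1) hass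
  rw [← h1] at this
  exact hfne this

/-- no swap for odd order -/
theorem no_swap (T : Module.End F (Fin d ⊕ Fin d → F)) {r : ℕ} (hr : Odd r) (hT : T ^ r = 1)
    (hd : 1 ≤ d)
    (U W : Submodule F (Fin d ⊕ Fin d → F)) (hc : IsCompl U W)
    (hTU : U.map T = W) (hTW : W.map T = U) : False := by
  have hpow : ∀ n : ℕ, U.map (T ^ (2 * n)) = U ∧ U.map (T ^ (2 * n + 1)) = W := by
    intro n
    induction n with
    | zero =>
      constructor
      · rw [Nat.mul_zero, pow_zero]
        exact Submodule.map_id U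
      · rw [Nat.mul_zero, zero_add, pow_one]
        exact hTU
    | succ n ih =>
      have h1 : U.map (T ^ (2 * (n + 1))) = U := by
        have e : 2 * (n + 1) = (2 * n + 1) + 1 := by ring
        rw [e, pow_succ', Module.End.mul_eq_comp, Submodule.map_comp, ih.2, hTW]
      refine ⟨h1, ?_⟩
      rw [pow_succ', Module.End.mul_eq_comp, Submodule.map_comp, h1, hTU]
  obtain ⟨n, hn⟩ := hr
  have h1 := (hpow n).2
  rw [← hn, hT] at h1
  have h2 : U = W := by
    rw [← h1]
    exact (Submodule.map_id U).symm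
  subst h2
  have hbot : U = ⊥ := by
    have := hc.disjoint
    rwa [disjoint_self] at this
  have htop : U = ⊤ := by
    have := hc.codisjoint
    rwa [codisjoint_self] at this
  have hnt : (eL ⟨0, hd⟩ : Fin d ⊕ Fin d → F) ∈ (⊤ : Submodule F (Fin d ⊕ Fin d → F)) :=
    Submodule.mem_top
  rw [← htop, hbot, Submodule.mem_bot] at hnt
  have := congrFun hnt (Sum.inl ⟨0, hd⟩)
  unfold eL at this
  rw [Pi.single_eq_same, Pi.zero_apply] at this
  exact one_ne_zero this

end Cfsg.Agent.Lib.Helper24.PPair
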