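import Mathlib
import Cfsg.Agent.Lib.Helper24.PPairD
import Cfsg.Agent.Lib.Helper24.PPairE
import Cfsg.Agent.Lib.Helper24.PPairF
import Cfsg.Agent.S0245

set_option autoImplicit false
set_option linter.style.haveILetI false
set_option linter.unusedSimpArgs false
set_option linter.unusedSectionVars false

namespace Cfsg.Agent.Lib.Helper24.PPair

open Matrix Cfsg Polynomial
open Cfsg.Agent.Lib.Helper27.SympTransv Cfsg.Agent.Lib.Helper27.SpInvol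
open Cfsg.Agent.Lib.Helper24.SpCent Cfsg.Agent.Lib.Helper24.Pal Cfsg.Agent.Lib.Helper24.Star
open Cfsg.Agent.Lib.Helper5.PrimeOrd

theorem main {F : Type*} [Field F] [Fintype F] {p : ℕ} [Fact p.Prime] [CharP F p] {q : ℕ}
    (hq : Fintype.card F = q) (d : ℕ) (hd : 1 ≤ d) (hodd : Odd q)
    (r : ℕ) [Fact r.Prime] (hr2 : r ≠ 2) (hrp : r ≠ p)
    (hΩ : r ∣ Nat.card (PPt d F) / 2) :
    ∃ x : ↥(Matrix.symplecticGroup (Fin d) F),
      (∃ z : F, ((x ^ r : ↥(Matrix.symplecticGroup (Fin d) F)) :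
        Matrix (Fin d ⊕ Fin d) (Fin d ⊕ Fin d) F) =
          z • (1 : Matrix (Fin d ⊕ Fin d) (Fin d ⊕ Fin d) F)) ∧
      (∀ z : F, (x : Matrix (Fin d ⊕ Fin d) (Fin d ⊕ Fin d) F) ≠
        z • (1 : Matrix (Fin d ⊕ Fin d) (Fin d ⊕ Fin d) F)) ∧
      ¬ (∃ U W : Submodule F (Fin d ⊕ Fin d → F), IsCompl U W ∧
        (∀ u ∈ U, ∀ v ∈ U, Cfsg.sympForm d F u v = 0) ∧
        (∀ u ∈ W, ∀ v ∈ W, Cfsg.sympForm d F u v = 0) ∧
        ((U.map (Matrix.toLin' (x : Matrix (Fin d ⊕ Fin d) (Fin d ⊕ Fin d) F)) = U ∧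
          W.map (Matrix.toLin' (x : Matrix (Fin d ⊕ Fin d) (Fin d ⊕ Fin d) F)) = W) ∨
         (U.map (Matrix.toLin' (x : Matrix (Fin d ⊕ Fin d) (Fin d ⊕ Fin d) F)) = W ∧
          W.map (Matrix.toLin' (x : Matrix (Fin d ⊕ Fin d) (Fin d ⊕ Fin d) F)) = U))) := by
  have hr : r.Prime := Fact.out
  have hp : p.Prime := Fact.out
  have hq2 : 2 ≤ q := by
    rw [← hq]
    exact Fintype.one_lt_card
  have hrq : ¬ r ∣ q := by
    obtain ⟨k, hk1, hk2⟩ := FiniteField.card F p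
    rw [← hq, hk2]
    intro h
    have := hr.dvd_of_dvd_pow h
    exact hrp ((Nat.prime_dvd_prime_iff_eq hr hp).mp this)
  have hcount : Nat.card (PPt d F) * ∏ i : Fin d, (q ^ d - q ^ (i : ℕ)) =
      q ^ (d ^ 2) * ∏ i ∈ Finset.range d, (q ^ (2 * (i + 1)) - 1) := by
    rw [← Cfsg.Agent.S0245.result hq d, ← card_pairs_mul, hq]
  have h2N : 2 ∣ Nat.card (PPt d F) := two_dvd_of_eq hq2 hodd hd hcount
  have hrN : r ∣ Nat.card (PPt d F) := hΩ.trans (Nat.div_dvd_of_dvd h2N)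
  obtain ⟨j, hj1, hjd, hrj⟩ := exists_dvd_pow_add_one hq2 hr hrq hcount hrN
  obtain ⟨hev, hle, hpos⟩ := orderOf_even_of_dvd hr hr2 hj1 hrj
  obtain ⟨i, hi⟩ : ∃ i, i = orderOf (q : ZMod r) := ⟨_, rfl⟩
  rw [← hi] at hev hle hpos
  have hi2 : 2 ≤ i := by
    obtain ⟨t, ht⟩ := hev
    omega
  have hid : i ≤ 2 * d := by omega
  obtain ⟨g, f, hf, hg, N, hN, hgN⟩ := exists_elt p hq d r i hr hrp hi hpos hev hid
  have hfm := (mem_cycFactors_iff r f).mp hf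
  have hgr : g.1 ^ r = 1 := elt_pow p hr g.1 f hf hg hN hgN
  refine ⟨g, ⟨1, ?_⟩, ?_, ?_⟩
  · rw [SubmonoidClass.coe_pow, one_smul]
    exact hgr
  · intro z
    exact elt_not_scalar p hr hrp hq hi hi2 g.1 f hf hg z
  · rintro ⟨U, W, hc, hU, hW, hfix | hswap⟩
    · exact no_fixed_pair g f _ hfm.1 hfm.2.1 (star_eq_of_even hr hq hi hpos hev f hf)
        (ne_X_sub_one_of_mem p hr hrp f hf) hg U W hc hU hW hfix.1 hfix.2
    · have hT : (Matrix.toLin' g.1) ^ r = 1 := by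
        have e : Matrix.toLin' g.1 = Matrix.toLinAlgEquiv' g.1 := rfl
        rw [e, ← map_pow, hgr, map_one]
      exact no_swap (Matrix.toLin' g.1) (hr.odd_of_ne_two hr2) hT hd U W hc hswap.1 hswap.2

end Cfsg.Agent.Lib.Helper24.PPair
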