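import Mathlib
import Cfsg.Agent.Lib.Helper24.PalA

set_option autoImplicit false
set_option linter.style.haveILetI false
set_option linter.unusedSimpArgs false
set_option linter.unusedSectionVars false

namespace Cfsg.Agent.Lib.Helper24.UPal

open Polynomial Matrix
open Cfsg.Agent.Lib.Helper24.Pal

variable {K : Type*} [Field K] (σ : K →+* K)

theorem map_map_self (hσ : ∀ x, σ (σ x) = x) (f : K[X]) : (f.map σ).map σ = f := by
  rw [Polynomial.map_map]
  have : σ.comp σ = RingHom.id K := by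
    ext x
    exact hσ x
  rw [this, Polynomial.map_id]

theorem map_reverse (f : K[X]) : (f.map σ).reverse = f.reverse.map σ := by
  ext k
  rw [coeff_reverse, coeff_map, coeff_map, coeff_reverse,
    natDegree_map_eq_of_injective σ.injective]

theorem coeff_zero_map (f : K[X]) : (f.map σ).coeff 0 = σ (f.coeff 0) := coeff_map σ 0

/-- self-duality of a polynomial with respect to the involution `σ` -/
def SD (f : K[X]) : Prop := f.reverse = C (f.coeff 0) * f.map σ

variable {σ}

theorem SD.norm {f : K[X]} (hf : SD σ f) (hm : f.Monic) : f.coeff 0 * σ (f.coeff 0) = 1 := by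
  have h1 : f.reverse.coeff 0 = (C (f.coeff 0) * f.map σ).coeff 0 := by rw [hf]
  rw [coeff_zero_reverse, hm.leadingCoeff, coeff_C_mul, coeff_map] at h1
  exact h1.symm

theorem SD.coeff_ne {f : K[X]} (hf : SD σ f) (hm : f.Monic) : f.coeff 0 ≠ 0 :=
  left_ne_zero_of_mul_eq_one (hf.norm hm)

/-- cancellation -/
theorem SD.cancel {u s : K[X]} (hu : SD σ u) (hu0 : u ≠ 0) (hus : SD σ (u * s)) : SD σ s := by
  unfold SD at hu hus ⊢
  rw [reverse_mul_of_domain, hu, mul_coeff_zero, C_mul, Polynomial.map_mul] at hus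
  have hne : C (u.coeff 0) * u.map σ ≠ 0 := by
    rw [← hu]
    exact reverse_eq_zero.not.mpr hu0
  have h2 : (C (u.coeff 0) * u.map σ) * s.reverse =
      (C (u.coeff 0) * u.map σ) * (C (s.coeff 0) * s.map σ) := by
    rw [hus]; ring
  exact mul_left_cancel₀ hne h2

/-- the dual of a polynomial -/
noncomputable def dag (σ : K →+* K) (f : K[X]) : K[X] := C (σ (f.coeff 0))⁻¹ * (f.map σ).reverse

theorem dag_monic {f : K[X]} (h0 : f.coeff 0 ≠ 0) : (dag σ f).Monic := by
  have h1 : (f.map σ).coeff 0 ≠ 0 := by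
    rw [coeff_map]
    exact (map_ne_zero σ).mpr h0
  have htd : (f.map σ).natTrailingDegree = 0 := by
    rw [Polynomial.natTrailingDegree_eq_zero]; right; exact h1
  unfold dag
  rw [Monic, leadingCoeff_mul, leadingCoeff_C, reverse_leadingCoeff, trailingCoeff, htd,
    coeff_map, inv_mul_cancel₀ ((map_ne_zero σ).mpr h0)]

theorem dag_natDegree {f : K[X]} (h0 : f.coeff 0 ≠ 0) : (dag σ f).natDegree = f.natDegree := by
  have h1 : (f.map σ).coeff 0 ≠ 0 := by
    rw [coeff_map]
    exact (map_ne_zero σ).mpr h0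
  unfold dag
  rw [natDegree_C_mul (inv_ne_zero ((map_ne_zero σ).mpr h0)), reverse_natDegree' h1,
    natDegree_map_eq_of_injective σ.injective]

/-- `π * dag π` is self-dual -/
theorem sd_mul_dag (hσ : ∀ x, σ (σ x) = x) {f : K[X]} (hm : f.Monic) (h0 : f.coeff 0 ≠ 0) :
    SD σ (f * dag σ f) := by
  have hs0 : σ (f.coeff 0) ≠ 0 := (map_ne_zero σ).mpr h0
  have h1 : (f.map σ).coeff 0 ≠ 0 := by rw [coeff_map]; exact hs0
  have e1 : (f * dag σ f).reverse = f.reverse * (C (σ (f.coeff 0))⁻¹ * f.map σ) := by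
    unfold dag
    rw [reverse_mul_of_domain, reverse_C_mul', reverse_reverse' h1]
  have e2 : (f * dag σ f).coeff 0 = f.coeff 0 * (σ (f.coeff 0))⁻¹ := by
    unfold dag
    rw [mul_coeff_zero, coeff_C_mul, coeff_zero_reverse, (hm.map σ).leadingCoeff, mul_one]
  have e3 : (f * dag σ f).map σ = f.map σ * (C (f.coeff 0)⁻¹ * f.reverse) := by
    unfold dag
    rw [Polynomial.map_mul, Polynomial.map_mul, Polynomial.map_C, map_inv₀, hσ, ← map_reverse,
      map_map_self σ hσ]
  have h2 : C (f.coeff 0) * C (f.coeff 0)⁻¹ = (1 : K[X]) := by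
    rw [← C_mul, mul_inv_cancel₀ h0, C_1]
  unfold SD
  rw [e1, e2, e3, C_mul]
  calc f.reverse * (C (σ (f.coeff 0))⁻¹ * map σ f)
      = (C (f.coeff 0) * C (f.coeff 0)⁻¹) * (f.reverse * (C (σ (f.coeff 0))⁻¹ * map σ f)) := by
        rw [h2, one_mul]
    _ = C (f.coeff 0) * C (σ (f.coeff 0))⁻¹ * (map σ f * (C (f.coeff 0)⁻¹ * f.reverse)) := by
        ring

/-- if `dag π = π` then `π` is self-dual -/
theorem sd_of_dag_eq (hσ : ∀ x, σ (σ x) = x) {f : K[X]} (h0 : f.coeff 0 ≠ 0)
    (h : dag σ f = f) : SD σ f := by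
  have hs0 : σ (f.coeff 0) ≠ 0 := (map_ne_zero σ).mpr h0
  have h1 : (f.map σ).reverse = C (σ (f.coeff 0)) * f := by
    have h3 : C (σ (f.coeff 0)) * dag σ f = C (σ (f.coeff 0)) * f := by rw [h]
    unfold dag at h3
    rw [← mul_assoc, ← C_mul, mul_inv_cancel₀ hs0, C_1, one_mul] at h3
    exact h3
  have h2 := congrArg (Polynomial.map σ) h1
  rw [map_reverse, map_map_self σ hσ, Polynomial.map_mul, Polynomial.map_C, hσ] at h2
  exact h2

end Cfsg.Agent.Lib.Helper24.UPal
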