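import Mathlib
import Cfsg.Agent.Lib.Helper24.UPalA
import Cfsg.Agent.Lib.Helper24.PalF

set_option autoImplicit false
set_option linter.style.haveILetI false
set_option linter.unusedSimpArgs false
set_option linter.unusedSectionVars false

namespace Cfsg.Agent.Lib.Helper24.UPal

open Polynomial Matrix
open Cfsg.Agent.Lib.Helper24.Pal

variable {K : Type*} [Field K] (σ : K →+* K)

/-- conjugate transpose with respect to `σ` -/
def sg {ι : Type*} (M : Matrix ι ι K) : Matrix ι ι K := (M.map σ)ᵀ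

variable {ι : Type*} [Fintype ι] [DecidableEq ι]

theorem sg_apply (M : Matrix ι ι K) (i j : ι) : sg σ M i j = σ (M j i) := rfl

theorem sg_mul (A B : Matrix ι ι K) : sg σ (A * B) = sg σ B * sg σ A := by
  unfold sg
  rw [Matrix.map_mul, transpose_mul]

theorem sg_one : sg σ (1 : Matrix ι ι K) = 1 := by
  unfold sg
  rw [Matrix.map_one σ (map_zero σ) (map_one σ), transpose_one]

theorem sg_zero : sg σ (0 : Matrix ι ι K) = 0 := by
  ext i j
  rw [sg_apply, Matrix.zero_apply, Matrix.zero_apply, map_zero]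

theorem sg_add (A B : Matrix ι ι K) : sg σ (A + B) = sg σ A + sg σ B := by
  ext i j
  rw [sg_apply, Matrix.add_apply, Matrix.add_apply, map_add, sg_apply, sg_apply]

theorem sg_smul (a : K) (A : Matrix ι ι K) : sg σ (a • A) = σ a • sg σ A := by
  ext i j
  rw [sg_apply, Matrix.smul_apply, Matrix.smul_apply, smul_eq_mul, smul_eq_mul, map_mul, sg_apply]

theorem sg_sg (hσ : ∀ x, σ (σ x) = x) (A : Matrix ι ι K) : sg σ (sg σ A) = A := by
  ext i j
  rw [sg_apply, sg_apply, hσ]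

theorem sg_pow (A : Matrix ι ι K) (k : ℕ) : sg σ (A ^ k) = (sg σ A) ^ k := by
  unfold sg
  rw [Matrix.map_pow, transpose_pow]

theorem charpoly_sg (A : Matrix ι ι K) : (sg σ A).charpoly = A.charpoly.map σ := by
  unfold sg
  rw [charpoly_transpose, Matrix.charpoly_map]

theorem sg_fromBlocks_diag {ι' : Type*} [Fintype ι'] [DecidableEq ι'] (A : Matrix ι ι K)
    (D : Matrix ι' ι' K) : sg σ (fromBlocks A 0 0 D) = fromBlocks (sg σ A) 0 0 (sg σ D) := by
  ext (i | i) (j | j) <;> simp [sg_apply]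

theorem sg_fromBlocks_swap :
    sg σ (fromBlocks (0 : Matrix ι ι K) (1 : Matrix ι ι K) (1 : Matrix ι ι K)
      (0 : Matrix ι ι K)) = fromBlocks (0 : Matrix ι ι K) (1 : Matrix ι ι K) (1 : Matrix ι ι K)
      (0 : Matrix ι ι K) := by
  ext (i | i) (j | j)
  · simp [sg_apply]
  · simp only [sg_apply, fromBlocks_apply₂₁, fromBlocks_apply₁₂, Matrix.one_apply]
    by_cases h : i = j
    · rw [if_pos h, if_pos h.symm, map_one]
    · rw [if_neg h, if_neg (Ne.symm h), map_zero]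
  · simp only [sg_apply, fromBlocks_apply₂₁, fromBlocks_apply₁₂, Matrix.one_apply]
    by_cases h : i = j
    · rw [if_pos h, if_pos h.symm, map_one]
    · rw [if_neg h, if_neg (Ne.symm h), map_zero]
  · simp [sg_apply]

/-- `f` is the characteristic polynomial of a matrix of order prime to `p` preserving a
nondegenerate `σ`-hermitian form -/
def UReal (σ : K →+* K) (p : ℕ) (f : K[X]) : Prop :=
  ∃ (ι : Type) (_ : Fintype ι) (_ : DecidableEq ι) (h P : Matrix ι ι K),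
    sg σ h = h ∧ IsUnit h ∧ sg σ P * h * P = h ∧ P.charpoly = f ∧ ∃ m : ℕ, ¬ p ∣ m ∧ P ^ m = 1

theorem uReal_one (p : ℕ) (hp : p.Prime) : UReal σ p (1 : K[X]) := by
  refine ⟨Empty, inferInstance, inferInstance, 1, 1, ?_, isUnit_one, ?_, ?_, 1, ?_, ?_⟩
  · exact Subsingleton.elim _ _
  · exact Subsingleton.elim _ _
  · exact Matrix.charpoly_isEmpty
  · exact hp.one_lt.ne' ∘ Nat.dvd_one.1
  · exact pow_one _

theorem uReal_mul {p : ℕ} (hp : p.Prime) {f₁ f₂ : K[X]} (h₁ : UReal σ p f₁)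
    (h₂ : UReal σ p f₂) : UReal σ p (f₁ * f₂) := by
  obtain ⟨ι₁, _, _, c₁, P₁, hs₁, hu₁, hi₁, hf₁, m₁, hm₁, hP₁⟩ := h₁
  obtain ⟨ι₂, _, _, c₂, P₂, hs₂, hu₂, hi₂, hf₂, m₂, hm₂, hP₂⟩ := h₂
  obtain ⟨b₁, hb₁⟩ := hu₁.exists_right_inv
  obtain ⟨b₂, hb₂⟩ := hu₂.exists_right_inv
  refine ⟨ι₁ ⊕ ι₂, inferInstance, inferInstance, fromBlocks c₁ 0 0 c₂, fromBlocks P₁ 0 0 P₂,
    ?_, ?_, ?_, ?_, m₁ * m₂, ?_, ?_⟩
  · rw [sg_fromBlocks_diag, hs₁, hs₂]
  · apply IsUnit.of_mul_eq_one (fromBlocks b₁ 0 0 b₂)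
    rw [fromBlocks_multiply]
    simp only [Matrix.mul_zero, Matrix.zero_mul, add_zero, zero_add, hb₁, hb₂, fromBlocks_one]
  · rw [sg_fromBlocks_diag, fromBlocks_multiply, fromBlocks_multiply]
    simp only [Matrix.mul_zero, Matrix.zero_mul, add_zero, zero_add, hi₁, hi₂]
  · rw [charpoly_fromBlocks_zero₁₂, hf₁, hf₂]
  · intro h
    rcases (Nat.Prime.dvd_mul hp).1 h with h | h
    · exact hm₁ h
    · exact hm₂ h
  · rw [fromBlocks_diagonal_pow, pow_mul, hP₁, one_pow, mul_comm, pow_mul, hP₂, one_pow,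
      fromBlocks_one]

/-- the hyperbolic construction -/
theorem uReal_hyp (hσ : ∀ x, σ (σ x) = x) {p : ℕ} {d : ℕ} (P : Matrix (Fin d) (Fin d) K) {m : ℕ}
    (hm : ¬ p ∣ m)
    (hP : P ^ m = 1) : UReal σ p (P.charpoly * dag σ P.charpoly) := by
  have hm1 : 1 ≤ m := by
    rcases Nat.eq_zero_or_pos m with h | h
    · exact absurd (h ▸ dvd_zero p) hm
    · exact h
  obtain ⟨k, hk⟩ : ∃ k, m = k + 1 := ⟨m - 1, by omega⟩
  obtain ⟨Q, hQ⟩ : ∃ Q, Q = P ^ k := ⟨_, rfl⟩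
  have hPQ : P * Q = 1 := by rw [hQ, ← pow_succ', ← hk, hP]
  have hQP : Q * P = 1 := by rw [hQ, ← pow_succ, ← hk, hP]
  refine ⟨Fin d ⊕ Fin d, inferInstance, inferInstance,
    fromBlocks (0 : Matrix (Fin d) (Fin d) K) (1 : Matrix (Fin d) (Fin d) K)
      (1 : Matrix (Fin d) (Fin d) K) (0 : Matrix (Fin d) (Fin d) K),
    fromBlocks P 0 0 (sg σ Q), sg_fromBlocks_swap σ, ?_, ?_, ?_, m, hm, ?_⟩
  · apply IsUnit.of_mul_eq_one (fromBlocks (0 : Matrix (Fin d) (Fin d) K)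
      (1 : Matrix (Fin d) (Fin d) K) (1 : Matrix (Fin d) (Fin d) K) (0 : Matrix (Fin d) (Fin d) K))
    rw [fromBlocks_multiply]
    simp only [Matrix.mul_zero, Matrix.zero_mul, add_zero, zero_add, Matrix.mul_one,
      fromBlocks_one]
  · rw [sg_fromBlocks_diag, fromBlocks_multiply, fromBlocks_multiply]
    simp only [Matrix.mul_zero, Matrix.zero_mul, add_zero, zero_add, Matrix.mul_one,
      Matrix.one_mul]
    rw [← sg_mul, hQP, sg_one, sg_sg σ hσ, hQP]
  · rw [charpoly_fromBlocks_zero₁₂, charpoly_sg, charpoly_of_inv' hPQ]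
    congr 1
    unfold dag
    rw [Polynomial.map_mul, Polynomial.map_C, map_inv₀, map_reverse]
  · rw [fromBlocks_diagonal_pow, hP, ← sg_pow, hQ, ← pow_mul, mul_comm, pow_mul, hP,
      one_pow, sg_one, fromBlocks_one]

end Cfsg.Agent.Lib.Helper24.UPal
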