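import Mathlib
import Cfsg.Agent.Lib.Helper24.UPalB
import Cfsg.Agent.Lib.Helper24.PalC

set_option autoImplicit false
set_option linter.style.haveILetI false
set_option linter.unusedSimpArgs false
set_option linter.unusedSectionVars false

namespace Cfsg.Agent.Lib.Helper24.UPal

open Polynomial Matrix
open Cfsg.Agent.Lib.Helper24.Pal
open Cfsg.Agent.Lib.Helper24.UDet

variable {K : Type*} [Field K] [Fintype K] (σ : K →+* K)

/-- an irreducible self-dual polynomial is unitarily realizable -/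
theorem uReal_irr (hσ : ∀ x, σ (σ x) = x) {ω : K} (hω : σ ω ≠ ω) {p : ℕ} [CharP K p]
    (hp : p.Prime) {π : K[X]} (hmon : π.Monic) (hirr : Irreducible π) (hsd : SD σ π) :
    UReal σ p π := by
  have h0 : π.coeff 0 ≠ 0 := hsd.coeff_ne hmon
  obtain ⟨d, hd⟩ : ∃ d, π.natDegree = d := ⟨_, rfl⟩
  have hd1 : 1 ≤ d := by rw [← hd]; exact hirr.natDegree_pos
  obtain ⟨P, m, hPc, hm, hPm⟩ := Cfsg.Agent.Lib.Helper5.SSClass.exists_matrix_of_monic hp
    d π hd hmon h0
  have hm1 : 1 ≤ m := by
    rcases Nat.eq_zero_or_pos m with h | h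
    · exact absurd (h ▸ dvd_zero p) hm
    · exact h
  obtain ⟨k, hk⟩ : ∃ k, m = k + 1 := ⟨m - 1, by omega⟩
  obtain ⟨Q, hQ⟩ : ∃ Q, Q = P ^ k := ⟨_, rfl⟩
  have hPQ : P * Q = 1 := by rw [hQ, ← pow_succ', ← hk, hPm]
  have hQP : Q * P = 1 := by rw [hQ, ← pow_succ, ← hk, hPm]
  have hQc : (sg σ Q).charpoly = P.charpoly := by
    rw [charpoly_sg, charpoly_of_inv' hPQ, hPc]
    have h1 : C (π.coeff 0)⁻¹ * π.reverse = π.map σ := by
      rw [hsd, ← mul_assoc, ← C_mul, inv_mul_cancel₀ h0, C_1, one_mul]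
    rw [h1, map_map_self σ hσ]
  have hQm : (sg σ Q) ^ m = 1 := by
    rw [← sg_pow, hQ, ← pow_mul, mul_comm, pow_mul, hPm, one_pow, sg_one]
  obtain ⟨c, hcu, hc⟩ := Cfsg.Agent.Lib.Helper24.SpConj.exists_unit_conj (p := p) P (sg σ Q) hPm hm
    hQm hm hQc.symm
  have hinv : sg σ P * c * P = c := by
    rw [mul_assoc, hc, ← mul_assoc, ← sg_mul, hQP, sg_one, one_mul]
  have hirrP : Irreducible P.charpoly := by rw [hPc]; exact hirr
  have key : ∀ h' : Matrix (Fin d) (Fin d) K, sg σ h' = h' → sg σ P * h' * P = h' →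
      h' ≠ 0 → UReal σ p π := by
    intro h' hs hi hne
    have haP : h' * P = sg σ Q * h' := by
      calc h' * P = (sg σ Q * sg σ P) * h' * P := by
            rw [← sg_mul, hPQ, sg_one, Matrix.one_mul]
        _ = sg σ Q * (sg σ P * h' * P) := by simp only [Matrix.mul_assoc]
        _ = sg σ Q * h' := by rw [hi]
    have hW : Inv P (LinearMap.ker (Matrix.toLin' h')) := by
      intro v hv
      rw [LinearMap.mem_ker, Matrix.toLin'_apply] at hv ⊢
      rw [Matrix.mulVec_mulVec, haP, ← Matrix.mulVec_mulVec, hv, Matrix.mulVec_zero]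
    have hunit : IsUnit h' := by
      rcases inv_trivial_of_irreducible p hPm hm hirrP _ hW with h | h
      · rw [LinearMap.ker_eq_bot] at h
        rw [← Matrix.mulVec_injective_iff_isUnit]
        intro v w hvw
        apply h
        rw [Matrix.toLin'_apply, Matrix.toLin'_apply]
        exact hvw
      · exfalso
        apply hne
        rw [LinearMap.ker_eq_top] at h
        have := congrArg LinearMap.toMatrix' h
        rw [LinearMap.toMatrix'_toLin'] at this
        rw [this]
        exact map_zero _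
    exact ⟨Fin d, inferInstance, inferInstance, h', P, hs, hunit, hi, hPc, m, hm, hPm⟩
  have hinvs : sg σ P * sg σ c * P = sg σ c := by
    have := congrArg (sg σ) hinv
    rw [sg_mul, sg_mul, sg_sg σ hσ, ← Matrix.mul_assoc] at this
    exact this
  by_cases h1 : c + sg σ c = 0
  · have hsc : sg σ c = -c := by
      rw [add_comm] at h1
      exact eq_neg_of_add_eq_zero_left h1
    obtain ⟨ζ, hζ⟩ : ∃ ζ, ζ = ω - σ ω := ⟨_, rfl⟩
    have hζ0 : ζ ≠ 0 := by
      rw [hζ]
      exact sub_ne_zero.mpr (Ne.symm hω)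
    have hσζ : σ ζ = -ζ := by
      rw [hζ, map_sub, hσ]
      ring
    apply key (ζ • c)
    · rw [sg_smul, hσζ, hsc, neg_smul, smul_neg, neg_neg]
    · rw [Matrix.mul_smul, Matrix.smul_mul, hinv]
    · intro hz
      have hc0 : c = 0 := by
        have := congrArg (fun x => ζ⁻¹ • x) hz
        simp only [smul_smul, inv_mul_cancel₀ hζ0, one_smul, smul_zero] at this
        exact this
      haveI : Nonempty (Fin d) := ⟨⟨0, by omega⟩⟩
      rw [hc0] at hcu
      exact not_isUnit_zero hcu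
  · apply key (c + sg σ c)
    · rw [sg_add, sg_sg σ hσ, add_comm]
    · rw [Matrix.mul_add, Matrix.add_mul, hinv, hinvs]
    · exact h1

end Cfsg.Agent.Lib.Helper24.UPal
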