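import Mathlib
import Cfsg.Agent.Lib.Helper24.UPalC

set_option autoImplicit false
set_option linter.style.haveILetI false
set_option linter.unusedSimpArgs false
set_option linter.unusedSectionVars false

namespace Cfsg.Agent.Lib.Helper24.UPal

open Polynomial Matrix
open Cfsg.Agent.Lib.Helper24.Pal

variable {K : Type*} [Field K] [Fintype K] (σ : K →+* K)

/-- every monic self-dual polynomial is unitarily realizable -/
theorem uReal_of_sd (hσ : ∀ x, σ (σ x) = x) {ω : K} (hω : σ ω ≠ ω) {p : ℕ} [CharP K p]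
    (hp : p.Prime) :
    ∀ (d : ℕ) (f : K[X]), f.Monic → SD σ f → f.natDegree = d → UReal σ p f := by
  intro d
  induction d using Nat.strong_induction_on with
  | _ d ih =>
    intro f hmon hsd hdeg
    rcases Nat.eq_zero_or_pos d with hd0 | hdpos
    · subst hd0
      have : f = 1 := hmon.natDegree_eq_zero.mp hdeg
      rw [this]
      exact uReal_one σ p hp
    have hf0 : f.coeff 0 ≠ 0 := hsd.coeff_ne hmon
    have hnu : ¬ IsUnit f := not_isUnit_of_natDegree_pos f (by rw [hdeg]; exact hdpos)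
    obtain ⟨π, hπm, hπi, r, hfr⟩ := exists_monic_irreducible_factor f hnu
    have hcoef : π.coeff 0 * r.coeff 0 = f.coeff 0 := by rw [← mul_coeff_zero, ← hfr]
    have hπ0 : π.coeff 0 ≠ 0 := by
      intro h
      rw [h, zero_mul] at hcoef
      exact hf0 hcoef.symm
    have hrm : r.Monic := hπm.of_mul_monic_left (hfr ▸ hmon)
    have hdπ : 1 ≤ π.natDegree := hπi.natDegree_pos
    have hdsum : π.natDegree + r.natDegree = d := by
      rw [← hπm.natDegree_mul hrm, ← hfr, hdeg]
    have hsπ0 : σ (π.coeff 0) ≠ 0 := (map_ne_zero σ).mpr hπ0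
    have hsf0 : σ (f.coeff 0) ≠ 0 := (map_ne_zero σ).mpr hf0
    obtain ⟨π', hπ'def⟩ : ∃ π', π' = dag σ π := ⟨_, rfl⟩
    have hπ'm : π'.Monic := by rw [hπ'def]; exact dag_monic hπ0
    have hπ'd : π'.natDegree = π.natDegree := by rw [hπ'def]; exact dag_natDegree hπ0
    have hπ'f : π' ∣ f := by
      have h1 : (f.map σ).reverse = C (σ (f.coeff 0)) * f := by
        have h2 := congrArg (Polynomial.map σ) hsd
        rw [← map_reverse, Polynomial.map_mul, Polynomial.map_C, map_map_self σ hσ] at h2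
        exact h2
      have h3 : (f.map σ).reverse = (π.map σ).reverse * (r.map σ).reverse := by
        rw [hfr, Polynomial.map_mul, reverse_mul_of_domain]
      refine ⟨C (σ (π.coeff 0)) * C (σ (f.coeff 0))⁻¹ * (r.map σ).reverse, ?_⟩
      have h4 : C (σ (f.coeff 0))⁻¹ * C (σ (f.coeff 0)) = (1 : K[X]) := by
        rw [← C_mul, inv_mul_cancel₀ hsf0, C_1]
      have h5 : C (σ (π.coeff 0))⁻¹ * C (σ (π.coeff 0)) = (1 : K[X]) := by
        rw [← C_mul, inv_mul_cancel₀ hsπ0, C_1]
      calc f = (C (σ (f.coeff 0))⁻¹ * C (σ (f.coeff 0))) * f := by rw [h4, one_mul]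
        _ = C (σ (f.coeff 0))⁻¹ * (C (σ (f.coeff 0)) * f) := by ring
        _ = C (σ (f.coeff 0))⁻¹ * ((π.map σ).reverse * (r.map σ).reverse) := by rw [← h1, h3]
        _ = (C (σ (π.coeff 0))⁻¹ * C (σ (π.coeff 0))) *
            (C (σ (f.coeff 0))⁻¹ * ((π.map σ).reverse * (r.map σ).reverse)) := by
              rw [h5, one_mul]
        _ = π' * (C (σ (π.coeff 0)) * C (σ (f.coeff 0))⁻¹ * (r.map σ).reverse) := by
              rw [hπ'def]; unfold dag; ring
    by_cases hdvd : π * π' ∣ f
    · -- Case A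
      obtain ⟨s, hs⟩ := hdvd
      have hum : (π * π').Monic := hπm.mul hπ'm
      have hsm : s.Monic := hum.of_mul_monic_left (hs ▸ hmon)
      have husd : SD σ (π * π') := by rw [hπ'def]; exact sd_mul_dag hσ hπm hπ0
      have hssd : SD σ s := husd.cancel hum.ne_zero (hs ▸ hsd)
      have hsd' := hum.natDegree_mul hsm
      rw [← hs, hdeg, hπm.natDegree_mul hπ'm, hπ'd] at hsd'
      obtain ⟨P, m, hPc, hm, hPm⟩ := Cfsg.Agent.Lib.Helper5.SSClass.exists_matrix_of_monic hp
        π.natDegree π rfl hπm hπ0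
      have h1 : UReal σ p (π * π') := by
        have := uReal_hyp σ hσ (p := p) P hm hPm
        rw [hPc] at this
        rw [hπ'def]
        exact this
      have h2 : UReal σ p s := ih s.natDegree (by omega) s hsm hssd rfl
      rw [hs]
      exact uReal_mul σ hp h1 h2
    · -- Case B
      have hππ' : π' = π := by
        by_contra hne
        have hnd : ¬ π ∣ π' := fun h =>
          hne (eq_of_monic_of_dvd_of_natDegree_le hπm hπ'm h (by rw [hπ'd]))
        have hcop : IsCoprime π π' := hπi.coprime_iff_not_dvd.mpr hnd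
        exact hdvd (hcop.mul_dvd ⟨r, hfr⟩ hπ'f)
      have hπsd : SD σ π := sd_of_dag_eq hσ hπ0 (by rw [← hπ'def]; exact hππ')
      have h1 : UReal σ p π := uReal_irr σ hσ hω hp hπm hπi hπsd
      have hrsd : SD σ r := hπsd.cancel hπm.ne_zero (hfr ▸ hsd)
      have h2 : UReal σ p r := ih r.natDegree (by omega) r hrm hrsd rfl
      rw [hfr]
      exact uReal_mul σ hp h1 h2

end Cfsg.Agent.Lib.Helper24.UPal
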