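import Mathlib
import Cfsg.Agent.Lib.Helper24.UPalD
import Cfsg.Agent.Lib.Helper24.GUConjA

set_option autoImplicit false
set_option linter.style.haveILetI false
set_option linter.unusedSimpArgs false
set_option linter.unusedSectionVars false

namespace Cfsg.Agent.Lib.Helper24.UPal

open Polynomial Matrix Cfsg
open Cfsg.Agent.Lib.Helper24.Pal
open Cfsg.Agent.Lib.Helper24.GUConj

variable {K : Type*} [Field K] [Fintype K] {q : ℕ}

theorem sg_eq_st (hK : Fintype.card K = q ^ 2) {n : ℕ} (M : Matrix (Fin n) (Fin n) K) :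
    sg (Cfsg.Agent.Lib.Helper27.Unitary.conjHom hK) M = st q M := rfl

/-- a unitarily realizable polynomial of degree `n` is the characteristic polynomial of a unitary
matrix for the standard form -/
theorem exists_unitary_of_uReal (hK : Fintype.card K = q ^ 2) {p : ℕ} {f : K[X]} {n : ℕ}
    (hn : f.natDegree = n) (h : UReal (Cfsg.Agent.Lib.Helper27.Unitary.conjHom hK) p f) :
    ∃ g : Matrix (Fin n) (Fin n) K, st q g * g = 1 ∧ g.charpoly = f ∧
      ∃ m, ¬ p ∣ m ∧ g ^ m = 1 := by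
  classical
  obtain ⟨ι, _, _, h, P, hs, hu, hi, hf, m, hm, hPm⟩ := h
  have hcard : Fintype.card ι = n := by
    rw [← hn, ← hf, Matrix.charpoly_natDegree_eq_dim]
  obtain ⟨e⟩ : Nonempty (ι ≃ Fin n) := ⟨Fintype.equivFinOfCardEq hcard⟩
  obtain ⟨φ, hφ⟩ : ∃ φ : Matrix ι ι K ≃ₐ[K] Matrix (Fin n) (Fin n) K,
      φ = Matrix.reindexAlgEquiv K K e := ⟨_, rfl⟩
  have hφa : ∀ M : Matrix ι ι K, φ M = Matrix.reindex e e M := by
    intro M
    rw [hφ, Matrix.coe_reindexAlgEquiv]
  have hφs : ∀ M : Matrix ι ι K, st q (φ M) = φ (sg (Cfsg.Agent.Lib.Helper27.Unitary.conjHom hK) M) := by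
    intro M
    rw [hφa, hφa]
    ext i j
    rfl
  have hfix : st q (φ h) = φ h := by rw [hφs, hs]
  have hu' : IsUnit (φ h) := hu.map φ
  obtain ⟨x, -, hx⟩ := exists_sqrt hK (φ h) hfix hu'
  obtain ⟨hi', hhi'⟩ := hu'.exists_left_inv
  have hxu : IsUnit x := by
    apply IsUnit.of_mul_eq_one_right (hi' * st q x)
    rw [Matrix.mul_assoc, hx, hhi']
  obtain ⟨xi, hxi⟩ := hxu.exists_right_inv
  have hxi' : xi * x = 1 := mul_eq_one_comm.mp hxi
  have hinv' : st q (φ P) * φ h * φ P = φ h := by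
    rw [hφs, ← map_mul, ← map_mul, hi]
  refine ⟨x * φ P * xi, ?_, ?_, m, hm, ?_⟩
  · rw [st_mul hK, st_mul hK]
    calc st q xi * (st q (φ P) * st q x) * (x * φ P * xi)
        = st q xi * (st q (φ P) * (st q x * x) * φ P) * xi := by simp only [Matrix.mul_assoc]
      _ = st q xi * (st q x * x) * xi := by rw [hx, hinv']
      _ = (st q xi * st q x) * (x * xi) := by simp only [Matrix.mul_assoc]
      _ = 1 := by rw [← st_mul hK, hxi, st_one hK, Matrix.one_mul]
  · rw [Matrix.mul_assoc, Matrix.charpoly_mul_comm, Matrix.mul_assoc, hxi', Matrix.mul_one, hφa,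
      Matrix.charpoly_reindex, hf]
  · have hpow : ∀ j : ℕ, (x * φ P * xi) ^ j = x * (φ P) ^ j * xi := by
      intro j
      induction j with
      | zero => rw [pow_zero, pow_zero, Matrix.mul_one, hxi]
      | succ j ih =>
        rw [pow_succ, ih, pow_succ]
        calc x * φ P ^ j * xi * (x * φ P * xi) = x * φ P ^ j * (xi * x) * φ P * xi := by
              simp only [Matrix.mul_assoc]
          _ = x * (φ P ^ j * φ P) * xi := by rw [hxi', Matrix.mul_one]; simp only [Matrix.mul_assoc]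
    rw [hpow, ← map_pow, hPm, map_one, Matrix.mul_one, hxi]

end Cfsg.Agent.Lib.Helper24.UPal
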