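import Mathlib
import Cfsg.Agent.Lib.Helper24.UPalE
import Cfsg.Agent.Lib.Helper5.SSPoly

set_option autoImplicit false
set_option linter.style.haveILetI false
set_option linter.unusedSimpArgs false
set_option linter.unusedSectionVars false

namespace Cfsg.Agent.Lib.Helper24.UPal

open Polynomial Matrix Cfsg
open Cfsg.Agent.Lib.Helper24.Pal
open Cfsg.Agent.Lib.Helper24.GUConj

/-- fixed points of a semilinear involution -/
theorem card_fix_sq {W : Type*} [AddCommGroup W] [Finite W] (τ Z Θ Θ' : W →+ W)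
    (hτ : ∀ w, τ (τ w) = w) (hZ : Function.Injective Z) (hτZ : ∀ w, τ (Z w) = - Z (τ w))
    (hΘ : ∀ w, Θ w + Θ' w = w) (hτΘ : ∀ w, τ (Θ w) = Θ' (τ w)) :
    Nat.card {w : W // τ w = w} ^ 2 = Nat.card W := by
  obtain ⟨φ, hφ⟩ : ∃ φ : W →+ W, φ = AddMonoidHom.id W + τ := ⟨_, rfl⟩
  have hφa : ∀ w, φ w = w + τ w := by intro w; rw [hφ]; rfl
  have e1 : {w : W // τ w = w} ≃ φ.range := by
    refine Equiv.subtypeEquivRight (fun w => ?_)
    constructor
    · intro hw
      refine ⟨Θ w, ?_⟩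
      rw [hφa, hτΘ, hw, hΘ]
    · rintro ⟨u, rfl⟩
      rw [hφa, map_add, hτ, add_comm]
  have hZs : Function.Surjective Z := Finite.injective_iff_surjective.mp hZ
  have e2 : {w : W // τ w = w} ≃ φ.ker := by
    refine Equiv.ofBijective (fun w => ⟨Z w.1, ?_⟩) ⟨?_, ?_⟩
    · rw [AddMonoidHom.mem_ker, hφa, hτZ, w.2, add_neg_cancel]
    · intro a b hab
      apply Subtype.ext
      apply hZ
      exact congrArg Subtype.val hab
    · rintro ⟨y, hy⟩
      obtain ⟨u, rfl⟩ := hZs y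
      rw [AddMonoidHom.mem_ker, hφa, hτZ] at hy
      have h1 : Z u = Z (τ u) := by
        have := add_neg_eq_zero.mp hy
        exact this
      exact ⟨⟨u, (hZ h1).symm⟩, rfl⟩
  have h3 := AddSubgroup.card_eq_card_quotient_mul_card_addSubgroup φ.ker
  rw [Nat.card_congr (QuotientAddGroup.quotientKerEquivRange φ).toEquiv, ← Nat.card_congr e1,
    ← Nat.card_congr e2] at h3
  rw [h3, sq]

variable {K : Type*} [Field K] (σ : K →+* K)

theorem sd_iff_coeff {χ : K[X]} {N : ℕ} (hd : χ.natDegree = N) :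
    SD σ χ ↔ ∀ i ≤ N, χ.coeff (N - i) = χ.coeff 0 * σ (χ.coeff i) := by
  unfold SD
  constructor
  · intro h i hi
    have h1 : χ.reverse.coeff i = (C (χ.coeff 0) * χ.map σ).coeff i := by rw [h]
    rw [coeff_reverse, hd, revAt_le hi, coeff_C_mul, coeff_map] at h1
    exact h1
  · intro h
    ext i
    rw [coeff_reverse, hd, coeff_C_mul, coeff_map]
    by_cases hi : i ≤ N
    · rw [revAt_le hi]
      exact h i hi
    · rw [revAt_eq_self_of_lt (not_le.mp hi), coeff_eq_zero_of_natDegree_lt (by omega), map_zero,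
        mul_zero]

/-- the semilinear involution on the middle coefficients -/
def tauHom (k : ℕ) (ε : K) : (Fin k → K) →+ (Fin k → K) where
  toFun a j := ε * σ (a (Fin.rev j))
  map_zero' := by
    funext j
    simp
  map_add' a b := by
    funext j
    simp [mul_add]

theorem tauHom_apply (k : ℕ) (ε : K) (a : Fin k → K) (j : Fin k) :
    tauHom σ k ε a j = ε * σ (a (Fin.rev j)) := rfl

/-- scalar multiplication as an additive map -/
def smulHom (k : ℕ) (c : K) : (Fin k → K) →+ (Fin k → K) where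
  toFun a j := c * a j
  map_zero' := by
    funext j
    simp
  map_add' a b := by
    funext j
    simp [mul_add]

theorem smulHom_apply (k : ℕ) (c : K) (a : Fin k → K) (j : Fin k) :
    smulHom k c a j = c * a j := rfl

theorem card_fix_tau (hσ : ∀ x, σ (σ x) = x) {ω : K} (hω : σ ω ≠ ω) [Finite K] (k : ℕ) {Q : ℕ}
    (hQ : Nat.card K = Q ^ 2) {ε : K} (hε : ε * ε = 1) (hσε : σ ε = ε) :
    Nat.card {a : Fin k → K // tauHom σ k ε a = a} = Q ^ k := by
  have hne : ω - σ ω ≠ 0 := sub_ne_zero.mpr (Ne.symm hω)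
  have hne' : σ ω - ω ≠ 0 := sub_ne_zero.mpr hω
  obtain ⟨ζ, hζ⟩ : ∃ ζ, ζ = ω - σ ω := ⟨_, rfl⟩
  have hζ0 : ζ ≠ 0 := by rw [hζ]; exact hne
  have hσζ : σ ζ = -ζ := by
    rw [hζ, map_sub, hσ]
    ring
  obtain ⟨θ, hθ⟩ : ∃ θ, θ = ω * (ω - σ ω)⁻¹ := ⟨_, rfl⟩
  have hθ1 : θ + σ θ = 1 := by
    rw [hθ, map_mul, map_inv₀, map_sub, hσ]
    field_simp
    ring
  have h := card_fix_sq (tauHom σ k ε) (smulHom k ζ) (smulHom k θ) (smulHom k (σ θ)) ?_ ?_ ?_ ?_ ?_
  · have h2 : Nat.card (Fin k → K) = (Q ^ k) ^ 2 := by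
      rw [Nat.card_fun, Nat.card_eq_fintype_card (α := Fin k), Fintype.card_fin, hQ, ← pow_mul,
        ← pow_mul, mul_comm]
    rw [h2] at h
    exact Nat.pow_left_injective (by norm_num : 2 ≠ 0) h
  · intro a
    funext j
    rw [tauHom_apply, tauHom_apply, Fin.rev_rev, map_mul, hσ, hσε, ← mul_assoc, hε, one_mul]
  · intro a b hab
    funext j
    have := congrFun hab j
    rw [smulHom_apply, smulHom_apply] at this
    exact mul_left_cancel₀ hζ0 this
  · intro a
    funext j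
    rw [tauHom_apply, smulHom_apply, map_mul, hσζ, Pi.neg_apply, smulHom_apply, tauHom_apply]
    ring
  · intro a
    funext j
    rw [Pi.add_apply, smulHom_apply, smulHom_apply, ← add_mul, hθ1, one_mul]
  · intro a
    funext j
    rw [tauHom_apply, smulHom_apply, map_mul, smulHom_apply, tauHom_apply]
    ring

/-- the number of monic self-dual polynomials of degree `k + 1` with constant term
`(-1) ^ (k + 1)` -/
theorem card_sd (hσ : ∀ x, σ (σ x) = x) {ω : K} (hω : σ ω ≠ ω) [Finite K] (k : ℕ) {Q : ℕ}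
    (hQ : Nat.card K = Q ^ 2) :
    Nat.card {χ : K[X] // χ.Monic ∧ χ.natDegree = k + 1 ∧ SD σ χ ∧
      χ.coeff 0 = (-1) ^ (k + 1)} = Q ^ k := by
  obtain ⟨ε, hεdef⟩ : ∃ ε : K, ε = (-1) ^ (k + 1) := ⟨_, rfl⟩
  have hε : ε * ε = 1 := by
    rw [hεdef, ← mul_pow, neg_mul_neg, one_mul, one_pow]
  have hσε : σ ε = ε := by
    rw [hεdef, map_pow, map_neg, map_one]
  rw [← hεdef, ← card_fix_tau σ hσ hω k hQ hε hσε]
  apply Nat.card_congr
  refine Equiv.ofBijective (fun χ => ⟨fun j : Fin k => χ.1.coeff (j + 1), ?_⟩) ⟨?_, ?_⟩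
  · obtain ⟨χ, hm, hd, hsd, h0⟩ := χ
    funext j
    rw [tauHom_apply]
    have hj := j.2
    have h1 := (sd_iff_coeff σ hd).mp hsd (k - j) (by omega)
    rw [h0] at h1
    have e1 : k + 1 - (k - j) = j + 1 := by omega
    have e2 : ((Fin.rev j : Fin k) : ℕ) + 1 = k - j := by rw [Fin.val_rev]; omega
    show ε * σ (χ.coeff ((Fin.rev j : ℕ) + 1)) = χ.coeff (j + 1)
    rw [e2, ← e1, h1]
  · rintro ⟨χ₁, hm₁, hd₁, hs₁, h0₁⟩ ⟨χ₂, hm₂, hd₂, hs₂, h0₂⟩ h
    apply Subtype.ext
    show χ₁ = χ₂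
    have hco : ∀ i, 1 ≤ i → i ≤ k → χ₁.coeff i = χ₂.coeff i := by
      intro i h1 h2
      have := congrFun (congrArg Subtype.val h) ⟨i - 1, by omega⟩
      simp only at this
      rw [Nat.sub_add_cancel h1] at this
      exact this
    ext i
    rcases Nat.eq_zero_or_pos i with hi0 | hi0
    · subst hi0
      rw [h0₁, h0₂]
    rcases Nat.lt_or_ge k i with h1 | h1
    · rcases Nat.lt_or_ge (k + 1) i with h2 | h2
      · rw [coeff_eq_zero_of_natDegree_lt (by omega), coeff_eq_zero_of_natDegree_lt (by omega)]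
      · have hik : i = k + 1 := by omega
        subst hik
        have c₁ := hm₁.coeff_natDegree
        have c₂ := hm₂.coeff_natDegree
        rw [hd₁] at c₁
        rw [hd₂] at c₂
        rw [c₁, c₂]
    · exact hco i hi0 h1
  · rintro ⟨a, ha⟩
    obtain ⟨c, hc⟩ : ∃ c : Fin (k + 1) → K, c = Fin.cons ε a := ⟨_, rfl⟩
    obtain ⟨χ, hχ⟩ : ∃ χ, χ = Cfsg.Agent.Lib.Helper5.SSClass.toPoly c := ⟨_, rfl⟩
    have hm : χ.Monic := by rw [hχ]; exact Cfsg.Agent.Lib.Helper5.SSClass.toPoly_monic c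
    have hd : χ.natDegree = k + 1 := by
      rw [hχ]; exact Cfsg.Agent.Lib.Helper5.SSClass.toPoly_natDegree c
    have hc0 : χ.coeff 0 = ε := by
      have := Cfsg.Agent.Lib.Helper5.SSClass.toPoly_coeff c 0
      rw [hχ]
      simp only [Fin.val_zero] at this
      rw [this, hc, Fin.cons_zero]
    have hcs : ∀ j : Fin k, χ.coeff (j + 1) = a j := by
      intro j
      have := Cfsg.Agent.Lib.Helper5.SSClass.toPoly_coeff c j.succ
      rw [Fin.val_succ] at this
      rw [hχ, this, hc, Fin.cons_succ]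
    have hct : χ.coeff (k + 1) = 1 := by
      have := hm.coeff_natDegree
      rw [hd] at this
      exact this
    have hsd : SD σ χ := by
      rw [sd_iff_coeff σ hd]
      intro i hi
      rw [hc0]
      rcases Nat.eq_zero_or_pos i with hi0 | hi0
      · subst hi0
        rw [Nat.sub_zero, hct, hc0, hσε, hε]
      rcases Nat.lt_or_ge k i with h1 | h1
      · have hik : i = k + 1 := by omega
        subst hik
        rw [Nat.sub_self, hc0, hct, map_one, mul_one]
      · obtain ⟨j, hj⟩ : ∃ j : Fin k, (j : ℕ) + 1 = i := ⟨⟨i - 1, by omega⟩, by simp; omega⟩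
        have e2 : ((Fin.rev j : Fin k) : ℕ) + 1 = k + 1 - i := by rw [Fin.val_rev]; omega
        rw [← e2, hcs, ← hj, hcs]
        have h2 := congrFun ha (Fin.rev j)
        rw [tauHom_apply, Fin.rev_rev] at h2
        exact h2.symm
    refine ⟨⟨χ, hm, hd, hsd, by rw [hc0]⟩, ?_⟩
    apply Subtype.ext
    funext j
    exact hcs j

end Cfsg.Agent.Lib.Helper24.UPal
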