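import Mathlib
import Cfsg.Agent.Lib.Helper24.UDetE
import Cfsg.Agent.Lib.Helper24.SpConjH
import Cfsg.Agent.Lib.Helper27.UGroup

set_option autoImplicit false
set_option linter.style.haveILetI false
set_option linter.unusedSimpArgs false
set_option linter.unusedSectionVars false

namespace Cfsg.Agent.Lib.Helper24.UDet

open Matrix Cfsg Polynomial Module
open Cfsg.Agent.Lib.Helper27.Unitary
open Cfsg.Agent.Lib.Helper24.GUConj

variable {n : ℕ} {K : Type*} [Field K] [Fintype K] {q : ℕ}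

/-- matrix form of conjugacy in the unitary group -/
theorem gu_conj_mat (hK : Fintype.card K = q ^ 2) {a b c : Matrix (Fin n) (Fin n) K}
    (ha : st q a * a = 1) (hb : st q b * b = 1) (hcu : IsUnit c) (hc : c * a = b * c) :
    ∃ u : Matrix (Fin n) (Fin n) K, st q u * u = 1 ∧ u * a = b * u ∧
      u.det * u.det ^ q = 1 := by
  obtain ⟨A, hA⟩ : ∃ A : GL (Fin n) K, A.1 = a :=
    ⟨⟨a, st q a, mul_eq_one_comm.mp ha, ha⟩, rfl⟩
  obtain ⟨B, hB⟩ : ∃ B : GL (Fin n) K, B.1 = b :=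
    ⟨⟨b, st q b, mul_eq_one_comm.mp hb, hb⟩, rfl⟩
  obtain ⟨C, hC⟩ : ∃ C : GL (Fin n) K, C.1 = c := ⟨hcu.unit, rfl⟩
  have hAG : A ∈ GU n K q := by rw [mem_GU_iff_st hK, hA]; exact ha
  have hBG : B ∈ GU n K q := by rw [mem_GU_iff_st hK, hB]; exact hb
  have hAB : IsConj A B := by
    rw [isConj_iff]
    refine ⟨C, ?_⟩
    rw [mul_inv_eq_iff_eq_mul]
    apply Units.ext
    show C.1 * A.1 = B.1 * C.1
    rw [hA, hB, hC, hc]
  have h1 := gu_conj hK ⟨A, hAG⟩ ⟨B, hBG⟩ hAB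
  rw [isConj_iff] at h1
  obtain ⟨⟨u, hu⟩, h2⟩ := h1
  rw [mul_inv_eq_iff_eq_mul] at h2
  have h3 : u.1 * A.1 = B.1 * u.1 := by
    have := congrArg (fun x : ↥(GU n K q) => ((x : GL (Fin n) K) : Matrix (Fin n) (Fin n) K)) h2
    exact this
  rw [hA, hB] at h3
  exact ⟨u.1, (mem_GU_iff_st hK u).mp hu, h3, GU_det hK hu⟩

/-- unitary matrices of order prime to the characteristic with the same characteristic polynomial
are conjugate by a unitary matrix of determinant one -/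
theorem su_conj_mat (hK : Fintype.card K = q ^ 2) (p : ℕ) [CharP K p] (hn : 1 ≤ n)
    {a b : Matrix (Fin n) (Fin n) K} (ha : st q a * a = 1) (hb : st q b * b = 1)
    {N M : ℕ} (haN : a ^ N = 1) (hN : ¬ p ∣ N) (hbM : b ^ M = 1) (hM : ¬ p ∣ M)
    (hc : a.charpoly = b.charpoly) :
    ∃ u : Matrix (Fin n) (Fin n) K, u.det = 1 ∧ st q u * u = 1 ∧ u * a = b * u := by
  obtain ⟨c, hcu, hcab⟩ := Cfsg.Agent.Lib.Helper24.SpConj.exists_unit_conj (p := p) a b haN hN
    hbM hM hc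
  obtain ⟨u0, hu0, hu0ab, hdet0⟩ := gu_conj_mat hK ha hb hcu hcab
  have hd0 : u0.det ≠ 0 := by
    intro h
    rw [h, zero_mul] at hdet0
    exact zero_ne_one hdet0
  have hlam : (u0.det)⁻¹ * ((u0.det)⁻¹) ^ q = 1 := by
    rw [inv_pow, ← mul_inv, hdet0, inv_one]
  obtain ⟨y, hy1, hy2, hy3⟩ := exists_unitary_det hK hn p ha haN hN _ hlam
  refine ⟨u0 * y, ?_, ?_, ?_⟩
  · rw [Matrix.det_mul, hy3, mul_inv_cancel₀ hd0]
  · rw [st_mul hK]
    calc st q y * st q u0 * (u0 * y) = st q y * (st q u0 * u0) * y := by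
          simp only [Matrix.mul_assoc]
      _ = 1 := by rw [hu0, Matrix.mul_one, hy1]
  · calc u0 * y * a = u0 * (y * a) := by rw [Matrix.mul_assoc]
      _ = u0 * a * y := by rw [hy2, Matrix.mul_assoc]
      _ = b * (u0 * y) := by rw [hu0ab, Matrix.mul_assoc]

end Cfsg.Agent.Lib.Helper24.UDet
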