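import Mathlib
import Cfsg.Agent.Lib.Helper24.UPalF
import Cfsg.Agent.S2390

set_option autoImplicit false
set_option linter.style.haveILetI false
set_option linter.unusedSimpArgs false
set_option linter.unusedSectionVars false

namespace Cfsg.Agent.Lib.Helper24.UPal

open Polynomial Matrix Cfsg
open Cfsg.Agent.Lib.Helper24.Pal
open Cfsg.Agent.Lib.Helper24.GUConj

variable {K : Type*} [Field K] [Fintype K] {q : ℕ}

/-- the characteristic polynomial of a unitary matrix of determinant one -/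
theorem su_charpoly_mem (hK : Fintype.card K = q ^ 2) {n : ℕ} (g : Matrix (Fin n) (Fin n) K)
    (hg : st q g * g = 1) (hdet : g.det = 1) :
    SD (Cfsg.Agent.Lib.Helper27.Unitary.conjHom hK) g.charpoly ∧
      g.charpoly.coeff 0 = (-1) ^ n := by
  have h0 : g.charpoly.coeff 0 = (-1) ^ n := by
    have hd := Matrix.det_eq_sign_charpoly_coeff g
    rw [hdet, Fintype.card_fin] at hd
    have h2 : ((-1 : K) ^ n) * (-1) ^ n = 1 := by
      rw [← mul_pow]; simp
    calc g.charpoly.coeff 0 = ((-1 : K) ^ n * (-1) ^ n) * g.charpoly.coeff 0 := by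
          rw [h2, one_mul]
      _ = (-1) ^ n := by rw [mul_assoc, ← hd, mul_one]
  refine ⟨?_, h0⟩
  have h0ne : g.charpoly.coeff 0 ≠ 0 := by
    rw [h0]
    exact pow_ne_zero _ (neg_ne_zero.2 one_ne_zero)
  have hg' : g * st q g = 1 := mul_eq_one_comm.mp hg
  have h1 := charpoly_of_inv' hg'
  rw [← sg_eq_st hK, charpoly_sg] at h1
  unfold SD
  rw [h1, ← mul_assoc, ← C_mul, mul_inv_cancel₀ h0ne, C_1, one_mul]

/-- conjugate elements of `SU` have the same characteristic polynomial -/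
theorem su_charpoly_eq_of_isConj {n : ℕ} {g h : ↥(Cfsg.SU n K q)} (hc : IsConj g h) :
    ((g : Matrix.SpecialLinearGroup (Fin n) K) : Matrix (Fin n) (Fin n) K).charpoly =
      ((h : Matrix.SpecialLinearGroup (Fin n) K) : Matrix (Fin n) (Fin n) K).charpoly := by
  rw [isConj_iff] at hc
  obtain ⟨u, hu⟩ := hc
  have h1 : h.1.1 = u.1.1 * g.1.1 * (u⁻¹).1.1 := by
    rw [← hu]
    rfl
  have h2 : (u⁻¹).1.1 * u.1.1 = 1 := by
    have := congrArg (fun x : ↥(Cfsg.SU n K q) =>
      ((x : Matrix.SpecialLinearGroup (Fin n) K) : Matrix (Fin n) (Fin n) K)) (inv_mul_cancel u)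
    exact this
  show g.1.1.charpoly = h.1.1.charpoly
  rw [h1, Matrix.charpoly_mul_comm, ← Matrix.mul_assoc, h2, Matrix.one_mul]

/-- the number of classes of elements of order prime to `p` in the special unitary group -/
theorem card_su_classes (hK : Fintype.card K = q ^ 2) (p : ℕ) [Fact p.Prime] [CharP K p]
    (n : ℕ) (hn : 1 ≤ n) :
    Nat.card {c : ConjClasses ↥(Cfsg.SU n K q) //
      ∃ g : ↥(Cfsg.SU n K q), ConjClasses.mk g = c ∧ (orderOf g).Coprime p} = q ^ (n - 1) := by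
  have hp : p.Prime := Fact.out
  obtain ⟨k, rfl⟩ : ∃ k, n = k + 1 := ⟨n - 1, by omega⟩
  obtain ⟨σ, hσdef⟩ : ∃ σ : K →+* K, σ = Cfsg.Agent.Lib.Helper27.Unitary.conjHom hK := ⟨_, rfl⟩
  have hσ : ∀ x, σ (σ x) = x := by
    intro x
    rw [hσdef]
    exact Cfsg.Agent.Lib.Helper27.Unitary.conjHom_conjHom hK x
  obtain ⟨ω, hω'⟩ := Cfsg.Agent.Lib.Helper27.Unitary.exists_not_fixed hK
  have hω : σ ω ≠ ω := by
    rw [hσdef, Cfsg.Agent.Lib.Helper27.Unitary.conjHom_apply]
    exact hω'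
  have hunit : ∀ g : ↥(Cfsg.SU (k + 1) K q), st q g.1.1 * g.1.1 = 1 := by
    intro g
    have h1 : Matrix.SpecialLinearGroup.toGL (g : Matrix.SpecialLinearGroup (Fin (k + 1)) K) ∈
        Cfsg.GU (k + 1) K q := (Cfsg.Agent.Lib.Helper19.PSUGraph.mem_SU_iff_toGL _).mp g.2
    exact (mem_GU_iff_st hK _).mp h1
  have e : {c : ConjClasses ↥(Cfsg.SU (k + 1) K q) //
      ∃ g : ↥(Cfsg.SU (k + 1) K q), ConjClasses.mk g = c ∧ (orderOf g).Coprime p} ≃
      {χ : K[X] // χ.Monic ∧ χ.natDegree = k + 1 ∧ SD σ χ ∧ χ.coeff 0 = (-1) ^ (k + 1)} := by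
    refine Equiv.ofBijective (fun c => ⟨((Classical.choose c.2 : ↥(Cfsg.SU (k + 1) K q)) :
      Matrix.SpecialLinearGroup (Fin (k + 1)) K).1.charpoly, Matrix.charpoly_monic _, ?_, ?_, ?_⟩)
      ⟨?_, ?_⟩
    · rw [Matrix.charpoly_natDegree_eq_dim, Fintype.card_fin]
    · rw [hσdef]
      exact (su_charpoly_mem hK _ (hunit _) (Classical.choose c.2).1.2).1
    · exact (su_charpoly_mem hK _ (hunit _) (Classical.choose c.2).1.2).2
    · rintro ⟨c, hc⟩ ⟨c', hc'⟩ h
      have h1 := Classical.choose_spec hc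
      have h2 := Classical.choose_spec hc'
      have h3 : ((Classical.choose hc : ↥(Cfsg.SU (k + 1) K q)) :
          Matrix.SpecialLinearGroup (Fin (k + 1)) K).1.charpoly =
          ((Classical.choose hc' : ↥(Cfsg.SU (k + 1) K q)) :
          Matrix.SpecialLinearGroup (Fin (k + 1)) K).1.charpoly := congrArg Subtype.val h
      have h4 := Cfsg.Agent.S2390.result hK p (k + 1) _ _ h1.2 h2.2 h3
      apply Subtype.ext
      show c = c'
      rw [← h1.1, ← h2.1, ConjClasses.mk_eq_mk_iff_isConj]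
      exact h4
    · rintro ⟨χ, hm, hd, hsd, h0⟩
      have hur : UReal σ p χ := uReal_of_sd σ hσ hω hp (k + 1) χ hm hsd hd
      rw [hσdef] at hur
      obtain ⟨g₀, hg₀u, hg₀c, m, hm', hg₀m⟩ := exists_unitary_of_uReal hK hd hur
      have hdet : g₀.det = 1 := by
        rw [Matrix.det_eq_sign_charpoly_coeff, hg₀c, h0, Fintype.card_fin, ← mul_pow]
        simp
      obtain ⟨U, hU⟩ : ∃ U : Matrix.SpecialLinearGroup (Fin (k + 1)) K, U.1 = g₀ :=
        ⟨⟨g₀, hdet⟩, rfl⟩
      have hUS : U ∈ Cfsg.SU (k + 1) K q := by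
        rw [Cfsg.Agent.Lib.Helper19.PSUGraph.mem_SU_iff_toGL, mem_GU_iff_st hK]
        show st q U.1 * U.1 = 1
        rw [hU]
        exact hg₀u
      obtain ⟨g, hgdef⟩ : ∃ g : ↥(Cfsg.SU (k + 1) K q), g = ⟨U, hUS⟩ := ⟨_, rfl⟩
      have hg1 : g.1.1 = g₀ := by rw [hgdef]; exact hU
      have hgo : (orderOf g).Coprime p := by
        have h1 : g ^ m = 1 := by
          apply Subtype.ext
          apply Subtype.ext
          show ((g ^ m : ↥(Cfsg.SU (k + 1) K q)) : Matrix.SpecialLinearGroup (Fin (k + 1)) K).1 =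
            (1 : Matrix (Fin (k + 1)) (Fin (k + 1)) K)
          rw [Subgroup.coe_pow, Matrix.SpecialLinearGroup.coe_pow, hg1, hg₀m]
        have h2 : orderOf g ∣ m := orderOf_dvd_of_pow_eq_one h1
        rw [Nat.coprime_comm, Nat.Prime.coprime_iff_not_dvd hp]
        intro h3
        exact hm' (dvd_trans h3 h2)
      have hex : ∃ g' : ↥(Cfsg.SU (k + 1) K q),
          ConjClasses.mk g' = ConjClasses.mk g ∧ (orderOf g').Coprime p := ⟨g, rfl, hgo⟩
      refine ⟨⟨ConjClasses.mk g, hex⟩, ?_⟩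
      apply Subtype.ext
      show ((Classical.choose hex : ↥(Cfsg.SU (k + 1) K q)) :
          Matrix.SpecialLinearGroup (Fin (k + 1)) K).1.charpoly = χ
      rw [← hg₀c, ← hg1]
      have hconj : IsConj (Classical.choose hex) g := by
        rw [← ConjClasses.mk_eq_mk_iff_isConj]
        exact (Classical.choose_spec hex).1
      exact su_charpoly_eq_of_isConj hconj
  have hQ : Nat.card K = q ^ 2 := by rw [Nat.card_eq_fintype_card, hK]
  rw [Nat.card_congr e, card_sd σ hσ hω k hQ, Nat.add_sub_cancel]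

end Cfsg.Agent.Lib.Helper24.UPal
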