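import Mathlib
import Cfsg.Agent.Lib.Helper24.UPalA
import Cfsg.Agent.Lib.Helper24.StarC

set_option autoImplicit false
set_option linter.style.haveILetI false
set_option linter.unusedSimpArgs false
set_option linter.unusedSectionVars false

namespace Cfsg.Agent.Lib.Helper24.UStar

open Polynomial Cfsg.Agent.Lib.Helper24.Pal Cfsg.Agent.Lib.Helper24.UPal

variable {K : Type*} [Field K] (σ : K →+* K)

theorem dag_eq_star_map (f : K[X]) : dag σ f = Helper24.Star.star (f.map σ) := by
  unfold dag Helper24.Star.star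
  rw [coeff_map]

theorem dag_mul (f g : K[X]) : dag σ (f * g) = dag σ f * dag σ g := by
  rw [dag_eq_star_map, dag_eq_star_map, dag_eq_star_map, Polynomial.map_mul,
    Helper24.Star.star_mul]

theorem dag_one : dag σ (1 : K[X]) = 1 := by
  rw [dag_eq_star_map, Polynomial.map_one, Helper24.Star.star_one]

/-- `dag` as a monoid homomorphism -/
noncomputable def dagHom : K[X] →* K[X] where
  toFun := dag σ
  map_one' := dag_one σ
  map_mul' := dag_mul σ

theorem dagHom_apply (f : K[X]) : dagHom σ f = dag σ f := rfl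

theorem dag_X_pow_sub_one {r : ℕ} (hr : 0 < r) : dag σ (X ^ r - 1 : K[X]) = X ^ r - 1 := by
  rw [dag_eq_star_map, Polynomial.map_sub, Polynomial.map_pow, Polynomial.map_X,
    Polynomial.map_one, Helper24.Star.star_X_pow_sub_one hr]

theorem dag_X_sub_one : dag σ (X - 1 : K[X]) = X - 1 := by
  have := dag_X_pow_sub_one σ (r := 1) one_pos
  rwa [pow_one] at this

theorem map_coeff_zero_ne {f : K[X]} (h0 : f.coeff 0 ≠ 0) : (f.map σ).coeff 0 ≠ 0 := by
  rw [coeff_map]
  exact (map_ne_zero σ).mpr h0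

theorem dag_coeff_zero_ne {f : K[X]} (h0 : f.coeff 0 ≠ 0) : (dag σ f).coeff 0 ≠ 0 := by
  rw [dag_eq_star_map]
  exact Helper24.Star.star_coeff_zero_ne (map_coeff_zero_ne σ h0)

theorem star_map (f : K[X]) :
    (Helper24.Star.star f).map σ = Helper24.Star.star (f.map σ) := by
  unfold Helper24.Star.star
  rw [Polynomial.map_mul, Polynomial.map_C, map_inv₀, ← map_reverse, coeff_map]

theorem dag_dag_general (hσ : ∀ x, σ (σ x) = x) {f : K[X]} (h0 : f.coeff 0 ≠ 0) :
    dag σ (dag σ f) = C (f.leadingCoeff)⁻¹ * f := by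
  rw [dag_eq_star_map σ (dag σ f), dag_eq_star_map, star_map, map_map_self σ hσ,
    Helper24.Star.star_star h0]

theorem dag_dag (hσ : ∀ x, σ (σ x) = x) {f : K[X]} (hm : f.Monic) (h0 : f.coeff 0 ≠ 0) :
    dag σ (dag σ f) = f := by
  rw [dag_dag_general σ hσ h0, hm.leadingCoeff, inv_one, C_1, one_mul]

theorem dag_assoc (hσ : ∀ x, σ (σ x) = x) {f : K[X]} (h0 : f.coeff 0 ≠ 0) :
    Associated (dag σ (dag σ f)) f := by
  have hf : f ≠ 0 := by
    intro h
    rw [h] at h0
    simp at h0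
  have hl : f.leadingCoeff ≠ 0 := leadingCoeff_ne_zero.mpr hf
  rw [dag_dag_general σ hσ h0]
  have hu : IsUnit (C (f.leadingCoeff)⁻¹ : K[X]) :=
    Polynomial.isUnit_C.mpr (isUnit_iff_ne_zero.mpr (inv_ne_zero hl))
  exact (associated_isUnit_mul_left_iff hu).mpr (Associated.refl f)

theorem dag_irreducible (hσ : ∀ x, σ (σ x) = x) {f : K[X]} (hf : Irreducible f)
    (h0 : f.coeff 0 ≠ 0) : Irreducible (dag σ f) :=
  Helper24.Star.irreducible_of_dual (dagHom σ) (fun _ h => dag_natDegree h)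
    (fun _ h => dag_assoc σ hσ h) (fun _ h => dag_coeff_zero_ne σ h) hf h0

theorem dag_dvd {f g : K[X]} (h : f ∣ g) : dag σ f ∣ dag σ g := by
  obtain ⟨k, rfl⟩ := h
  rw [dag_mul]
  exact dvd_mul_right _ _

/-- self-dual polynomials are the fixed points of `dag` -/
theorem dag_eq_of_sd (hσ : ∀ x, σ (σ x) = x) {f : K[X]} (h0 : f.coeff 0 ≠ 0) (h : SD σ f) :
    dag σ f = f := by
  have hs0 : σ (f.coeff 0) ≠ 0 := (map_ne_zero σ).mpr h0
  unfold SD at h
  unfold dag
  rw [map_reverse, h, Polynomial.map_mul, Polynomial.map_C, map_map_self σ hσ, ← mul_assoc,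
    ← C_mul, inv_mul_cancel₀ hs0, C_1, one_mul]

end Cfsg.Agent.Lib.Helper24.UStar
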