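import Mathlib
import Cfsg.Agent.Lib.Helper24.UStarA
import Cfsg.Agent.Lib.Helper27.UField

set_option autoImplicit false
set_option linter.style.haveILetI false
set_option linter.unusedSimpArgs false
set_option linter.unusedSectionVars false

namespace Cfsg.Agent.Lib.Helper24.UStar

open Polynomial Cfsg.Agent.Lib.Helper24.Pal Cfsg.Agent.Lib.Helper24.UPal
open Cfsg.Agent.Lib.Helper5.PrimeOrd

section general

theorem pow_eq_pow_of_mod {L : Type*} [Monoid L] {ζ : L} {r : ℕ} (hζr : ζ ^ r = 1) {a b : ℕ}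
    (h : a % r = b % r) : ζ ^ a = ζ ^ b := by
  have key : ∀ a : ℕ, ζ ^ a = ζ ^ (a % r) := by
    intro a
    conv_lhs => rw [← Nat.mod_add_div a r]
    rw [pow_add, pow_mul, hζr, one_pow, mul_one]
  rw [key a, key b, h]

/-- distinct Frobenius conjugates of a root of unity give a degree bound -/
theorem card_le_of_frob_roots {L : Type*} [Field L] (ζ : L) {r : ℕ} (hr : r.Prime)
    (hζr : ζ ^ r = 1) (hζ1 : ζ ≠ 1) (q i : ℕ) (hi : i = orderOf (q : ZMod r)) (hi0 : 0 < i)
    (g : L[X]) (hg : g ≠ 0) (hroots : ∀ j, g.IsRoot (ζ ^ (q ^ j))) : i ≤ g.natDegree := by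
  classical
  haveI : Fact r.Prime := ⟨hr⟩
  have ho : orderOf ζ = r := orderOf_eq_prime hζr hζ1
  have hζ0 : ζ ≠ 0 := by
    intro h
    rw [h, zero_pow hr.ne_zero] at hζr
    exact zero_ne_one hζr
  have hq0 : (q : ZMod r) ≠ 0 := by
    intro h
    have h1 := pow_orderOf_eq_one (q : ZMod r)
    rw [← hi, h, zero_pow hi0.ne'] at h1
    exact zero_ne_one h1
  have hou : orderOf (Units.mk0 ζ hζ0) = r := by
    rw [← orderOf_units, Units.val_mk0, ho]
  have hoq : orderOf (Units.mk0 (q : ZMod r) hq0) = i := by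
    rw [← orderOf_units, Units.val_mk0, hi]
  have hinj : Set.InjOn (fun j => ζ ^ (q ^ j)) (Finset.range i : Set ℕ) := by
    intro j hj j' hj' h
    have hj1 : j < i := Finset.mem_range.mp hj
    have hj2 : j' < i := Finset.mem_range.mp hj'
    have h1 : (Units.mk0 ζ hζ0) ^ (q ^ j) = (Units.mk0 ζ hζ0) ^ (q ^ j') := by
      apply Units.ext
      rw [Units.val_pow_eq_pow_val, Units.val_pow_eq_pow_val, Units.val_mk0]
      exact h
    rw [pow_eq_pow_iff_modEq, hou] at h1
    have h2 : ((q ^ j : ℕ) : ZMod r) = ((q ^ j' : ℕ) : ZMod r) :=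
      (ZMod.natCast_eq_natCast_iff _ _ _).2 h1
    have h3 : (Units.mk0 (q : ZMod r) hq0) ^ j = (Units.mk0 (q : ZMod r) hq0) ^ j' := by
      apply Units.ext
      rw [Units.val_pow_eq_pow_val, Units.val_pow_eq_pow_val, Units.val_mk0]
      push_cast at h2
      exact h2
    rw [pow_eq_pow_iff_modEq, hoq] at h3
    have h4 : j % i = j' % i := h3
    rwa [Nat.mod_eq_of_lt hj1, Nat.mod_eq_of_lt hj2] at h4
  have hcard : ((Finset.range i).image (fun j => ζ ^ (q ^ j))).card = i := by
    rw [Finset.card_image_of_injOn hinj, Finset.card_range]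
  rw [← hcard]
  apply card_le_degree_of_subset_roots
  intro x hx
  rw [Finset.mem_val, Finset.mem_image] at hx
  obtain ⟨j, _, rfl⟩ := hx
  exact (mem_roots hg).2 (hroots j)

/-- a number-theoretic fact: if the order `i = 2j` of `q` mod `r` is even then `r ∣ q^j + 1` -/
theorem dvd_pow_half_add_one {r q i j : ℕ} (hr : r.Prime) (hi : i = orderOf (q : ZMod r))
    (hj : i = j + j) (hj0 : 0 < j) : r ∣ q ^ j + 1 := by
  haveI : Fact r.Prime := ⟨hr⟩
  have ha2 : ((q : ZMod r) ^ j) * ((q : ZMod r) ^ j) = 1 := by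
    rw [← pow_add, ← hj, hi, pow_orderOf_eq_one]
  have ha1 : (q : ZMod r) ^ j ≠ 1 := by
    intro h1
    have := orderOf_dvd_of_pow_eq_one h1
    rw [← hi] at this
    have := Nat.le_of_dvd hj0 this
    omega
  rcases mul_self_eq_one_iff.mp ha2 with h | h
  · exact absurd h ha1
  · rw [← ZMod.natCast_eq_zero_iff]
    push_cast
    rw [h]
    ring

end general

section frob

variable {K : Type*} [Field K] [Fintype K] {q : ℕ} (hK : Fintype.card K = q ^ 2)

include hK in
theorem exists_pow_eq (p : ℕ) [Fact p.Prime] [CharP K p] : ∃ e, q = p ^ e := by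
  obtain ⟨k, hk⟩ := FiniteField.card K p
  have hp : p.Prime := Fact.out
  have h1 : q ∣ p ^ (k : ℕ) := by
    rw [← hk.2, hK]
    exact dvd_pow_self q (by norm_num)
  obtain ⟨e, -, he⟩ := (Nat.dvd_prime_pow hp).1 h1
  exact ⟨e, he⟩

/-- the `q`-Frobenius on values of polynomials -/
theorem aeval_frob (p : ℕ) [Fact p.Prime] [CharP K p] {L : Type*} [Field L] [Algebra K L]
    (g : K[X]) (x : L) :
    aeval (x ^ q) (g.map (Cfsg.Agent.Lib.Helper27.Unitary.conjHom hK)) = (aeval x g) ^ q := by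
  obtain ⟨e, he⟩ := exists_pow_eq hK p
  haveI : CharP L p := charP_of_injective_algebraMap (algebraMap K L).injective p
  have h1 : ∀ y : L, iterateFrobenius L p e y = y ^ q := by
    intro y
    rw [iterateFrobenius_def, he]
  rw [← h1 (aeval x g), ← h1 x, aeval_def, aeval_def, hom_eval₂, eval₂_map]
  congr 1
  ext c
  simp only [RingHom.comp_apply, h1, Cfsg.Agent.Lib.Helper27.Unitary.conjHom_apply, map_pow]

end frob

end Cfsg.Agent.Lib.Helper24.UStar
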