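import Mathlib
import Cfsg.Agent.Lib.Helper24.UStarB

set_option autoImplicit false
set_option linter.style.haveILetI false
set_option linter.unusedSimpArgs false
set_option linter.unusedSectionVars false

namespace Cfsg.Agent.Lib.Helper24.UStar

open Polynomial Cfsg.Agent.Lib.Helper24.Pal Cfsg.Agent.Lib.Helper24.UPal
open Cfsg.Agent.Lib.Helper5.PrimeOrd

section cyc

variable {K : Type*} [Field K] [Fintype K] {q : ℕ} (hK : Fintype.card K = q ^ 2)

theorem dag_mem (p : ℕ) [Fact p.Prime] [CharP K p] {r : ℕ} (hr : r.Prime) (hrp : r ≠ p)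
    (f : K[X]) (hf : f ∈ cycFactors K r) :
    dag (Cfsg.Agent.Lib.Helper27.Unitary.conjHom hK) f ∈ cycFactors K r := by
  have hσ : ∀ x, (Cfsg.Agent.Lib.Helper27.Unitary.conjHom hK)
      ((Cfsg.Agent.Lib.Helper27.Unitary.conjHom hK) x) = x :=
    Cfsg.Agent.Lib.Helper27.Unitary.conjHom_conjHom hK
  have h0 := Helper24.Star.coeff_zero_ne_of_mem hr f hf
  have h2 := (mem_cycFactors_iff r f).mp hf
  have hd : dag (Cfsg.Agent.Lib.Helper27.Unitary.conjHom hK) f ∣ X ^ r - 1 := by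
    have := dag_dvd (Cfsg.Agent.Lib.Helper27.Unitary.conjHom hK)
      (Helper24.Star.dvd_X_pow_sub_one_of_mem hr f hf)
    rwa [dag_X_pow_sub_one _ hr.pos] at this
  rcases factor_cases hr _ (dag_irreducible _ hσ h2.1 h0) (dag_monic h0) hd with h | h
  · exfalso
    apply ne_X_sub_one_of_mem p hr hrp f hf
    rw [← dag_dag _ hσ h2.2.1 h0, h, dag_X_sub_one]
  · exact h

/-- basic facts on the root of a cyclotomic factor in its root field -/
theorem root_facts (p : ℕ) [Fact p.Prime] [CharP K p] {r : ℕ} (hr : r.Prime) (hrp : r ≠ p)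
    (f : K[X]) (hf : f ∈ cycFactors K r) [Fact (Irreducible f)] :
    aeval (AdjoinRoot.root f) f = 0 ∧ (AdjoinRoot.root f) ^ r = 1 ∧ AdjoinRoot.root f ≠ 0 ∧
      AdjoinRoot.root f ≠ 1 := by
  have h2 := (mem_cycFactors_iff r f).mp hf
  have hζf : aeval (AdjoinRoot.root f) f = 0 := by
    rw [AdjoinRoot.aeval_eq, AdjoinRoot.mk_self]
  have hζr : (AdjoinRoot.root f) ^ r = 1 := by
    have h3 : aeval (AdjoinRoot.root f) (X ^ r - 1 : K[X]) = 0 :=
      aeval_eq_zero_of_dvd_aeval_eq_zero (Helper24.Star.dvd_X_pow_sub_one_of_mem hr f hf) hζf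
    rw [map_sub, map_pow, aeval_X, map_one, sub_eq_zero] at h3
    exact h3
  refine ⟨hζf, hζr, ?_, ?_⟩
  · intro h
    rw [h, zero_pow hr.ne_zero] at hζr
    exact zero_ne_one hζr
  · intro h
    rw [h] at hζf
    have h3 : aeval (1 : AdjoinRoot f) f = algebraMap K (AdjoinRoot f) (f.eval 1) := by
      rw [← aeval_algebraMap_apply_eq_algebraMap_eval, map_one]
    rw [h3, map_eq_zero] at hζf
    have h1 : (X - 1 : K[X]) = X - C 1 := by simp
    have hdvd : (X - C 1) ∣ f := dvd_iff_isRoot.mpr hζf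
    have hass : Associated (X - C 1) f :=
      (irreducible_X_sub_C 1).associated_of_dvd h2.1 hdvd
    have := eq_of_monic_of_associated (monic_X_sub_C 1) h2.2.1 hass
    rw [← h1] at this
    exact ne_X_sub_one_of_mem p hr hrp f hf this.symm

/-- when `i ≡ 2 (mod 4)` every factor is self-dual -/
theorem dag_eq_of_two_mod_four (p : ℕ) [Fact p.Prime] [CharP K p] {r i : ℕ} (hr : r.Prime)
    (hrp : r ≠ p) (hi : i = orderOf (q : ZMod r)) (h4 : i % 4 = 2) (f : K[X])
    (hf : f ∈ cycFactors K r) :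
    dag (Cfsg.Agent.Lib.Helper27.Unitary.conjHom hK) f = f := by
  have h0 := Helper24.Star.coeff_zero_ne_of_mem hr f hf
  have h2 := (mem_cycFactors_iff r f).mp hf
  haveI : Fact (Irreducible f) := ⟨h2.1⟩
  obtain ⟨hζf, hζr, hζ0, -⟩ := root_facts p hr hrp f hf
  obtain ⟨ζ, hζ⟩ : ∃ ζ : AdjoinRoot f, ζ = AdjoinRoot.root f := ⟨_, rfl⟩
  rw [← hζ] at hζf hζr hζ0
  obtain ⟨k, hk⟩ : ∃ k, i = (2 * k + 1) + (2 * k + 1) := ⟨i / 4, by omega⟩
  obtain ⟨s, hs⟩ := dvd_pow_half_add_one hr hi hk (by omega)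
  have hinv : ζ ^ (q ^ (2 * k + 1)) = ζ⁻¹ := by
    apply eq_inv_of_mul_eq_one_left
    rw [← pow_succ, hs, pow_mul, hζr, one_pow]
  have h3 : aeval (ζ ^ q) (f.map (Cfsg.Agent.Lib.Helper27.Unitary.conjHom hK)) = 0 := by
    rw [aeval_frob hK p, hζf, zero_pow]
    intro hq0
    rw [hq0] at hK
    have := Fintype.card_pos (α := K)
    omega
  have h4' := Helper24.Star.aeval_pow_card_pow _ (ζ ^ q) h3 k
  have h5 : (ζ ^ q) ^ (Fintype.card K ^ k) = ζ⁻¹ := by
    rw [← hinv, hK, ← pow_mul, ← pow_mul, ← pow_succ']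
  rw [h5] at h4'
  have h6 := Helper24.Star.aeval_reverse_inv _ ζ hζ0 h4'
  have h7 : aeval ζ (dag (Cfsg.Agent.Lib.Helper27.Unitary.conjHom hK) f) = 0 := by
    unfold dag
    rw [map_mul, h6, mul_zero]
  have h8 : f ∣ dag (Cfsg.Agent.Lib.Helper27.Unitary.conjHom hK) f := by
    rw [hζ, AdjoinRoot.aeval_eq, AdjoinRoot.mk_eq_zero] at h7
    exact h7
  exact eq_of_monic_of_dvd_of_natDegree_le h2.2.1 (dag_monic h0) h8
    (by rw [dag_natDegree h0])

/-- when `i` is odd every factor is fixed by the field involution -/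
theorem map_eq_of_odd (p : ℕ) [Fact p.Prime] [CharP K p] {r i : ℕ} (hr : r.Prime)
    (hrp : r ≠ p) (hi : i = orderOf (q : ZMod r)) (hodd : Odd i) (f : K[X])
    (hf : f ∈ cycFactors K r) :
    f.map (Cfsg.Agent.Lib.Helper27.Unitary.conjHom hK) = f := by
  haveI : Fact r.Prime := ⟨hr⟩
  have h0 := Helper24.Star.coeff_zero_ne_of_mem hr f hf
  have h2 := (mem_cycFactors_iff r f).mp hf
  haveI : Fact (Irreducible f) := ⟨h2.1⟩
  obtain ⟨hζf, hζr, hζ0, -⟩ := root_facts p hr hrp f hf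
  obtain ⟨ζ, hζ⟩ : ∃ ζ : AdjoinRoot f, ζ = AdjoinRoot.root f := ⟨_, rfl⟩
  rw [← hζ] at hζf hζr hζ0
  have hq0 : q ≠ 0 := by
    intro hq0
    rw [hq0] at hK
    have := Fintype.card_pos (α := K)
    omega
  have h3 : aeval (ζ ^ q) (f.map (Cfsg.Agent.Lib.Helper27.Unitary.conjHom hK)) = 0 := by
    rw [aeval_frob hK p, hζf, zero_pow hq0]
  obtain ⟨k, hk⟩ := hodd
  have h4 := Helper24.Star.aeval_pow_card_pow f ζ hζf (k + 1)
  have h5 : ζ ^ (Fintype.card K ^ (k + 1)) = ζ ^ q := by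
    apply pow_eq_pow_of_mod hζr
    have h6 : ((Fintype.card K ^ (k + 1) : ℕ) : ZMod r) = ((q : ℕ) : ZMod r) := by
      rw [hK, ← pow_mul]
      have : 2 * (k + 1) = i + 1 := by omega
      rw [this]
      push_cast
      rw [pow_succ, hi, pow_orderOf_eq_one, one_mul]
    exact (ZMod.natCast_eq_natCast_iff' _ _ _).1 h6
  rw [h5] at h4
  by_contra hne
  have hm : (f.map (Cfsg.Agent.Lib.Helper27.Unitary.conjHom hK)).Monic := h2.2.1.map _
  have hnd : ¬ f ∣ f.map (Cfsg.Agent.Lib.Helper27.Unitary.conjHom hK) := by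
    intro hd
    apply hne
    exact eq_of_monic_of_dvd_of_natDegree_le h2.2.1 hm hd
      (by rw [natDegree_map_eq_of_injective (RingHom.injective _)])
  obtain ⟨u, v, huv⟩ := (Irreducible.coprime_iff_not_dvd h2.1).2 hnd
  have h7 := congrArg (aeval (ζ ^ q)) huv
  rw [map_add, map_mul, map_mul, h4, h3, mul_zero, mul_zero, add_zero, map_one] at h7
  exact zero_ne_one h7

end cyc

end Cfsg.Agent.Lib.Helper24.UStar
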