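import Mathlib
import Cfsg.Agent.Lib.Helper24.UStarC

set_option autoImplicit false
set_option linter.style.haveILetI false
set_option linter.unusedSimpArgs false
set_option linter.unusedSectionVars false

namespace Cfsg.Agent.Lib.Helper24.UStar

open Polynomial Cfsg.Agent.Lib.Helper24.Pal Cfsg.Agent.Lib.Helper24.UPal
open Cfsg.Agent.Lib.Helper5.PrimeOrd

section cyc

variable {K : Type*} [Field K] [Fintype K] {q : ℕ} (hK : Fintype.card K = q ^ 2)

/-- when `i` is odd no factor is self-dual -/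
theorem dag_ne_of_odd (p : ℕ) [Fact p.Prime] [CharP K p] {r i : ℕ} (hr : r.Prime) (hr2 : r ≠ 2)
    (hrp : r ≠ p) (hi : i = orderOf (q : ZMod r)) (hodd : Odd i) (f : K[X])
    (hf : f ∈ cycFactors K r) (hdeg : Odd f.natDegree) :
    dag (Cfsg.Agent.Lib.Helper27.Unitary.conjHom hK) f ≠ f := by
  rw [dag_eq_star_map, map_eq_of_odd hK p hr hrp hi hodd f hf]
  exact Helper24.Star.star_ne_of_odd p hr hr2 hrp f hf hdeg

/-- when `i ≡ 0 (mod 4)` no factor is self-dual -/
theorem dag_ne_of_zero_mod_four (p : ℕ) [Fact p.Prime] [CharP K p] {r i b : ℕ} (hr : r.Prime)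
    (hrp : r ≠ p) (hi : i = orderOf (q : ZMod r)) (h4 : i % 4 = 0) (hi0 : 0 < i)
    (hb : b = orderOf ((q ^ 2 : ℕ) : ZMod r)) (hbi : i = b + b) (f : K[X])
    (hf : f ∈ cycFactors K r) (hdeg : f.natDegree = b) :
    dag (Cfsg.Agent.Lib.Helper27.Unitary.conjHom hK) f ≠ f := by
  intro hd
  have h0 := Helper24.Star.coeff_zero_ne_of_mem hr f hf
  have h2 := (mem_cycFactors_iff r f).mp hf
  have hb0 : 0 < b := by omega
  have hbe : Even b := ⟨i / 4, by omega⟩
  have hst : Helper24.Star.star f = f := Helper24.Star.star_eq_of_even hr hK hb hb0 hbe f hf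
  have hmap : f.map (Cfsg.Agent.Lib.Helper27.Unitary.conjHom hK) = f := by
    have h1 : Helper24.Star.star (f.map (Cfsg.Agent.Lib.Helper27.Unitary.conjHom hK)) = f := by
      rw [← dag_eq_star_map]
      exact hd
    have h3 := congrArg Helper24.Star.star h1
    rw [Helper24.Star.star_star_of_monic (h2.2.1.map _) (map_coeff_zero_ne _ h0), hst] at h3
    exact h3
  haveI : Fact (Irreducible f) := ⟨h2.1⟩
  obtain ⟨hζf, hζr, hζ0, hζ1⟩ := root_facts p hr hrp f hf
  obtain ⟨ζ, hζ⟩ : ∃ ζ : AdjoinRoot f, ζ = AdjoinRoot.root f := ⟨_, rfl⟩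
  rw [← hζ] at hζf hζr hζ0 hζ1
  have hq0 : q ≠ 0 := by
    intro hq0
    rw [hq0] at hK
    have := Fintype.card_pos (α := K)
    omega
  have hall : ∀ j, aeval (ζ ^ (q ^ j)) f = 0 := by
    intro j
    induction j with
    | zero => rw [pow_zero, pow_one]; exact hζf
    | succ j ih =>
      have h3 := aeval_frob hK p f (ζ ^ (q ^ j))
      rw [hmap, ih, zero_pow hq0, ← pow_mul, ← pow_succ] at h3
      exact h3
  have hne : f.map (algebraMap K (AdjoinRoot f)) ≠ 0 :=
    (h2.2.1.map _).ne_zero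
  have hle := card_le_of_frob_roots ζ hr hζr hζ1 q i hi hi0
    (f.map (algebraMap K (AdjoinRoot f))) hne (by
      intro j
      rw [IsRoot.def, eval_map, ← aeval_def]
      exact hall j)
  rw [natDegree_map_eq_of_injective (algebraMap K (AdjoinRoot f)).injective, hdeg] at hle
  omega

end cyc

end Cfsg.Agent.Lib.Helper24.UStar
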