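import Mathlib
import Cfsg.Agent.Lib.Helper24.UStarD
import Cfsg.Agent.Lib.Helper24.UPalG
import Cfsg.Agent.Lib.Helper24.StarE

set_option autoImplicit false
set_option linter.style.haveILetI false
set_option linter.unusedSimpArgs false
set_option linter.unusedSectionVars false

namespace Cfsg.Agent.Lib.Helper24.UStar

open Polynomial Matrix Cfsg
open Cfsg.Agent.Lib.Helper24.Pal Cfsg.Agent.Lib.Helper24.UPal
open Cfsg.Agent.Lib.Helper24.GUConj
open Cfsg.Agent.Lib.Helper5.PrimeOrd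

variable {K : Type*} [Field K] [Fintype K] {q : ℕ}

/-- the characteristic polynomial of a unitary matrix is self-dual -/
theorem gu_charpoly_sd (hK : Fintype.card K = q ^ 2) {n : ℕ} (g : Matrix (Fin n) (Fin n) K)
    (hg : st q g * g = 1) :
    SD (Cfsg.Agent.Lib.Helper27.Unitary.conjHom hK) g.charpoly := by
  have hg' : g * st q g = 1 := mul_eq_one_comm.mp hg
  have h0ne : g.charpoly.coeff 0 ≠ 0 := by
    intro h0
    have hd := Matrix.det_eq_sign_charpoly_coeff g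
    rw [h0, mul_zero] at hd
    have h1 := congrArg Matrix.det hg'
    rw [Matrix.det_mul, hd, zero_mul, Matrix.det_one] at h1
    exact zero_ne_one h1
  have h1 := charpoly_of_inv' hg'
  rw [← sg_eq_st hK, charpoly_sg] at h1
  unfold SD
  rw [h1, ← mul_assoc, ← C_mul, mul_inv_cancel₀ h0ne, C_1, one_mul]

/-- classes of elements of prime order `r ≠ p` in the unitary group correspond to self-dual
smooth polynomials -/
theorem card_gu_classes_eq_polys (hK : Fintype.card K = q ^ 2) (p : ℕ) [Fact p.Prime] [CharP K p]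
    (n r : ℕ) (hr : r.Prime) (hrp : r ≠ p) :
    Nat.card {C : ConjClasses ↥(Cfsg.GU n K q) //
      ∃ g : ↥(Cfsg.GU n K q), ConjClasses.mk g = C ∧ orderOf g = r} =
    Nat.card {χ : K[X] // χ.Monic ∧ χ.natDegree = n ∧ Smooth (X ^ r - 1) χ ∧
      ¬ Smooth (X - 1) χ ∧ SD (Cfsg.Agent.Lib.Helper27.Unitary.conjHom hK) χ} := by
  have hp : p.Prime := Fact.out
  haveI : Fact r.Prime := ⟨hr⟩
  have hrp' : ¬ p ∣ r := by
    intro h
    exact hrp ((Nat.prime_dvd_prime_iff_eq hp hr).mp h).symm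
  obtain ⟨σ, hσdef⟩ : ∃ σ : K →+* K, σ = Cfsg.Agent.Lib.Helper27.Unitary.conjHom hK := ⟨_, rfl⟩
  have hσ : ∀ x, σ (σ x) = x := by
    intro x
    rw [hσdef]
    exact Cfsg.Agent.Lib.Helper27.Unitary.conjHom_conjHom hK x
  obtain ⟨ω, hω'⟩ := Cfsg.Agent.Lib.Helper27.Unitary.exists_not_fixed hK
  have hω : σ ω ≠ ω := by
    rw [hσdef, Cfsg.Agent.Lib.Helper27.Unitary.conjHom_apply]
    exact hω'
  have hunit : ∀ g : ↥(Cfsg.GU n K q), st q g.1.1 * g.1.1 = 1 :=
    fun g => (mem_GU_iff_st hK g.1).mp g.2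
  have hpow : ∀ (g : ↥(Cfsg.GU n K q)) (k : ℕ), g ^ k = 1 ↔ g.1.1 ^ k = 1 := by
    intro g k
    constructor
    · intro h
      have h1 := congrArg (fun x : ↥(Cfsg.GU n K q) => (x.1.1 : Matrix (Fin n) (Fin n) K)) h
      simp only [Subgroup.coe_pow, Units.val_pow_eq_pow_val] at h1
      exact h1
    · intro h
      apply Subtype.ext
      apply Units.ext
      rw [Subgroup.coe_pow, Units.val_pow_eq_pow_val]
      exact h
  have hsm : ∀ (g : ↥(Cfsg.GU n K q)) (N : ℕ), ¬ p ∣ N → g ^ N = 1 →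
      ∀ k : ℕ, 0 < k → (g ^ k = 1 ↔ Smooth (X ^ k - 1) g.1.1.charpoly) := by
    intro g N hN hgN k hk
    rw [hpow]
    exact Helper24.Star.mat_pow_eq_one_iff_smooth p _ hN ((hpow g N).mp hgN) k hk
  have hconjcp : ∀ {g h : ↥(Cfsg.GU n K q)}, IsConj g h → g.1.1.charpoly = h.1.1.charpoly := by
    intro g h hc
    rw [isConj_iff] at hc
    obtain ⟨u, hu⟩ := hc
    have h1 : h.1.1 = u.1.1 * g.1.1 * (u⁻¹).1.1 := by
      rw [← hu]
      rfl
    have h2 : (u⁻¹).1.1 * u.1.1 = 1 := by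
      have := congrArg (fun x : ↥(Cfsg.GU n K q) => (x.1.1 : Matrix (Fin n) (Fin n) K))
        (inv_mul_cancel u)
      exact this
    rw [h1, Matrix.charpoly_mul_comm, ← Matrix.mul_assoc, h2, Matrix.one_mul]
  apply Nat.card_congr
  refine Equiv.ofBijective (fun c => ⟨(Classical.choose c.2 : ↥(Cfsg.GU n K q)).1.1.charpoly,
    Matrix.charpoly_monic _, ?_, ?_, ?_, gu_charpoly_sd hK _ (hunit _)⟩) ⟨?_, ?_⟩
  · rw [Matrix.charpoly_natDegree_eq_dim, Fintype.card_fin]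
  · have h1 := (Classical.choose_spec c.2).2
    have h2 := (orderOf_eq_prime_iff.mp h1).1
    exact (hsm _ r hrp' h2 r hr.pos).mp h2
  · have h1 := (Classical.choose_spec c.2).2
    have h2 := (orderOf_eq_prime_iff.mp h1).1
    have h3 := hsm _ r hrp' h2 1 one_pos
    rw [pow_one, pow_one] at h3
    rw [← h3]
    exact (orderOf_eq_prime_iff.mp h1).2
  · rintro ⟨c, hc⟩ ⟨c', hc'⟩ h
    have h1 := Classical.choose_spec hc
    have h2 := Classical.choose_spec hc'
    obtain ⟨g, hg⟩ : ∃ g : ↥(Cfsg.GU n K q), g = Classical.choose hc := ⟨_, rfl⟩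
    obtain ⟨g', hg'⟩ : ∃ g' : ↥(Cfsg.GU n K q), g' = Classical.choose hc' := ⟨_, rfl⟩
    rw [← hg] at h1
    rw [← hg'] at h2
    have h3 : g.1.1.charpoly = g'.1.1.charpoly := by
      rw [hg, hg']
      exact congrArg Subtype.val h
    have hgr : g.1.1 ^ r = 1 := (hpow g r).mp (orderOf_eq_prime_iff.mp h1.2).1
    have hgr' : g'.1.1 ^ r = 1 := (hpow g' r).mp (orderOf_eq_prime_iff.mp h2.2).1
    obtain ⟨c₀, hcu, hcab⟩ := Cfsg.Agent.Lib.Helper24.SpConj.exists_unit_conj (p := p)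
      g.1.1 g'.1.1 hgr hrp' hgr' hrp' h3
    obtain ⟨u, hu, huab, -⟩ := Cfsg.Agent.Lib.Helper24.UDet.gu_conj_mat hK (hunit g) (hunit g') hcu hcab
    obtain ⟨U, hU⟩ : ∃ U : GL (Fin n) K, U.1 = u :=
      ⟨⟨u, st q u, mul_eq_one_comm.mp hu, hu⟩, rfl⟩
    have hUG : U ∈ Cfsg.GU n K q := by
      rw [mem_GU_iff_st hK, hU]
      exact hu
    have hconj : IsConj g g' := by
      rw [isConj_iff]
      refine ⟨⟨U, hUG⟩, ?_⟩
      rw [mul_inv_eq_iff_eq_mul]
      apply Subtype.ext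
      apply Units.ext
      show U.1 * g.1.1 = g'.1.1 * U.1
      rw [hU]
      exact huab
    apply Subtype.ext
    show c = c'
    rw [← h1.1, ← h2.1, ConjClasses.mk_eq_mk_iff_isConj]
    exact hconj
  · rintro ⟨χ, hm, hd, hs, hns, hsd⟩
    rw [← hσdef] at hsd
    have hur : UReal σ p χ := uReal_of_sd σ hσ hω hp n χ hm hsd hd
    rw [hσdef] at hur
    obtain ⟨g₀, hg₀u, hg₀c, N, hN, hg₀N⟩ := exists_unitary_of_uReal hK hd hur
    obtain ⟨U, hU⟩ : ∃ U : GL (Fin n) K, U.1 = g₀ :=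
      ⟨⟨g₀, st q g₀, mul_eq_one_comm.mp hg₀u, hg₀u⟩, rfl⟩
    have hUG : U ∈ Cfsg.GU n K q := by
      rw [mem_GU_iff_st hK, hU]
      exact hg₀u
    obtain ⟨g, hgdef⟩ : ∃ g : ↥(Cfsg.GU n K q), g = ⟨U, hUG⟩ := ⟨_, rfl⟩
    have hg1 : g.1.1 = g₀ := by rw [hgdef]; exact hU
    have hgN : g ^ N = 1 := by
      rw [hpow, hg1]
      exact hg₀N
    have hgr : orderOf g = r := by
      rw [orderOf_eq_prime_iff]
      constructor
      · rw [hsm g N hN hgN r hr.pos, hg1, hg₀c]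
        exact hs
      · have h3 := hsm g N hN hgN 1 one_pos
        rw [pow_one, pow_one] at h3
        rw [Ne, h3, hg1, hg₀c]
        exact hns
    have hex : ∃ g' : ↥(Cfsg.GU n K q),
        ConjClasses.mk g' = ConjClasses.mk g ∧ orderOf g' = r := ⟨g, rfl, hgr⟩
    refine ⟨⟨ConjClasses.mk g, hex⟩, ?_⟩
    apply Subtype.ext
    show (Classical.choose hex : ↥(Cfsg.GU n K q)).1.1.charpoly = χ
    rw [← hg₀c, ← hg1]
    have hconj : IsConj (Classical.choose hex) g := by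
      rw [← ConjClasses.mk_eq_mk_iff_isConj]
      exact (Classical.choose_spec hex).1
    exact hconjcp hconj

end Cfsg.Agent.Lib.Helper24.UStar
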