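import Mathlib
import Cfsg.Agent.Lib.Helper24.UStarE

set_option autoImplicit false
set_option linter.style.haveILetI false
set_option linter.unusedSimpArgs false
set_option linter.unusedSectionVars false

namespace Cfsg.Agent.Lib.Helper24.UStar

open Polynomial Matrix Cfsg
open Cfsg.Agent.Lib.Helper24.Pal Cfsg.Agent.Lib.Helper24.UPal
open Cfsg.Agent.Lib.Helper5.PrimeOrd

variable {K : Type*} [Field K] [Fintype K] {q : ℕ}

/-- the order of `q^2` modulo `r` -/
theorem orderOf_sq {r i b : ℕ} (hi : i = orderOf (q : ZMod r))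
    (hb : b = if Odd i then i else i / 2) : b = orderOf ((q ^ 2 : ℕ) : ZMod r) := by
  rw [Nat.cast_pow, orderOf_pow' _ (by norm_num : (2 : ℕ) ≠ 0), ← hi, hb]
  by_cases hodd : Odd i
  · rw [if_pos hodd]
    have : Nat.gcd i 2 = 1 := Nat.coprime_two_right.mpr hodd
    rw [this, Nat.div_one]
  · rw [if_neg hodd]
    have hev : Even i := Nat.not_odd_iff_even.mp hodd
    have : Nat.gcd i 2 = 2 := Nat.gcd_eq_right hev.two_dvd
    rw [this]

/-- the number of classes of elements of odd prime order `r ≠ p` in `GU_n(q)` -/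
theorem card_gu_prime_order_classes (hK : Fintype.card K = q ^ 2) (p : ℕ) [Fact p.Prime]
    [CharP K p] {n r i b s : ℕ} (hr : r.Prime) (hr2 : r ≠ 2) (hrp : r ≠ p)
    (hi : i = orderOf (q : ZMod r)) (hb : b = if Odd i then i else i / 2)
    (hs : s * b = r - 1) :
    Nat.card {C : ConjClasses ↥(Cfsg.GU n K q) //
      ∃ g : ↥(Cfsg.GU n K q), ConjClasses.mk g = C ∧ orderOf g = r} =
      if i % 4 = 2 then Nat.choose (2 * n / i + s) s - 1
      else Nat.choose (n / (2 * b) + s / 2) (s / 2) - 1 := by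
  classical
  haveI : Fact r.Prime := ⟨hr⟩
  obtain ⟨σ, hσdef⟩ : ∃ σ : K →+* K, σ = Cfsg.Agent.Lib.Helper27.Unitary.conjHom hK := ⟨_, rfl⟩
  have hσ : ∀ x, σ (σ x) = x := by
    intro x
    rw [hσdef]
    exact Cfsg.Agent.Lib.Helper27.Unitary.conjHom_conjHom hK x
  have hb' : b = orderOf ((q ^ 2 : ℕ) : ZMod r) := orderOf_sq hi hb
  have hb0 : 0 < b := by
    rcases Nat.eq_zero_or_pos b with h | h
    · rw [h, mul_zero] at hs
      have := hr.two_le
      omega
    · exact h
  have hi0 : 0 < i := by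
    rcases Nat.eq_zero_or_pos i with h | h
    · rw [h] at hb
      simp at hb
      omega
    · exact h
  have h1 : (X - 1 : K[X]) ∣ X ^ r - 1 := by
    rw [← cyclotomic_prime_mul_X_sub_one K r]
    exact dvd_mul_left _ _
  have hcyc : cyclotomic r K ∣ X ^ r - 1 := by
    rw [← cyclotomic_prime_mul_X_sub_one K r]
    exact dvd_mul_right _ _
  have hS1 : ∀ f ∈ cycFactors K r, Irreducible f ∧ f.Monic ∧ f.natDegree = b ∧
      f ∣ (X ^ r - 1 : K[X]) ∧ f ≠ X - 1 := by
    intro f hf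
    have h2 := (mem_cycFactors_iff r f).mp hf
    exact ⟨h2.1, h2.2.1, natDegree_of_mem_cycFactors p hr hrp hK hb' f hf, h2.2.2.trans hcyc,
      ne_X_sub_one_of_mem p hr hrp f hf⟩
  have hS2 : ∀ f : K[X], Irreducible f → f.Monic → f ∣ (X ^ r - 1 : K[X]) →
      f = X - 1 ∨ f ∈ cycFactors K r := fun f hf hm hd => factor_cases hr f hf hm hd
  have hS0 : ∀ f ∈ cycFactors K r, f.coeff 0 ≠ 0 :=
    fun f hf => Helper24.Star.coeff_zero_ne_of_mem hr f hf
  have hDS : ∀ f ∈ cycFactors K r, dagHom σ f ∈ cycFactors K r := by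
    intro f hf
    rw [hσdef]
    exact dag_mem hK p hr hrp f hf
  have hinvol : ∀ x : ↥(cycFactors K r), Helper24.Star.DS (cycFactors K r) (dagHom σ) hDS
      (Helper24.Star.DS (cycFactors K r) (dagHom σ) hDS x) = x := by
    intro x
    apply Subtype.ext
    show dag σ (dag σ x.1) = x.1
    exact dag_dag σ hσ (hS1 x.1 x.2).2.1 (hS0 x.1 x.2)
  have hcardS : Fintype.card ↥(cycFactors K r) = s := by
    rw [Fintype.card_coe, card_cycFactors p hr hrp hK hb' hs]
  -- polynomials: self-dual = fixed by dag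
  have hpoly : Nat.card {χ : K[X] // χ.Monic ∧ χ.natDegree = n ∧ Smooth (X ^ r - 1) χ ∧
      ¬ Smooth (X - 1) χ ∧ SD (Cfsg.Agent.Lib.Helper27.Unitary.conjHom hK) χ} =
      Nat.card {χ : K[X] // χ.Monic ∧ χ.natDegree = n ∧ Smooth (X ^ r - 1) χ ∧
      ¬ Smooth (X - 1) χ ∧ dagHom σ χ = χ} := by
    have h0 : ∀ χ : K[X], Smooth (X ^ r - 1) χ → χ.coeff 0 ≠ 0 := by
      intro χ hsm h0
      have hX : (X : K[X]) ∣ χ := X_dvd_iff.mpr h0
      have := hsm X irreducible_X hX
      have h2 := eval_dvd (x := (0 : K)) this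
      simp only [eval_X, eval_sub, eval_pow, eval_one, zero_pow hr.ne_zero, zero_sub,
        zero_dvd_iff, neg_eq_zero, one_ne_zero] at h2
    apply Nat.card_congr
    refine ⟨fun χ => ⟨χ.1, χ.2.1, χ.2.2.1, χ.2.2.2.1, χ.2.2.2.2.1, ?_⟩,
      fun χ => ⟨χ.1, χ.2.1, χ.2.2.1, χ.2.2.2.1, χ.2.2.2.2.1, ?_⟩, ?_, ?_⟩
    · rw [dagHom_apply]
      have hsd : SD σ χ.1 := by
        rw [hσdef]
        exact χ.2.2.2.2.2
      exact dag_eq_of_sd σ hσ (h0 χ.1 χ.2.2.2.1) hsd
    · rw [← hσdef]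
      exact sd_of_dag_eq hσ (h0 χ.1 χ.2.2.2.1) χ.2.2.2.2.2
    · intro χ; rfl
    · intro χ; rfl
  rw [card_gu_classes_eq_polys hK p n r hr hrp, hpoly,
    Helper24.Star.card_smooth_invariant (cycFactors K r) (X ^ r - 1) b n hS1 hS2 h1 hb0
      (dagHom σ) (dag_X_sub_one σ) hDS]
  by_cases h4 : i % 4 = 2
  · rw [if_pos h4]
    have hfix : ∀ x : ↥(cycFactors K r),
        Helper24.Star.DS (cycFactors K r) (dagHom σ) hDS x = x := by
      intro x
      apply Subtype.ext
      show dag σ x.1 = x.1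
      rw [hσdef]
      exact dag_eq_of_two_mod_four hK p hr hrp hi h4 x.1 x.2
    rw [Cfsg.Agent.Lib.Helper24.InvMul.card_invariant_id _ hfix, hcardS]
    have hodd : ¬ Odd i := by
      rw [Nat.not_odd_iff_even, Nat.even_iff]
      omega
    rw [if_neg hodd] at hb
    have hi2b : i = 2 * b := by omega
    have : 2 * n / i = n / b := by
      rw [hi2b, Nat.mul_div_mul_left _ _ (by norm_num : 0 < 2)]
    rw [this]
  · rw [if_neg h4]
    have hfree : ∀ x : ↥(cycFactors K r),
        Helper24.Star.DS (cycFactors K r) (dagHom σ) hDS x ≠ x := by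
      intro x h
      have h2 : dag σ x.1 = x.1 := congrArg Subtype.val h
      rw [hσdef] at h2
      have hdeg := (hS1 x.1 x.2).2.2.1
      by_cases hodd : Odd i
      · rw [if_pos hodd] at hb
        exact dag_ne_of_odd hK p hr hr2 hrp hi hodd x.1 x.2 (by rw [hdeg, hb]; exact hodd) h2
      · rw [if_neg hodd] at hb
        have hev : Even i := Nat.not_odd_iff_even.mp hodd
        have h40 : i % 4 = 0 := by
          rw [Nat.even_iff] at hev
          omega
        have hbi : i = b + b := by omega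
        exact dag_ne_of_zero_mod_four hK p hr hrp hi h40 hi0 hb' hbi x.1 x.2 hdeg h2
    rw [Cfsg.Agent.Lib.Helper24.InvMul.card_invariant_free _ hinvol hfree, hcardS]
    have : n / b / 2 = n / (2 * b) := by
      rw [Nat.div_div_eq_div_mul, mul_comm]
    rw [this]

end Cfsg.Agent.Lib.Helper24.UStar
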