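import Mathlib
import Cfsg.Agent.Lib.Helper24.UStarF
import Cfsg.Agent.Lib.Helper5.PglJ
import Cfsg.Agent.Lib.Helper27.UCenter2

set_option autoImplicit false
set_option linter.style.haveILetI false
set_option linter.unusedSimpArgs false
set_option linter.unusedSectionVars false

namespace Cfsg.Agent.Lib.Helper24.Pgu

open Polynomial Matrix Cfsg
open Cfsg.Agent.Lib.Helper24.GUConj
open Cfsg.Agent.Lib.Helper5.PrimeOrd
open Cfsg.Agent.Lib.Helper5.Pgl

variable {K : Type*} [Field K] [Fintype K] {q : ℕ}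

/-- elements of the unitary group of order prime to `p` with the same characteristic polynomial
are conjugate in the unitary group -/
theorem gu_isConj_of_charpoly (hK : Fintype.card K = q ^ 2) (p : ℕ) [Fact p.Prime] [CharP K p]
    {n : ℕ} (g g' : ↥(Cfsg.GU n K q)) {N M : ℕ} (hN : ¬ p ∣ N) (hgN : g.1.1 ^ N = 1)
    (hM : ¬ p ∣ M) (hgM : g'.1.1 ^ M = 1) (h3 : g.1.1.charpoly = g'.1.1.charpoly) :
    IsConj g g' := by
  have hunit : ∀ g : ↥(Cfsg.GU n K q), st q g.1.1 * g.1.1 = 1 :=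
    fun g => (mem_GU_iff_st hK g.1).mp g.2
  obtain ⟨c₀, hcu, hcab⟩ := Cfsg.Agent.Lib.Helper24.SpConj.exists_unit_conj (p := p)
    g.1.1 g'.1.1 hgN hN hgM hM h3
  obtain ⟨u, hu, huab, -⟩ := Cfsg.Agent.Lib.Helper24.UDet.gu_conj_mat hK (hunit g) (hunit g')
    hcu hcab
  obtain ⟨U, hU⟩ : ∃ U : GL (Fin n) K, U.1 = u :=
    ⟨⟨u, st q u, mul_eq_one_comm.mp hu, hu⟩, rfl⟩
  have hUG : U ∈ Cfsg.GU n K q := by
    rw [mem_GU_iff_st hK, hU]
    exact hu
  rw [isConj_iff]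
  refine ⟨⟨U, hUG⟩, ?_⟩
  rw [mul_inv_eq_iff_eq_mul]
  apply Subtype.ext
  apply Units.ext
  show U.1 * g.1.1 = g'.1.1 * U.1
  rw [hU]
  exact huab

theorem q_ne_zero (hK : Fintype.card K = q ^ 2) : q ≠ 0 := by
  rintro rfl
  have := Fintype.card_pos (α := K)
  rw [hK] at this
  simp at this

theorem st_diagonal (hK : Fintype.card K = q ^ 2) {n : ℕ} (d : Fin n → K) :
    st q (Matrix.diagonal d) = Matrix.diagonal (fun i => d i ^ q) := by
  ext i j
  rw [st_apply]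
  by_cases hij : i = j
  · subst hij
    rw [Matrix.diagonal_apply_eq, Matrix.diagonal_apply_eq]
  · rw [Matrix.diagonal_apply_ne _ hij, Matrix.diagonal_apply_ne _ (Ne.symm hij)]
    exact zero_pow (q_ne_zero hK)

theorem diagonal_mem_GU (hK : Fintype.card K = q ^ 2) {n : ℕ} (d : Fin n → K)
    (hd : ∀ i, d i ^ (q + 1) = 1) :
    st q (Matrix.diagonal d) * Matrix.diagonal d = 1 := by
  rw [st_diagonal hK, Matrix.diagonal_mul_diagonal, ← Matrix.diagonal_one]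
  congr 1
  funext i
  rw [← pow_succ]
  exact hd i

theorem sc_mem_GU (hK : Fintype.card K = q ^ 2) (n : ℕ) (ν : Kˣ) (hν : ν ^ (q + 1) = 1) :
    sc n ν ∈ Cfsg.GU n K q := by
  rw [mem_GU_iff_st hK]
  show st q ((sc n ν : GL (Fin n) K) : Matrix (Fin n) (Fin n) K) *
    ((sc n ν : GL (Fin n) K) : Matrix (Fin n) (Fin n) K) = 1
  rw [coe_sc]
  apply diagonal_mem_GU hK
  intro i
  rw [← Units.val_pow_eq_pow_val, hν, Units.val_one]

theorem pow_eq_one_of_sc_mem (hK : Fintype.card K = q ^ 2) {n : ℕ} (hn : 0 < n) (ν : Kˣ)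
    (h : sc n ν ∈ Cfsg.GU n K q) : ν ^ (q + 1) = 1 := by
  rw [mem_GU_iff_st hK] at h
  have h1 : st q ((sc n ν : GL (Fin n) K) : Matrix (Fin n) (Fin n) K) *
    ((sc n ν : GL (Fin n) K) : Matrix (Fin n) (Fin n) K) = 1 := h
  rw [coe_sc, st_diagonal hK, Matrix.diagonal_mul_diagonal] at h1
  have h2 := congrFun (congrFun h1 ⟨0, hn⟩) ⟨0, hn⟩
  rw [Matrix.diagonal_apply_eq, Matrix.one_apply_eq, ← pow_succ] at h2
  apply Units.ext
  rw [Units.val_pow_eq_pow_val, h2, Units.val_one]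

theorem gact_sc {n : ℕ} (ν : Kˣ) (x : Fin n → K) :
    Cfsg.Agent.Lib.Helper27.Unitary.gact (sc n ν) x = (ν : K) • x := by
  unfold Cfsg.Agent.Lib.Helper27.Unitary.gact
  rw [coe_sc]
  funext i
  rw [Matrix.mulVec_diagonal, Pi.smul_apply, smul_eq_mul]

/-- central elements of the unitary group are scalar (`n ≥ 2`) -/
theorem center_GU_scalar (hK : Fintype.card K = q ^ 2) {n : ℕ} (hn : 2 ≤ n)
    (z : ↥(Cfsg.GU n K q)) (hz : z ∈ Subgroup.center ↥(Cfsg.GU n K q)) :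
    ∃ ν : Kˣ, ν ^ (q + 1) = 1 ∧ z.1 = sc n ν := by
  have hzc := Subgroup.mem_center_iff.mp hz
  have hcomm : ∀ (v : Fin n → K) (c : K), hermForm n K q v v = 0 → c + c ^ q = 0 →
      (z : GL (Fin n) K) * Cfsg.Agent.Lib.Helper27.Unitary.tv q v c =
        Cfsg.Agent.Lib.Helper27.Unitary.tv q v c * (z : GL (Fin n) K) := by
    intro v c _ hc
    have := hzc ⟨Cfsg.Agent.Lib.Helper27.Unitary.tv q v c,
      Cfsg.Agent.Lib.Helper27.Unitary.tv_mem_GU hK v hc⟩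
    have h2 := congrArg (fun g : ↥(Cfsg.GU n K q) => (g : GL (Fin n) K)) this
    exact h2.symm
  obtain ⟨μ, hμ⟩ := Cfsg.Agent.Lib.Helper27.Unitary.scalar_of_fix_iso hK hn _
    (fun v hv0 hv => Cfsg.Agent.Lib.Helper27.Unitary.fix_iso_of_commute hK _ hcomm v hv0 hv)
  have hμ0 : μ ≠ 0 := by
    rintro rfl
    have hn0 : 0 < n := by omega
    have h1 := hμ (Pi.single (⟨0, hn0⟩ : Fin n) (1 : K))
    rw [zero_smul, Cfsg.Agent.Lib.Helper27.Unitary.gact_eq_zero] at h1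
    have h2 := congrFun h1 ⟨0, hn0⟩
    rw [Pi.single_eq_same, Pi.zero_apply] at h2
    exact one_ne_zero h2
  have hzs : z.1 = sc n (Units.mk0 μ hμ0) := by
    apply Cfsg.Agent.Lib.Helper27.Unitary.gact_ext
    intro x
    rw [hμ, gact_sc]
    rfl
  refine ⟨Units.mk0 μ hμ0, ?_, hzs⟩
  apply pow_eq_one_of_sc_mem hK (show 0 < n by omega)
  rw [← hzs]
  exact z.2

theorem mem_center_GU_iff (hK : Fintype.card K = q ^ 2) {n : ℕ} (hn : 2 ≤ n)
    (g : ↥(Cfsg.GU n K q)) :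
    g ∈ Subgroup.center ↥(Cfsg.GU n K q) ↔ g.1 ∈ Subgroup.center (GL (Fin n) K) := by
  constructor
  · intro h
    obtain ⟨ν, -, hν⟩ := center_GU_scalar hK hn g h
    rw [hν]
    exact sc_mem_center n ν
  · intro h
    rw [Subgroup.mem_center_iff] at h ⊢
    intro x
    apply Subtype.ext
    exact h x.1

end Cfsg.Agent.Lib.Helper24.Pgu
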