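import Mathlib
import Cfsg.Agent.Lib.Helper24.PguA

set_option autoImplicit false
set_option linter.style.haveILetI false
set_option linter.unusedSimpArgs false
set_option linter.unusedSectionVars false

namespace Cfsg.Agent.Lib.Helper24.Pgu

open Polynomial Matrix Cfsg
open Cfsg.Agent.Lib.Helper24.GUConj
open Cfsg.Agent.Lib.Helper24.UPal Cfsg.Agent.Lib.Helper24.UStar
open Cfsg.Agent.Lib.Helper5.PrimeOrd
open Cfsg.Agent.Lib.Helper5.Pgl

variable {K : Type*} [Field K] [Fintype K] {q : ℕ}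

theorem exists_fun_of_multiset {α : Type*} (m : Multiset α) :
    ∃ f : Fin (Multiset.card m) → α, Multiset.map f Finset.univ.val = m := by
  induction m using Quot.inductionOn with
  | h l =>
    refine ⟨fun i => l.get i, ?_⟩
    rw [Fin.univ_val_map]
    exact congrArg _ (List.ofFn_get l)

theorem exists_fun_of_card {α : Type*} (m : Multiset α) {n : ℕ} (hm : Multiset.card m = n) :
    ∃ f : Fin n → α, Multiset.map f Finset.univ.val = m := by
  subst hm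
  exact exists_fun_of_multiset m

/-- realisation of a multiset of `r`-th roots of unity by a diagonal unitary matrix -/
theorem exists_gu_of_multiset (hK : Fintype.card K = q ^ 2) {n r : ℕ} (hrq : r ∣ q + 1)
    (m : Multiset (rootsOfUnity r K)) (hm : Multiset.card m = n) :
    ∃ g : ↥(Cfsg.GU n K q), g.1.1.charpoly = polyOf r m ∧ g.1 ^ r = 1 := by
  obtain ⟨f, hf⟩ := exists_fun_of_card m hm
  obtain ⟨d, hd⟩ : ∃ d : Fin n → K, d = fun i => cu r (f i) := ⟨_, rfl⟩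
  have hdr : ∀ i, d i ^ r = 1 := by
    intro i
    rw [hd]
    exact cu_pow r (f i)
  have hdq : ∀ i, d i ^ (q + 1) = 1 := by
    intro i
    obtain ⟨k, hk⟩ := hrq
    rw [hk, pow_mul, hdr, one_pow]
  have hu := diagonal_mem_GU hK d hdq
  obtain ⟨U, hU⟩ : ∃ U : GL (Fin n) K, U.1 = Matrix.diagonal d :=
    ⟨⟨Matrix.diagonal d, st q (Matrix.diagonal d), mul_eq_one_comm.mp hu, hu⟩, rfl⟩
  have hUG : U ∈ Cfsg.GU n K q := by
    rw [mem_GU_iff_st hK, hU]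
    exact hu
  refine ⟨⟨U, hUG⟩, ?_, ?_⟩
  · show U.1.charpoly = polyOf r m
    rw [hU, Matrix.charpoly_diagonal]
    unfold polyOf
    rw [← hf, Multiset.map_map, Multiset.map_map, hd]
    rfl
  · apply Units.ext
    rw [Units.val_pow_eq_pow_val, hU, Matrix.diagonal_pow, Units.val_one, ← Matrix.diagonal_one]
    congr 1
    funext i
    exact hdr i

theorem dag_kummer (σ : K →+* K) {r : ℕ} (hr : 0 < r) (l : K) (hl : l * σ l = 1) :
    dag σ (X ^ r - C l : K[X]) = X ^ r - C l := by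
  have hl0 : l ≠ 0 := left_ne_zero_of_mul_eq_one hl
  have hs0 : σ l ≠ 0 := right_ne_zero_of_mul_eq_one hl
  unfold dag
  have h0 : (X ^ r - C l : K[X]).coeff 0 = -l := by
    rw [coeff_sub, coeff_X_pow, coeff_C_zero, if_neg hr.ne]
    ring
  have h1 : (X ^ r - C l : K[X]).map σ = X ^ r - C (σ l) := by
    rw [Polynomial.map_sub, Polynomial.map_pow, Polynomial.map_X, Polynomial.map_C]
  have h2 : (X ^ r - C (σ l) : K[X]).reverse = 1 - C (σ l) * X ^ r := by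
    have hnd : (X ^ r - C (σ l) : K[X]).natDegree = r := natDegree_X_pow_sub_C
    ext i
    rw [coeff_reverse, hnd]
    by_cases hi : i ≤ r
    · rw [revAt_le hi]
      simp only [coeff_sub, coeff_X_pow, coeff_C, coeff_one, coeff_C_mul]
      by_cases hi0 : i = 0
      · subst hi0
        simp [hr.ne', hr.ne]
      · by_cases hir : i = r
        · subst hir
          simp [hi0, Ne.symm hi0]
        · have h3 : r - i ≠ r := by omega
          have h4 : r - i ≠ 0 := by omega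
          simp [h3, h4, hi0, hir]
    · have hi' : r < i := not_le.mp hi
      rw [revAt_eq_self_of_lt hi']
      simp only [coeff_sub, coeff_X_pow, coeff_C, coeff_one, coeff_C_mul]
      have h3 : i ≠ r := by omega
      have h4 : i ≠ 0 := by omega
      simp [h3, h4]
  rw [h0, h1, h2, map_neg, mul_sub, mul_one, ← mul_assoc, ← C_mul]
  have h5 : (-σ l)⁻¹ * σ l = -1 := by
    field_simp
  have h6 : (-σ l)⁻¹ = -l := by
    have : σ l = l⁻¹ := eq_inv_of_mul_eq_one_right hl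
    rw [this, ← neg_inv, inv_inv]
  rw [h5, h6, C_neg, C_neg, C_1]
  ring

theorem exists_gu_of_kummer (hK : Fintype.card K = q ^ 2) (p : ℕ) [Fact p.Prime] [CharP K p]
    {n r : ℕ} (hr : r.Prime) (hrn : r ∣ n) (l : Kˣ) (hl : l ^ (q + 1) = 1) :
    ∃ g : ↥(Cfsg.GU n K q), g.1 ^ r = sc n l := by
  have hp : p.Prime := Fact.out
  obtain ⟨σ, hσdef⟩ : ∃ σ : K →+* K, σ = Cfsg.Agent.Lib.Helper27.Unitary.conjHom hK := ⟨_, rfl⟩
  have hσ : ∀ x, σ (σ x) = x := by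
    intro x
    rw [hσdef]
    exact Cfsg.Agent.Lib.Helper27.Unitary.conjHom_conjHom hK x
  obtain ⟨ω, hω'⟩ := Cfsg.Agent.Lib.Helper27.Unitary.exists_not_fixed hK
  have hω : σ ω ≠ ω := by
    rw [hσdef, Cfsg.Agent.Lib.Helper27.Unitary.conjHom_apply]
    exact hω'
  have hlσ : (l : K) * σ (l : K) = 1 := by
    rw [hσdef, Cfsg.Agent.Lib.Helper27.Unitary.conjHom_apply, ← pow_succ',
      ← Units.val_pow_eq_pow_val, hl, Units.val_one]
  have hQmon : (X ^ r - C (l : K) : K[X]).Monic := monic_X_pow_sub_C _ hr.ne_zero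
  obtain ⟨χ, hχdef⟩ : ∃ χ : K[X], χ = (X ^ r - C (l : K)) ^ (n / r) := ⟨_, rfl⟩
  have hχmon : χ.Monic := by rw [hχdef]; exact hQmon.pow _
  have hχdeg : χ.natDegree = n := by
    rw [hχdef, hQmon.natDegree_pow, natDegree_X_pow_sub_C, Nat.div_mul_cancel hrn]
  have hχ0 : χ.coeff 0 ≠ 0 := by
    rw [hχdef, coeff_zero_eq_eval_zero, eval_pow]
    apply pow_ne_zero
    simp [zero_pow hr.ne_zero]
  have hdag : dag σ χ = χ := by
    rw [hχdef, ← dagHom_apply, map_pow, dagHom_apply, dag_kummer σ hr.pos _ hlσ]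
  have hsd : SD σ χ := sd_of_dag_eq hσ hχ0 hdag
  have hur : UReal σ p χ := uReal_of_sd σ hσ hω hp n χ hχmon hsd hχdeg
  rw [hσdef] at hur
  obtain ⟨g₀, hg₀u, hg₀c, N, hN, hg₀N⟩ := exists_unitary_of_uReal hK hχdeg hur
  obtain ⟨U, hU⟩ : ∃ U : GL (Fin n) K, U.1 = g₀ :=
    ⟨⟨g₀, st q g₀, mul_eq_one_comm.mp hg₀u, hg₀u⟩, rfl⟩
  have hUG : U ∈ Cfsg.GU n K q := by
    rw [mem_GU_iff_st hK, hU]
    exact hg₀u
  have hUN : U ^ N = 1 := by
    apply Units.ext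
    rw [Units.val_pow_eq_pow_val, hU, hg₀N]
    rfl
  have hgo : (orderOf U).Coprime p := by
    have hd := orderOf_dvd_of_pow_eq_one hUN
    apply Nat.Coprime.coprime_dvd_left hd
    rw [Nat.coprime_comm, Nat.Prime.coprime_iff_not_dvd hp]
    exact hN
  refine ⟨⟨U, hUG⟩, ?_⟩
  show U ^ r = sc n l
  rw [← aeval_kummer_iff, aeval_eq_zero_iff_smooth p n U hgo _ hQmon.ne_zero, hU, hg₀c, hχdef]
  intro f hf hd
  exact hf.prime.dvd_of_dvd_pow hd

/-- a generator of the group of elements of norm one -/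
theorem exists_generator (hK : Fintype.card K = q ^ 2) :
    ∃ γ : Kˣ, orderOf γ = q + 1 ∧ γ ^ (q + 1) = 1 ∧
      ∀ x : Kˣ, x ^ (q + 1) = 1 → x ∈ Subgroup.zpowers γ := by
  obtain ⟨g, hg⟩ := IsCyclic.exists_generator (α := ↥(Cfsg.Agent.S0783.mu K q))
  have hord : orderOf (g : Kˣ) = q + 1 := by
    rw [Subgroup.orderOf_coe, orderOf_eq_card_of_forall_mem_zpowers hg,
      Cfsg.Agent.S0783.card_mu hK]
  refine ⟨g.1, hord, ?_, ?_⟩
  · rw [← hord]
    exact pow_orderOf_eq_one _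
  · intro x hx
    have h1 := hg ⟨x, Cfsg.Agent.S0783.mem_mu.mpr hx⟩
    rw [Subgroup.mem_zpowers_iff] at h1 ⊢
    obtain ⟨k, hk⟩ := h1
    refine ⟨k, ?_⟩
    have := congrArg Subtype.val hk
    rw [Subgroup.coe_zpow] at this
    exact this

theorem exists_normalize (hK : Fintype.card K = q ^ 2) {n r : ℕ} (hn : 2 ≤ n) (hr : 0 < r)
    (γ : Kˣ) (hγ1 : γ ^ (q + 1) = 1)
    (hγ : ∀ x : Kˣ, x ^ (q + 1) = 1 → x ∈ Subgroup.zpowers γ)
    (g : ↥(Cfsg.GU n K q)) (hg : g ^ r ∈ Subgroup.center ↥(Cfsg.GU n K q)) :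
    ∃ ν : Kˣ, ν ^ (q + 1) = 1 ∧ ∃ e : ℕ, e < r ∧ (sc n ν * g.1) ^ r = sc n (γ ^ e) := by
  obtain ⟨l, hl1, hl⟩ := center_GU_scalar hK hn (g ^ r) hg
  have hl' : g.1 ^ r = sc n l := by
    rw [← hl]
    rfl
  have h1 : l ∈ Submonoid.powers γ := by
    rw [mem_powers_iff_mem_zpowers]; exact hγ l hl1
  obtain ⟨s, hs⟩ := (Submonoid.mem_powers_iff _ _).mp h1
  refine ⟨γ⁻¹ ^ (s / r), ?_, s % r, Nat.mod_lt _ hr, ?_⟩
  · rw [← pow_mul, mul_comm, pow_mul, inv_pow, hγ1, inv_one, one_pow]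
  · have hcomm : Commute (sc n (γ⁻¹ ^ (s / r))) g.1 := sc_commute n _ g.1
    rw [hcomm.mul_pow, sc_pow, hl', sc_mul]
    congr 1
    rw [← hs, ← pow_mul, inv_pow, inv_mul_eq_iff_eq_mul, ← pow_add]
    congr 1
    exact (Nat.div_add_mod' s r).symm

theorem exponent_invariant {n r : ℕ} (hrq : r ∣ q + 1) (hn : 0 < n)
    (γ : Kˣ) (hγord : orderOf γ = q + 1)
    (g₁ g₂ c : GL (Fin n) K) (ν : Kˣ) (hν : ν ∈ Subgroup.zpowers γ) (e₁ e₂ : ℕ) (he₁ : e₁ < r)
    (he₂ : e₂ < r) (h₁ : g₁ ^ r = sc n (γ ^ e₁)) (h₂ : g₂ ^ r = sc n (γ ^ e₂))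
    (hc : c * (sc n ν * g₁) * c⁻¹ = g₂) : e₁ = e₂ ∧ ν ^ r = 1 := by
  classical
  have hcomm : Commute (sc n ν) g₁ := sc_commute n _ g₁
  have h3 : g₂ ^ r = sc n (ν ^ r * γ ^ e₁) := by
    rw [← hc, conj_pow, hcomm.mul_pow, sc_pow, h₁, sc_mul,
      ← sc_commute, mul_inv_cancel_right]
  rw [h₂] at h3
  have h4 := sc_injective n hn h3
  have h40 := h4
  have h5 : ν ∈ Submonoid.powers γ := by
    rw [mem_powers_iff_mem_zpowers]; exact hν
  obtain ⟨u, hu⟩ := (Submonoid.mem_powers_iff _ _).mp h5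
  rw [← hu, ← pow_mul, ← pow_add, pow_eq_pow_iff_modEq] at h4
  rw [hγord] at h4
  have h6 : e₂ ≡ e₁ [MOD r] := by
    have h7 := h4.of_dvd hrq
    have h8 : u * r + e₁ ≡ e₁ [MOD r] := by
      unfold Nat.ModEq
      rw [Nat.add_comm, Nat.add_mul_mod_self_right]
    exact h7.trans h8
  have h9 : e₁ = e₂ := (Nat.ModEq.eq_of_lt_of_lt h6 he₂ he₁).symm
  refine ⟨h9, ?_⟩
  rw [h9] at h40
  exact right_eq_mul.mp h40

theorem sq_sub_one_eq (hK : Fintype.card K = q ^ 2) : q ^ 2 - 1 = (q + 1) * (q - 1) := by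
  have hq := q_ne_zero hK
  obtain ⟨k, rfl⟩ : ∃ k, q = k + 1 := ⟨q - 1, by omega⟩
  rw [Nat.add_sub_cancel]
  apply Nat.sub_eq_of_eq_add
  ring

theorem not_pow_of_lt (hK : Fintype.card K = q ^ 2) {r : ℕ} (hr : r.Prime) (hr2 : r ≠ 2)
    (hrq : r ∣ q + 1) (γ : Kˣ) (hγord : orderOf γ = q + 1)
    (hγ : ∀ x : Kˣ, x ^ (q + 1) = 1 → x ∈ Subgroup.zpowers γ)
    (e : ℕ) (he1 : 1 ≤ e) (he2 : e < r) (b : K) :
    b ^ r ≠ ((γ ^ e : Kˣ) : K) := by
  classical
  intro h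
  have hq := q_ne_zero hK
  have hγ1 : γ ^ (q + 1) = 1 := by rw [← hγord]; exact pow_orderOf_eq_one _
  have hb0 : b ≠ 0 := by
    rintro rfl
    rw [zero_pow hr.ne_zero] at h
    exact (Units.ne_zero _) h.symm
  obtain ⟨B, hB⟩ : ∃ B : Kˣ, B = Units.mk0 b hb0 := ⟨_, rfl⟩
  have h1 : B ^ r = γ ^ e := by
    apply Units.ext
    rw [Units.val_pow_eq_pow_val, hB, Units.val_mk0, h]
  obtain ⟨β, hβ⟩ : ∃ β : Kˣ, β = B ^ (q + 1) := ⟨_, rfl⟩
  have hβr : β ^ r = 1 := by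
    rw [hβ, ← pow_mul, mul_comm, pow_mul, h1, ← pow_mul, mul_comm, pow_mul, hγ1, one_pow]
  have hβq1 : β ^ (q + 1) = 1 := by
    obtain ⟨k, hk⟩ := hrq
    rw [hk, pow_mul, hβr, one_pow]
  have hβq : β ^ (q - 1) = 1 := by
    rw [hβ, ← pow_mul, ← sq_sub_one_eq hK, ← hK, ← Fintype.card_units]
    exact pow_card_eq_one
  have hβ2 : β ^ 2 = 1 := by
    have : q + 1 = (q - 1) + 2 := by omega
    rw [this, pow_add, hβq, one_mul] at hβq1
    exact hβq1
  have hβ1 : β = 1 := by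
    obtain ⟨k, hk⟩ : ∃ k, r = 2 * k + 1 := by
      rcases hr.eq_two_or_odd with h2 | h2
      · exact absurd h2 hr2
      · exact ⟨r / 2, by omega⟩
    rw [hk, pow_succ, pow_mul, hβ2, one_pow, one_mul] at hβr
    exact hβr
  have hBq : B ^ (q + 1) = 1 := by rw [← hβ, hβ1]
  have h5 : B ∈ Submonoid.powers γ := by
    rw [mem_powers_iff_mem_zpowers]; exact hγ _ hBq
  obtain ⟨u, hu⟩ := (Submonoid.mem_powers_iff _ _).mp h5
  rw [← hu, ← pow_mul, pow_eq_pow_iff_modEq, hγord] at h1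
  have h2 := h1.of_dvd hrq
  have h3 : u * r ≡ 0 [MOD r] := by
    unfold Nat.ModEq
    rw [Nat.mul_mod_left, Nat.zero_mod]
  have h4 := (h2.symm.trans h3)
  have h6 := (Nat.modEq_zero_iff_dvd.mp h4)
  have := Nat.le_of_dvd (by omega) h6
  omega

end Cfsg.Agent.Lib.Helper24.Pgu
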