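import Mathlib
import Cfsg.Agent.Lib.Helper24.PguB

set_option autoImplicit false
set_option linter.style.haveILetI false
set_option linter.unusedSimpArgs false
set_option linter.unusedSectionVars false

namespace Cfsg.Agent.Lib.Helper24.Pgu

open Polynomial Matrix Cfsg
open Cfsg.Agent.Lib.Helper24.GUConj
open Cfsg.Agent.Lib.Helper5.PrimeOrd Cfsg.Agent.Lib.Helper5.SSClass
open Cfsg.Agent.Lib.Helper5.Pgl

section main

variable {K : Type*} [Field K] [Fintype K] {q : ℕ}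

/-- `g` is a normalised representative with label `ℓ` -/
def UTypeRel (n r : ℕ) (γ : Kˣ) (g : ↥(Cfsg.GU n K q)) : Lab K n r → Prop
  | Sum.inl o => g.1 ^ r = 1 ∧ g.1 ∉ Subgroup.center (GL (Fin n) K) ∧
      ∃ m : NS (rootsOfUnity r K) n,
        (Quotient.mk'' m : MulAction.orbitRel.Quotient (rootsOfUnity r K)
          (NS (rootsOfUnity r K) n)) = o ∧
        (g.1 : Matrix (Fin n) (Fin n) K).charpoly = polyOf r m.1
  | Sum.inr e => g.1 ^ r = sc n (γ ^ e.1)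

/-- scalars in the unitary group -/
noncomputable def usc (hK : Fintype.card K = q ^ 2) (n : ℕ) (ν : Kˣ) (hν : ν ^ (q + 1) = 1) :
    ↥(Cfsg.GU n K q) := ⟨sc n ν, sc_mem_GU hK n ν hν⟩

theorem usc_mem_center (hK : Fintype.card K = q ^ 2) {n : ℕ} (hn : 2 ≤ n) (ν : Kˣ)
    (hν : ν ^ (q + 1) = 1) : usc hK n ν hν ∈ Subgroup.center ↥(Cfsg.GU n K q) := by
  rw [mem_center_GU_iff hK hn]
  exact sc_mem_center n ν

theorem mat_pow_orderOf {n : ℕ} (g : GL (Fin n) K) :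
    (g : Matrix (Fin n) (Fin n) K) ^ orderOf g = 1 := by
  rw [← Units.val_pow_eq_pow_val, pow_orderOf_eq_one, Units.val_one]

theorem not_dvd_of_coprime {p : ℕ} (hp : p.Prime) {N : ℕ} (h : N.Coprime p) : ¬ p ∣ N := by
  rw [Nat.coprime_comm, Nat.Prime.coprime_iff_not_dvd hp] at h
  exact h

theorem dvd_sq_sub_one (hK : Fintype.card K = q ^ 2) {r : ℕ} (hrq : r ∣ q + 1) :
    r ∣ q ^ 2 - 1 := by
  rw [sq_sub_one_eq hK]
  exact hrq.mul_right _

variable (hK : Fintype.card K = q ^ 2) (p : ℕ) [Fact p.Prime] [CharP K p] {n r : ℕ}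
  (hn : 2 ≤ n) [Fact r.Prime] (hr2 : r ≠ 2) (hrq : r ∣ q + 1) (hrp : r ≠ p) (γ : Kˣ)
  (hγord : orderOf γ = q + 1) (hγ : ∀ x : Kˣ, x ^ (q + 1) = 1 → x ∈ Subgroup.zpowers γ)
  (hsplit : (X ^ r - 1 : K[X]).Splits)

include hK p hn hr2 hrq hrp hγord hγ in
theorem exists_rep (ℓ : Lab K n r) :
    ∃ g : ↥(Cfsg.GU n K q), UTypeRel n r γ g ℓ ∧
      orderOf (QuotientGroup.mk g :
        ↥(Cfsg.GU n K q) ⧸ Subgroup.center ↥(Cfsg.GU n K q)) = r := by
  have hr : r.Prime := Fact.out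
  have hγ1 : γ ^ (q + 1) = 1 := by rw [← hγord]; exact pow_orderOf_eq_one _
  rcases ℓ with o | e
  · obtain ⟨m, rfl⟩ := Quotient.mk''_surjective o
    obtain ⟨g, hχ, hgr⟩ := exists_gu_of_multiset hK hrq m.1 m.2.1
    have hgo := coprime_of_pow_eq_one p n r hr hrp g.1 hgr
    have hnc : g.1 ∉ Subgroup.center (GL (Fin n) K) := by
      intro hc
      obtain ⟨x, hx⟩ := (central_iff_replicate p n r g.1 hgo m.1 m.2.1 hχ).mp hc
      exact m.2.2 x hx
    refine ⟨g, ⟨hgr, hnc, m, rfl, hχ⟩, ?_⟩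
    rw [quot_orderOf_eq_prime_iff]
    constructor
    · have : g ^ r = 1 := Subtype.ext hgr
      rw [this]
      exact Subgroup.one_mem _
    · intro hc
      exact hnc ((mem_center_GU_iff hK hn g).mp hc)
  · have hl : (γ ^ e.1) ^ (q + 1) = 1 := by
      rw [← pow_mul, mul_comm, pow_mul, hγ1, one_pow]
    obtain ⟨g, hg⟩ := exists_gu_of_kummer hK p hr e.2.2.2 (γ ^ e.1) hl
    refine ⟨g, hg, ?_⟩
    rw [quot_orderOf_eq_prime_iff]
    constructor
    · rw [mem_center_GU_iff hK hn]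
      show g.1 ^ r ∈ _
      rw [hg]
      exact sc_mem_center n _
    · intro hc
      exact not_central_of_kummer n r (by omega) g.1 (γ ^ e.1)
        (not_pow_of_lt hK hr hr2 hrq γ hγord hγ e.1 e.2.1 e.2.2.1) hg
        ((mem_center_GU_iff hK hn g).mp hc)

include hK p hn hr2 hrq hrp hγord hγ hsplit in
theorem exists_label (g₀ : ↥(Cfsg.GU n K q))
    (h₀ : orderOf (QuotientGroup.mk g₀ :
      ↥(Cfsg.GU n K q) ⧸ Subgroup.center ↥(Cfsg.GU n K q)) = r) :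
    ∃ (g : ↥(Cfsg.GU n K q)) (ℓ : Lab K n r),
      (QuotientGroup.mk g₀ : ↥(Cfsg.GU n K q) ⧸ Subgroup.center ↥(Cfsg.GU n K q)) =
        QuotientGroup.mk g ∧ UTypeRel n r γ g ℓ := by
  have hr : r.Prime := Fact.out
  have hγ1 : γ ^ (q + 1) = 1 := by rw [← hγord]; exact pow_orderOf_eq_one _
  rw [quot_orderOf_eq_prime_iff] at h₀
  obtain ⟨ν, hν, e, he, hh⟩ := exists_normalize hK hn hr.pos γ hγ1 hγ g₀ h₀.1
  obtain ⟨g, hgdef⟩ : ∃ g : ↥(Cfsg.GU n K q), g = usc hK n ν hν * g₀ := ⟨_, rfl⟩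
  have hg1 : g.1 = sc n ν * g₀.1 := by rw [hgdef]; rfl
  rw [← hg1] at hh
  have hπ : (QuotientGroup.mk g₀ : ↥(Cfsg.GU n K q) ⧸ Subgroup.center ↥(Cfsg.GU n K q)) =
      QuotientGroup.mk g := by
    rw [hgdef, QuotientGroup.mk_mul, (QuotientGroup.eq_one_iff _).mpr (usc_mem_center hK hn ν hν),
      one_mul]
  have hnc : g.1 ∉ Subgroup.center (GL (Fin n) K) := by
    intro hc
    apply h₀.2
    have h1 : g ∈ Subgroup.center ↥(Cfsg.GU n K q) := (mem_center_GU_iff hK hn g).mpr hc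
    have := Subgroup.mul_mem _ (Subgroup.inv_mem _ (usc_mem_center hK hn ν hν)) h1
    rwa [hgdef, inv_mul_cancel_left] at this
  rcases Nat.eq_zero_or_pos e with he0 | he0
  · subst he0
    rw [pow_zero, sc_one] at hh
    have hgo := coprime_of_pow_eq_one p n r hr hrp _ hh
    obtain ⟨m, hm, hχ⟩ := exists_multiset_of_pow_eq_one p n r hr hrp hsplit _ hh
    have hns : ∀ x, m ≠ Multiset.replicate n x := by
      intro x hx
      exact hnc ((central_iff_replicate p n r _ hgo m hm hχ).mpr ⟨x, hx⟩)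
    exact ⟨g, Sum.inl (Quotient.mk'' ⟨m, hm, hns⟩), hπ, hh, hnc, ⟨m, hm, hns⟩, rfl, hχ⟩
  · have hl := not_pow_of_lt hK hr hr2 hrq γ hγord hγ e he0 he
    have hgo := coprime_of_pow_eq_sc p n r hK (dvd_sq_sub_one hK hrq) _ _ hh
    have hrn := (charpoly_of_kummer p n r hr _ hgo _ hl hh).1
    exact ⟨g, Sum.inr ⟨e, he0, he, hrn⟩, hπ, hh⟩

include hK p hn hr2 hrq hrp hγord hγ in
theorem label_unique (g g' : ↥(Cfsg.GU n K q)) (ℓ ℓ' : Lab K n r) (h : UTypeRel n r γ g ℓ)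
    (h' : UTypeRel n r γ g' ℓ')
    (hc : IsConj (QuotientGroup.mk g :
      ↥(Cfsg.GU n K q) ⧸ Subgroup.center ↥(Cfsg.GU n K q)) (QuotientGroup.mk g')) : ℓ = ℓ' := by
  have hr : r.Prime := Fact.out
  have hn0 : 0 < n := by omega
  rw [quot_isConj_iff] at hc
  obtain ⟨c, z, hz, hcz⟩ := hc
  obtain ⟨ν, hν1, hν⟩ := center_GU_scalar hK hn z hz
  have hcz' : c.1 * g.1 * c.1⁻¹ = g'.1 * sc n ν := by
    rw [← hν]
    exact congrArg Subtype.val hcz
  have hνz : ν⁻¹ ∈ Subgroup.zpowers γ := by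
    apply hγ
    rw [inv_pow, hν1, inv_one]
  have hconj : c.1 * (sc n ν⁻¹ * g.1) * c.1⁻¹ = g'.1 := by
    rw [conj_central c.1 (sc n ν⁻¹) g.1 (sc_commute n ν⁻¹), hcz', ← sc_commute n ν g'.1,
      ← mul_assoc, sc_mul, inv_mul_cancel, sc_one, one_mul]
  rcases ℓ with o | e <;> rcases ℓ' with o' | e'
  · obtain ⟨hgr, hnc, m, hm, hχ⟩ := h
    obtain ⟨hgr', hnc', m', hm', hχ'⟩ := h'
    obtain ⟨_, hν'⟩ := exponent_invariant hrq hn0 γ hγord g.1 g'.1 c.1 ν⁻¹ hνz 0 0 hr.pos hr.pos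
      (by rw [hgr, pow_zero, sc_one]) (by rw [hgr', pow_zero, sc_one]) hconj
    let ν' : rootsOfUnity r K := ⟨ν⁻¹, (mem_rootsOfUnity r _).mpr hν'⟩
    have h1 : (g'.1 : Matrix (Fin n) (Fin n) K).charpoly =
        ((sc n ν⁻¹ * g.1 : GL (Fin n) K) : Matrix (Fin n) (Fin n) K).charpoly := by
      symm
      apply charpoly_eq_of_isConj
      rw [isConj_iff]
      exact ⟨c.1, hconj⟩
    rw [coe_sc_mul] at h1
    have h2 := charpoly_smul_polyOf r (g.1 : Matrix (Fin n) (Fin n) K) ν' m.1 hχ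
    have h3 : polyOf r m'.1 = polyOf r (tr r ν' m.1) := by
      rw [← hχ', h1, ← h2]
      rfl
    have h4 : m' = ν' • m := by
      apply Subtype.ext
      rw [polyOf_injective r _ _ h3]
      rfl
    congr 1
    rw [← hm, ← hm', h4]
    symm
    apply Quotient.sound'
    rw [MulAction.orbitRel_apply]
    exact MulAction.mem_orbit m ν'
  · exfalso
    obtain ⟨hgr, _⟩ := h
    have h'' : g'.1 ^ r = sc n (γ ^ e'.1) := h'
    obtain ⟨h0, _⟩ := exponent_invariant hrq hn0 γ hγord g.1 g'.1 c.1 ν⁻¹ hνz 0 e'.1 hr.pos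
      e'.2.2.1 (by rw [hgr, pow_zero, sc_one]) h'' hconj
    have := e'.2.1
    omega
  · exfalso
    obtain ⟨hgr', _⟩ := h'
    have h'' : g.1 ^ r = sc n (γ ^ e.1) := h
    obtain ⟨h0, _⟩ := exponent_invariant hrq hn0 γ hγord g.1 g'.1 c.1 ν⁻¹ hνz e.1 0 e.2.2.1
      hr.pos h'' (by rw [hgr', pow_zero, sc_one]) hconj
    have := e.2.1
    omega
  · have h1 : g.1 ^ r = sc n (γ ^ e.1) := h
    have h2 : g'.1 ^ r = sc n (γ ^ e'.1) := h'
    obtain ⟨h0, _⟩ := exponent_invariant hrq hn0 γ hγord g.1 g'.1 c.1 ν⁻¹ hνz e.1 e'.1 e.2.2.1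
      e'.2.2.1 h1 h2 hconj
    congr 1
    exact Subtype.ext h0

include hK p hn hr2 hrq hrp hγord hγ in
theorem conj_of_label (g g' : ↥(Cfsg.GU n K q)) (ℓ : Lab K n r) (h : UTypeRel n r γ g ℓ)
    (h' : UTypeRel n r γ g' ℓ) :
    IsConj (QuotientGroup.mk g : ↥(Cfsg.GU n K q) ⧸ Subgroup.center ↥(Cfsg.GU n K q))
      (QuotientGroup.mk g') := by
  have hr : r.Prime := Fact.out
  have hp : p.Prime := Fact.out
  have hrp' : ¬ p ∣ r := by
    intro h
    exact hrp ((Nat.prime_dvd_prime_iff_eq hp hr).mp h).symm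
  rcases ℓ with o | e
  · obtain ⟨hgr, hnc, m, hm, hχ⟩ := h
    obtain ⟨hgr', hnc', m', hm', hχ'⟩ := h'
    have h1 := Quotient.exact' (hm.trans hm'.symm)
    rw [MulAction.orbitRel_apply, MulAction.mem_orbit_iff] at h1
    obtain ⟨ν', hν'⟩ := h1
    have hν'r : (ν' : Kˣ) ^ r = 1 := (mem_rootsOfUnity r _).mp ν'.2
    have hν'q : (ν' : Kˣ) ^ (q + 1) = 1 := by
      obtain ⟨k, hk⟩ := hrq
      rw [hk, pow_mul, hν'r, one_pow]
    obtain ⟨gs, hgs⟩ : ∃ gs : ↥(Cfsg.GU n K q), gs = usc hK n (ν' : Kˣ) hν'q * g' := ⟨_, rfl⟩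
    have hgs1 : gs.1 = sc n (ν' : Kˣ) * g'.1 := by rw [hgs]; rfl
    have h2 := charpoly_smul_polyOf r (g'.1 : Matrix (Fin n) (Fin n) K) ν' m'.1 hχ'
    have h3 : (g.1 : Matrix (Fin n) (Fin n) K).charpoly =
        (gs.1 : Matrix (Fin n) (Fin n) K).charpoly := by
      rw [hgs1, coe_sc_mul, hχ, ← hν']
      exact h2.symm
    have hpow : gs.1 ^ r = 1 := by
      have hcomm : Commute (sc n (ν' : Kˣ)) g'.1 := sc_commute n _ g'.1
      rw [hgs1, hcomm.mul_pow, sc_pow, hgr', hν'r, sc_one, one_mul]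
    have hgm : (g.1 : Matrix (Fin n) (Fin n) K) ^ r = 1 := by
      rw [← Units.val_pow_eq_pow_val, hgr, Units.val_one]
    have hgsm : (gs.1 : Matrix (Fin n) (Fin n) K) ^ r = 1 := by
      rw [← Units.val_pow_eq_pow_val, hpow, Units.val_one]
    have hconj := gu_isConj_of_charpoly hK p g gs hrp' hgm hrp' hgsm h3
    have := (QuotientGroup.mk' (Subgroup.center ↥(Cfsg.GU n K q))).map_isConj hconj
    rw [QuotientGroup.mk'_apply, QuotientGroup.mk'_apply, hgs, QuotientGroup.mk_mul,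
      (QuotientGroup.eq_one_iff _).mpr (usc_mem_center hK hn _ hν'q), one_mul] at this
    exact this
  · have h1 : g.1 ^ r = sc n (γ ^ e.1) := h
    have h2 : g'.1 ^ r = sc n (γ ^ e.1) := h'
    have hl := not_pow_of_lt hK hr hr2 hrq γ hγord hγ e.1 e.2.1 e.2.2.1
    have hgo := coprime_of_pow_eq_sc p n r hK (dvd_sq_sub_one hK hrq) _ _ h1
    have hgo' := coprime_of_pow_eq_sc p n r hK (dvd_sq_sub_one hK hrq) _ _ h2
    have hc1 := (charpoly_of_kummer p n r hr _ hgo _ hl h1).2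
    have hc2 := (charpoly_of_kummer p n r hr _ hgo' _ hl h2).2
    have hconj := gu_isConj_of_charpoly hK p g g' (not_dvd_of_coprime hp hgo)
      (mat_pow_orderOf g.1) (not_dvd_of_coprime hp hgo') (mat_pow_orderOf g'.1)
      (hc1.trans hc2.symm)
    exact (QuotientGroup.mk' (Subgroup.center ↥(Cfsg.GU n K q))).map_isConj hconj

include hK p hn hr2 hrq hrp hγord hγ hsplit in
theorem card_classes_eq_card_lab :
    Nat.card {C : ConjClasses (↥(Cfsg.GU n K q) ⧸ Subgroup.center ↥(Cfsg.GU n K q)) //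
      ∃ g : ↥(Cfsg.GU n K q) ⧸ Subgroup.center ↥(Cfsg.GU n K q),
        ConjClasses.mk g = C ∧ orderOf g = r} =
    Nat.card (Lab K n r) := by
  apply card_eq_of_rel (fun C ℓ => ∃ g : ↥(Cfsg.GU n K q),
    C.1 = ConjClasses.mk (QuotientGroup.mk g) ∧ UTypeRel n r γ g ℓ)
  · rintro ⟨C, g₀, rfl, h₀⟩
    obtain ⟨g₀, rfl⟩ := QuotientGroup.mk_surjective g₀
    obtain ⟨g, ℓ, hπ, hT⟩ := exists_label hK p hn hr2 hrq hrp γ hγord hγ hsplit g₀ h₀
    exact ⟨ℓ, g, congrArg ConjClasses.mk hπ, hT⟩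
  · intro ℓ
    obtain ⟨g, hT, hord⟩ := exists_rep hK p hn hr2 hrq hrp γ hγord hγ ℓ
    exact ⟨⟨ConjClasses.mk (QuotientGroup.mk g), QuotientGroup.mk g, rfl, hord⟩, g, rfl, hT⟩
  · rintro ⟨C, hC⟩ ⟨C', hC'⟩ ℓ ℓ' ⟨g, hg, hT⟩ ⟨g', hg', hT'⟩
    simp only at hg hg'
    constructor
    · intro h
      have h1 : C = C' := congrArg Subtype.val h
      rw [hg, hg', ConjClasses.mk_eq_mk_iff_isConj] at h1
      exact label_unique hK p hn hr2 hrq hrp γ hγord hγ g g' ℓ ℓ' hT hT' h1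
    · intro h
      subst h
      apply Subtype.ext
      show C = C'
      rw [hg, hg', ConjClasses.mk_eq_mk_iff_isConj]
      exact conj_of_label hK p hn hr2 hrq hrp γ hγord hγ g g' ℓ hT hT'

end main

theorem card_pgu_classes {K : Type*} [Field K] [Fintype K] {q n r : ℕ}
    (hK : Fintype.card K = q ^ 2) (hn : 3 ≤ n) (hr : r.Prime) (hr2 : r ≠ 2) (hrq : r ∣ q + 1) :
    Nat.card {C : ConjClasses (↥(Cfsg.GU n K q) ⧸ Subgroup.center ↥(Cfsg.GU n K q)) //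
      ∃ g : ↥(Cfsg.GU n K q) ⧸ Subgroup.center ↥(Cfsg.GU n K q),
        ConjClasses.mk g = C ∧ orderOf g = r} =
    ((n + r - 1).choose (r - 1) - r - (if r ∣ n then 1 else 0)) / r +
      r * (if r ∣ n then 1 else 0) := by
  classical
  obtain ⟨p, hchar⟩ := CharP.exists K
  haveI := hchar
  haveI : Fact p.Prime := ⟨CharP.char_is_prime K p⟩
  haveI : Fact r.Prime := ⟨hr⟩
  have hp : p.Prime := Fact.out
  have hrq' : r ∣ q ^ 2 - 1 := dvd_sq_sub_one hK hrq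
  obtain ⟨k, _, hk⟩ := FiniteField.card K p
  have hq : q ^ 2 = p ^ (k : ℕ) := by rw [← hK, hk]
  have hpq : p ∣ q ^ 2 := by rw [hq]; exact dvd_pow_self p k.pos.ne'
  have hq1 : 1 ≤ q ^ 2 := by rw [hq]; exact Nat.one_le_pow _ _ hp.pos
  have hrp : r ≠ p := by
    rintro rfl
    have h3 := Nat.dvd_sub hpq hrq'
    rw [Nat.sub_sub_self hq1] at h3
    exact hp.one_lt.ne' (Nat.dvd_one.mp h3)
  obtain ⟨γ, hγord, -, hγ⟩ := exists_generator hK
  have hcardU : Fintype.card Kˣ = q ^ 2 - 1 := by rw [Fintype.card_units, hK]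
  obtain ⟨ζ, hζ⟩ := exists_prime_orderOf_dvd_card r (by rw [hcardU]; exact hrq')
  have hprim : IsPrimitiveRoot (ζ : K) r := by
    rw [IsPrimitiveRoot.coe_units_iff, ← hζ]; exact IsPrimitiveRoot.orderOf ζ
  haveI : NeZero r := ⟨hr.ne_zero⟩
  have hμ : Nat.card (rootsOfUnity r K) = r := hprim.card_rootsOfUnity
  have hsplit : (X ^ r - 1 : K[X]).Splits := by
    rw [splits_iff_card_roots]
    have := hprim.card_nthRoots_one
    unfold nthRoots at this
    rw [C_1] at this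
    rw [this]
    have h1 : (X ^ r - 1 : K[X]) = X ^ r - C 1 := by rw [C_1]
    rw [h1, natDegree_X_pow_sub_C]
  rw [card_classes_eq_card_lab hK p (by omega) hr2 hrq hrp γ hγord hγ hsplit]
  haveI : Finite (NS (rootsOfUnity r K) n) := finite_NS
  haveI := finite_labB n r
  rw [Nat.card_sum, card_orbits hμ (by omega), card_labB, add_assoc]
  congr 1
  split_ifs
  · have := hr.one_le; omega
  · simp

end Cfsg.Agent.Lib.Helper24.Pgu
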