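import Mathlib
import Cfsg.Agent.Lib.Helper24.PolarPair
import Cfsg.Agent.Lib.Helper27.SympWitt

set_option autoImplicit false
set_option linter.style.haveILetI false

namespace Cfsg.Agent.Lib.Helper24.PolarPairSp

open Cfsg Cfsg.Agent.Lib.Helper27.SympTransv Cfsg.Agent.Lib.Helper24.PolarPair

variable {F : Type*} [Field F]

theorem map_eq_of_le {V : Type*} [AddCommGroup V] [Module F V] [FiniteDimensional F V]
    (x : V →ₗ[F] V) (hinj : Function.Injective x) (U W : Submodule F V)
    (h1 : ∀ a ∈ U, x a ∈ W) (h2 : Module.finrank F ↥W ≤ Module.finrank F ↥U) : U.map x = W := by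
  apply Submodule.eq_of_le_of_finrank_le
  · rintro _ ⟨a, ha, rfl⟩
    exact h1 a ha
  · rw [← (Submodule.equivMapOfInjective x hinj U).finrank_eq]
    exact h2

theorem finrank_le_of_maps {V : Type*} [AddCommGroup V] [Module F V] [FiniteDimensional F V]
    (x : V →ₗ[F] V) (hinj : Function.Injective x) (U W : Submodule F V)
    (h1 : ∀ a ∈ U, x a ∈ W) : Module.finrank F ↥U ≤ Module.finrank F ↥W := by
  rw [(Submodule.equivMapOfInjective x hinj U).finrank_eq]
  apply Submodule.finrank_mono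
  rintro _ ⟨a, ha, rfl⟩
  exact h1 a ha

theorem symp_polar_pair (h2 : (2 : F) ≠ 0) {d : ℕ} (hd : 1 ≤ d)
    (X : Matrix (Fin d ⊕ Fin d) (Fin d ⊕ Fin d) F) (hX : X ∈ Matrix.symplecticGroup (Fin d) F)
    (z : F) (hXX : X * X = z • (1 : Matrix (Fin d ⊕ Fin d) (Fin d ⊕ Fin d) F)) :
    ∃ U W : Submodule F (Fin d ⊕ Fin d → F), IsCompl U W ∧
      (∀ u ∈ U, ∀ v ∈ U, sympForm d F u v = 0) ∧ (∀ u ∈ W, ∀ v ∈ W, sympForm d F u v = 0) ∧
      ((U.map (Matrix.toLin' X) = U ∧ W.map (Matrix.toLin' X) = W) ∨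
        (U.map (Matrix.toLin' X) = W ∧ W.map (Matrix.toLin' X) = U)) := by
  have hx : ∀ v, Matrix.toLin' X (Matrix.toLin' X v) = z • v := by
    intro v
    rw [← LinearMap.comp_apply, ← Matrix.toLin'_mul, hXX]
    simp
  have hinv : ∀ a b, sympB d F (Matrix.toLin' X a) (Matrix.toLin' X b) = sympB d F a b := by
    intro a b
    rw [sympB_apply, sympB_apply, Matrix.toLin'_apply, Matrix.toLin'_apply]
    exact sp_preserves X hX a b
  have hnd : ∀ a, (∀ b, sympB d F a b = 0) → a = 0 := by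
    intro a ha
    by_contra hne
    obtain ⟨b, -, hb⟩ := nondegOn_top a Submodule.mem_top hne
    apply hb
    rw [← sympB_apply]
    exact ha b
  -- z = ±1
  have hz : z = 1 ∨ z = -1 := by
    have hne : (Pi.single (Sum.inl ⟨0, hd⟩) 1 : Fin d ⊕ Fin d → F) ≠ 0 := by
      intro h
      have := congrFun h (Sum.inl ⟨0, hd⟩)
      simp at this
    obtain ⟨b, hb⟩ : ∃ b, sympB d F (Pi.single (Sum.inl ⟨0, hd⟩) 1) b ≠ 0 := by
      by_contra hcon
      push Not at hcon
      exact hne (hnd _ hcon)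
    have h1 := hinv (Matrix.toLin' X (Pi.single (Sum.inl ⟨0, hd⟩) 1)) (Matrix.toLin' X b)
    rw [hx, hx, hinv, map_smul, map_smul, LinearMap.smul_apply, smul_eq_mul, smul_eq_mul] at h1
    have h3 : (z - 1) * (z + 1) = 0 := by
      have : (z * z - 1) * sympB d F (Pi.single (Sum.inl ⟨0, hd⟩) 1) b = 0 := by
        linear_combination h1
      rcases mul_eq_zero.1 this with h | h
      · linear_combination h
      · exact absurd h hb
    rcases mul_eq_zero.1 h3 with h | h
    · left; linear_combination h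
    · right; linear_combination h
  have hz0 : z ≠ 0 := by
    rcases hz with rfl | rfl
    · exact one_ne_zero
    · exact neg_ne_zero.2 one_ne_zero
  have hinj : Function.Injective (Matrix.toLin' X) := by
    rw [injective_iff_map_eq_zero]
    intro v hv
    have := hx v
    rw [hv, map_zero] at this
    exact (smul_eq_zero.1 this.symm).resolve_left hz0
  obtain ⟨U, W, hc, hU, hW, hmode⟩ := polar_pair (F := F) _ (sympB d F) (Matrix.toLin' X) z h2
    (fun v => sympB_isAlt v) hnd hinv hx hz rfl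
  refine ⟨U, W, hc, fun u hu v hv => by rw [← sympB_apply]; exact hU u hu v hv,
    fun u hu v hv => by rw [← sympB_apply]; exact hW u hu v hv, ?_⟩
  rcases hmode with ⟨-, h1, h2'⟩ | ⟨-, h1, h2'⟩
  · left
    exact ⟨map_eq_of_le _ hinj U U h1 le_rfl, map_eq_of_le _ hinj W W h2' le_rfl⟩
  · right
    have hUW := finrank_le_of_maps _ hinj U W h1
    have hWU := finrank_le_of_maps _ hinj W U h2'
    exact ⟨map_eq_of_le _ hinj U W h1 hWU, map_eq_of_le _ hinj W U h2' hUW⟩

end Cfsg.Agent.Lib.Helper24.PolarPairSp
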