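import Cfsg.Agent.Lib.Helper24.SylowPrime

set_option autoImplicit false

namespace Cfsg.Agent.Lib.Helper24

section PrimeDegree
variable {G α : Type*} [Group G] [MulAction G α] {p : ℕ}

theorem p_dvd_card_of_transitive' [Finite G] [Fintype α]
    [MulAction.IsPretransitive G α] (hα : Fintype.card α = p) (hp : 0 < p) : p ∣ Nat.card G := by
  have hne : Nonempty α := by
    rw [← Fintype.card_pos_iff, hα]; exact hp
  obtain ⟨a⟩ := hne
  have h1 := MulAction.index_stabilizer_of_transitive G a
  rw [Nat.card_eq_fintype_card, hα] at h1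
  rw [← h1]
  exact Subgroup.index_dvd_card _

theorem p_dvd_card_of_transitive [Finite G] [Fintype α] (N : Subgroup G)
    [MulAction.IsPretransitive N α] (hα : Fintype.card α = p) (hp : 0 < p) : p ∣ Nat.card N := by
  have hne : Nonempty α := by
    rw [← Fintype.card_pos_iff, hα]; exact hp
  obtain ⟨a⟩ := hne
  have h1 := MulAction.index_stabilizer_of_transitive N a
  rw [Nat.card_eq_fintype_card, hα] at h1
  rw [← h1]
  exact Subgroup.index_dvd_card _

theorem card_dvd_factorial_of_faithful [Finite G] [FaithfulSMul G α] [Fintype α] :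
    Nat.card G ∣ Nat.factorial (Fintype.card α) := by
  classical
  have hinj : Function.Injective (MulAction.toPermHom G α) := MulAction.toPerm_injective
  have := Subgroup.card_dvd_of_injective _ hinj
  rw [Nat.card_perm] at this
  rwa [Nat.card_eq_fintype_card (α := α)] at this

theorem not_sq_dvd_card_of_faithful_prime_degree [Finite G] [FaithfulSMul G α] [Fintype α]
    (hp : p.Prime) (hα : Fintype.card α = p) : ¬ p ^ 2 ∣ Nat.card G := by
  intro h
  have h1 : p ^ 2 ∣ Nat.factorial p := by
    have := h.trans (card_dvd_factorial_of_faithful (G := G) (α := α))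
    rwa [hα] at this
  have hp1 : p = (p - 1) + 1 := by have := hp.pos; omega
  rw [hp1, Nat.factorial_succ, ← hp1, pow_two] at h1
  have h2 : p ∣ Nat.factorial (p - 1) := Nat.dvd_of_mul_dvd_mul_left hp.pos h1
  have h3 := (hp.dvd_factorial).mp h2
  have := hp.pos
  omega

/-- a Sylow `p`-subgroup has order `p` -/
theorem card_sylow_eq_prime [Finite G] [FaithfulSMul G α] [Fintype α] [Fact p.Prime]
    [MulAction.IsPretransitive G α] (hα : Fintype.card α = p) (P : Sylow p G) :
    Nat.card (P : Subgroup G) = p := by
  have hp : p.Prime := Fact.out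
  have hdvd : p ∣ Nat.card G := p_dvd_card_of_transitive' (α := α) hα hp.pos
  have hnsq := not_sq_dvd_card_of_faithful_prime_degree (G := G) hp hα
  rw [P.card_eq_multiplicity]
  have h1 : (Nat.card G).factorization p = 1 := by
    have hpos : Nat.card G ≠ 0 := Nat.card_pos.ne'
    have hge : 1 ≤ (Nat.card G).factorization p :=
      (hp.dvd_iff_one_le_factorization hpos).mp hdvd
    have hlt : ¬ 2 ≤ (Nat.card G).factorization p := by
      intro h2
      exact hnsq ((hp.pow_dvd_iff_le_factorization hpos).mpr h2)
    omega
  rw [h1, pow_one]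

/-- elements of a group of prime order commute -/
theorem commute_of_prime_card {H : Type*} [Group H] (hH : Nat.card H = p) [Fact p.Prime]
    (a b : H) : a * b = b * a := by
  have : IsCyclic H := isCyclic_of_prime_card hH
  obtain ⟨g, hg⟩ := IsCyclic.exists_generator (α := H)
  obtain ⟨i, rfl⟩ := Subgroup.mem_zpowers_iff.mp (hg a)
  obtain ⟨j, rfl⟩ := Subgroup.mem_zpowers_iff.mp (hg b)
  rw [← zpow_add, ← zpow_add, add_comm]

theorem isSimpleGroup_of_prime_degree [Finite G] [FaithfulSMul G α] [Fintype α] [Fact p.Prime]
    [MulAction.IsPretransitive G α] (hα : Fintype.card α = p) (P : Sylow p G)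
    (hn : 1 < Nat.card (Sylow p G))
    (ht : (((P : Subgroup G).subgroupOf
      (Subgroup.normalizer ((P : Subgroup G) : Set G))).index).Prime) :
    IsSimpleGroup G := by
  have hp : p.Prime := Fact.out
  have hPcard := card_sylow_eq_prime hα P
  have hprim : MulAction.IsPreprimitive G α :=
    MulAction.IsPreprimitive.of_prime_card (by rw [Nat.card_eq_fintype_card, hα]; exact hp)
  have hnt : Nontrivial G := by
    by_contra h
    rw [not_nontrivial_iff_subsingleton] at h
    have : Subsingleton (Sylow p G) := ⟨fun A B => Sylow.ext (Subsingleton.elim _ _)⟩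
    have := Finite.card_le_one_iff_subsingleton.mpr this
    omega
  refine { exists_pair_ne := hnt.exists_pair_ne, eq_bot_or_eq_top_of_normal := ?_ }
  intro N hN
  by_cases hNbot : N = ⊥
  · left; exact hNbot
  right
  have hNtrans : MulAction.IsPretransitive N α := by
    apply MulAction.IsQuasiPreprimitive.isPretransitive_of_normal
    intro hfix
    apply hNbot
    rw [Subgroup.eq_bot_iff_forall]
    intro n hn
    apply FaithfulSMul.eq_of_smul_eq_smul (α := α)
    intro a
    have : a ∈ MulAction.fixedPoints N α := by rw [hfix]; trivial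
    rw [one_smul]
    exact this ⟨n, hn⟩
  have hpN : p ∣ Nat.card N := p_dvd_card_of_transitive N hα hp.pos
  -- P ≤ N
  have hPN : (P : Subgroup G) ≤ N := by
    obtain ⟨x, hx⟩ := exists_prime_orderOf_dvd_card' (G := N) p hpN
    have hcardQ : Nat.card (Subgroup.zpowers (x : G)) = p ^ (Nat.card G).factorization p := by
      rw [Nat.card_zpowers, Subgroup.orderOf_coe, hx, ← P.card_eq_multiplicity, hPcard]
    obtain ⟨Q, hQ⟩ : ∃ Q : Sylow p G, (Q : Subgroup G) = Subgroup.zpowers (x : G) :=
      ⟨Sylow.ofCard _ hcardQ, rfl⟩
    obtain ⟨g, hg⟩ := MulAction.exists_smul_eq G Q P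
    intro y hy
    rw [← hg] at hy
    have h1 := (mem_smul_sylow_iff Q g y).mp hy
    have h2 : g⁻¹ * y * g ∈ N := by
      have : Subgroup.zpowers (x : G) ≤ N := by rw [Subgroup.zpowers_le]; exact x.2
      rw [hQ] at h1
      exact this h1
    have := hN.conj_mem _ h2 g
    have e : g * (g⁻¹ * y * g) * g⁻¹ = y := by group
    rwa [e] at this
  have hfrat : Subgroup.normalizer ((P : Subgroup G) : Set G) ⊔ N = ⊤ :=
    Sylow.normalizer_sup_eq_top' P hPN
  obtain ⟨M, hM⟩ : ∃ M : Subgroup G, M = Subgroup.normalizer ((P : Subgroup G) : Set G) :=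
    ⟨_, rfl⟩
  rw [← hM] at hfrat ht
  have hPM : (P : Subgroup G) ≤ M := hM ▸ Subgroup.le_normalizer
  have hPNM : (P : Subgroup G) ≤ N ⊓ M := le_inf hPN hPM
  have hrel := Subgroup.relIndex_mul_relIndex (P : Subgroup G) (N ⊓ M) M hPNM inf_le_right
  have ht' : ((P : Subgroup G).relIndex M).Prime := ht
  rw [← hrel] at ht'
  rcases Nat.prime_mul_iff.mp ht' with ⟨_, h1⟩ | ⟨_, h1⟩
  · -- M ≤ N
    have hMN : M ≤ N := (Subgroup.relIndex_eq_one.mp h1).trans inf_le_left
    rw [sup_eq_right.mpr hMN] at hfrat
    exact hfrat
  · -- N ⊓ M ≤ P : Burnside transfer inside N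
    exfalso
    have hNMP : N ⊓ M ≤ (P : Subgroup G) := Subgroup.relIndex_eq_one.mp h1
    have hPNcard : Nat.card ((P.subtype hPN : Sylow p N) : Subgroup N) = p := by
      rw [Sylow.coe_subtype]
      have := Subgroup.card_subtype N ((P : Subgroup G).subgroupOf N)
      rw [Subgroup.subgroupOf_map_subtype, inf_of_le_left hPN] at this
      rw [← this, hPcard]
    have hle : Subgroup.normalizer (((P.subtype hPN : Sylow p N) : Subgroup N) : Set N) ≤
        Subgroup.centralizer (((P.subtype hPN : Sylow p N) : Subgroup N) : Set N) := by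
      intro x hx
      have hxM : (x : G) ∈ M := by
        rw [hM, Subgroup.mem_normalizer_iff]
        intro h
        constructor
        · intro hh
          have := (Subgroup.mem_normalizer_iff.mp hx ⟨h, hPN hh⟩).mp
            (by rw [Sylow.coe_subtype, Subgroup.mem_subgroupOf]; exact hh)
          rw [Sylow.coe_subtype, Subgroup.mem_subgroupOf] at this
          exact this
        · intro hh
          have hhN : h ∈ N := by
            have h1 := hPN hh
            have h2 := N.mul_mem (N.mul_mem (N.inv_mem x.2) h1) x.2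
            have e : (x : G)⁻¹ * ((x : G) * h * (x : G)⁻¹) * (x : G) = h := by group
            rwa [e] at h2
          have := (Subgroup.mem_normalizer_iff.mp hx ⟨h, hhN⟩).mpr
            (by rw [Sylow.coe_subtype, Subgroup.mem_subgroupOf]; exact hh)
          rw [Sylow.coe_subtype, Subgroup.mem_subgroupOf] at this
          exact this
      have hxP : x ∈ ((P.subtype hPN : Sylow p N) : Subgroup N) := by
        rw [Sylow.coe_subtype, Subgroup.mem_subgroupOf]
        exact hNMP ⟨x.2, hxM⟩
      rw [Subgroup.mem_centralizer_iff]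
      intro h hh
      have := commute_of_prime_card hPNcard
        (⟨h, hh⟩ : ((P.subtype hPN : Sylow p N) : Subgroup N)) ⟨x, hxP⟩
      exact congrArg Subtype.val this
    have hcompl := MonoidHom.ker_transferSylow_isComplement' (P.subtype hPN) hle
    have hnd := MonoidHom.not_dvd_card_ker_transferSylow (P.subtype hPN) hle
    obtain ⟨K, hK⟩ : ∃ K : Subgroup N, K = (MonoidHom.transferSylow (P.subtype hPN) hle).ker :=
      ⟨_, rfl⟩
    rw [← hK] at hcompl hnd
    -- characterization of K
    have hchar : ∀ x : N, x ∈ K ↔ ¬ p ∣ orderOf x := by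
      intro x
      constructor
      · intro hx hdvd
        apply hnd
        have h1 : orderOf (⟨x, hx⟩ : K) ∣ Nat.card K := orderOf_dvd_natCard _
        rw [Subgroup.orderOf_mk] at h1
        exact hdvd.trans h1
      · intro hx
        rw [hK, MonoidHom.mem_ker]
        have h1 := orderOf_map_dvd (MonoidHom.transferSylow (P.subtype hPN) hle) x
        have h2 : orderOf ((MonoidHom.transferSylow (P.subtype hPN) hle) x) ∣ p := by
          have := orderOf_dvd_natCard ((MonoidHom.transferSylow (P.subtype hPN) hle) x)
          rwa [hPNcard] at this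
        rcases (Nat.dvd_prime hp).mp h2 with h3 | h3
        · exact orderOf_eq_one_iff.mp h3
        · exact absurd (h3 ▸ h1) hx
    -- K' normal in G
    have hK'n : (K.map N.subtype).Normal := by
      constructor
      rintro _ ⟨x, hx, rfl⟩ g
      have hmem : g * (x : G) * g⁻¹ ∈ N := hN.conj_mem _ x.2 g
      refine ⟨⟨_, hmem⟩, ?_, rfl⟩
      have hx' : ¬ p ∣ orderOf x := (hchar x).mp hx
      apply (hchar _).mpr
      have h1 : orderOf (⟨g * (x : G) * g⁻¹, hmem⟩ : N) = orderOf x := by
        rw [← Subgroup.orderOf_coe, ← Subgroup.orderOf_coe]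
        have := (MulAut.conj g).orderOf_eq (x : G)
        rwa [MulAut.conj_apply] at this
      rwa [h1]

    have hK'bot : K.map N.subtype = ⊥ := by
      by_contra hne
      have htr : MulAction.IsPretransitive (K.map N.subtype) α := by
        apply MulAction.IsQuasiPreprimitive.isPretransitive_of_normal
        intro hfix
        apply hne
        rw [Subgroup.eq_bot_iff_forall]
        intro n hn
        apply FaithfulSMul.eq_of_smul_eq_smul (α := α)
        intro a
        have : a ∈ MulAction.fixedPoints (K.map N.subtype) α := by rw [hfix]; trivial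
        rw [one_smul]
        exact this ⟨n, hn⟩
      have := p_dvd_card_of_transitive (K.map N.subtype) hα hp.pos
      rw [Subgroup.card_subtype] at this
      exact hnd this
    have hKbot : K = ⊥ :=
      (Subgroup.map_eq_bot_iff_of_injective _ N.subtype_injective).mp hK'bot
    -- |N| = p so N = P
    have hNcard : Nat.card N = p := by
      have := hcompl.card_mul_card
      rw [hKbot, Subgroup.card_bot, one_mul, hPNcard] at this
      exact this.symm
    have hNP : (P : Subgroup G) = N :=
      Subgroup.eq_of_le_of_card_ge hPN (by rw [hNcard, hPcard])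
    have hPn : (P : Subgroup G).Normal := hNP ▸ hN
    have huniq := Sylow.unique_of_normal P hPn
    have : Nat.card (Sylow p G) = 1 := Nat.card_unique
    omega

end PrimeDegree

end Cfsg.Agent.Lib.Helper24
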