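import Mathlib

/-! Centraliser of an element of `GL_n(q)` annihilated by an irreducible polynomial of degree `n` (helper24). -/

open Polynomial Matrix
set_option autoImplicit false
set_option linter.style.haveILetI false

namespace Cfsg.Agent.Lib.Helper24

/-- For a matrix `A ≠ 1` of prime order `r` over a field with `q` elements of char `p ≠ r`,
where `q` has order `n` mod `r`, there is an irreducible polynomial of degree `n` annihilating `A`. -/
theorem exists_irreducible_annihilator {F : Type*} [Field F] [Fintype F] {p q : ℕ} [Fact p.Prime]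
    [CharP F p] (hF : Fintype.card F = q) {n r : ℕ} (hn : 1 ≤ n) (hr : r.Prime) (hrp : r ≠ p)
    (hi : orderOf (q : ZMod r) = n) (A : Matrix (Fin n) (Fin n) F) (hA1 : A ≠ 1)
    (hAr : A ^ r = 1) :
    ∃ π : F[X], Irreducible π ∧ π.natDegree = n ∧ aeval A π = 0 := by
  classical
  haveI : Fact r.Prime := ⟨hr⟩
  have hμ0 : minpoly F A ≠ 0 := minpoly.ne_zero (Matrix.isIntegral A)
  have hμdeg : (minpoly F A).natDegree ≤ n := by
    have h1 := Polynomial.natDegree_le_of_dvd (Matrix.minpoly_dvd_charpoly A)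
      (Matrix.charpoly_monic A).ne_zero
    rw [Matrix.charpoly_natDegree_eq_dim, Fintype.card_fin] at h1
    exact h1
  obtain ⟨Φ, hΦ⟩ : ∃ Φ : F[X], Φ = ∑ i ∈ Finset.range r, (X : F[X]) ^ i := ⟨_, rfl⟩
  have hΦmul : Φ * (X - 1) = X ^ r - 1 := by rw [hΦ]; exact geom_sum_mul X r
  have hμdvd : minpoly F A ∣ Φ * (X - 1) := by
    rw [hΦmul]
    apply minpoly.dvd
    simp [hAr]
  have hnc : ¬ IsCoprime (minpoly F A) Φ := by
    intro hc
    have h1 : minpoly F A ∣ X - 1 := hc.dvd_of_dvd_mul_left hμdvd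
    have h2 : aeval A (X - 1 : F[X]) = 0 :=
      Polynomial.aeval_eq_zero_of_dvd_aeval_eq_zero h1 (minpoly.aeval F A)
    apply hA1
    simpa [sub_eq_zero] using h2
  rw [← EuclideanDomain.gcd_isUnit_iff] at hnc
  have hg0 : EuclideanDomain.gcd (minpoly F A) Φ ≠ 0 := by
    intro h0
    rw [EuclideanDomain.gcd_eq_zero_iff] at h0
    exact hμ0 h0.1
  obtain ⟨π, hπirr, hπg⟩ := WfDvdMonoid.exists_irreducible_factor hnc hg0
  have hπμ : π ∣ minpoly F A := hπg.trans (EuclideanDomain.gcd_dvd_left _ _)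
  have hπΦ : π ∣ Φ := hπg.trans (EuclideanDomain.gcd_dvd_right _ _)
  haveI : Fact (Irreducible π) := ⟨hπirr⟩
  have hπ0 : π ≠ 0 := hπirr.ne_zero
  -- the root
  obtain ⟨α, hα⟩ : ∃ α : AdjoinRoot π, α = AdjoinRoot.root π := ⟨_, rfl⟩
  have hΦα : ∑ i ∈ Finset.range r, α ^ i = 0 := by
    have h1 : aeval α Φ = 0 := by
      rw [hα, AdjoinRoot.aeval_eq, AdjoinRoot.mk_eq_zero]; exact hπΦ
    rw [hΦ] at h1
    simpa using h1
  have hαr : α ^ r = 1 := by
    have h1 := geom_sum_mul α r
    rw [hΦα, zero_mul] at h1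
    exact (sub_eq_zero.mp h1.symm)
  have hrF : (r : F) ≠ 0 := by
    intro h0
    rw [CharP.cast_eq_zero_iff F p r] at h0
    have := (Nat.prime_dvd_prime_iff_eq (Fact.out : p.Prime) hr).mp h0
    exact hrp this.symm
  have hα1 : α ≠ 1 := by
    intro h1
    rw [h1] at hΦα
    simp only [one_pow, Finset.sum_const, Finset.card_range, nsmul_eq_mul, mul_one] at hΦα
    have h2 : algebraMap F (AdjoinRoot π) (r : F) = 0 := by
      rw [map_natCast]; exact hΦα
    rw [map_eq_zero] at h2
    exact hrF h2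
  have hord : orderOf α = r := orderOf_eq_prime hαr hα1
  -- card
  haveI : Module.Finite F (AdjoinRoot π) := (AdjoinRoot.powerBasis hπ0).finite
  haveI : Finite (AdjoinRoot π) := Module.finite_of_finite F
  haveI : Fintype (AdjoinRoot π) := Fintype.ofFinite _
  have hfr : Module.finrank F (AdjoinRoot π) = π.natDegree := by
    rw [(AdjoinRoot.powerBasis hπ0).finrank, AdjoinRoot.powerBasis_dim]
  have hcard : Fintype.card (AdjoinRoot π) = q ^ π.natDegree := by
    rw [Module.card_eq_pow_finrank (K := F), hF, hfr]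
  have hα0 : α ≠ 0 := by
    intro h0
    rw [h0, zero_pow hr.ne_zero] at hαr
    exact zero_ne_one hαr
  have hdvd : r ∣ q ^ π.natDegree - 1 := by
    rw [← hord, ← hcard]
    exact orderOf_dvd_of_pow_eq_one (FiniteField.pow_card_sub_one_eq_one α hα0)
  have hq1 : 1 ≤ q ^ π.natDegree := by
    apply Nat.one_le_pow
    rw [← hF]; exact Fintype.card_pos
  have hzmod : (q : ZMod r) ^ π.natDegree = 1 := by
    have h1 : ((q ^ π.natDegree - 1 : ℕ) : ZMod r) = 0 := (ZMod.natCast_eq_zero_iff _ _).mpr hdvd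
    rw [Nat.cast_sub hq1, Nat.cast_pow, Nat.cast_one, sub_eq_zero] at h1
    exact h1
  have hnd : n ∣ π.natDegree := by
    rw [← hi]; exact orderOf_dvd_of_pow_eq_one hzmod
  have hdle : π.natDegree ≤ n := (Polynomial.natDegree_le_of_dvd hπμ hμ0).trans hμdeg
  have hdpos : 0 < π.natDegree := hπirr.natDegree_pos
  have hdeq : π.natDegree = n := Nat.le_antisymm hdle (Nat.le_of_dvd hdpos hnd)
  refine ⟨π, hπirr, hdeq, ?_⟩
  have hassoc : Associated π (minpoly F A) :=
    Polynomial.associated_of_dvd_of_natDegree_le hπμ hμ0 (by rw [hdeq]; exact hμdeg)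
  exact Polynomial.aeval_eq_zero_of_dvd_aeval_eq_zero hassoc.symm.dvd (minpoly.aeval F A)

/-- If an irreducible polynomial of degree `n` annihilates `x ∈ GL_n(F)`, `|F| = q`, then `C(x)` is cyclic of order `q^n - 1`. -/
theorem centralizer_of_irreducible_annihilator {F : Type*} [Field F] [Fintype F] {q n : ℕ}
    (hF : Fintype.card F = q) (hn : 1 ≤ n) (x : GL (Fin n) F) (π : F[X]) (hπ : Irreducible π)
    (hdeg : π.natDegree = n) (hA : aeval (x : Matrix (Fin n) (Fin n) F) π = 0) :
    IsCyclic ↥(Subgroup.centralizer ({x} : Set (GL (Fin n) F))) ∧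
      Nat.card ↥(Subgroup.centralizer ({x} : Set (GL (Fin n) F))) = q ^ n - 1 := by
  classical
  haveI : Fact (Irreducible π) := ⟨hπ⟩
  haveI : Nonempty (Fin n) := ⟨⟨0, hn⟩⟩
  have hπ0 : π ≠ 0 := hπ.ne_zero
  obtain ⟨A, hAx⟩ : ∃ A : Matrix (Fin n) (Fin n) F, A = (x : Matrix (Fin n) (Fin n) F) := ⟨_, rfl⟩
  rw [← hAx] at hA
  -- the algebra hom
  obtain ⟨φ, hφ⟩ : ∃ φ : AdjoinRoot π →ₐ[F] Matrix (Fin n) (Fin n) F,
      ∀ f : F[X], φ (AdjoinRoot.mk π f) = aeval A f := by
    refine ⟨Ideal.Quotient.liftₐ (Ideal.span {π}) (aeval A) ?_, ?_⟩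
    · intro a ha
      rw [Ideal.mem_span_singleton] at ha
      exact Polynomial.aeval_eq_zero_of_dvd_aeval_eq_zero ha hA
    · intro f
      rfl
  have hφinj : Function.Injective φ := (φ : AdjoinRoot π →+* Matrix (Fin n) (Fin n) F).injective
  have hφroot : φ (AdjoinRoot.root π) = A := by
    have := hφ X
    rw [aeval_X] at this
    exact this
  -- finiteness and card
  haveI : Module.Finite F (AdjoinRoot π) := (AdjoinRoot.powerBasis hπ0).finite
  haveI : Finite (AdjoinRoot π) := Module.finite_of_finite F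
  have hfr : Module.finrank F (AdjoinRoot π) = n := by
    rw [(AdjoinRoot.powerBasis hπ0).finrank, AdjoinRoot.powerBasis_dim, hdeg]
  have hcard : Nat.card (AdjoinRoot π) = q ^ n := by
    rw [Module.natCard_eq_pow_finrank (K := F), hfr, Nat.card_eq_fintype_card, hF]
  -- every element commuting with A commutes with φ k
  have hcomm : ∀ (c : Matrix (Fin n) (Fin n) F), c * A = A * c → ∀ k : AdjoinRoot π,
      c * φ k = φ k * c := by
    intro c hc k
    obtain ⟨f, rfl⟩ := AdjoinRoot.mk_surjective k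
    rw [hφ]
    have h1 : aeval A f ∈ Algebra.adjoin F {A} := Polynomial.aeval_mem_adjoin_singleton F A
    have h2 : Algebra.adjoin F {A} ≤ Subalgebra.centralizer F {c} := by
      apply Algebra.adjoin_le
      intro y hy
      rw [Set.mem_singleton_iff] at hy
      rw [hy]
      intro z hz
      rw [Set.mem_singleton_iff] at hz
      rw [hz]; exact hc
    have h3 := h2 h1
    exact h3 c (Set.mem_singleton c)
  -- the evaluation map
  obtain ⟨v, hv⟩ : ∃ v : Fin n → F, v = Pi.single ⟨0, hn⟩ 1 := ⟨_, rfl⟩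
  have hv0 : v ≠ 0 := by
    intro h0
    have := congrFun h0 ⟨0, hn⟩
    rw [hv] at this
    simp at this
  let ev : AdjoinRoot π →ₗ[F] (Fin n → F) :=
    { toFun := fun k => φ k *ᵥ v
      map_add' := fun a b => by simp [Matrix.add_mulVec]
      map_smul' := fun a b => by simp [Matrix.smul_mulVec] }
  have hev : ∀ k, ev k = φ k *ᵥ v := fun k => rfl
  have hevinj : Function.Injective ev := by
    rw [injective_iff_map_eq_zero]
    intro k hk
    by_contra hk0
    apply hv0
    have h1 : φ (k⁻¹ * k) *ᵥ v = v := by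
      rw [inv_mul_cancel₀ hk0, map_one, Matrix.one_mulVec]
    rw [map_mul, ← Matrix.mulVec_mulVec] at h1
    rw [hev] at hk
    rw [hk, Matrix.mulVec_zero] at h1
    exact h1.symm
  have hevsurj : Function.Surjective ev := by
    have hfin : Module.finrank F (AdjoinRoot π) = Module.finrank F (Fin n → F) := by
      rw [hfr, Module.finrank_fin_fun]
    exact (LinearMap.injective_iff_surjective_of_finrank_eq_finrank hfin).mp hevinj
  -- the group hom
  obtain ⟨ψ, hψ⟩ : ∃ ψ : (AdjoinRoot π)ˣ →* GL (Fin n) F,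
      ∀ k : (AdjoinRoot π)ˣ, ((ψ k : GL (Fin n) F) : Matrix (Fin n) (Fin n) F) = φ k :=
    ⟨Units.map (φ : AdjoinRoot π →* Matrix (Fin n) (Fin n) F), fun k => rfl⟩
  have hψinj : Function.Injective ψ := by
    intro a b hab
    apply Units.ext
    apply hφinj
    rw [← hψ, ← hψ, hab]
  have hrange : ψ.range = Subgroup.centralizer ({x} : Set (GL (Fin n) F)) := by
    ext c
    rw [Subgroup.mem_centralizer_singleton_iff]
    constructor
    · rintro ⟨k, rfl⟩
      apply Units.ext
      rw [Units.val_mul, Units.val_mul, hψ, ← hAx, ← hφroot, ← map_mul, ← map_mul, mul_comm]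
    · intro hc
      have hcA : (c : Matrix (Fin n) (Fin n) F) * A = A * (c : Matrix (Fin n) (Fin n) F) := by
        rw [hAx, ← Units.val_mul, ← Units.val_mul, hc]
      obtain ⟨k₀, hk₀⟩ := hevsurj ((c : Matrix (Fin n) (Fin n) F) *ᵥ v)
      rw [hev] at hk₀
      have hck : (c : Matrix (Fin n) (Fin n) F) = φ k₀ := by
        rw [Matrix.ext_iff_mulVec]
        intro w
        obtain ⟨k, hk⟩ := hevsurj w
        rw [hev] at hk
        rw [← hk, Matrix.mulVec_mulVec, hcomm _ hcA k, ← Matrix.mulVec_mulVec, ← hk₀,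
          Matrix.mulVec_mulVec, Matrix.mulVec_mulVec, ← map_mul, ← map_mul, mul_comm]
      have hk₀0 : k₀ ≠ 0 := by
        intro h0
        rw [h0, map_zero] at hck
        have h1 : (c : Matrix (Fin n) (Fin n) F) * ((c⁻¹ : GL (Fin n) F) : Matrix (Fin n) (Fin n) F) = 1 := by
          rw [← Units.val_mul, mul_inv_cancel, Units.val_one]
        rw [hck, zero_mul] at h1
        exact zero_ne_one h1
      refine ⟨Units.mk0 k₀ hk₀0, ?_⟩
      apply Units.ext
      rw [hψ, Units.val_mk0, hck]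
  rw [← hrange]
  constructor
  · exact isCyclic_of_surjective ψ.rangeRestrict ψ.rangeRestrict_surjective
  · rw [← Nat.card_congr (MonoidHom.ofInjective hψinj).toEquiv, Nat.card_units, hcard]

end Cfsg.Agent.Lib.Helper24
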