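import Mathlib
import Cfsg.Prelude

set_option autoImplicit false
set_option linter.style.haveILetI false
set_option linter.unusedSimpArgs false
set_option linter.unusedSectionVars false

namespace Cfsg.Agent.Lib.Helper24.Pron

variable {G : Type*} [Group G]

/-- conjugate of a subgroup -/
def cj (g : G) (H : Subgroup G) : Subgroup G := H.map (MulAut.conj g).toMonoidHom

theorem mem_cj {g x : G} {H : Subgroup G} : x ∈ cj g H ↔ g⁻¹ * x * g ∈ H := by
  unfold cj
  constructor
  · rintro ⟨h, hh, rfl⟩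
    simpa [MulAut.conj_apply, mul_assoc] using hh
  · intro h
    exact ⟨g⁻¹ * x * g, h, by simp [MulAut.conj_apply, mul_assoc]⟩

theorem cj_mul (a b : G) (H : Subgroup G) : cj (a * b) H = cj a (cj b H) := by
  ext x
  simp only [mem_cj, mul_inv_rev, mul_assoc]

theorem cj_one (H : Subgroup G) : cj 1 H = H := by
  ext x
  simp [mem_cj]

theorem cj_inv_cj (a : G) (H : Subgroup G) : cj a⁻¹ (cj a H) = H := by
  rw [← cj_mul, inv_mul_cancel, cj_one]

theorem cj_cj_inv (a : G) (H : Subgroup G) : cj a (cj a⁻¹ H) = H := by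
  rw [← cj_mul, mul_inv_cancel, cj_one]

theorem cj_mono (a : G) {H K : Subgroup G} (h : H ≤ K) : cj a H ≤ cj a K :=
  Subgroup.map_mono h

theorem cj_sup (a : G) (H K : Subgroup G) : cj a (H ⊔ K) = cj a H ⊔ cj a K :=
  Subgroup.map_sup H K _

theorem cj_inf (a : G) (H K : Subgroup G) : cj a (H ⊓ K) = cj a H ⊓ cj a K := by
  ext x
  simp only [mem_cj, Subgroup.mem_inf]

theorem cj_of_mem {a : G} {H : Subgroup G} (ha : a ∈ H) : cj a H = H := by
  ext x
  rw [mem_cj]
  constructor
  · intro h
    have := H.mul_mem (H.mul_mem ha h) (H.inv_mem ha)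
    simpa [mul_assoc] using this
  · intro h
    exact H.mul_mem (H.mul_mem (H.inv_mem ha) h) ha

theorem cj_normal (a : G) (A : Subgroup G) [A.Normal] : cj a A = A := by
  ext x
  rw [mem_cj]
  constructor
  · intro h
    have := Subgroup.Normal.conj_mem (inferInstance : A.Normal) _ h a
    simpa [mul_assoc] using this
  · intro h
    have := Subgroup.Normal.conj_mem (inferInstance : A.Normal) _ h a⁻¹
    simpa [mul_assoc] using this

theorem mem_normalizer_iff_cj {a : G} {H : Subgroup G} :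
    a ∈ Subgroup.normalizer (H : Set G) ↔ cj a H = H :=
  Subgroup.mem_normalizer_iff_map_conj_eq

theorem cj_normalizer (a : G) (H : Subgroup G) :
    cj a (Subgroup.normalizer (H : Set G)) = Subgroup.normalizer ((cj a H : Subgroup G) : Set G) := by
  ext x
  rw [mem_cj, mem_normalizer_iff_cj, mem_normalizer_iff_cj]
  constructor
  · intro h
    have h1 : cj x (cj a H) = cj a (cj (a⁻¹ * x * a) H) := by
      rw [← cj_mul, ← cj_mul]
      congr 1
      group
    rw [h1, h]
  · intro h
    have h1 : cj (a⁻¹ * x * a) H = cj a⁻¹ (cj x (cj a H)) := by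
      rw [← cj_mul, ← cj_mul]
    rw [h1, h, cj_inv_cj]

theorem cj_le_of_mem {a : G} {H L : Subgroup G} (ha : a ∈ L) (hH : H ≤ L) : cj a H ≤ L := by
  intro x hx
  rw [mem_cj] at hx
  have := L.mul_mem (L.mul_mem ha (hH hx)) (L.inv_mem ha)
  simpa [mul_assoc] using this

theorem card_cj (a : G) (H : Subgroup G) : Nat.card (cj a H) = Nat.card H := by
  unfold cj
  exact Nat.card_congr
    ((H.equivMapOfInjective _ (MulAut.conj a).injective).symm.toEquiv)

theorem isPGroup_cj {p : ℕ} (a : G) {H : Subgroup G} (h : IsPGroup p H) : IsPGroup p (cj a H) := by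
  unfold cj
  exact h.map _

/-- pronormality in the language of `cj` -/
theorem isPronormal_iff (H : Subgroup G) :
    Cfsg.IsPronormal H ↔ ∀ g : G, ∃ x ∈ H ⊔ cj g H, cj g H = cj x H := Iff.rfl

/-- relative pronormality: `H` is pronormal in `N` (both subgroups of `G`) -/
def PronIn (H N : Subgroup G) : Prop :=
  ∀ g ∈ N, ∃ x ∈ H ⊔ cj g H, cj g H = cj x H

theorem isPronormal_cj (a : G) {H : Subgroup G} (h : Cfsg.IsPronormal H) :
    Cfsg.IsPronormal (cj a H) := by
  rw [isPronormal_iff] at *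
  intro g
  obtain ⟨x, hx, hxe⟩ := h (a⁻¹ * g * a)
  refine ⟨a * x * a⁻¹, ?_, ?_⟩
  · have h1 : cj a (H ⊔ cj (a⁻¹ * g * a) H) = cj a H ⊔ cj g (cj a H) := by
      rw [cj_sup, ← cj_mul, ← cj_mul]
      congr 2
      group
    rw [← h1, mem_cj]
    have : a⁻¹ * (a * x * a⁻¹) * a = x := by group
    rw [this]
    exact hx
  · rw [← cj_mul, ← cj_mul]
    have e1 : g * a = a * (a⁻¹ * g * a) := by group
    have e2 : a * x * a⁻¹ * a = a * x := by group
    rw [e1, e2, cj_mul, cj_mul a x, hxe]

end Cfsg.Agent.Lib.Helper24.Pron
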