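import Mathlib
import Cfsg.Prelude
import Cfsg.Agent.Lib.Helper24.PronA

set_option autoImplicit false
set_option linter.style.haveILetI false
set_option linter.unusedSimpArgs false
set_option linter.unusedSectionVars false

namespace Cfsg.Agent.Lib.Helper24.Pron

variable {G : Type*} [Group G]

theorem map_cj {G' : Type*} [Group G'] (f : G →* G') (g : G) (H : Subgroup G) :
    (cj g H).map f = cj (f g) (H.map f) := by
  unfold cj
  rw [Subgroup.map_map, Subgroup.map_map]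
  congr 1
  ext y
  simp [MulAut.conj_apply]

theorem sylConj [Finite G] {p : ℕ} [Fact p.Prime] {T J : Subgroup G}
    (hp : IsPGroup p T) (hidx : ¬ p ∣ T.relIndex J) {x : G} (hx : cj x T ≤ J) :
    ∃ j ∈ J, cj (j * x) T = T := by
  have hp' : IsPGroup p (T.subgroupOf J) := hp.comap_subtype
  obtain ⟨P', hP'⟩ : ∃ P' : Sylow p ↥J, (P' : Subgroup ↥J) = T.subgroupOf J :=
    ⟨hp'.toSylow hidx, rfl⟩
  have hpU : IsPGroup p ((cj x T).subgroupOf J) := (isPGroup_cj x hp).comap_subtype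
  obtain ⟨Q, hQ⟩ := hpU.exists_le_sylow
  obtain ⟨j', hj'⟩ := MulAction.exists_smul_eq ↥J Q P'
  refine ⟨(j' : G), j'.2, ?_⟩
  have hle : cj ((j' : G) * x) T ≤ T := by
    intro y hy
    rw [cj_mul, mem_cj] at hy
    have h1 : (⟨_, hx hy⟩ : ↥J) ∈ Q := hQ (by simpa [Subgroup.mem_subgroupOf] using hy)
    have h2 : MulAut.conj j' • (⟨_, hx hy⟩ : ↥J) ∈ ((j' • Q : Sylow p ↥J) : Subgroup ↥J) := by
      rw [Sylow.coe_subgroup_smul]
      exact Subgroup.smul_mem_pointwise_smul _ _ _ h1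
    rw [hj', hP', Subgroup.mem_subgroupOf] at h2
    simpa [MulAut.smul_def, MulAut.conj_apply, mul_assoc] using h2
  exact Subgroup.eq_of_le_of_card_ge hle (by rw [card_cj])

theorem sylow_smul_coe {p : ℕ} [Fact p.Prime] (g : G) (P : Sylow p G) :
    ((g • P : Sylow p G) : Subgroup G) = cj g (P : Subgroup G) := by
  rw [Sylow.coe_subgroup_smul]
  ext y
  rw [mem_cj, Subgroup.mem_pointwise_smul_iff_inv_smul_mem]
  simp [MulAut.smul_def, MulAut.conj_apply, mul_assoc]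

theorem sylow_pron [Finite G] {p : ℕ} [Fact p.Prime] (P : Sylow p G) (g : G) :
    ∃ x ∈ (P : Subgroup G) ⊔ cj g P, cj g (P : Subgroup G) = cj x P := by
  have hidx : ¬ p ∣ (P : Subgroup G).relIndex ((P : Subgroup G) ⊔ cj g P) := fun h =>
    P.not_dvd_index (h.trans (Subgroup.relIndex_dvd_index_of_le le_sup_left))
  obtain ⟨j, hj, hjT⟩ := sylConj P.isPGroup' hidx
    (le_sup_right : cj g (P : Subgroup G) ≤ (P : Subgroup G) ⊔ cj g P)
  refine ⟨j⁻¹, inv_mem hj, ?_⟩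
  have h1 : cj g (P : Subgroup G) = cj j⁻¹ (cj (j * g) P) := by
    rw [← cj_mul, inv_mul_cancel_left]
  rw [h1, hjT]

/-- Key lemma: from relative pronormality in `A` and in `N_G(T)` to conjugation by
elements of `A`. -/
theorem key [Finite G] {p : ℕ} [Fact p.Prime] {A T H : Subgroup G} [A.Normal]
    (hTA : T ≤ A) (hp : IsPGroup p T) (hidx : ¬ p ∣ T.relIndex A) (hTH : T ≤ H)
    (ha : PronIn (H ⊓ A) A)
    (hb : PronIn (H ⊓ Subgroup.normalizer (T : Set G)) (Subgroup.normalizer (T : Set G)))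
    {a : G} (haA : a ∈ A) : ∃ w ∈ H ⊔ cj a H, cj a H = cj w H := by
  obtain ⟨N, hN⟩ : ∃ N : Subgroup G, N = Subgroup.normalizer (T : Set G) := ⟨_, rfl⟩
  rw [← hN] at hb
  have hTN : T ≤ N := hN ▸ Subgroup.le_normalizer
  obtain ⟨J, hJ⟩ : ∃ J : Subgroup G, J = H ⊓ A := ⟨_, rfl⟩
  obtain ⟨K, hK⟩ : ∃ K : Subgroup G, K = H ⊓ N := ⟨_, rfl⟩
  rw [← hJ] at ha
  rw [← hK] at hb
  have hJH : J ≤ H := hJ ▸ inf_le_left
  have hJA : J ≤ A := hJ ▸ inf_le_right
  have hKH : K ≤ H := hK ▸ inf_le_left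
  have hKN : K ≤ N := hK ▸ inf_le_right
  have hTJ : T ≤ J := hJ ▸ le_inf hTH hTA
  have hTK : T ≤ K := hK ▸ le_inf hTH hTN
  have hidxJ : ¬ p ∣ T.relIndex J := fun h => hidx (by
    rw [← Subgroup.relIndex_mul_relIndex T J A hTJ hJA]
    exact Dvd.dvd.mul_right h _)
  have hHJ : ∀ h ∈ H, cj h J = J := by
    intro h hh
    rw [hJ, cj_inf, cj_of_mem hh, cj_normal]
  have hFr : H = J ⊔ K := by
    apply le_antisymm
    · intro h hh
      have h1 : cj h T ≤ J := le_of_le_of_eq (cj_mono h hTJ) (hHJ h hh)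
      obtain ⟨j, hj, hjT⟩ := sylConj hp hidxJ h1
      have h2 : j * h ∈ K := by
        rw [hK]
        have h4 : j * h ∈ N := by rw [hN, mem_normalizer_iff_cj]; exact hjT
        exact ⟨H.mul_mem (hJH hj) hh, h4⟩
      have h3 : h = j⁻¹ * (j * h) := by group
      rw [h3]
      exact (J ⊔ K).mul_mem ((J ⊔ K).inv_mem ((le_sup_left : J ≤ J ⊔ K) hj))
        ((le_sup_right : K ≤ J ⊔ K) h2)
    · exact sup_le hJH hKH
  obtain ⟨z, hz, hze⟩ := ha a haA
  have hzA : z ∈ A := (sup_le hJA (cj_le_of_mem haA hJA)) hz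
  have hzL : z ∈ H ⊔ cj a H := (sup_le_sup hJH (cj_mono a hJH)) hz
  have hbJ : cj (z⁻¹ * a) J = J := by rw [cj_mul, hze, cj_inv_cj]
  have h1 : cj (z⁻¹ * a) T ≤ J := le_of_le_of_eq (cj_mono _ hTJ) hbJ
  obtain ⟨j, hj, hjT⟩ := sylConj hp hidxJ h1
  have hb2N : j * (z⁻¹ * a) ∈ N := by rw [hN, mem_normalizer_iff_cj]; exact hjT
  have hb2J : cj (j * (z⁻¹ * a)) J = J := by rw [cj_mul, hbJ, cj_of_mem hj]
  obtain ⟨y, hy, hye⟩ := hb _ hb2N
  have hKnJ : K ≤ Subgroup.normalizer (J : Set G) := fun k hk =>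
    mem_normalizer_iff_cj.mpr (hHJ k (hKH hk))
  have hyJ : y ∈ Subgroup.normalizer (J : Set G) := by
    refine (sup_le hKnJ ?_) hy
    calc cj (j * (z⁻¹ * a)) K ≤ cj (j * (z⁻¹ * a)) (Subgroup.normalizer (J : Set G)) :=
          cj_mono _ hKnJ
      _ = Subgroup.normalizer ((cj (j * (z⁻¹ * a)) J : Subgroup G) : Set G) := cj_normalizer _ _
      _ = Subgroup.normalizer (J : Set G) := by rw [hb2J]
  have hyJ' : cj y⁻¹ J = J := mem_normalizer_iff_cj.mp (Subgroup.inv_mem _ hyJ)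
  have hb'J : cj (y⁻¹ * (j * (z⁻¹ * a))) J = J := by rw [cj_mul, hb2J, hyJ']
  have hb'K : cj (y⁻¹ * (j * (z⁻¹ * a))) K = K := by rw [cj_mul, hye, cj_inv_cj]
  have hb'H : cj (y⁻¹ * (j * (z⁻¹ * a))) H = H := by
    have h2 : cj (y⁻¹ * (j * (z⁻¹ * a))) (J ⊔ K) = J ⊔ K := by rw [cj_sup, hb'J, hb'K]
    rwa [← hFr] at h2
  refine ⟨z * j⁻¹ * y, ?_, ?_⟩
  · have hjL : j ∈ H ⊔ cj a H := (le_sup_left : H ≤ H ⊔ cj a H) (hJH hj)
    have hyL : y ∈ H ⊔ cj a H := by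
      refine (sup_le (hKH.trans le_sup_left) ?_) hy
      have h2 : cj (j * (z⁻¹ * a)) K ≤ cj (j * z⁻¹) (cj a H) := by
        rw [← cj_mul, mul_assoc]
        exact cj_mono _ hKH
      exact h2.trans (cj_le_of_mem (mul_mem hjL (inv_mem hzL)) le_sup_right)
    exact mul_mem (mul_mem hzL (inv_mem hjL)) hyL
  · have h2 : a = (z * j⁻¹ * y) * (y⁻¹ * (j * (z⁻¹ * a))) := by group
    conv_lhs => rw [h2]
    rw [cj_mul, hb'H]

end Cfsg.Agent.Lib.Helper24.Pron
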