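import Mathlib
import Cfsg.Prelude
import Cfsg.Agent.Lib.Helper24.PronB

set_option autoImplicit false
set_option linter.style.haveILetI false
set_option linter.unusedSimpArgs false
set_option linter.unusedSectionVars false

namespace Cfsg.Agent.Lib.Helper24.Pron

variable {G : Type*} [Group G]

theorem isPronormal_iff_of_injective {N' : Type*} [Group N'] (f : N' →* G)
    (hf : Function.Injective f) (K' : Subgroup N') :
    Cfsg.IsPronormal K' ↔ ∀ n : N', ∃ x ∈ K'.map f ⊔ cj (f n) (K'.map f),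
      cj (f n) (K'.map f) = cj x (K'.map f) := by
  rw [isPronormal_iff]
  constructor
  · intro h n
    obtain ⟨x, hx, hxe⟩ := h n
    refine ⟨f x, ?_, ?_⟩
    · rw [← map_cj, ← Subgroup.map_sup]
      exact Subgroup.mem_map_of_mem f hx
    · rw [← map_cj, ← map_cj, hxe]
  · intro h n
    obtain ⟨x, hx, hxe⟩ := h n
    rw [← map_cj, ← Subgroup.map_sup] at hx
    obtain ⟨x', hx', rfl⟩ := hx
    refine ⟨x', hx', ?_⟩
    rw [← map_cj, ← map_cj] at hxe
    exact Subgroup.map_injective hf hxe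

theorem pronIn_iff_subgroupOf {K N : Subgroup G} (hKN : K ≤ N) :
    PronIn K N ↔ Cfsg.IsPronormal (K.subgroupOf N) := by
  rw [isPronormal_iff_of_injective N.subtype N.subtype_injective,
    Subgroup.map_subgroupOf_eq_of_le hKN]
  constructor
  · intro h n
    exact h n n.2
  · intro h g hg
    exact h ⟨g, hg⟩

theorem isPronormal_map_of_surjective {G' : Type*} [Group G'] (f : G →* G')
    (hf : Function.Surjective f) {K : Subgroup G} (h : Cfsg.IsPronormal K) :
    Cfsg.IsPronormal (K.map f) := by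
  rw [isPronormal_iff] at *
  intro g'
  obtain ⟨g, rfl⟩ := hf g'
  obtain ⟨x, hx, hxe⟩ := h g
  refine ⟨f x, ?_, ?_⟩
  · rw [← map_cj, ← Subgroup.map_sup]
    exact Subgroup.mem_map_of_mem f hx
  · rw [← map_cj, ← map_cj, hxe]

theorem isPronormal_of_map_of_ker_le {G' : Type*} [Group G'] (f : G →* G')
    {K : Subgroup G} (hker : f.ker ≤ K) (h : Cfsg.IsPronormal (K.map f)) :
    Cfsg.IsPronormal K := by
  rw [isPronormal_iff] at *
  intro g
  obtain ⟨x', hx', hxe⟩ := h (f g)
  rw [← map_cj, ← Subgroup.map_sup] at hx'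
  obtain ⟨x, hx, rfl⟩ := hx'
  refine ⟨x, hx, ?_⟩
  rw [← map_cj, ← map_cj] at hxe
  have hk : ∀ y, f.ker ≤ cj y K := fun y => by
    have h1 : cj y f.ker = f.ker := cj_normal y f.ker
    rw [← h1]
    exact cj_mono y hker
  rw [← Subgroup.comap_map_eq_self (hk g), hxe, Subgroup.comap_map_eq_self (hk x)]

theorem combine {H : Subgroup G} {g x w : G} (hx : x ∈ H ⊔ cj g H)
    (hw : w ∈ H ⊔ cj (x⁻¹ * g) H) (hwe : cj (x⁻¹ * g) H = cj w H) :
    ∃ v ∈ H ⊔ cj g H, cj g H = cj v H := by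
  have hle : H ⊔ cj (x⁻¹ * g) H ≤ H ⊔ cj g H := by
    refine sup_le le_sup_left ?_
    rw [cj_mul]
    exact cj_le_of_mem (inv_mem hx) le_sup_right
  refine ⟨x * w, mul_mem hx (hle hw), ?_⟩
  · rw [cj_mul, ← hwe, ← cj_mul, mul_inv_cancel_left]

/-- `g₁ = a * n` with `a ∈ A`, `n` normalizing `H`. -/
theorem cj_eq_of_decomp {H : Subgroup G} {a n : G} (hn : cj n H = H) : cj (a * n) H = cj a H := by
  rw [cj_mul, hn]

section sylow

variable [Finite G] {p : ℕ} [Fact p.Prime]

theorem sylowA_data {A T : Subgroup G}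
    (hT : ∃ P : Sylow p ↥A, (P : Subgroup ↥A).map A.subtype = T) :
    T ≤ A ∧ IsPGroup p T ∧ ¬ p ∣ T.relIndex A := by
  obtain ⟨P, rfl⟩ := hT
  refine ⟨Subgroup.map_subtype_le _, P.isPGroup'.map _, ?_⟩
  have h1 : ((P : Subgroup ↥A).map A.subtype).subgroupOf A = P :=
    Subgroup.comap_map_eq_self_of_injective A.subtype_injective _
  unfold Subgroup.relIndex
  rw [h1]
  exact P.not_dvd_index

theorem exists_sylow_inf {A T : Subgroup G}
    (hT : ∃ P : Sylow p ↥A, (P : Subgroup ↥A).map A.subtype = T) :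
    ∃ P₁ : Sylow p G, (P₁ : Subgroup G) ⊓ A = T := by
  obtain ⟨P, rfl⟩ := hT
  obtain ⟨P₁, hP₁⟩ := (P.isPGroup'.map A.subtype).exists_le_sylow
  refine ⟨P₁, ?_⟩
  have h1 : ((P₁ : Subgroup G).subgroupOf A) = P :=
    P.is_maximal' (P₁.isPGroup'.comap_subtype) (by
      intro x hx
      rw [Subgroup.mem_subgroupOf]
      exact hP₁ ⟨x, hx, rfl⟩)
  rw [← Subgroup.subgroupOf_map_subtype, h1]

theorem normalizer_le_normalizer_inf (P A : Subgroup G) [A.Normal] :
    Subgroup.normalizer (P : Set G) ≤ Subgroup.normalizer ((P ⊓ A : Subgroup G) : Set G) := by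
  intro g hg
  rw [mem_normalizer_iff_cj] at *
  rw [cj_inf, hg, cj_normal]

/-- Bridge A -/
theorem bridgeA {A T H : Subgroup G} [A.Normal]
    (hA : ∀ K : Subgroup ↥A, (∃ P : Sylow p ↥A, (P : Subgroup ↥A) ≤ K) → Cfsg.IsPronormal K)
    (hT : ∃ P : Sylow p ↥A, (P : Subgroup ↥A).map A.subtype = T) (hTH : T ≤ H) :
    PronIn (H ⊓ A) A := by
  rw [pronIn_iff_subgroupOf inf_le_right]
  apply hA
  obtain ⟨P, hP⟩ := hT
  refine ⟨P, ?_⟩
  intro x hx
  rw [Subgroup.mem_subgroupOf]
  have h1 : (x : G) ∈ T := by rw [← hP]; exact ⟨x, hx, rfl⟩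
  exact ⟨hTH h1, x.2⟩

/-- Bridge N -/
theorem bridgeN (T : Subgroup G) [(T.subgroupOf (Subgroup.normalizer (T : Set G))).Normal]
    (hNT : ∀ K : Subgroup (↥(Subgroup.normalizer (T : Set G)) ⧸
        T.subgroupOf (Subgroup.normalizer (T : Set G))),
      (∃ P : Sylow p (↥(Subgroup.normalizer (T : Set G)) ⧸
        T.subgroupOf (Subgroup.normalizer (T : Set G))),
        (P : Subgroup (↥(Subgroup.normalizer (T : Set G)) ⧸
          T.subgroupOf (Subgroup.normalizer (T : Set G)))) ≤ K) → Cfsg.IsPronormal K)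
    {H : Subgroup G} (hTH : T ≤ H) (P₁ : Sylow p G) (hP₁H : (P₁ : Subgroup G) ≤ H)
    (hP₁N : (P₁ : Subgroup G) ≤ Subgroup.normalizer (T : Set G)) :
    PronIn (H ⊓ Subgroup.normalizer (T : Set G)) (Subgroup.normalizer (T : Set G)) := by
  rw [pronIn_iff_subgroupOf inf_le_right]
  apply isPronormal_of_map_of_ker_le
    (QuotientGroup.mk' (T.subgroupOf (Subgroup.normalizer (T : Set G))))
  · rw [QuotientGroup.ker_mk']
    intro x hx
    rw [Subgroup.mem_subgroupOf] at *
    exact ⟨hTH hx, x.2⟩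
  · apply hNT
    refine ⟨(P₁.subtype hP₁N).mapSurjective (QuotientGroup.mk'_surjective _), ?_⟩
    rw [Sylow.coe_mapSurjective, Sylow.coe_subtype]
    apply Subgroup.map_mono
    intro x hx
    rw [Subgroup.mem_subgroupOf] at *
    exact ⟨hP₁H hx, x.2⟩

/-- forward direction for the `N_G(T)/T` condition -/
theorem fwdN (T : Subgroup G) [(T.subgroupOf (Subgroup.normalizer (T : Set G))).Normal]
    (hpT : IsPGroup p T) (P₁ : Sylow p G)
    (hP₁N : (P₁ : Subgroup G) ≤ Subgroup.normalizer (T : Set G))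
    (hG : ∀ K : Subgroup G, (∃ P : Sylow p G, (P : Subgroup G) ≤ K) → Cfsg.IsPronormal K) :
    ∀ K : Subgroup (↥(Subgroup.normalizer (T : Set G)) ⧸
        T.subgroupOf (Subgroup.normalizer (T : Set G))),
      (∃ P : Sylow p (↥(Subgroup.normalizer (T : Set G)) ⧸
        T.subgroupOf (Subgroup.normalizer (T : Set G))),
        (P : Subgroup (↥(Subgroup.normalizer (T : Set G)) ⧸
          T.subgroupOf (Subgroup.normalizer (T : Set G)))) ≤ K) → Cfsg.IsPronormal K := by
  rintro Kb ⟨Pb, hPb⟩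
  obtain ⟨N, hN⟩ : ∃ N : Subgroup G, N = Subgroup.normalizer (T : Set G) := ⟨_, rfl⟩
  have hsurj := QuotientGroup.mk'_surjective (T.subgroupOf (Subgroup.normalizer (T : Set G)))
  rw [← Subgroup.map_comap_eq_self_of_surjective hsurj Kb]
  apply isPronormal_map_of_surjective _ hsurj
  have hker : IsPGroup p (QuotientGroup.mk' (T.subgroupOf (Subgroup.normalizer (T : Set G)))).ker := by
    rw [QuotientGroup.ker_mk']
    exact hpT.comap_subtype
  obtain ⟨Q, hQ⟩ : ∃ Q : Sylow p ↥(Subgroup.normalizer (T : Set G)),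
      (Q : Subgroup ↥(Subgroup.normalizer (T : Set G))) = (Pb : Subgroup _).comap
        (QuotientGroup.mk' (T.subgroupOf (Subgroup.normalizer (T : Set G)))) :=
    ⟨Pb.comapOfKerIsPGroup _ hker (by
      rw [MonoidHom.range_eq_top.mpr hsurj]; exact le_top), rfl⟩
  have hidxN : ¬ p ∣ (Subgroup.normalizer (T : Set G)).index := fun h =>
    P₁.not_dvd_index (h.trans (Subgroup.index_dvd_of_le hP₁N))
  have hidx : ¬ p ∣ ((Q : Subgroup ↥(Subgroup.normalizer (T : Set G))).map
      (Subgroup.normalizer (T : Set G)).subtype).index := by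
    rw [Subgroup.index_map_subtype]
    exact Nat.Prime.not_dvd_mul Fact.out Q.not_dvd_index hidxN
  have hK : Cfsg.IsPronormal ((Kb.comap
      (QuotientGroup.mk' (T.subgroupOf (Subgroup.normalizer (T : Set G))))).map
      (Subgroup.normalizer (T : Set G)).subtype) := by
    apply hG
    refine ⟨(Q.isPGroup'.map _).toSylow hidx, ?_⟩
    rw [IsPGroup.toSylow_coe, hQ]
    exact Subgroup.map_mono (Subgroup.comap_mono hPb)
  have h2 : PronIn ((Kb.comap
      (QuotientGroup.mk' (T.subgroupOf (Subgroup.normalizer (T : Set G))))).map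
      (Subgroup.normalizer (T : Set G)).subtype) (Subgroup.normalizer (T : Set G)) :=
    fun g _ => hK g
  rw [pronIn_iff_subgroupOf (Subgroup.map_subtype_le _)] at h2
  have h3 : ((Kb.comap
      (QuotientGroup.mk' (T.subgroupOf (Subgroup.normalizer (T : Set G))))).map
      (Subgroup.normalizer (T : Set G)).subtype).subgroupOf (Subgroup.normalizer (T : Set G))
      = Kb.comap (QuotientGroup.mk' (T.subgroupOf (Subgroup.normalizer (T : Set G)))) :=
    Subgroup.comap_map_eq_self_of_injective (Subgroup.subtype_injective _) _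
  rwa [h3] at h2

end sylow

end Cfsg.Agent.Lib.Helper24.Pron
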