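import Mathlib
import Cfsg.Prelude
import Cfsg.Agent.Lib.Helper24.PronC

set_option autoImplicit false
set_option linter.style.haveILetI false
set_option linter.unusedSimpArgs false
set_option linter.unusedSectionVars false

namespace Cfsg.Agent.Lib.Helper24.Pron

variable {G : Type*} [Group G] [Finite G] {p : ℕ} [Fact p.Prime]

theorem sylow_le_normalizer {A T : Subgroup G} [A.Normal] (P₁ : Sylow p G)
    (hP₁ : (P₁ : Subgroup G) ⊓ A = T) :
    (P₁ : Subgroup G) ≤ Subgroup.normalizer (T : Set G) := by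
  have h1 := normalizer_le_normalizer_inf (P₁ : Subgroup G) A
  rw [hP₁] at h1
  exact Subgroup.le_normalizer.trans h1

/-- core: conjugation by elements of `A`. -/
theorem core (A : Subgroup G) [A.Normal]
    (hA : ∀ K : Subgroup ↥A, (∃ P : Sylow p ↥A, (P : Subgroup ↥A) ≤ K) → Cfsg.IsPronormal K)
    (T : Subgroup G) (hT : ∃ P : Sylow p ↥A, (P : Subgroup ↥A).map A.subtype = T)
    [(T.subgroupOf (Subgroup.normalizer (T : Set G))).Normal]
    (hNT : ∀ K : Subgroup (↥(Subgroup.normalizer (T : Set G)) ⧸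
        T.subgroupOf (Subgroup.normalizer (T : Set G))),
      (∃ P : Sylow p (↥(Subgroup.normalizer (T : Set G)) ⧸
        T.subgroupOf (Subgroup.normalizer (T : Set G))),
        (P : Subgroup (↥(Subgroup.normalizer (T : Set G)) ⧸
          T.subgroupOf (Subgroup.normalizer (T : Set G)))) ≤ K) → Cfsg.IsPronormal K)
    {H : Subgroup G} (P₁ : Sylow p G) (hP₁ : (P₁ : Subgroup G) ⊓ A = T)
    (hP₁H : (P₁ : Subgroup G) ≤ H) {a : G} (ha : a ∈ A) :
    ∃ w ∈ H ⊔ cj a H, cj a H = cj w H := by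
  obtain ⟨hTA, hpT, hidx⟩ := sylowA_data hT
  have hTH : T ≤ H := by
    rw [← hP₁]
    exact inf_le_left.trans hP₁H
  have hP₁N := sylow_le_normalizer P₁ hP₁
  exact key hTA hpT hidx hTH (bridgeA hA hT hTH) (bridgeN T hNT hTH P₁ hP₁H hP₁N) ha

/-- finishing step shared by the two criteria. -/
theorem finish (A : Subgroup G) [A.Normal]
    (hA : ∀ K : Subgroup ↥A, (∃ P : Sylow p ↥A, (P : Subgroup ↥A) ≤ K) → Cfsg.IsPronormal K)
    (T : Subgroup G) (hT : ∃ P : Sylow p ↥A, (P : Subgroup ↥A).map A.subtype = T)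
    [(T.subgroupOf (Subgroup.normalizer (T : Set G))).Normal]
    (hNT : ∀ K : Subgroup (↥(Subgroup.normalizer (T : Set G)) ⧸
        T.subgroupOf (Subgroup.normalizer (T : Set G))),
      (∃ P : Sylow p (↥(Subgroup.normalizer (T : Set G)) ⧸
        T.subgroupOf (Subgroup.normalizer (T : Set G))),
        (P : Subgroup (↥(Subgroup.normalizer (T : Set G)) ⧸
          T.subgroupOf (Subgroup.normalizer (T : Set G)))) ≤ K) → Cfsg.IsPronormal K)
    {H : Subgroup G} (P₁ : Sylow p G) (hP₁ : (P₁ : Subgroup G) ⊓ A = T)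
    (hP₁H : (P₁ : Subgroup G) ≤ H) {g x n : G} (hxL : x ∈ H ⊔ cj g H) (hn : cj n H = H)
    (hmk : QuotientGroup.mk' A n = QuotientGroup.mk' A (x⁻¹ * g)) :
    ∃ v ∈ H ⊔ cj g H, cj g H = cj v H := by
  have haA : (x⁻¹ * g) * n⁻¹ ∈ A := by
    rw [← QuotientGroup.eq_one_iff, ← QuotientGroup.mk'_apply, map_mul, map_inv, hmk,
      mul_inv_cancel]
  obtain ⟨w, hw, hwe⟩ := core A hA T hT hNT P₁ hP₁ hP₁H haA
  have hdec : cj (x⁻¹ * g) H = cj ((x⁻¹ * g) * n⁻¹) H := by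
    have h1 : x⁻¹ * g = ((x⁻¹ * g) * n⁻¹) * n := by group
    conv_lhs => rw [h1]
    rw [cj_mul, hn]
  rw [← hdec] at hw hwe
  exact combine hxL hw hwe

theorem wlog_sylow {A T : Subgroup G}
    (hT : ∃ P : Sylow p ↥A, (P : Subgroup ↥A).map A.subtype = T)
    (hmain : ∀ (H : Subgroup G) (P₁ : Sylow p G), (P₁ : Subgroup G) ⊓ A = T →
      (P₁ : Subgroup G) ≤ H → Cfsg.IsPronormal H) :
    ∀ K : Subgroup G, (∃ P : Sylow p G, (P : Subgroup G) ≤ K) → Cfsg.IsPronormal K := by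
  rintro K ⟨P₀, hP₀⟩
  obtain ⟨P₁, hP₁⟩ := exists_sylow_inf hT
  obtain ⟨g₀, hg₀⟩ := MulAction.exists_smul_eq G P₀ P₁
  have h1 : Cfsg.IsPronormal (cj g₀ K) := hmain _ P₁ hP₁ (by
    rw [← hg₀, sylow_smul_coe]
    exact cj_mono g₀ hP₀)
  have h2 := isPronormal_cj g₀⁻¹ h1
  rwa [cj_inv_cj] at h2

/-- `⇐` of S4271 -/
theorem main71 (A : Subgroup G) [A.Normal]
    (hA : ∀ K : Subgroup ↥A, (∃ P : Sylow p ↥A, (P : Subgroup ↥A) ≤ K) → Cfsg.IsPronormal K)
    (hQ : ∀ P : Sylow p (G ⧸ A), Subgroup.normalizer ((P : Subgroup (G ⧸ A)) : Set (G ⧸ A)) = P)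
    (T : Subgroup G) (hT : ∃ P : Sylow p ↥A, (P : Subgroup ↥A).map A.subtype = T)
    [(T.subgroupOf (Subgroup.normalizer (T : Set G))).Normal]
    (hNT : ∀ K : Subgroup (↥(Subgroup.normalizer (T : Set G)) ⧸
        T.subgroupOf (Subgroup.normalizer (T : Set G))),
      (∃ P : Sylow p (↥(Subgroup.normalizer (T : Set G)) ⧸
        T.subgroupOf (Subgroup.normalizer (T : Set G))),
        (P : Subgroup (↥(Subgroup.normalizer (T : Set G)) ⧸
          T.subgroupOf (Subgroup.normalizer (T : Set G)))) ≤ K) → Cfsg.IsPronormal K) :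
    ∀ K : Subgroup G, (∃ P : Sylow p G, (P : Subgroup G) ≤ K) → Cfsg.IsPronormal K := by
  apply wlog_sylow hT
  intro H P₁ hP₁ hP₁H
  rw [isPronormal_iff]
  intro g
  obtain ⟨x, hx, hxe⟩ := sylow_pron P₁ g
  have hxL : x ∈ H ⊔ cj g H := (sup_le_sup hP₁H (cj_mono g hP₁H)) hx
  have hg₁ : cj (x⁻¹ * g) (P₁ : Subgroup G) = P₁ := by rw [cj_mul, hxe, cj_inv_cj]
  have h1 : QuotientGroup.mk' A (x⁻¹ * g) ∈ Subgroup.normalizer
      (((P₁.mapSurjective (QuotientGroup.mk'_surjective A) : Sylow p (G ⧸ A)) :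
        Subgroup (G ⧸ A)) : Set (G ⧸ A)) := by
    rw [mem_normalizer_iff_cj, Sylow.coe_mapSurjective, ← map_cj, hg₁]
  rw [hQ, Sylow.coe_mapSurjective] at h1
  obtain ⟨s, hs, hse⟩ := h1
  exact finish A hA T hT hNT P₁ hP₁ hP₁H hxL (cj_of_mem (hP₁H hs)) hse

/-- `⇐` of S4270 -/
theorem main70 (A : Subgroup G) [A.Normal]
    (hA : ∀ K : Subgroup ↥A, (∃ P : Sylow p ↥A, (P : Subgroup ↥A) ≤ K) → Cfsg.IsPronormal K)
    (hQ : ∀ K : Subgroup (G ⧸ A), (∃ P : Sylow p (G ⧸ A), (P : Subgroup (G ⧸ A)) ≤ K) →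
      Cfsg.IsPronormal K)
    (T : Subgroup G) (hT : ∃ P : Sylow p ↥A, (P : Subgroup ↥A).map A.subtype = T)
    [(T.subgroupOf (Subgroup.normalizer (T : Set G))).Normal]
    (hNT : ∀ K : Subgroup (↥(Subgroup.normalizer (T : Set G)) ⧸
        T.subgroupOf (Subgroup.normalizer (T : Set G))),
      (∃ P : Sylow p (↥(Subgroup.normalizer (T : Set G)) ⧸
        T.subgroupOf (Subgroup.normalizer (T : Set G))),
        (P : Subgroup (↥(Subgroup.normalizer (T : Set G)) ⧸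
          T.subgroupOf (Subgroup.normalizer (T : Set G)))) ≤ K) → Cfsg.IsPronormal K)
    (hii : ∀ K : Subgroup G, (∃ P : Sylow p G, (P : Subgroup G) ≤ K) →
      (Subgroup.normalizer (K : Set G)).map (QuotientGroup.mk' A) =
        Subgroup.normalizer ((K.map (QuotientGroup.mk' A) : Subgroup (G ⧸ A)) : Set (G ⧸ A))) :
    ∀ K : Subgroup G, (∃ P : Sylow p G, (P : Subgroup G) ≤ K) → Cfsg.IsPronormal K := by
  apply wlog_sylow hT
  intro H P₁ hP₁ hP₁H
  rw [isPronormal_iff]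
  intro g
  have hHb : Cfsg.IsPronormal (H.map (QuotientGroup.mk' A)) :=
    hQ _ ⟨P₁.mapSurjective (QuotientGroup.mk'_surjective A), by
      rw [Sylow.coe_mapSurjective]
      exact Subgroup.map_mono hP₁H⟩
  rw [isPronormal_iff] at hHb
  obtain ⟨xb, hxb, hxbe⟩ := hHb (QuotientGroup.mk' A g)
  rw [← map_cj, ← Subgroup.map_sup] at hxb
  obtain ⟨x, hxL, rfl⟩ := hxb
  have h1 : QuotientGroup.mk' A (x⁻¹ * g) ∈ Subgroup.normalizer
      ((H.map (QuotientGroup.mk' A) : Subgroup (G ⧸ A)) : Set (G ⧸ A)) := by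
    rw [mem_normalizer_iff_cj, map_mul, map_inv, cj_mul, hxbe, cj_inv_cj]
  rw [← hii H ⟨P₁, hP₁H⟩] at h1
  obtain ⟨n, hn, hne⟩ := h1
  exact finish A hA T hT hNT P₁ hP₁ hP₁H hxL (mem_normalizer_iff_cj.mp hn) hne

/-- `⇒ (ii)` of S4270 -/
theorem fwd_ii (A : Subgroup G) [A.Normal] {K : Subgroup G} (hK : Cfsg.IsPronormal K) :
    (Subgroup.normalizer (K : Set G)).map (QuotientGroup.mk' A) =
      Subgroup.normalizer ((K.map (QuotientGroup.mk' A) : Subgroup (G ⧸ A)) : Set (G ⧸ A)) := by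
  rw [isPronormal_iff] at hK
  apply le_antisymm
  · rintro _ ⟨n, hn, rfl⟩
    rw [mem_normalizer_iff_cj, ← map_cj, mem_normalizer_iff_cj.mp hn]
  · intro gb hgb
    obtain ⟨g, rfl⟩ := QuotientGroup.mk'_surjective A gb
    rw [mem_normalizer_iff_cj] at hgb
    obtain ⟨x, hx, hxe⟩ := hK g
    have h1 : QuotientGroup.mk' A x ∈ K.map (QuotientGroup.mk' A) := by
      have h2 : QuotientGroup.mk' A x ∈ (K ⊔ cj g K).map (QuotientGroup.mk' A) :=
        Subgroup.mem_map_of_mem _ hx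
      rwa [Subgroup.map_sup, map_cj, hgb, sup_idem] at h2
    obtain ⟨k, hk, hke⟩ := h1
    refine ⟨k * (x⁻¹ * g), ?_, ?_⟩
    · apply mul_mem (Subgroup.le_normalizer hk)
      rw [mem_normalizer_iff_cj, cj_mul, hxe, cj_inv_cj]
    · rw [map_mul, hke, ← map_mul, mul_inv_cancel_left]

end Cfsg.Agent.Lib.Helper24.Pron
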