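import Mathlib

set_option autoImplicit false

namespace Cfsg.Agent.Lib.Helper24

/-- a rank-one matrix is an outer product -/
theorem rank_one_eq_vecMulVec {F : Type*} [Field F] {m : ℕ} (M : Matrix (Fin m) (Fin m) F)
    (h : M.rank = 1) : ∃ a b : Fin m → F, M = Matrix.vecMulVec a b := by
  classical
  have h1 : Module.finrank F (LinearMap.range M.mulVecLin) = 1 := h
  obtain ⟨⟨a, ha⟩, _, hspan⟩ := finrank_eq_one_iff'.mp h1
  have hcol : ∀ j : Fin m, ∃ c : F, c • a = M.mulVecLin (Pi.single j 1) := by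
    intro j
    obtain ⟨c, hc⟩ := hspan ⟨M.mulVecLin (Pi.single j 1), LinearMap.mem_range_self _ _⟩
    exact ⟨c, congrArg Subtype.val hc⟩
  choose b hb using hcol
  refine ⟨a, b, ?_⟩
  ext i j
  have := congrFun (hb j) i
  rw [Matrix.mulVecLin_apply, Matrix.mulVec_single_one] at this
  rw [Matrix.vecMulVec_apply]
  simp only [Pi.smul_apply, smul_eq_mul] at this
  rw [mul_comm]
  exact this.symm

end Cfsg.Agent.Lib.Helper24
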