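import Mathlib
import Cfsg.Agent.Lib.Helper24.SLGen

/-!
# Steinberg's two generators of `SL_{n+1}(K)`, `|K| > 3`

`exists_sq_add_sq`: every element of a finite field is a sum of two squares.
`addSubgroup_eq_top`: an additive subgroup stable under `k²` (k a generator of `Kˣ`) with a nonzero
element is everything.  `main2`: `closure {h, x * w} = ⊤` for `h = diag(k, k⁻¹, 1, …)`.
-/

set_option autoImplicit false
set_option linter.style.haveILetI false

namespace Cfsg.Agent.Lib.Helper24
namespace SLGen
open Matrix Matrix.SpecialLinearGroup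

variable {F : Type*} [Field F]

theorem exists_sq_add_sq [Fintype F] (x : F) : ∃ a b : F, a ^ 2 + b ^ 2 = x := by
  classical
  by_cases h2 : ringChar F = 2
  · obtain ⟨a, ha⟩ := FiniteField.isSquare_of_char_two h2 x
    exact ⟨a, 0, by rw [ha]; ring⟩
  · have hodd : Fintype.card F % 2 = 1 := FiniteField.odd_card_of_char_ne_two h2
    let f : Polynomial F := Polynomial.X ^ 2
    let g : Polynomial F := Polynomial.X ^ 2 - Polynomial.C x
    obtain ⟨a, b, hab⟩ : ∃ a b, f.eval a + g.eval b = 0 :=
      FiniteField.exists_root_sum_quadratic (Polynomial.degree_X_pow 2)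
        (Polynomial.degree_X_pow_sub_C (by decide) _) hodd
    refine ⟨a, b, ?_⟩
    rw [← sub_eq_zero]
    simpa only [f, g, Polynomial.eval_C, Polynomial.eval_X, Polynomial.eval_pow, Polynomial.eval_sub,
      ← add_sub_assoc] using hab

/-- an additive subgroup of a finite field stable under multiplication by `k²`, `k` a generator of
the multiplicative group, and containing a nonzero element, is everything -/
theorem addSubgroup_eq_top [Fintype F] (k : Fˣ) (hk : ∀ u : Fˣ, u ∈ Subgroup.zpowers k)
    (A : AddSubgroup F) (hA : ∀ t ∈ A, (k : F) ^ 2 * t ∈ A) {t₀ : F} (ht₀ : t₀ ∈ A) (h0 : t₀ ≠ 0) :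
    A = ⊤ := by
  classical
  have hpow : ∀ m : ℕ, ∀ t ∈ A, ((k : F) ^ 2) ^ m * t ∈ A := by
    intro m
    induction m with
    | zero => intro t ht; simpa using ht
    | succ m ih =>
      intro t ht
      rw [pow_succ, mul_assoc]
      exact ih _ (hA t ht)
  have hsq : ∀ u : F, ∀ t ∈ A, u ^ 2 * t ∈ A := by
    intro u t ht
    by_cases hu : u = 0
    · subst hu; simp
    · have hmem := hk (Units.mk0 u hu)
      rw [← mem_powers_iff_mem_zpowers] at hmem
      obtain ⟨m, hm⟩ := hmem
      have hu' : u = (k : F) ^ m := by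
        have := congrArg (fun v : Fˣ => (v : F)) hm
        simpa using this.symm
      rw [hu', ← pow_mul, mul_comm m 2, pow_mul]
      exact hpow m t ht
  have hall : ∀ b : F, ∀ t ∈ A, b * t ∈ A := by
    intro b t ht
    obtain ⟨u, v, huv⟩ := exists_sq_add_sq b
    rw [← huv, add_mul]
    exact A.add_mem (hsq u t ht) (hsq v t ht)
  rw [eq_top_iff]
  intro b _
  have := hall (b * t₀⁻¹) t₀ ht₀
  rwa [mul_assoc, inv_mul_cancel₀ h0, mul_one] at this

variable (n : ℕ)

theorem diagonal_mul_transvection (d : Fin (n + 1) → F) (i j : Fin (n + 1)) (a b : F)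
    (hab : d i * a = b * d j) :
    Matrix.diagonal d * Matrix.transvection i j a =
      Matrix.transvection i j b * Matrix.diagonal d := by
  unfold Matrix.transvection
  rw [mul_add, add_mul, mul_one, one_mul]
  congr 1
  ext k l
  rw [Matrix.diagonal_mul, Matrix.mul_diagonal, Matrix.single_apply, Matrix.single_apply]
  by_cases h : i = k ∧ j = l
  · obtain ⟨rfl, rfl⟩ := h
    simpa using hab
  · rw [if_neg h, if_neg h]; simp

theorem matrix_mul_right_cancel {m : Type*} [Fintype m] [DecidableEq m] {A B C Cinv : Matrix m m F}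
    (hC : C * Cinv = 1) (h : A * C = B * C) : A = B := by
  have := congrArg (fun M => M * Cinv) h
  simpa [Matrix.mul_assoc, hC] using this

theorem wMat_mul_diagonal (d : Fin (n + 1) → F) :
    wMat n * Matrix.diagonal d = Matrix.diagonal (fun i => d (i + 1)) * wMat n := by
  ext k l
  rw [Matrix.mul_diagonal, Matrix.diagonal_mul, wMat_apply]
  by_cases h : l = k + 1
  · subst h; rw [if_pos rfl]; ring
  · rw [if_neg h]; ring


section main2
variable {n}

/-- the diagonal entries of `h` -/
def dvec (k : Fˣ) : Fin (n + 1) → F :=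
  fun i => if i.val = 0 then (k : F) else if i.val = 1 then ((k⁻¹ : Fˣ) : F) else 1

theorem dvec_zero (k : Fˣ) : dvec (n := n) k 0 = (k : F) := by simp [dvec]

theorem dvec_one (hn : 1 ≤ n) (k : Fˣ) : dvec (n := n) k 1 = ((k⁻¹ : Fˣ) : F) := by
  have h1 : (1 : Fin (n + 1)).val = 1 := by
    rw [Fin.val_one']; exact Nat.mod_eq_of_lt (by omega)
  unfold dvec
  rw [if_neg (by rw [h1]; norm_num), if_pos h1]

theorem dvec_one_add_one (hn : 1 ≤ n) (k : Fˣ) :
    dvec (n := n) k (1 + 1) = (k : F) ∨ dvec (n := n) k (1 + 1) = 1 := by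
  rcases Nat.lt_or_ge n 2 with h | h
  · have : n = 1 := by omega
    subst this
    left
    have : (1 + 1 : Fin 2) = 0 := by decide
    rw [this, dvec_zero]
  · right
    have h1 : (1 : Fin (n + 1)).val = 1 := by
      rw [Fin.val_one']; exact Nat.mod_eq_of_lt (by omega)
    have h2 : (1 + 1 : Fin (n + 1)).val = 2 := by
      rw [Fin.val_add, h1]; exact Nat.mod_eq_of_lt (by omega)
    simp [dvec, h2]

theorem main2 [Fintype F] (hF : 3 < Fintype.card F) (hn : 1 ≤ n) (k : Fˣ)
    (hk : ∀ u : Fˣ, u ∈ Subgroup.zpowers k)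
    (h x w : Matrix.SpecialLinearGroup (Fin (n + 1)) F)
    (hh : (h : Matrix (Fin (n + 1)) (Fin (n + 1)) F) = Matrix.diagonal (dvec k))
    (hx : (x : Matrix (Fin (n + 1)) (Fin (n + 1)) F) =
      Matrix.transvection (0 : Fin (n + 1)) (1 : Fin (n + 1)) 1)
    (hw : (w : Matrix (Fin (n + 1)) (Fin (n + 1)) F) = wMat n) :
    Subgroup.closure ({h, x * w} : Set (Matrix.SpecialLinearGroup (Fin (n + 1)) F)) = ⊤ := by
  classical
  haveI : Nontrivial (Fin (n + 1)) := Fin.nontrivial_iff_two_le.mpr (by omega)
  set H := Subgroup.closure ({h, x * w} : Set (Matrix.SpecialLinearGroup (Fin (n + 1)) F)) with hH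
  have hhH : h ∈ H := Subgroup.subset_closure (by simp)
  have hgH : x * w ∈ H := Subgroup.subset_closure (by simp)
  have h01 : (0 : Fin (n + 1)) ≠ 1 := by
    intro e
    have := congrArg Fin.val e
    rw [Fin.val_one', Nat.mod_eq_of_lt (by omega)] at this
    simp at this
  -- facts about k
  have hk0 : (k : F) ≠ 0 := k.ne_zero
  have hord : orderOf k = Fintype.card F - 1 := by
    rw [orderOf_eq_card_of_forall_mem_zpowers hk, Nat.card_eq_fintype_card, Fintype.card_units]
  have hk2 : (k : F) ^ 2 ≠ 1 := by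
    intro e
    have : k ^ 2 = 1 := Units.ext (by simpa using e)
    have := orderOf_dvd_of_pow_eq_one this
    rw [hord] at this
    have := Nat.le_of_dvd (by norm_num) this
    omega
  have hk1 : (k : F) ≠ 1 := by
    intro e; apply hk2; rw [e]; ring
  -- the data
  set D : Fin (n + 1) → F := dvec k with hD
  set D' : Fin (n + 1) → F := fun i => D (i + 1) with hD'
  have hD0 : D 0 = (k : F) := dvec_zero k
  have hD1 : D 1 = (k : F)⁻¹ := by rw [hD, dvec_one hn k]; simp
  have hD'0 : D' 0 = (k : F)⁻¹ := by simp only [hD', zero_add]; exact hD1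
  set m : F := D' 1 with hm
  have hm_cases : m = (k : F) ∨ m = 1 := dvec_one_add_one hn k
  have hm0 : m ≠ 0 := by rcases hm_cases with e | e <;> rw [e]; exact hk0; exact one_ne_zero
  set c' : F := (k : F) * m - 1 with hc'
  have hc'0 : c' ≠ 0 := by
    rcases hm_cases with e | e
    · rw [hc', e, ← pow_two]; exact sub_ne_zero.mpr hk2
    · rw [hc', e, mul_one]; exact sub_ne_zero.mpr hk1
  set t₀ : F := (k : F)⁻¹ * (((k : F) ^ 2 - 1) * c' / m) with ht₀
  have ht₀0 : t₀ ≠ 0 := by
    rw [ht₀]
    exact mul_ne_zero (inv_ne_zero hk0) (div_ne_zero (mul_ne_zero (sub_ne_zero.mpr hk2) hc'0) hm0)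
  -- matrices
  set X : Matrix (Fin (n + 1)) (Fin (n + 1)) F := Matrix.transvection 0 1 1 with hX
  set W : Matrix (Fin (n + 1)) (Fin (n + 1)) F := wMat n with hW
  set Y : Matrix (Fin (n + 1)) (Fin (n + 1)) F := Matrix.diagonal D' * Matrix.transvection 0 1 c' with hY
  -- (I1)
  have hm' : D' 1 = m := rfl
  have hXD : X * Matrix.diagonal D' = Matrix.diagonal D' * Matrix.transvection 0 1 (c' + 1) := by
    rw [hX]
    refine (diagonal_mul_transvection n D' 0 1 (c' + 1) 1 ?_).symm
    rw [hD'0, hm', hc', sub_add_cancel, one_mul, ← mul_assoc, inv_mul_cancel₀ hk0, one_mul]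
  have I1 : Y * (X * W) = (X * W) * Matrix.diagonal D := by
    calc Y * (X * W) = Matrix.diagonal D' * (Matrix.transvection 0 1 c' * X) * W := by
          rw [hY]; simp only [Matrix.mul_assoc]
      _ = Matrix.diagonal D' * Matrix.transvection 0 1 (c' + 1) * W := by
          rw [hX, Matrix.transvection_mul_transvection_same _ _ h01, Matrix.mul_assoc]
      _ = X * Matrix.diagonal D' * W := by rw [hXD]
      _ = X * (W * Matrix.diagonal D) := by rw [hW, wMat_mul_diagonal, Matrix.mul_assoc]
      _ = (X * W) * Matrix.diagonal D := by rw [Matrix.mul_assoc]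
  -- y = g h g⁻¹
  set g := x * w with hg
  set y := g * h * g⁻¹ with hy
  have hyH : y ∈ H := mul_mem (mul_mem hgH hhH) (inv_mem hgH)
  have hgval : (g : Matrix (Fin (n + 1)) (Fin (n + 1)) F) = X * W := by
    rw [hg, Matrix.SpecialLinearGroup.coe_mul, hx, hw]
  have hyval : (y : Matrix (Fin (n + 1)) (Fin (n + 1)) F) = Y := by
    have e1 : y * g = g * h := by rw [hy]; group
    have e2 : (y : Matrix (Fin (n + 1)) (Fin (n + 1)) F) * (g : Matrix (Fin (n + 1)) (Fin (n + 1)) F)
        = (g : Matrix (Fin (n + 1)) (Fin (n + 1)) F) * (h : Matrix (Fin (n + 1)) (Fin (n + 1)) F) := by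
      rw [← Matrix.SpecialLinearGroup.coe_mul, ← Matrix.SpecialLinearGroup.coe_mul, e1]
    have hginv : (g : Matrix (Fin (n + 1)) (Fin (n + 1)) F) *
        ((g⁻¹ : Matrix.SpecialLinearGroup (Fin (n + 1)) F) :
        Matrix (Fin (n + 1)) (Fin (n + 1)) F) = 1 := by
      rw [← Matrix.SpecialLinearGroup.coe_mul, mul_inv_cancel, Matrix.SpecialLinearGroup.coe_one]
    apply matrix_mul_right_cancel hginv
    rw [e2, hgval, hh, I1]
  clear_value y
  -- (I2)
  have hDt : Matrix.diagonal D * Matrix.transvection 0 1 c' =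
      Matrix.transvection 0 1 ((k : F) ^ 2 * c') * Matrix.diagonal D := by
    refine diagonal_mul_transvection n D 0 1 c' _ ?_
    rw [hD0, hD1]; field_simp
  have hD't : Matrix.transvection 0 1 t₀ * Matrix.diagonal D' =
      Matrix.diagonal D' * Matrix.transvection 0 1 (((k : F) ^ 2 - 1) * c') := by
    refine (diagonal_mul_transvection n D' 0 1 _ t₀ ?_).symm
    rw [hD'0, hm', ht₀]; field_simp
  have hDD : Matrix.diagonal D' * Matrix.diagonal D = Matrix.diagonal D * Matrix.diagonal D' := by
    rw [Matrix.diagonal_mul_diagonal, Matrix.diagonal_mul_diagonal]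
    congr 1; funext i; ring
  have I2 : Matrix.transvection 0 1 t₀ * (Y * Matrix.diagonal D) = Matrix.diagonal D * Y := by
    calc Matrix.transvection 0 1 t₀ * (Y * Matrix.diagonal D)
        = (Matrix.transvection 0 1 t₀ * Matrix.diagonal D') * Matrix.transvection 0 1 c' *
            Matrix.diagonal D := by rw [hY]; simp only [Matrix.mul_assoc]
      _ = Matrix.diagonal D' * (Matrix.transvection 0 1 (((k : F) ^ 2 - 1) * c') *
            Matrix.transvection 0 1 c') * Matrix.diagonal D := by
          rw [hD't]; simp only [Matrix.mul_assoc]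
      _ = Matrix.diagonal D' * (Matrix.transvection 0 1 ((k : F) ^ 2 * c') * Matrix.diagonal D) := by
          rw [Matrix.transvection_mul_transvection_same _ _ h01, Matrix.mul_assoc]
          congr 3; ring
      _ = Matrix.diagonal D' * (Matrix.diagonal D * Matrix.transvection 0 1 c') := by rw [hDt]
      _ = (Matrix.diagonal D * Matrix.diagonal D') * Matrix.transvection 0 1 c' := by
          rw [← Matrix.mul_assoc, hDD]
      _ = Matrix.diagonal D * Y := by rw [hY, Matrix.mul_assoc]
  -- the commutator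
  set c := h * y * h⁻¹ * y⁻¹ with hc
  have hcH : c ∈ H := mul_mem (mul_mem (mul_mem hhH hyH) (inv_mem hhH)) (inv_mem hyH)
  have hcval : (c : Matrix (Fin (n + 1)) (Fin (n + 1)) F) = Matrix.transvection 0 1 t₀ := by
    have e1 : c * (y * h) = h * y := by rw [hc]; group
    have e2 : (c : Matrix (Fin (n + 1)) (Fin (n + 1)) F) *
        ((y * h : Matrix.SpecialLinearGroup (Fin (n + 1)) F) : Matrix (Fin (n + 1)) (Fin (n + 1)) F)
        = (h : Matrix (Fin (n + 1)) (Fin (n + 1)) F) * (y : Matrix (Fin (n + 1)) (Fin (n + 1)) F) := by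
      rw [← Matrix.SpecialLinearGroup.coe_mul, ← Matrix.SpecialLinearGroup.coe_mul, e1]
    have hyhinv : ((y * h : Matrix.SpecialLinearGroup (Fin (n + 1)) F) :
        Matrix (Fin (n + 1)) (Fin (n + 1)) F) *
        (((y * h)⁻¹ : Matrix.SpecialLinearGroup (Fin (n + 1)) F) :
        Matrix (Fin (n + 1)) (Fin (n + 1)) F) = 1 := by
      rw [← Matrix.SpecialLinearGroup.coe_mul, mul_inv_cancel, Matrix.SpecialLinearGroup.coe_one]
    apply matrix_mul_right_cancel hyhinv
    rw [e2, Matrix.SpecialLinearGroup.coe_mul, hyval, hh, I2]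
  have ht₀H : SpecialLinearGroup.transvection h01 t₀ ∈ H := by
    have : SpecialLinearGroup.transvection h01 t₀ = c := Subtype.ext hcval.symm
    rw [this]; exact hcH
  -- the additive subgroup
  let A : AddSubgroup F :=
    { carrier := {t | SpecialLinearGroup.transvection h01 t ∈ H}
      zero_mem' := by
        show SpecialLinearGroup.transvection h01 (0 : F) ∈ H
        rw [SpecialLinearGroup.transvection_coeff_zero]; exact one_mem _
      add_mem' := by
        intro a b ha hb
        show SpecialLinearGroup.transvection h01 (a + b) ∈ H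
        rw [SpecialLinearGroup.transvection_add]; exact mul_mem ha hb
      neg_mem' := by
        intro a ha
        show SpecialLinearGroup.transvection h01 (-a) ∈ H
        rw [← SpecialLinearGroup.transvection_inv]; exact inv_mem ha }
  have hAk : ∀ t ∈ A, (k : F) ^ 2 * t ∈ A := by
    intro t ht
    show SpecialLinearGroup.transvection h01 ((k : F) ^ 2 * t) ∈ H
    have key : h * SpecialLinearGroup.transvection h01 t =
        SpecialLinearGroup.transvection h01 ((k : F) ^ 2 * t) * h := by
      apply Subtype.ext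
      show (h : Matrix (Fin (n + 1)) (Fin (n + 1)) F) * Matrix.transvection 0 1 t =
        Matrix.transvection 0 1 ((k : F) ^ 2 * t) * (h : Matrix (Fin (n + 1)) (Fin (n + 1)) F)
      rw [hh]
      refine diagonal_mul_transvection n D 0 1 t _ ?_
      rw [hD0, hD1]; field_simp
    have : SpecialLinearGroup.transvection h01 ((k : F) ^ 2 * t) =
        h * SpecialLinearGroup.transvection h01 t * h⁻¹ := by
      rw [key, mul_inv_cancel_right]
    rw [this]
    exact mul_mem (mul_mem hhH ht) (inv_mem hhH)
  have hAtop : A = ⊤ := addSubgroup_eq_top k hk A hAk (t₀ := t₀) ht₀H ht₀0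
  have hT01 : T H (0 : Fin (n + 1)) 1 := by
    intro hij a
    have : a ∈ A := by rw [hAtop]; trivial
    exact this
  have hxH : x ∈ H := by
    have hx' : x = SpecialLinearGroup.transvection h01 1 := Subtype.ext hx
    rw [hx']; exact hT01 h01 1
  have hwH : w ∈ H := by
    have : w = x⁻¹ * g := by rw [hg]; group
    rw [this]; exact mul_mem (inv_mem hxH) hgH
  apply eq_top_of_transvections
  intro i j hij a
  exact T_all hw hwH hT01 i j hij a

end main2

end SLGen
end Cfsg.Agent.Lib.Helper24
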