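import Mathlib
import Cfsg.Prelude.Def_Classical
import Cfsg.Prelude.Def_ClassicalGeometry
import Cfsg.Agent.Lib.Helper24.IsometryTransfer

/-!
# `SO₃(3) ≅ S₄`

`S₄` acts on the sum-zero subspace of `𝔽₃⁴` preserving `∑ xᵢ²`; twisted by the sign this gives an explicit
isomorphism onto the special isometry group of `x₀² + x₁ y₁` over `ZMod 3`, all finite facts checked by the
kernel. `specialIsometryEquiv` transports along a field isomorphism.
-/

set_option autoImplicit false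
set_option linter.style.haveILetI false

namespace Cfsg.Agent.Lib.Helper24
open Matrix

section transfer

variable {ι : Type} [Fintype ι] [DecidableEq ι] {F : Type*} [Field F] {K : Type*} [Field K]

theorem mem_specialIsometryGroup_iff (Q : (ι → F) → F) (g : ↥(Cfsg.isometryGroup F Q)) :
    g ∈ Cfsg.specialIsometryGroup F Q ↔ Matrix.GeneralLinearGroup.det g.1 = 1 := by
  unfold Cfsg.specialIsometryGroup
  rw [MonoidHom.mem_ker]
  rfl

theorem mem_special_iff_map (φ : F ≃+* K) {QF : (ι → F) → F} {QK : (ι → K) → K}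
    (hQ : ∀ w : ι → F, QK (φ ∘ w) = φ (QF w)) (g : ↥(Cfsg.isometryGroup F QF)) :
    g ∈ Cfsg.specialIsometryGroup F QF ↔
      isometryEquiv φ hQ g ∈ Cfsg.specialIsometryGroup K QK := by
  rw [mem_specialIsometryGroup_iff, mem_specialIsometryGroup_iff]
  have h1 : Matrix.GeneralLinearGroup.det (isometryEquiv φ hQ g).1 =
      Units.map (φ : F →+* K) (Matrix.GeneralLinearGroup.det g.1) :=
    Matrix.GeneralLinearGroup.map_det (φ : F →+* K) g.1
  rw [h1]
  constructor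
  · intro h; rw [h, map_one]
  · intro h
    have hinj : Function.Injective (Units.map ((φ : F →+* K) : F →* K)) :=
      Units.map_injective φ.injective
    apply hinj
    rw [map_one]; exact h

/-- transfer of special isometry groups along a field isomorphism. -/
def specialIsometryEquiv (φ : F ≃+* K) {QF : (ι → F) → F} {QK : (ι → K) → K}
    (hQ : ∀ w : ι → F, QK (φ ∘ w) = φ (QF w)) :
    ↥(Cfsg.specialIsometryGroup F QF) ≃* ↥(Cfsg.specialIsometryGroup K QK) where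
  toFun g := ⟨isometryEquiv φ hQ g.1, (mem_special_iff_map φ hQ g.1).1 g.2⟩
  invFun g := ⟨(isometryEquiv φ hQ).symm g.1, (mem_special_iff_map φ hQ _).2 (by
    rw [MulEquiv.apply_symm_apply]; exact g.2)⟩
  left_inv g := by
    apply Subtype.ext
    exact (isometryEquiv φ hQ).symm_apply_apply g.1
  right_inv g := by
    apply Subtype.ext
    exact (isometryEquiv φ hQ).apply_symm_apply g.1
  map_mul' g h := by
    apply Subtype.ext
    exact map_mul (isometryEquiv φ hQ) g.1 h.1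

theorem quadFormOdd_map (m : ℕ) (φ : F ≃+* K) (w : Unit ⊕ (Fin m ⊕ Fin m) → F) :
    Cfsg.quadFormOdd m K (φ ∘ w) = φ (Cfsg.quadFormOdd m F w) := by
  unfold Cfsg.quadFormOdd
  simp [map_sum, map_mul]

end transfer

namespace SO33

abbrev I3 : Type := Unit ⊕ (Fin 1 ⊕ Fin 1)

def Bm : Matrix I3 (Fin 4) (ZMod 3) := Matrix.of fun i => match i with
  | .inl _ => ![-1, 1, 0, 0]
  | .inr (.inl _) => ![-1, -1, 0, -1]
  | .inr (.inr _) => ![1, 1, 1, 0]

def Cm : Matrix (Fin 4) I3 (ZMod 3) := Matrix.of fun k j => match j with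
  | .inl _ => (![1, -1, 0, 0] : Fin 4 → ZMod 3) k
  | .inr (.inl _) => (![1, 1, 1, 0] : Fin 4 → ZMod 3) k
  | .inr (.inr _) => (![-1, -1, 0, -1] : Fin 4 → ZMod 3) k

def fM (σ : Equiv.Perm (Fin 4)) : Matrix I3 I3 (ZMod 3) :=
  (((Equiv.Perm.sign σ : ℤˣ) : ℤ) : ZMod 3) • (Bm * (σ⁻¹).permMatrix (ZMod 3) * Cm)

def IsIso (M : Matrix I3 I3 (ZMod 3)) : Prop :=
  ∀ v : I3 → ZMod 3,
    (M *ᵥ v) (.inl ()) ^ 2 + (M *ᵥ v) (.inr (.inl 0)) * (M *ᵥ v) (.inr (.inr 0)) =
      v (.inl ()) ^ 2 + v (.inr (.inl 0)) * v (.inr (.inr 0))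

instance : DecidablePred IsIso := fun M => by unfold IsIso; infer_instance

set_option maxRecDepth 100000 in
theorem fM_one : fM 1 = 1 := by decide +kernel

set_option maxRecDepth 100000 in
theorem fM_mul : ∀ σ τ : Equiv.Perm (Fin 4), fM (σ * τ) = fM σ * fM τ := by decide +kernel

set_option maxRecDepth 100000 in
theorem fM_iso : ∀ (σ : Equiv.Perm (Fin 4)), IsIso (fM σ) := by
  decide +kernel

set_option maxRecDepth 100000 in
theorem fM_det : ∀ (σ : Equiv.Perm (Fin 4)), (fM σ).det = 1 := by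
  decide +kernel

set_option maxRecDepth 100000 in
theorem fM_inj : ∀ (σ : Equiv.Perm (Fin 4)), fM σ = 1 → σ = 1 := by
  decide +kernel

set_option maxRecDepth 1000000 in
theorem fM_surj : ∀ M : Matrix I3 I3 (ZMod 3), IsIso M ∧ M.det = 1 →
    ∃ σ : Equiv.Perm (Fin 4), fM σ = M := by
  decide +kernel

theorem isIso_iff (M : Matrix I3 I3 (ZMod 3)) :
    IsIso M ↔ ∀ v : I3 → ZMod 3,
      Cfsg.quadFormOdd 1 (ZMod 3) (M *ᵥ v) = Cfsg.quadFormOdd 1 (ZMod 3) v := by
  unfold IsIso Cfsg.quadFormOdd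
  simp only [Finset.univ_unique, Finset.sum_singleton, Fin.default_eq_zero]

def fHom : Equiv.Perm (Fin 4) →* Matrix I3 I3 (ZMod 3) where
  toFun := fM
  map_one' := fM_one
  map_mul' := fM_mul

def fGL : Equiv.Perm (Fin 4) →* GL I3 (ZMod 3) := fHom.toHomUnits

theorem fGL_val (σ : Equiv.Perm (Fin 4)) :
    ((fGL σ : GL I3 (ZMod 3)) : Matrix I3 I3 (ZMod 3)) = fM σ := rfl

theorem fGL_mem (σ : Equiv.Perm (Fin 4)) :
    fGL σ ∈ Cfsg.isometryGroup (ZMod 3) (Cfsg.quadFormOdd 1 (ZMod 3)) := by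
  rw [mem_isometryGroup_iff']
  intro u
  rw [fGL_val]
  exact (isIso_iff _).1 (fM_iso σ) u

def fIso : Equiv.Perm (Fin 4) →* ↥(Cfsg.isometryGroup (ZMod 3) (Cfsg.quadFormOdd 1 (ZMod 3))) :=
  fGL.codRestrict _ fGL_mem

theorem fIso_mem (σ : Equiv.Perm (Fin 4)) :
    fIso σ ∈ Cfsg.specialIsometryGroup (ZMod 3) (Cfsg.quadFormOdd 1 (ZMod 3)) := by
  rw [mem_specialIsometryGroup_iff]
  apply Units.ext
  show ((fGL σ : GL I3 (ZMod 3)) : Matrix I3 I3 (ZMod 3)).det = 1
  rw [fGL_val]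
  exact fM_det σ

def fSO : Equiv.Perm (Fin 4) →*
    ↥(Cfsg.specialIsometryGroup (ZMod 3) (Cfsg.quadFormOdd 1 (ZMod 3))) :=
  fIso.codRestrict _ fIso_mem

theorem fSO_val (σ : Equiv.Perm (Fin 4)) :
    (((fSO σ).1.1 : GL I3 (ZMod 3)) : Matrix I3 I3 (ZMod 3)) = fM σ := rfl

theorem fSO_bijective : Function.Bijective fSO := by
  constructor
  · rw [injective_iff_map_eq_one]
    intro σ h
    apply fM_inj
    rw [← fSO_val, h]
    rfl
  · intro g
    have h1 : IsIso ((g.1.1 : GL I3 (ZMod 3)) : Matrix I3 I3 (ZMod 3)) := by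
      rw [isIso_iff]
      exact (mem_isometryGroup_iff' _ _).1 g.1.2
    have h2 : ((g.1.1 : GL I3 (ZMod 3)) : Matrix I3 I3 (ZMod 3)).det = 1 := by
      have := (mem_specialIsometryGroup_iff _ _).1 g.2
      exact congrArg Units.val this
    obtain ⟨σ, hσ⟩ := fM_surj _ ⟨h1, h2⟩
    refine ⟨σ, ?_⟩
    apply Subtype.ext
    apply Subtype.ext
    apply Units.ext
    rw [fSO_val]
    exact hσ

theorem main {F : Type*} [Field F] [Fintype F] (hF : Fintype.card F = 3) :
    Nonempty (↥(Cfsg.specialIsometryGroup F (Cfsg.quadFormOdd 1 F)) ≃* Equiv.Perm (Fin 4)) := by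
  let φ : F ≃+* ZMod 3 := (ZMod.ringEquivOfPrime F Nat.prime_three hF).symm
  exact ⟨(specialIsometryEquiv φ (quadFormOdd_map 1 φ)).trans
    (MulEquiv.ofBijective fSO fSO_bijective).symm⟩

end SO33
end Cfsg.Agent.Lib.Helper24
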