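import Mathlib

/-! Singer groups `K^× ≤ GL_F(K)`: the intersection with a conjugate is the unit group of a subfield (helper24). -/

set_option autoImplicit false
set_option linter.style.haveILetI false

namespace Cfsg.Agent.Lib.Helper24

variable {F K : Type*} [Field F] [Field K] [Algebra F K]

/-- The field of those `a : K` whose multiplication map is `g`-conjugate to a multiplication map. -/
noncomputable def singerConjField (g : (Module.End F K)ˣ) : IntermediateField F K where
  carrier := {a | ∃ b : K, Algebra.lmul F K a =
    (g : Module.End F K) * Algebra.lmul F K b * ((g⁻¹ : (Module.End F K)ˣ) : Module.End F K)}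
  mul_mem' := by
    rintro a a' ⟨b, hb⟩ ⟨b', hb'⟩
    refine ⟨b * b', ?_⟩
    rw [map_mul, map_mul, hb, hb']
    have h1 : ((g⁻¹ : (Module.End F K)ˣ) : Module.End F K) * (g : Module.End F K) = 1 := by
      rw [← Units.val_mul, inv_mul_cancel, Units.val_one]
    calc (g : Module.End F K) * Algebra.lmul F K b * ((g⁻¹ : (Module.End F K)ˣ) : Module.End F K) *
        ((g : Module.End F K) * Algebra.lmul F K b' * ((g⁻¹ : (Module.End F K)ˣ) : Module.End F K))
        = (g : Module.End F K) * Algebra.lmul F K b *
          (((g⁻¹ : (Module.End F K)ˣ) : Module.End F K) * (g : Module.End F K)) *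
          Algebra.lmul F K b' * ((g⁻¹ : (Module.End F K)ˣ) : Module.End F K) := by
            simp only [mul_assoc]
      _ = _ := by rw [h1, mul_one]; simp only [mul_assoc]
  add_mem' := by
    rintro a a' ⟨b, hb⟩ ⟨b', hb'⟩
    refine ⟨b + b', ?_⟩
    rw [map_add, map_add, hb, hb', mul_add, add_mul]
  algebraMap_mem' := by
    intro c
    refine ⟨algebraMap F K c, ?_⟩
    rw [AlgHom.commutes, ← Algebra.commutes, mul_assoc, ← Units.val_mul, mul_inv_cancel,
      Units.val_one, mul_one]
  inv_mem' := by
    rintro a ⟨b, hb⟩
    by_cases ha : a = 0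
    · refine ⟨0, ?_⟩
      rw [ha, inv_zero, map_zero, mul_zero, zero_mul]
    · have hb0 : b ≠ 0 := by
        intro h0
        rw [h0, map_zero, mul_zero, zero_mul] at hb
        have := congrArg (fun f : Module.End F K => f 1) hb
        simp at this
        exact ha this
      refine ⟨b⁻¹, ?_⟩
      have h1 : ((g⁻¹ : (Module.End F K)ˣ) : Module.End F K) * (g : Module.End F K) = 1 := by
        rw [← Units.val_mul, inv_mul_cancel, Units.val_one]
      have h2 : (g : Module.End F K) * ((g⁻¹ : (Module.End F K)ˣ) : Module.End F K) = 1 := by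
        rw [← Units.val_mul, mul_inv_cancel, Units.val_one]
      have h3 : Algebra.lmul F K a * ((g : Module.End F K) * Algebra.lmul F K b⁻¹ *
          ((g⁻¹ : (Module.End F K)ˣ) : Module.End F K)) = 1 := by
        rw [hb]
        calc (g : Module.End F K) * Algebra.lmul F K b * ((g⁻¹ : (Module.End F K)ˣ) : Module.End F K) *
            ((g : Module.End F K) * Algebra.lmul F K b⁻¹ * ((g⁻¹ : (Module.End F K)ˣ) : Module.End F K))
            = (g : Module.End F K) * (Algebra.lmul F K b *
              (((g⁻¹ : (Module.End F K)ˣ) : Module.End F K) * (g : Module.End F K)) *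
              Algebra.lmul F K b⁻¹) * ((g⁻¹ : (Module.End F K)ˣ) : Module.End F K) := by
                simp only [mul_assoc]
          _ = 1 := by
              rw [h1, mul_one, ← map_mul, mul_inv_cancel₀ hb0, map_one, mul_one, h2]
      have h4 : Algebra.lmul F K a⁻¹ * Algebra.lmul F K a = 1 := by
        rw [← map_mul, inv_mul_cancel₀ ha, map_one]
      calc Algebra.lmul F K a⁻¹ = Algebra.lmul F K a⁻¹ * (Algebra.lmul F K a *
            ((g : Module.End F K) * Algebra.lmul F K b⁻¹ *
            ((g⁻¹ : (Module.End F K)ˣ) : Module.End F K))) := by rw [h3, mul_one]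
        _ = _ := by rw [← mul_assoc, h4, one_mul]

theorem mem_singerConjField (g : (Module.End F K)ˣ) (a : K) :
    a ∈ singerConjField g ↔ ∃ b : K, Algebra.lmul F K a =
      (g : Module.End F K) * Algebra.lmul F K b * ((g⁻¹ : (Module.End F K)ˣ) : Module.End F K) :=
  Iff.rfl

end Cfsg.Agent.Lib.Helper24

namespace Cfsg.Agent.Lib.Helper24

variable {F K : Type*} [Field F] [Field K] [Algebra F K]

theorem singer_inter_eq_range (g : (Module.End F K)ˣ) :
    ((Units.map ((Algebra.lmul F K : K →ₐ[F] Module.End F K) : K →* Module.End F K)).range.map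
        (MulAut.conj g).toMonoidHom ⊓
      (Units.map ((Algebra.lmul F K : K →ₐ[F] Module.End F K) : K →* Module.End F K)).range) =
    ((Units.map ((Algebra.lmul F K : K →ₐ[F] Module.End F K) : K →* Module.End F K)).comp
      (Units.map (((singerConjField g).val : (singerConjField g) →ₐ[F] K) :
        (singerConjField g) →* K))).range := by
  ext t
  constructor
  · rintro ⟨⟨s, ⟨b, rfl⟩, hst⟩, ⟨a, rfl⟩⟩
    have hmem : (a : K) ∈ singerConjField g := by
      refine ⟨(b : K), ?_⟩
      have := congrArg Units.val hst
      simp only [MulEquiv.coe_toMonoidHom, MulAut.conj_apply, Units.val_mul, Units.coe_map] at this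
      exact this.symm
    have hne : (⟨(a : K), hmem⟩ : singerConjField g) ≠ 0 := by
      intro h0
      have := congrArg Subtype.val h0
      simp at this
    refine ⟨Units.mk0 ⟨(a : K), hmem⟩ hne, ?_⟩
    apply Units.ext
    simp
  · rintro ⟨u, rfl⟩
    have hmem : ((u : singerConjField g) : K) ∈ singerConjField g := (u : singerConjField g).2
    obtain ⟨b, hb⟩ := hmem
    have hu0 : ((u : singerConjField g) : K) ≠ 0 := by
      intro h0
      have h1 : (u : singerConjField g) = 0 := Subtype.ext h0
      exact u.ne_zero h1
    have hb0 : b ≠ 0 := by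
      intro h0
      rw [h0, map_zero, mul_zero, zero_mul] at hb
      have := congrArg (fun f : Module.End F K => f 1) hb
      simp at this
    refine ⟨⟨Units.map ((Algebra.lmul F K : K →ₐ[F] Module.End F K) : K →* Module.End F K)
        (Units.mk0 b hb0), ⟨_, rfl⟩, ?_⟩, ⟨Units.map (((singerConjField g).val :
          (singerConjField g) →ₐ[F] K) : (singerConjField g) →* K) u, rfl⟩⟩
    apply Units.ext
    simp only [MulEquiv.coe_toMonoidHom, MulAut.conj_apply, Units.val_mul, Units.coe_map,
      MonoidHom.coe_comp, Function.comp_apply, Units.val_mk0]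
    exact hb.symm

theorem singer_inter_card [Finite F] [Finite K] (g : (Module.End F K)ˣ) :
    Nat.card ↥((Units.map ((Algebra.lmul F K : K →ₐ[F] Module.End F K) : K →* Module.End F K)).range.map
        (MulAut.conj g).toMonoidHom ⊓
      (Units.map ((Algebra.lmul F K : K →ₐ[F] Module.End F K) : K →* Module.End F K)).range) =
    Nat.card F ^ Module.finrank F (singerConjField g) - 1 := by
  rw [singer_inter_eq_range]
  have hinj : Function.Injective ((Units.map ((Algebra.lmul F K : K →ₐ[F] Module.End F K) :
      K →* Module.End F K)).comp (Units.map (((singerConjField g).val :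
        (singerConjField g) →ₐ[F] K) : (singerConjField g) →* K))) := by
    intro u v huv
    apply Units.ext
    apply Subtype.ext
    have h1 := congrArg (fun t : (Module.End F K)ˣ => (t : Module.End F K) 1) huv
    simpa using h1
  rw [← Nat.card_congr (MonoidHom.ofInjective hinj).toEquiv, Nat.card_units,
    Module.natCard_eq_pow_finrank (K := F)]

end Cfsg.Agent.Lib.Helper24
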