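import Mathlib
import Cfsg.Agent.Lib.Helper8.Zsigmondy

set_option autoImplicit false
set_option linter.style.haveILetI false

namespace Cfsg.Agent.Lib.Helper24.SingerAb

open Cfsg.Agent.Lib.Helper8.Zsig

/-- a proper prime power `p ^ f` (`f ≥ 2`) plus one is never a power of two -/
theorem prime_pow_add_one_ne_two_pow {p f m : ℕ} (hp : p.Prime) (hf : 2 ≤ f) :
    p ^ f + 1 ≠ 2 ^ m := by
  intro h
  have hp2 : p ≠ 2 := by
    rintro rfl
    rcases Nat.eq_zero_or_pos m with rfl | hm
    · have : 0 < 2 ^ f := by positivity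
      simp at h
    · have h1 : Even (2 ^ f) := (Nat.even_pow' (by omega)).2 even_two
      have h2 : Even (2 ^ m) := (Nat.even_pow' (by omega)).2 even_two
      rw [← h] at h2
      rw [Nat.even_add_one] at h2
      exact h2 h1
  have hodd : Odd p := hp.odd_of_ne_two hp2
  obtain ⟨r, hr, hrd, hrprim⟩ := zsigmondy p (2 * f) hp.one_lt (by omega)
    (by rintro ⟨rfl, -⟩; exact hp2 rfl) (by rintro ⟨h2, -⟩; omega)
  have hfac : p ^ (2 * f) - 1 = (p ^ f - 1) * (p ^ f + 1) := by
    have h1 : 1 ≤ p ^ f := Nat.one_le_pow _ _ hp.pos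
    have : p ^ (2 * f) = p ^ f * p ^ f := by rw [two_mul, pow_add]
    rw [this]
    zify [h1, Nat.one_le_iff_ne_zero.2 (mul_ne_zero (by positivity : p ^ f ≠ 0) (by positivity : p ^ f ≠ 0))]
    ring
  rw [hfac] at hrd
  rcases (Nat.Prime.dvd_mul hr).1 hrd with h1 | h1
  · exact hrprim f (by omega) (by omega) h1
  · rw [h] at h1
    have hr2 : r = 2 := (Nat.prime_dvd_prime_iff_eq hr Nat.prime_two).1 (hr.dvd_of_dvd_pow h1)
    apply hrprim 1 (by omega) (by omega)
    rw [hr2, pow_one]
    obtain ⟨k, hk⟩ := hodd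
    exact ⟨k, by omega⟩



section
variable {F K : Type*} [Field F] [Field K] [Finite K] [Algebra F K]

theorem card_modEq_fixed (u : (Module.End F K)ˣ) {r : ℕ} [hr : Fact r.Prime] (hu : u ^ r = 1)
    (W : Submodule F K) (hW : ∀ w ∈ W, (u : Module.End F K) w ∈ W) :
    Nat.card W ≡ Nat.card ↥(W ⊓ LinearMap.ker ((u : Module.End F K) - 1)) [MOD r] := by
  classical
  haveI : Fintype ↥W := Fintype.ofFinite _
  let f : Function.End ↥W := fun w => ⟨(u : Module.End F K) w, hW w w.2⟩
  have hpow : ∀ (k : ℕ) (w : ↥W), (((f ^ k) w : ↥W) : K) = ((u ^ k : (Module.End F K)ˣ) : Module.End F K) w := by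
    intro k
    induction k with
    | zero => intro w; simp; rfl
    | succ k ih =>
      intro w
      rw [pow_succ, pow_succ]
      change (((f ^ k) (f w) : ↥W) : K) = _
      rw [ih]
      simp [f]
  have hf : f ^ r ^ 1 = 1 := by
    rw [pow_one]
    funext w
    apply Subtype.ext
    rw [hpow, hu]
    simp
    rfl
  have h1 := Equiv.Perm.card_fixedPoints_modEq (p := r) (n := 1) hf
  rw [Nat.card_eq_fintype_card]
  refine h1.trans ?_
  rw [← Nat.card_eq_fintype_card]
  apply congrArg (· % r)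
  apply Nat.card_congr
  refine ⟨fun w => ⟨w.1.1, w.1.2, ?_⟩, fun x => ⟨⟨x.1, x.2.1⟩, ?_⟩, ?_, ?_⟩
  · have := w.2
    have h2 : f w.1 = w.1 := this
    have h3 := congrArg Subtype.val h2
    simp only [f] at h3
    change ((u : Module.End F K) - 1) (w.1.1 : K) = 0
    rw [LinearMap.sub_apply, h3]
    simp
  · have : ((u : Module.End F K) - 1) (x.1 : K) = 0 := x.2.2
    rw [LinearMap.sub_apply, sub_eq_zero] at this
    change f ⟨x.1, x.2.1⟩ = ⟨x.1, x.2.1⟩
    apply Subtype.ext
    simpa [f] using this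
  · intro w; rfl
  · intro x; rfl

end

theorem dvd_pow_sub_one_of_modEq {r q a b : ℕ} (hr : r.Prime) (hrq : ¬ r ∣ q) (hab : a ≤ b)
    (h : q ^ b ≡ q ^ a [MOD r]) : r ∣ q ^ (b - a) - 1 := by
  have hq : 0 < q := by
    rcases Nat.eq_zero_or_pos q with rfl | h0
    · exact absurd (dvd_zero r) hrq
    · exact h0
  have h1 : r ∣ q ^ b - q ^ a := (Nat.modEq_iff_dvd' (Nat.pow_le_pow_right hq hab)).1 h.symm
  have h2 : q ^ b - q ^ a = q ^ a * (q ^ (b - a) - 1) := by
    have : q ^ b = q ^ a * q ^ (b - a) := by rw [← pow_add]; congr 1; omega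
    rw [this, Nat.mul_sub, mul_one]
  rw [h2] at h1
  have hcop : Nat.Coprime r (q ^ a) := ((Nat.Prime.coprime_iff_not_dvd hr).2 hrq).pow_right a
  exact hcop.dvd_of_dvd_mul_left h1

section
variable {F K : Type*} [Field F] [Fintype F] [Field K] [Finite K] [Algebra F K]

theorem ker_eq_bot_of_ppd (u : (Module.End F K)ˣ) {r : ℕ} [hr : Fact r.Prime] (hu : u ^ r = 1)
    (hu1 : u ≠ 1) (hrq : ¬ r ∣ Fintype.card F)
    (hprim : ∀ k, 0 < k → k < Module.finrank F K → ¬ r ∣ Fintype.card F ^ k - 1) :
    LinearMap.ker ((u : Module.End F K) - 1) = ⊥ := by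
  have hmod := card_modEq_fixed u hu ⊤ (fun w _ => Submodule.mem_top)
  have hc : ∀ W : Submodule F K, Nat.card ↥W = Fintype.card F ^ Module.finrank F ↥W := by
    intro W
    rw [Module.natCard_eq_pow_finrank (K := F) (V := ↥W), Nat.card_eq_fintype_card]
  rw [top_inf_eq, hc, hc, finrank_top] at hmod
  have hle : Module.finrank F ↥(LinearMap.ker ((u : Module.End F K) - 1)) ≤ Module.finrank F K :=
    Submodule.finrank_le _
  have hd := dvd_pow_sub_one_of_modEq hr.out hrq hle hmod
  by_contra hne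
  have hpos : 0 < Module.finrank F ↥(LinearMap.ker ((u : Module.End F K) - 1)) := by
    rw [Module.finrank_pos_iff_exists_ne_zero]
    obtain ⟨x, hx, hx0⟩ := (Submodule.ne_bot_iff _).1 hne
    exact ⟨⟨x, hx⟩, fun h => hx0 (congrArg Subtype.val h)⟩
  rcases Nat.lt_or_ge (Module.finrank F ↥(LinearMap.ker ((u : Module.End F K) - 1)))
    (Module.finrank F K) with hlt | hge
  · exact hprim _ (by omega) (by omega) hd
  · have htop : LinearMap.ker ((u : Module.End F K) - 1) = ⊤ :=
      Submodule.eq_top_of_finrank_eq (le_antisymm hle hge)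
    apply hu1
    apply Units.ext
    have : (u : Module.End F K) - 1 = 0 := LinearMap.ker_eq_top.1 htop
    rw [sub_eq_zero] at this
    simpa using this

theorem invariant_eq_bot_or_top (u : (Module.End F K)ˣ) {r : ℕ} [hr : Fact r.Prime] (hu : u ^ r = 1)
    (hu1 : u ≠ 1) (hrq : ¬ r ∣ Fintype.card F)
    (hprim : ∀ k, 0 < k → k < Module.finrank F K → ¬ r ∣ Fintype.card F ^ k - 1)
    (W : Submodule F K) (hW : ∀ w ∈ W, (u : Module.End F K) w ∈ W) : W = ⊥ ∨ W = ⊤ := by
  have hmod := card_modEq_fixed u hu W hW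
  have hc : ∀ W : Submodule F K, Nat.card ↥W = Fintype.card F ^ Module.finrank F ↥W := by
    intro W
    rw [Module.natCard_eq_pow_finrank (K := F) (V := ↥W), Nat.card_eq_fintype_card]
  rw [ker_eq_bot_of_ppd u hu hu1 hrq hprim, inf_bot_eq, hc, hc, finrank_bot] at hmod
  have hd := dvd_pow_sub_one_of_modEq hr.out hrq (Nat.zero_le _) hmod
  rw [Nat.sub_zero] at hd
  have hle : Module.finrank F ↥W ≤ Module.finrank F K := Submodule.finrank_le _
  rcases Nat.eq_zero_or_pos (Module.finrank F ↥W) with h0 | hpos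
  · left; exact Submodule.finrank_eq_zero.1 h0
  · right
    rcases Nat.lt_or_ge (Module.finrank F ↥W) (Module.finrank F K) with hlt | hge
    · exact absurd hd (hprim _ hpos hlt)
    · exact Submodule.eq_top_of_finrank_eq (le_antisymm hle hge)

end



theorem nonempty_algEquiv_of_finrank_eq {F K L : Type*} [Field F] [Finite F] [Field K] [Field L]
    [Algebra F K] [Algebra F L] {n : ℕ} (hn : n ≠ 0) (hK : Module.finrank F K = n)
    (hL : Module.finrank F L = n) : Nonempty (K ≃ₐ[F] L) := by
  obtain ⟨p, hp⟩ := CharP.exists F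
  haveI := hp
  haveI : Fact p.Prime := ⟨CharP.char_is_prime F p⟩
  haveI : NeZero n := ⟨hn⟩
  exact ⟨(FiniteField.algEquivExtension F p n K hK).trans
    (FiniteField.algEquivExtension F p n L hL).symm⟩

section
variable {F K : Type*} [Field F] [Finite F] [Field K] [Finite K] [Algebra F K]

theorem exists_algHom_into (C : Subalgebra F (Module.End F K))
    (hcomm : ∀ S ∈ C, ∀ T ∈ C, S * T = T * S)
    (hnzd : ∀ S ∈ C, ∀ T ∈ C, S * T = 0 → S = 0 ∨ T = 0)
    (hfin : Module.finrank F ↥C = Module.finrank F K) :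
    ∃ ψ : K →ₐ[F] Module.End F K, ∀ a, ψ a ∈ C := by
  classical
  haveI : Finite (Module.End F K) :=
    Finite.of_injective (fun f : Module.End F K => (f : K → K)) DFunLike.coe_injective
  haveI : Fintype ↥C := Fintype.ofFinite _
  letI instCR : CommRing ↥C :=
    { (inferInstance : Ring ↥C) with
      mul_comm := fun S T => Subtype.ext (hcomm S.1 S.2 T.1 T.2) }
  haveI : NoZeroDivisors ↥C := ⟨fun {S T} h => by
    have h' : S.1 * T.1 = 0 := congrArg Subtype.val h
    rcases hnzd S.1 S.2 T.1 T.2 h' with h0 | h0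
    · left; exact Subtype.ext h0
    · right; exact Subtype.ext h0⟩
  haveI : Nontrivial ↥C := ⟨⟨0, 1, fun h => by
    have h' : (0 : Module.End F K) = 1 := congrArg Subtype.val h
    have := congrArg (fun f : Module.End F K => f 1) h'
    simp at this⟩⟩
  haveI : IsDomain ↥C := NoZeroDivisors.to_isDomain _
  letI instF : Field ↥C := Fintype.fieldOfDomain ↥C
  have hn : Module.finrank F K ≠ 0 := Module.finrank_pos.ne'
  obtain ⟨e⟩ := nonempty_algEquiv_of_finrank_eq (F := F) (K := K) (L := ↥C) hn rfl hfin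
  refine ⟨C.val.comp e.toAlgHom, fun a => ?_⟩
  exact (e a).2

end


section main
variable {F K : Type*} [Field F] [Fintype F] [Field K] [Fintype K] [Algebra F K]

theorem schur_injective (u : (Module.End F K)ˣ)
    (Hirr : ∀ W : Submodule F K, (∀ w ∈ W, (u : Module.End F K) w ∈ W) → W = ⊥ ∨ W = ⊤)
    (T : Module.End F K) (hT : (u : Module.End F K) * T = T * u) (hT0 : T ≠ 0) :
    Function.Injective T := by
  rw [← LinearMap.ker_eq_bot]
  rcases Hirr (LinearMap.ker T) (by
    intro w hw
    rw [LinearMap.mem_ker] at hw ⊢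
    have : T ((u : Module.End F K) w) = (T * u) w := rfl
    rw [this, ← hT]
    change (u : Module.End F K) (T w) = 0
    rw [hw, map_zero]) with h | h
  · exact h
  · exact absurd (LinearMap.ker_eq_top.1 h) hT0

theorem singer_conj (n : ℕ) (hn : 2 ≤ n) (hdim : Module.finrank F K = n)
    (hex1 : ¬ (n = 6 ∧ Fintype.card F = 2))
    (hex2 : ¬ (n = 2 ∧ (Fintype.card F).Prime ∧ ∃ a : ℕ, Fintype.card F + 1 = 2 ^ a))
    (U : Subgroup (Module.End F K)ˣ) (hU : IsMulCommutative U)
    (hcard : Nat.card U = Fintype.card K - 1) :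
    ∃ g : (Module.End F K)ˣ, U.map (MulAut.conj g).toMonoidHom =
      (Units.map ((Algebra.lmul F K : K →ₐ[F] Module.End F K) : K →* Module.End F K)).range := by
  classical
  haveI : Finite (Module.End F K) :=
    Finite.of_injective (fun f : Module.End F K => (f : K → K)) DFunLike.coe_injective
  haveI : FiniteDimensional F K := Module.Finite.of_finite
  obtain ⟨q, hq⟩ : ∃ q, q = Fintype.card F := ⟨_, rfl⟩
  have hq2 : 1 < q := by rw [hq]; exact Fintype.one_lt_card
  have hKcard : Fintype.card K = q ^ n := by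
    rw [hq, ← hdim]; exact Module.card_eq_pow_finrank
  -- Zsigmondy
  obtain ⟨r, hr, hrd, hrprim⟩ := Cfsg.Agent.Lib.Helper8.Zsig.zsigmondy q n hq2 (by omega)
    (by rintro ⟨h1, h2⟩; exact hex1 ⟨h2, by rw [← hq]; exact h1⟩)
    (by
      rintro ⟨h1, m, hm⟩
      obtain ⟨p, hp⟩ := CharP.exists F
      haveI := hp
      obtain ⟨f, hpp, hf⟩ := FiniteField.card F p
      rcases Nat.lt_or_ge (f : ℕ) 2 with hf2 | hf2
      · have hf1 : (f : ℕ) = 1 := by have := f.pos; omega
        rw [hf1, pow_one] at hf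
        exact hex2 ⟨h1, by rw [hf]; exact hpp, m, by rw [← hq]; exact hm⟩
      · rw [hq, hf] at hm
        exact prime_pow_add_one_ne_two_pow hpp hf2 hm)
  haveI : Fact r.Prime := ⟨hr⟩
  have hrq : ¬ r ∣ Fintype.card F := by
    rw [← hq]
    intro h
    have h1 : r ∣ q ^ n := dvd_pow h (by omega)
    have h2 : 1 ≤ q ^ n := Nat.one_le_pow _ _ (by omega)
    have h3 : r ∣ q ^ n - (q ^ n - 1) := Nat.dvd_sub h1 hrd
    have h4 : q ^ n - (q ^ n - 1) = 1 := by omega
    rw [h4] at h3
    exact hr.one_lt.ne' (Nat.dvd_one.1 h3)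
  -- Cauchy
  have hrU : r ∣ Nat.card U := by rw [hcard, hKcard]; exact hrd
  obtain ⟨x, hx⟩ := exists_prime_orderOf_dvd_card' (G := ↥U) r hrU
  obtain ⟨u, hu⟩ : ∃ u : (Module.End F K)ˣ, u = (x : (Module.End F K)ˣ) := ⟨_, rfl⟩
  have huU : u ∈ U := by rw [hu]; exact x.2
  have hord : orderOf u = r := by rw [hu, Subgroup.orderOf_coe]; exact hx
  have hur : u ^ r = 1 := by rw [← hord]; exact pow_orderOf_eq_one u
  have hu1 : u ≠ 1 := by
    intro h
    rw [h, orderOf_one] at hord
    exact hr.one_lt.ne hord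
  have Hirr := invariant_eq_bot_or_top u hur hu1 hrq
    (by intro k hk0 hk; rw [hdim] at hk; rw [← hq]; exact hrprim k hk0 hk)
  -- the centralizer
  obtain ⟨C, hC⟩ : ∃ C : Subalgebra F (Module.End F K),
      C = Subalgebra.centralizer F ({(u : Module.End F K)} : Set (Module.End F K)) := ⟨_, rfl⟩
  have memC : ∀ T : Module.End F K, T ∈ C ↔ (u : Module.End F K) * T = T * u := by
    intro T
    rw [hC, Subalgebra.mem_centralizer_iff]
    simp
  have hinj : ∀ T ∈ C, T ≠ 0 → Function.Injective T := fun T hT hT0 =>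
    schur_injective u Hirr T ((memC T).1 hT) hT0
  have h10 : (1 : K) ≠ 0 := one_ne_zero
  have hev0 : ∀ T ∈ C, T (1 : K) = 0 → T = 0 := by
    intro T hT h
    by_contra hT0
    exact h10 (hinj T hT hT0 (by rw [h, map_zero]))
  -- nonzero elements of C come from U
  have hUC : ∀ y ∈ U, ((y : (Module.End F K)ˣ) : Module.End F K) ∈ C := by
    intro y hy
    rw [memC]
    have := hU.is_comm.comm (⟨u, huU⟩ : ↥U) ⟨y, hy⟩
    have h2 := congrArg (fun z : ↥U => ((z : (Module.End F K)ˣ) : Module.End F K)) this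
    simpa using h2
  have hA : {T : Module.End F K | T ∈ C ∧ T ≠ 0} =
      (fun y : (Module.End F K)ˣ => (y : Module.End F K)) '' (U : Set (Module.End F K)ˣ) := by
    symm
    apply Set.eq_of_subset_of_ncard_le
    · rintro _ ⟨y, hy, rfl⟩
      exact ⟨hUC y hy, Units.ne_zero y⟩
    · rw [Set.ncard_image_of_injective _ Units.val_injective]
      have h1 : (U : Set (Module.End F K)ˣ).ncard = Fintype.card K - 1 := by
        rw [← hcard]; rfl
      rw [h1]
      have h2 : ({T : Module.End F K | T ∈ C ∧ T ≠ 0}).ncard ≤ ({k : K | k ≠ 0}).ncard := by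
        apply Set.ncard_le_ncard_of_injOn (fun T : Module.End F K => T (1 : K))
        · rintro T ⟨hT, hT0⟩
          exact fun h => hT0 (hev0 T hT h)
        · rintro S ⟨hS, -⟩ T ⟨hT, -⟩ hST
          have : S - T = 0 := hev0 (S - T) (C.sub_mem hS hT) (by
            simp only [LinearMap.sub_apply]
            exact sub_eq_zero.2 hST)
          exact sub_eq_zero.1 this
      refine h2.trans ?_
      have h3 : ({k : K | k ≠ 0}) = ({0} : Set K)ᶜ := by ext; simp
      rw [h3, Set.ncard_compl, Set.ncard_singleton, Nat.card_eq_fintype_card]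
    · exact Set.toFinite _
  have hcomm : ∀ S ∈ C, ∀ T ∈ C, S * T = T * S := by
    intro S hS T hT
    by_cases hS0 : S = 0
    · rw [hS0]; simp
    by_cases hT0 : T = 0
    · rw [hT0]; simp
    have h1 : S ∈ {T : Module.End F K | T ∈ C ∧ T ≠ 0} := ⟨hS, hS0⟩
    have h2 : T ∈ {T : Module.End F K | T ∈ C ∧ T ≠ 0} := ⟨hT, hT0⟩
    rw [hA] at h1 h2
    obtain ⟨y, hy, rfl⟩ := h1
    obtain ⟨z, hz, rfl⟩ := h2
    have := hU.is_comm.comm (⟨y, hy⟩ : ↥U) ⟨z, hz⟩
    have h3 := congrArg (fun z : ↥U => ((z : (Module.End F K)ˣ) : Module.End F K)) this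
    simpa using h3
  have hnzd : ∀ S ∈ C, ∀ T ∈ C, S * T = 0 → S = 0 ∨ T = 0 := by
    intro S hS T hT h
    by_contra hcon
    push Not at hcon
    have h1 : S (T 1) = 0 := by
      have : (S * T) (1 : K) = 0 := by rw [h]; rfl
      exact this
    have h2 : T (1 : K) = 0 := hinj S hS hcon.1 (by rw [h1, map_zero])
    exact hcon.2 (hev0 T hT h2)
  -- dimension of C
  have hfin : Module.finrank F ↥C = Module.finrank F K := by
    let ev : ↥C →ₗ[F] K := (LinearMap.applyₗ (1 : K)).comp C.val.toLinearMap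
    have hev : ∀ T : ↥C, ev T = (T : Module.End F K) 1 := fun T => rfl
    have hevinj : Function.Injective ev := by
      rw [injective_iff_map_eq_zero]
      intro T hT
      rw [hev] at hT
      exact Subtype.ext (hev0 T.1 T.2 hT)
    have hevsurj : Function.Surjective ev := by
      rw [← LinearMap.range_eq_top]
      rcases Hirr (LinearMap.range ev) (by
        rintro _ ⟨T, rfl⟩
        have huC : (u : Module.End F K) ∈ C := hUC u huU
        refine ⟨⟨(u : Module.End F K) * T.1, C.mul_mem huC T.2⟩, ?_⟩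
        rw [hev, hev]
        rfl) with h | h
      · exfalso
        have : ev 1 ∈ LinearMap.range ev := ⟨1, rfl⟩
        rw [h, Submodule.mem_bot, hev] at this
        exact h10 (by simpa using this)
      · exact h
    exact (LinearEquiv.ofBijective ev ⟨hevinj, hevsurj⟩).finrank_eq
  obtain ⟨ψ, hψ⟩ := exists_algHom_into C hcomm hnzd hfin
  have hψinj : Function.Injective ψ := ψ.toRingHom.injective
  -- the conjugating map
  let g₀ : K →ₗ[F] K := (LinearMap.applyₗ (1 : K)).comp ψ.toLinearMap
  have hg₀ : ∀ a : K, g₀ a = ψ a 1 := fun a => rfl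
  have hg₀inj : Function.Injective g₀ := by
    rw [injective_iff_map_eq_zero]
    intro a ha
    rw [hg₀] at ha
    have := hev0 (ψ a) (hψ a) ha
    rw [← map_zero ψ] at this
    exact hψinj this
  have hg₀surj : Function.Surjective g₀ := LinearMap.injective_iff_surjective.1 hg₀inj
  let e : K ≃ₗ[F] K := LinearEquiv.ofBijective g₀ ⟨hg₀inj, hg₀surj⟩
  let g : (Module.End F K)ˣ := ⟨e.toLinearMap, e.symm.toLinearMap, by ext; simp, by ext; simp⟩
  have hgval : ∀ a : K, (g : Module.End F K) a = ψ a 1 := fun a => rfl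
  -- M.map (conj g) = U
  have hMU : ((Units.map ((Algebra.lmul F K : K →ₐ[F] Module.End F K) : K →* Module.End F K)).range).map
      (MulAut.conj g).toMonoidHom = U := by
    apply Subgroup.eq_of_le_of_card_ge
    · rintro _ ⟨_, ⟨b, rfl⟩, rfl⟩
      have hb0 : ψ (b : K) ≠ 0 := by
        intro h
        rw [← map_zero ψ] at h
        exact Units.ne_zero b (hψinj h)
      have h1 : ψ (b : K) ∈ {T : Module.End F K | T ∈ C ∧ T ≠ 0} := ⟨hψ _, hb0⟩
      rw [hA] at h1
      obtain ⟨y, hy, hyb⟩ := h1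
      have : (MulAut.conj g).toMonoidHom (Units.map ((Algebra.lmul F K : K →ₐ[F] Module.End F K) :
          K →* Module.End F K) b) = y := by
        simp only [MulEquiv.coe_toMonoidHom, MulAut.conj_apply]
        rw [mul_inv_eq_iff_eq_mul]
        apply Units.ext
        apply LinearMap.ext
        intro a
        simp only [Units.val_mul, Units.coe_map, Module.End.mul_apply]
        change (g : Module.End F K) ((b : K) * a) = (y : Module.End F K) ((g : Module.End F K) a)
        rw [hgval, hgval, map_mul]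
        have hyb' : (y : Module.End F K) = ψ (b : K) := hyb
        rw [hyb']
        rfl
      rw [this]
      exact hy
    · rw [Subgroup.card_map_of_injective (MulAut.conj g).injective, hcard]
      have hinjM : Function.Injective (Units.map ((Algebra.lmul F K : K →ₐ[F] Module.End F K) :
          K →* Module.End F K)) := by
        intro a b hab
        have h1 := congrArg (fun z : (Module.End F K)ˣ => (z : Module.End F K) 1) hab
        simp at h1
        exact Units.ext h1
      have hc : Nat.card ↥(Units.map ((Algebra.lmul F K : K →ₐ[F] Module.End F K) :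
          K →* Module.End F K)).range = Nat.card Kˣ :=
        (Nat.card_congr (Equiv.ofInjective _ hinjM)).symm
      rw [hc, Nat.card_units, Nat.card_eq_fintype_card]
  refine ⟨g⁻¹, ?_⟩
  rw [← hMU, Subgroup.map_map]
  convert Subgroup.map_id _
  ext z
  simp [MulAut.conj_apply, mul_assoc]

end main

end Cfsg.Agent.Lib.Helper24.SingerAb
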