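import Mathlib

/-! Normaliser of the Singer group (multiplications by units of K inside GL of K over F) consists of the
semilinear maps, and has order n(q^n-1) (helper24). -/

set_option autoImplicit false
set_option linter.style.haveILetI false

namespace Cfsg.Agent.Lib.Helper24

variable {F K : Type*} [Field F] [Field K] [Algebra F K]

/-- the semilinear map `m_a ∘ σ` as a unit of `End_F K` -/
noncomputable def singerSemilinear (p : Kˣ × (K ≃ₐ[F] K)) : (Module.End F K)ˣ :=
  Units.map ((Algebra.lmul F K : K →ₐ[F] Module.End F K) : K →* Module.End F K) p.1 *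
    ⟨p.2.toLinearMap, p.2.symm.toLinearMap, by ext; simp, by ext; simp⟩

theorem singerSemilinear_apply (p : Kˣ × (K ≃ₐ[F] K)) (b : K) :
    ((singerSemilinear p : (Module.End F K)ˣ) : Module.End F K) b = (p.1 : K) * p.2 b := by
  simp [singerSemilinear]

theorem singerSemilinear_inv_apply (p : Kˣ × (K ≃ₐ[F] K)) (b : K) :
    (((singerSemilinear p)⁻¹ : (Module.End F K)ˣ) : Module.End F K) b =
      p.2.symm (((p.1⁻¹ : Kˣ) : K) * b) := by
  simp [singerSemilinear]

theorem singerSemilinear_injective :
    Function.Injective (singerSemilinear : Kˣ × (K ≃ₐ[F] K) → (Module.End F K)ˣ) := by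
  intro p p' h
  have h1 : ∀ b : K, (p.1 : K) * p.2 b = (p'.1 : K) * p'.2 b := by
    intro b
    rw [← singerSemilinear_apply, ← singerSemilinear_apply, h]
  have h2 : (p.1 : K) = (p'.1 : K) := by simpa using h1 1
  have h3 : p.1 = p'.1 := Units.ext h2
  have h4 : p.2 = p'.2 := by
    ext b
    have := h1 b
    rw [h2] at this
    exact mul_left_cancel₀ (Units.ne_zero p'.1) this
  exact Prod.ext h3 h4

theorem singerSemilinear_mem_normalizer [Finite K] (p : Kˣ × (K ≃ₐ[F] K)) :
    singerSemilinear p ∈ Subgroup.normalizer (((Units.map ((Algebra.lmul F K : K →ₐ[F] Module.End F K) :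
      K →* Module.End F K)).range : Subgroup (Module.End F K)ˣ) : Set (Module.End F K)ˣ) := by
  haveI : Finite (Module.End F K) :=
    Finite.of_injective (fun f : Module.End F K => (f : K → K)) DFunLike.coe_injective
  apply Subgroup.mem_normalizer_fintype
  rintro s ⟨b, rfl⟩
  refine ⟨Units.map (p.2 : K →* K) b, ?_⟩
  apply Units.ext
  ext c
  simp only [Units.coe_map, Units.val_mul, Module.End.mul_apply]
  rw [singerSemilinear_apply, singerSemilinear_inv_apply]
  simp
  field_simp

theorem exists_singerSemilinear_of_mem_normalizer [Finite K] [FiniteDimensional F K]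
    (g : (Module.End F K)ˣ)
    (hg : g ∈ Subgroup.normalizer (((Units.map ((Algebra.lmul F K : K →ₐ[F] Module.End F K) :
      K →* Module.End F K)).range : Subgroup (Module.End F K)ˣ) : Set (Module.End F K)ˣ)) :
    ∃ p : Kˣ × (K ≃ₐ[F] K), singerSemilinear p = g := by
  classical
  -- τ b = g (b * g⁻¹ 1)
  obtain ⟨τ, hτ⟩ : ∃ τ : K →ₗ[F] K, ∀ b, τ b = (g : Module.End F K)
      (b * ((g⁻¹ : (Module.End F K)ˣ) : Module.End F K) 1) :=
    ⟨(g : Module.End F K) ∘ₗ LinearMap.mulRight F (((g⁻¹ : (Module.End F K)ˣ) : Module.End F K) 1),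
      fun b => rfl⟩
  have hgg : ∀ c : K, (g : Module.End F K) (((g⁻¹ : (Module.End F K)ˣ) : Module.End F K) c) = c := by
    intro c
    rw [← Module.End.mul_apply, ← Units.val_mul, mul_inv_cancel, Units.val_one, Module.End.one_apply]
  have hgg' : ∀ c : K, ((g⁻¹ : (Module.End F K)ˣ) : Module.End F K) ((g : Module.End F K) c) = c := by
    intro c
    rw [← Module.End.mul_apply, ← Units.val_mul, inv_mul_cancel, Units.val_one, Module.End.one_apply]
  have key : ∀ b c : K, (g : Module.End F K) (b * ((g⁻¹ : (Module.End F K)ˣ) : Module.End F K) c) =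
      τ b * c := by
    intro b c
    by_cases hb : b = 0
    · rw [hb, hτ]; simp
    · have h1 := (Subgroup.mem_normalizer_iff.mp hg
        (Units.map ((Algebra.lmul F K : K →ₐ[F] Module.End F K) : K →* Module.End F K)
          (Units.mk0 b hb))).mp ⟨_, rfl⟩
      obtain ⟨d, hd⟩ := h1
      have h2 : ∀ c : K, (d : K) * c =
          (g : Module.End F K) (b * ((g⁻¹ : (Module.End F K)ˣ) : Module.End F K) c) := by
        intro c
        have := congrArg (fun t : (Module.End F K)ˣ => (t : Module.End F K) c) hd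
        simpa using this
      have h3 : (d : K) = τ b := by
        rw [hτ, ← h2 1, mul_one]
      rw [← h2, h3]
  have hτ1 : τ 1 = 1 := by rw [hτ, one_mul, hgg]
  have hτmul : ∀ a b, τ (a * b) = τ a * τ b := by
    intro a b
    have h1 := key (a * b) 1
    rw [mul_one] at h1
    rw [← h1, mul_assoc]
    have h2 : b * ((g⁻¹ : (Module.End F K)ˣ) : Module.End F K) 1 =
        ((g⁻¹ : (Module.End F K)ˣ) : Module.End F K) (τ b) := by
      rw [hτ, hgg']
    rw [h2, key]
  obtain ⟨σ, hσ⟩ : ∃ σ : K →ₐ[F] K, ∀ b, σ b = τ b := by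
    refine ⟨AlgHom.ofLinearMap τ hτ1 hτmul, fun b => rfl⟩
  have hbij : Function.Bijective σ := Algebra.IsAlgebraic.algHom_bijective σ
  have hg1 : (g : Module.End F K) 1 ≠ 0 := by
    intro h0
    have := hgg' 1
    rw [h0, map_zero] at this
    exact zero_ne_one this
  refine ⟨(Units.mk0 _ hg1, AlgEquiv.ofBijective σ hbij), ?_⟩
  apply Units.ext
  ext b
  rw [singerSemilinear_apply]
  simp only [Units.val_mk0, AlgEquiv.coe_ofBijective]
  rw [hσ]
  have h1 := key b ((g : Module.End F K) 1)
  rw [hgg', mul_one] at h1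
  rw [h1, mul_comm]

theorem singer_normalizer_card [Finite F] [Finite K] :
    Nat.card ↥(Subgroup.normalizer (((Units.map ((Algebra.lmul F K : K →ₐ[F] Module.End F K) :
      K →* Module.End F K)).range : Subgroup (Module.End F K)ˣ) : Set (Module.End F K)ˣ)) =
    Module.finrank F K * (Nat.card K - 1) := by
  haveI : FiniteDimensional F K := Module.Finite.of_finite
  have hbij : Function.Bijective (fun p : Kˣ × (K ≃ₐ[F] K) =>
      (⟨singerSemilinear p, singerSemilinear_mem_normalizer p⟩ :
        ↥(Subgroup.normalizer (((Units.map ((Algebra.lmul F K : K →ₐ[F] Module.End F K) :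
        K →* Module.End F K)).range : Subgroup (Module.End F K)ˣ) : Set (Module.End F K)ˣ)))) := by
    constructor
    · intro p p' h
      exact singerSemilinear_injective (congrArg Subtype.val h)
    · rintro ⟨g, hg⟩
      obtain ⟨p, hp⟩ := exists_singerSemilinear_of_mem_normalizer g hg
      exact ⟨p, Subtype.ext hp⟩
  rw [← Nat.card_congr (Equiv.ofBijective _ hbij), Nat.card_prod, Nat.card_units,
    IsGalois.card_aut_eq_finrank, mul_comm]

end Cfsg.Agent.Lib.Helper24
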