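import Mathlib
import Cfsg.Agent.Lib.Helper27.SympWitt
import Cfsg.Agent.Lib.Helper27.SympStab

set_option autoImplicit false
set_option linter.style.haveILetI false
set_option linter.unusedSimpArgs false

namespace Cfsg.Agent.Lib.Helper24.SpLag

open Matrix Module Cfsg Cfsg.Agent.Lib.Helper27.SympTransv

variable {F : Type*} [Field F] {m : ℕ}

/-- The element `x ↦ x + f(x,a) b + f(x,b) a` (for `f(a,b) = 0`). -/
noncomputable def sg (a b : Fin m ⊕ Fin m → F) : Matrix.symplecticGroup (Fin m) F :=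
  tv (a + b) 1 * tv a (-1) * tv b (-1)

theorem act_sg {a b : Fin m ⊕ Fin m → F} (h : sympForm m F a b = 0) (x : Fin m ⊕ Fin m → F) :
    act (sg a b) x = x + sympForm m F x a • b + sympForm m F x b • a := by
  have h' : sympForm m F b a = 0 := by rw [sf_swap, h, neg_zero]
  unfold sg
  rw [act_mul, act_mul, act_tv, act_tv, act_tv]
  simp only [sf_add_left, sf_add_right, sf_smul_left, sf_smul_right, sf_neg_left, sf_neg_right, sf_self, h, h', mul_zero, add_zero,
    zero_add, one_mul, neg_mul, smul_add, add_smul, neg_smul, mul_neg, neg_neg]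
  module

theorem conj_sg (A : Matrix.symplecticGroup (Fin m) F) (a b : Fin m ⊕ Fin m → F) :
    A * sg a b * A⁻¹ = sg (act A a) (act A b) := by
  unfold sg
  rw [← conj_tv A a, ← conj_tv A b, ← act_add, ← conj_tv A (a + b)]
  group

theorem sg_comm_eq {a b b' : Fin m ⊕ Fin m → F} (h : sympForm m F a b = 0)
    (h' : sympForm m F a b' = 0) :
    sg a b * sg a b' = tv a (2 * sympForm m F b' b) * (sg a b' * sg a b) := by
  have hba : sympForm m F b a = 0 := by rw [sf_swap, h, neg_zero]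
  have hb'a : sympForm m F b' a = 0 := by rw [sf_swap, h', neg_zero]
  have hbb' : sympForm m F b b' = - sympForm m F b' b := sf_swap _ _
  apply act_ext
  intro x
  rw [act_mul, act_mul, act_mul, act_sg h, act_sg h', act_sg h', act_sg h, act_tv]
  simp only [sf_add_left, sf_add_right, sf_smul_left, sf_smul_right, sf_neg_left, sf_neg_right, sf_self, h, h', hba, hb'a, hbb', mul_zero,
    add_zero, zero_add, smul_add, add_smul, mul_neg, neg_smul]
  module

theorem sg_symm {a b : Fin m ⊕ Fin m → F} (h : sympForm m F a b = 0) : sg a b = sg b a := by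
  have h' : sympForm m F b a = 0 := by rw [sf_swap, h, neg_zero]
  apply act_ext
  intro x
  rw [act_sg h, act_sg h']
  abel

/-- The transvection with centre `x + y` in terms of `sg`. -/
theorem tv_add_eq {x y : Fin m ⊕ Fin m → F} (h : sympForm m F x y = 0) (c : F) :
    tv (x + y) c = sg (c • x) y * tv x c * tv y c := by
  have h' : sympForm m F y x = 0 := by rw [sf_swap, h, neg_zero]
  have h1 : sympForm m F (c • x) y = 0 := by rw [sf_smul_left, h, mul_zero]
  apply act_ext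
  intro v
  rw [act_mul, act_mul, act_sg h1, act_tv, act_tv, act_tv]
  simp only [sf_add_left, sf_add_right, sf_smul_left, sf_smul_right, sf_self, h, h', mul_zero,
    add_zero, zero_add, smul_add, add_smul]
  module


/-- A pair of complementary Lagrangian subspaces. -/
structure LPair (X Y : Submodule F (Fin m ⊕ Fin m → F)) : Prop where
  isoX : ∀ u ∈ X, ∀ v ∈ X, sympForm m F u v = 0
  isoY : ∀ u ∈ Y, ∀ v ∈ Y, sympForm m F u v = 0
  disj : X ⊓ Y = ⊥
  sup : X ⊔ Y = ⊤

theorem LPair.symm {X Y : Submodule F (Fin m ⊕ Fin m → F)} (h : LPair X Y) : LPair Y X :=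
  ⟨h.isoY, h.isoX, by rw [inf_comm]; exact h.disj, by rw [sup_comm]; exact h.sup⟩

theorem sf_nondeg {v : Fin m ⊕ Fin m → F} (hv : v ≠ 0) : ∃ x, sympForm m F v x ≠ 0 := by
  obtain ⟨a, -, ha⟩ := nondegOn_top v Submodule.mem_top hv
  exact ⟨a, ha⟩

theorem LPair.decomp {X Y : Submodule F (Fin m ⊕ Fin m → F)} (h : LPair X Y)
    (v : Fin m ⊕ Fin m → F) : ∃ x ∈ X, ∃ y ∈ Y, v = x + y := by
  have : v ∈ X ⊔ Y := by rw [h.sup]; exact Submodule.mem_top
  obtain ⟨x, hx, y, hy, hxy⟩ := Submodule.mem_sup.mp this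
  exact ⟨x, hx, y, hy, hxy.symm⟩

theorem LPair.exists_pair {X Y : Submodule F (Fin m ⊕ Fin m → F)} (h : LPair X Y)
    {x : Fin m ⊕ Fin m → F} (hx : x ∈ X) (hx0 : x ≠ 0) : ∃ y ∈ Y, sympForm m F x y ≠ 0 := by
  obtain ⟨v, hv⟩ := sf_nondeg hx0
  obtain ⟨x', hx', y, hy, rfl⟩ := h.decomp v
  refine ⟨y, hy, ?_⟩
  rwa [sf_add_right, h.isoX x hx x' hx', zero_add] at hv

theorem LPair.exists_of_not_mem {X Y : Submodule F (Fin m ⊕ Fin m → F)} (h : LPair X Y)
    {a : Fin m ⊕ Fin m → F} (ha : a ∉ Y) : ∃ d ∈ Y, sympForm m F d a ≠ 0 := by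
  obtain ⟨x, hx, y, hy, rfl⟩ := h.decomp a
  have hx0 : x ≠ 0 := by
    intro h0
    apply ha
    rw [h0, zero_add]
    exact hy
  obtain ⟨d, hd, hxd⟩ := h.exists_pair hx hx0
  refine ⟨d, hd, ?_⟩
  rw [sf_add_right, h.isoY d hd y hy, add_zero, sf_swap]
  exact neg_ne_zero.mpr hxd

/-- `M` contains the standard elements of the stabiliser of the pair. -/
def Std (M : Subgroup (Matrix.symplecticGroup (Fin m) F))
    (X Y : Submodule F (Fin m ⊕ Fin m → F)) : Prop :=
  ∀ x ∈ X, ∀ y ∈ Y, sympForm m F x y = 0 → sg x y ∈ M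

theorem Std.symm {M : Subgroup (Matrix.symplecticGroup (Fin m) F)}
    {X Y : Submodule F (Fin m ⊕ Fin m → F)} (h : Std M X Y) : Std M Y X := by
  intro y hy x hx hyx
  have hxy : sympForm m F x y = 0 := by rw [sf_swap, hyx, neg_zero]
  rw [sg_symm hyx]
  exact h x hx y hy hxy

theorem fin_cut' {V : Type*} [AddCommGroup V] [Module F V] [FiniteDimensional F V]
    (Z : Submodule F V) (φ : V →ₗ[F] F) :
    finrank F Z ≤ finrank F (Z ⊓ LinearMap.ker φ : Submodule F V) + 1 := by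
  have h1 := Submodule.finrank_sup_add_finrank_inf_eq Z (LinearMap.ker φ)
  have h2 := LinearMap.finrank_range_add_finrank_ker φ
  have h3 : finrank F (LinearMap.range φ) ≤ 1 := by
    have := Submodule.finrank_le (LinearMap.range φ)
    rwa [finrank_self] at this
  have h4 : finrank F (Z ⊔ LinearMap.ker φ : Submodule F V) ≤ finrank F V :=
    Submodule.finrank_le _
  omega

theorem mem_cut' {Z : Submodule F (Fin m ⊕ Fin m → F)} {w x : Fin m ⊕ Fin m → F} :
    x ∈ (Z ⊓ LinearMap.ker (sympB m F w) : Submodule F (Fin m ⊕ Fin m → F)) ↔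
      x ∈ Z ∧ sympForm m F w x = 0 := by
  rw [Submodule.mem_inf, LinearMap.mem_ker, sympB_apply]

/-- The key step: a non-standard `sg a' b'` in `M` yields a transvection in `M`. -/
theorem exists_tv {X Y : Submodule F (Fin m ⊕ Fin m → F)} (h : LPair X Y)
    (hX : 5 ≤ finrank F X) (h2 : (2 : F) ≠ 0)
    {M : Subgroup (Matrix.symplecticGroup (Fin m) F)} (hM : Std M X Y)
    {a' b' : Fin m ⊕ Fin m → F} (hab : sympForm m F a' b' = 0) (hg : sg a' b' ∈ M)
    (ha' : a' ∉ Y) (hb' : b' ∉ Y) :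
    ∃ a ∈ X, a ≠ 0 ∧ ∃ μ : F, μ ≠ 0 ∧ tv a μ ∈ M := by
  obtain ⟨d₁, hd₁, e₁⟩ := h.exists_of_not_mem ha'
  obtain ⟨d₂, hd₂, e₂⟩ := h.exists_of_not_mem hb'
  -- b in span(d₁, d₂)
  obtain ⟨b, hbY, hbd, hba', hbb'⟩ : ∃ b ∈ Y, (∃ s t : F, b = s • d₁ + t • d₂) ∧
      sympForm m F b a' ≠ 0 ∧ sympForm m F b b' ≠ 0 := by
    by_cases c1 : sympForm m F d₁ b' = 0
    · by_cases c2 : sympForm m F d₂ a' = 0
      · refine ⟨d₁ + d₂, Y.add_mem hd₁ hd₂, ⟨1, 1, by rw [one_smul, one_smul]⟩, ?_, ?_⟩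
        · rw [sf_add_left, c2, add_zero]; exact e₁
        · rw [sf_add_left, c1, zero_add]; exact e₂
      · exact ⟨d₂, hd₂, ⟨0, 1, by rw [zero_smul, one_smul, zero_add]⟩, c2, e₂⟩
    · exact ⟨d₁, hd₁, ⟨1, 0, by rw [zero_smul, one_smul, add_zero]⟩, e₁, c1⟩
  -- a
  have hdim : 1 ≤ finrank F (X ⊓ LinearMap.ker (sympB m F a') ⊓ LinearMap.ker (sympB m F b')
      ⊓ LinearMap.ker (sympB m F d₁) ⊓ LinearMap.ker (sympB m F d₂) :
        Submodule F (Fin m ⊕ Fin m → F)) := by
    have c1 := fin_cut' X (sympB m F a')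
    have c2 := fin_cut' (X ⊓ LinearMap.ker (sympB m F a')) (sympB m F b')
    have c3 := fin_cut' (X ⊓ LinearMap.ker (sympB m F a') ⊓ LinearMap.ker (sympB m F b'))
      (sympB m F d₁)
    have c4 := fin_cut' (X ⊓ LinearMap.ker (sympB m F a') ⊓ LinearMap.ker (sympB m F b')
      ⊓ LinearMap.ker (sympB m F d₁)) (sympB m F d₂)
    omega
  have hne : (X ⊓ LinearMap.ker (sympB m F a') ⊓ LinearMap.ker (sympB m F b')
      ⊓ LinearMap.ker (sympB m F d₁) ⊓ LinearMap.ker (sympB m F d₂) :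
        Submodule F (Fin m ⊕ Fin m → F)) ≠ ⊥ := by
    intro h0
    rw [h0, finrank_bot] at hdim
    omega
  obtain ⟨a, ha, ha0⟩ := Submodule.exists_mem_ne_zero_of_ne_bot hne
  rw [mem_cut', mem_cut', mem_cut', mem_cut'] at ha
  obtain ⟨⟨⟨⟨haX, q1⟩, q2⟩, q3⟩, q4⟩ := ha
  obtain ⟨s, t, hst⟩ := hbd
  have hab0 : sympForm m F a b = 0 := by
    rw [hst, sf_add_right, sf_smul_right, sf_smul_right, sf_swap d₁ a, sf_swap d₂ a, q3, q4]
    ring
  have haa' : sympForm m F a a' = 0 := by rw [sf_swap, q1, neg_zero]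
  have hab' : sympForm m F a b' = 0 := by rw [sf_swap, q2, neg_zero]
  -- the elements
  have m1 : sg a b ∈ M := hM a haX b hbY hab0
  have fix_a : act (sg a' b') a = a := by
    rw [act_sg hab, haa', hab', zero_smul, zero_smul, add_zero, add_zero]
  have m2 : sg a (act (sg a' b') b) ∈ M := by
    have := M.mul_mem (M.mul_mem hg m1) (M.inv_mem hg)
    rwa [conj_sg, fix_a] at this
  have hab'' : sympForm m F a (act (sg a' b') b) = 0 := by
    rw [act_sg hab, sf_add_right, sf_add_right, sf_smul_right, sf_smul_right, hab0, haa', hab']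
    ring
  have key := sg_comm_eq hab0 hab''
  refine ⟨a, haX, ha0, 2 * sympForm m F (act (sg a' b') b) b, ?_, ?_⟩
  · rw [act_sg hab, sf_add_left, sf_add_left, sf_smul_left, sf_smul_left, sf_self, zero_add,
      sf_swap b b', sf_swap b a']
    have : sympForm m F b a' * -sympForm m F b b' + sympForm m F b b' * -sympForm m F b a' =
        -(2 * (sympForm m F b a' * sympForm m F b b')) := by ring
    rw [this]
    exact mul_ne_zero h2 (neg_ne_zero.mpr (mul_ne_zero h2 (mul_ne_zero hba' hbb')))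
  · have e : tv a (2 * sympForm m F (act (sg a' b') b) b) =
        sg a b * sg a (act (sg a' b') b) * (sg a (act (sg a' b') b) * sg a b)⁻¹ := by
      rw [key]
      group
    rw [e]
    exact M.mul_mem (M.mul_mem m1 m2) (M.inv_mem (M.mul_mem m2 m1))

end Cfsg.Agent.Lib.Helper24.SpLag
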