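import Mathlib
import Cfsg.Agent.Lib.Helper24.SpLagA

set_option autoImplicit false
set_option linter.style.haveILetI false
set_option linter.unusedSimpArgs false

namespace Cfsg.Agent.Lib.Helper24.SpLag

open Matrix Module Cfsg Cfsg.Agent.Lib.Helper27.SympTransv

variable {F : Type*} [Field F] {m : ℕ}

theorem LPair.eq_zero_of_forall {X Y : Submodule F (Fin m ⊕ Fin m → F)} (h : LPair X Y)
    {x : Fin m ⊕ Fin m → F} (hx : x ∈ X) (hall : ∀ y ∈ Y, sympForm m F x y = 0) : x = 0 := by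
  by_contra h0
  obtain ⟨y, hy, hxy⟩ := h.exists_pair hx h0
  exact hxy (hall y hy)

theorem exists_move {X Y : Submodule F (Fin m ⊕ Fin m → F)} (h : LPair X Y)
    {M : Subgroup (Matrix.symplecticGroup (Fin m) F)} (hM : Std M X Y)
    {a a₂ : Fin m ⊕ Fin m → F} (ha : a ∈ X) (ha₂ : a₂ ∈ X) (ha0 : a ≠ 0)
    (hni : a₂ ∉ Submodule.span F {a}) : ∃ A ∈ M, act A a = a₂ := by
  have hc : a₂ - a ∈ X := X.sub_mem ha₂ ha
  have hc0 : a₂ - a ≠ 0 := by
    intro h0
    apply hni
    rw [sub_eq_zero.mp h0]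
    exact Submodule.mem_span_singleton_self a
  -- find y ∈ Y with f(a₂ - a, y) = 0 and f(a,y) ≠ 0
  have hy : ∃ y ∈ Y, sympForm m F (a₂ - a) y = 0 ∧ sympForm m F a y ≠ 0 := by
    by_contra hcon
    push Not at hcon
    obtain ⟨y₀, hy₀, hcy₀⟩ := h.exists_pair hc hc0
    have hz : a - (sympForm m F a y₀ / sympForm m F (a₂ - a) y₀) • (a₂ - a) = 0 := by
      apply h.eq_zero_of_forall (X.sub_mem ha (X.smul_mem _ hc))
      intro y hy
      have h1 := hcon (y - (sympForm m F (a₂ - a) y / sympForm m F (a₂ - a) y₀) • y₀)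
        (Y.sub_mem hy (Y.smul_mem _ hy₀)) (by
          rw [sf_sub_right, sf_smul_right]
          field_simp
          ring)
      rw [sf_sub_right, sf_smul_right] at h1
      rw [sf_sub_left, sf_smul_left]
      field_simp
      field_simp at h1
      linear_combination h1
    obtain ⟨lam, hlam⟩ : ∃ lam : F, a = lam • (a₂ - a) := ⟨_, sub_eq_zero.mp hz⟩
    by_cases hl : lam = 0
    · rw [hl, zero_smul] at hlam
      exact ha0 hlam
    · apply hni
      rw [Submodule.mem_span_singleton]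
      refine ⟨(1 + lam) / lam, ?_⟩
      have : lam • a₂ = (1 + lam) • a := by
        have h' : a = lam • a₂ - lam • a := by rw [← smul_sub]; exact hlam
        rw [add_smul, one_smul]
        calc lam • a₂ = (lam • a₂ - lam • a) + lam • a := by abel
          _ = a + lam • a := by rw [← h']
      rw [div_eq_inv_mul, mul_smul, ← this, smul_smul, inv_mul_cancel₀ hl, one_smul]
  obtain ⟨y, hyY, hy1, hy2⟩ := hy
  have hperp : sympForm m F ((1 / sympForm m F a y) • (a₂ - a)) y = 0 := by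
    rw [sf_smul_left, hy1, mul_zero]
  refine ⟨sg ((1 / sympForm m F a y) • (a₂ - a)) y,
    hM _ (X.smul_mem _ hc) y hyY hperp, ?_⟩
  rw [act_sg hperp, sf_smul_right, h.isoX a ha _ hc, mul_zero, zero_smul, add_zero, smul_smul]
  have : sympForm m F a y * (1 / sympForm m F a y) = 1 := by field_simp
  rw [this, one_smul]
  abel

theorem exists_move' {X Y : Submodule F (Fin m ⊕ Fin m → F)} (h : LPair X Y)
    (hX : 2 ≤ finrank F X) {M : Subgroup (Matrix.symplecticGroup (Fin m) F)} (hM : Std M X Y)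
    {a a₂ : Fin m ⊕ Fin m → F} (ha : a ∈ X) (ha₂ : a₂ ∈ X) (ha0 : a ≠ 0) (ha₂0 : a₂ ≠ 0) :
    ∃ A ∈ M, act A a = a₂ := by
  by_cases hni : a₂ ∈ Submodule.span F {a}
  · -- find a₃ ∈ X outside span{a}
    have hlt : ¬ X ≤ Submodule.span F {a} := by
      intro hle
      have := Submodule.finrank_mono hle
      rw [finrank_span_singleton ha0] at this
      omega
    obtain ⟨a₃, ha₃, hn₃⟩ := SetLike.not_le_iff_exists.mp hlt
    obtain ⟨A₁, hA₁, e₁⟩ := exists_move h hM ha ha₃ ha0 hn₃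
    have hn₃' : a₂ ∉ Submodule.span F {a₃} := by
      intro hmem
      obtain ⟨c, hc⟩ := Submodule.mem_span_singleton.mp hmem
      obtain ⟨d, hd⟩ := Submodule.mem_span_singleton.mp hni
      apply hn₃
      rw [Submodule.mem_span_singleton]
      have hc0 : c ≠ 0 := by
        intro h0
        rw [h0, zero_smul] at hc
        exact ha₂0 hc.symm
      refine ⟨d / c, ?_⟩
      rw [div_eq_inv_mul, mul_smul, hd, ← hc, smul_smul, inv_mul_cancel₀ hc0, one_smul]
    have ha₃0 : a₃ ≠ 0 := by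
      intro h0
      apply hn₃
      rw [h0]
      exact Submodule.zero_mem _
    obtain ⟨A₂, hA₂, e₂⟩ := exists_move h hM ha₃ ha₂ ha₃0 hn₃'
    exact ⟨A₂ * A₁, M.mul_mem hA₂ hA₁, by rw [act_mul, e₁, e₂]⟩
  · exact exists_move h hM ha ha₂ ha0 hni

/-- From one transvection with centre in `X` to all of them. -/
theorem all_tv_X {X Y : Submodule F (Fin m ⊕ Fin m → F)} (h : LPair X Y)
    (hX : 2 ≤ finrank F X) (h2 : (2 : F) ≠ 0)
    {M : Subgroup (Matrix.symplecticGroup (Fin m) F)} (hM : Std M X Y)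
    {a : Fin m ⊕ Fin m → F} (ha : a ∈ X) (ha0 : a ≠ 0) {μ : F} (hμ : μ ≠ 0)
    (hT : tv a μ ∈ M) : ∀ x ∈ X, ∀ c : F, tv x c ∈ M := by
  have s1 : ∀ x ∈ X, tv x μ ∈ M := by
    intro x hx
    by_cases hx0 : x = 0
    · rw [hx0, tv_zero_left]
      exact M.one_mem
    obtain ⟨A, hA, e⟩ := exists_move' h hX hM ha hx ha0 hx0
    have := M.mul_mem (M.mul_mem hA hT) (M.inv_mem hA)
    rwa [conj_tv, e] at this
  intro x hx c
  have e : tv x c = tv (((c / μ + 1) / 2) • x) μ * (tv (((c / μ - 1) / 2) • x) μ)⁻¹ := by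
    rw [tv_smul, tv_smul, tv_inv, tv_mul]
    congr 1
    field_simp
    ring
  rw [e]
  exact M.mul_mem (s1 _ (X.smul_mem _ hx)) (M.inv_mem (s1 _ (X.smul_mem _ hx)))

end Cfsg.Agent.Lib.Helper24.SpLag
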