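import Mathlib
import Cfsg.Agent.Lib.Helper24.SpLagB
import Cfsg.Agent.Lib.Helper27.SympDecomp

set_option autoImplicit false
set_option linter.style.haveILetI false
set_option linter.unusedSimpArgs false

namespace Cfsg.Agent.Lib.Helper24.SpLag

open Matrix Module Cfsg Cfsg.Agent.Lib.Helper27.SympTransv

variable {F : Type*} [Field F] {m : ℕ}

/-- Dual families in a Lagrangian pair. -/
theorem exists_dual_bases {X Y : Submodule F (Fin m ⊕ Fin m → F)} (h : LPair X Y)
    (hX : finrank F X = m) (hY : finrank F Y = m) :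
    ∃ (bX : Basis (Fin m) F X) (bY : Basis (Fin m) F Y),
      ∀ i j, sympForm m F (bX i : Fin m ⊕ Fin m → F) (bY j : Fin m ⊕ Fin m → F) =
        if i = j then 1 else 0 := by
  classical
  obtain ⟨bX⟩ : Nonempty (Basis (Fin m) F X) := ⟨Module.finBasisOfFinrankEq F X hX⟩
  obtain ⟨Φ, hΦ⟩ : ∃ Φ : Y →ₗ[F] (Fin m → F), ∀ (y : Y) (i : Fin m),
      Φ y i = sympForm m F (bX i : Fin m ⊕ Fin m → F) (y : Fin m ⊕ Fin m → F) :=
    ⟨LinearMap.pi (fun i => (sympB m F (bX i : Fin m ⊕ Fin m → F)).comp Y.subtype),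
      fun y i => by simp [sympB_apply]⟩
  have hinj : Function.Injective Φ := by
    rw [← LinearMap.ker_eq_bot, LinearMap.ker_eq_bot']
    intro y hy
    have h1 : ∀ x ∈ X, sympForm m F (y : Fin m ⊕ Fin m → F) x = 0 := by
      intro x hx
      have hx' : x = ∑ i, (bX.repr ⟨x, hx⟩ i) • (bX i : Fin m ⊕ Fin m → F) := by
        have := bX.sum_repr ⟨x, hx⟩
        have h2 := congrArg (fun z : X => (z : Fin m ⊕ Fin m → F)) this
        simp only [Submodule.coe_sum, Submodule.coe_smul] at h2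
        exact h2.symm
      rw [hx', Cfsg.Agent.Lib.Helper27.SympTransv.sf_sum_right]
      apply Finset.sum_eq_zero
      intro i _
      rw [sf_smul_right, sf_swap, ← hΦ, hy]
      simp
    have := h.symm.eq_zero_of_forall y.2 h1
    exact Subtype.ext this
  have hdim : finrank F Y = finrank F (Fin m → F) := by
    rw [hY, Module.finrank_fintype_fun_eq_card, Fintype.card_fin]
  obtain ⟨Φe, hΦe⟩ : ∃ Φe : Y ≃ₗ[F] (Fin m → F), ∀ y, Φe y = Φ y :=
    ⟨LinearMap.linearEquivOfInjective Φ hinj hdim, fun y => rfl⟩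
  refine ⟨bX, Basis.ofEquivFun Φe, fun i j => ?_⟩
  rw [← hΦ, ← hΦe]
  have : Φe ((Basis.ofEquivFun Φe) j) = Pi.single j 1 := by
    rw [Basis.coe_ofEquivFun, LinearEquiv.apply_symm_apply]
  rw [this, Pi.single_apply]


/-- A symplectic element interchanging the two members of a Lagrangian pair. -/
theorem exists_swap {X Y : Submodule F (Fin m ⊕ Fin m → F)} (h : LPair X Y)
    (hX : finrank F X = m) (hY : finrank F Y = m) :
    ∃ A : Matrix.symplecticGroup (Fin m) F, (∀ x ∈ X, act A x ∈ Y) ∧ (∀ y ∈ Y, act A y ∈ X) := by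
  classical
  obtain ⟨bX, bY, hdual⟩ := exists_dual_bases h hX hY
  have hcompl : IsCompl X Y := ⟨disjoint_iff.mpr h.disj, codisjoint_iff.mpr h.sup⟩
  obtain ⟨B, hBl, hBr⟩ : ∃ B : Basis (Fin m ⊕ Fin m) F (Fin m ⊕ Fin m → F),
      (∀ i, B (Sum.inl i) = (bX i : Fin m ⊕ Fin m → F)) ∧
      (∀ i, B (Sum.inr i) = (bY i : Fin m ⊕ Fin m → F)) := by
    refine ⟨(bX.prod bY).map (Submodule.prodEquivOfIsCompl X Y hcompl), ?_, ?_⟩
    · intro i
      simp [Submodule.coe_prodEquivOfIsCompl']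
    · intro i
      simp [Submodule.coe_prodEquivOfIsCompl']
  obtain ⟨sL, hsl, hsr⟩ : ∃ sL : (Fin m ⊕ Fin m → F) →ₗ[F] (Fin m ⊕ Fin m → F),
      (∀ i, sL (bX i : Fin m ⊕ Fin m → F) = (bY i : Fin m ⊕ Fin m → F)) ∧
      (∀ i, sL (bY i : Fin m ⊕ Fin m → F) = -(bX i : Fin m ⊕ Fin m → F)) := by
    refine ⟨B.constr F (Sum.elim (fun i => (bY i : Fin m ⊕ Fin m → F))
      (fun i => -(bX i : Fin m ⊕ Fin m → F))), ?_, ?_⟩
    · intro i
      rw [← hBl, Basis.constr_basis, Sum.elim_inl]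
    · intro i
      rw [← hBr, Basis.constr_basis, Sum.elim_inr]
  have hiso : ∀ u v, sympForm m F (sL u) (sL v) = sympForm m F u v := by
    have hB : (sympB m F).compl₁₂ sL sL = sympB m F := by
      apply LinearMap.BilinForm.ext_basis B
      intro i j
      rw [LinearMap.compl₁₂_apply, sympB_apply, sympB_apply]
      rcases i with i | i <;> rcases j with j | j
      · rw [hBl, hBl, hsl, hsl, h.isoX _ (bX i).2 _ (bX j).2, h.isoY _ (bY i).2 _ (bY j).2]
      · rw [hBl, hBr, hsl, hsr, sf_neg_right, sf_swap, neg_neg, hdual, hdual]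
        simp [eq_comm]
      · rw [hBr, hBl, hsr, hsl, sf_neg_left, hdual, sf_swap, hdual]
        simp [eq_comm]
      · rw [hBr, hBr, hsr, hsr, sf_neg_left, sf_neg_right, h.isoX _ (bX i).2 _ (bX j).2,
          h.isoY _ (bY i).2 _ (bY j).2]
        simp
    intro u v
    have := congrArg (fun T : LinearMap.BilinForm F (Fin m ⊕ Fin m → F) => T u v) hB
    simpa [LinearMap.compl₁₂_apply, sympB_apply] using this
  have hinj : ∀ x ∈ (⊤ : Submodule F (Fin m ⊕ Fin m → F)), sL x = 0 → x = 0 := by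
    intro x _ hx
    by_contra h0
    obtain ⟨v, hv⟩ := sf_nondeg h0
    apply hv
    rw [← hiso, hx, sf_zero_left]
  obtain ⟨A, hA⟩ := Cfsg.Agent.Lib.Helper27.SympTransv.witt_sp_submodule
    (⊤ : Submodule F (Fin m ⊕ Fin m → F)) sL (fun x _ x' _ => hiso x x') hinj
  refine ⟨A, ?_, ?_⟩
  · intro x hx
    rw [hA x Submodule.mem_top]
    have hx' : x = ∑ i, (bX.repr ⟨x, hx⟩ i) • (bX i : Fin m ⊕ Fin m → F) := by
      have := bX.sum_repr ⟨x, hx⟩
      have h2 := congrArg (fun z : X => (z : Fin m ⊕ Fin m → F)) this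
      simp only [Submodule.coe_sum, Submodule.coe_smul] at h2
      exact h2.symm
    rw [hx', map_sum]
    apply Y.sum_mem
    intro i _
    rw [map_smul, hsl]
    exact Y.smul_mem _ (bY i).2
  · intro y hy
    rw [hA y Submodule.mem_top]
    have hy' : y = ∑ i, (bY.repr ⟨y, hy⟩ i) • (bY i : Fin m ⊕ Fin m → F) := by
      have := bY.sum_repr ⟨y, hy⟩
      have h2 := congrArg (fun z : Y => (z : Fin m ⊕ Fin m → F)) this
      simp only [Submodule.coe_sum, Submodule.coe_smul] at h2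
      exact h2.symm
    rw [hy', map_sum]
    apply X.sum_mem
    intro i _
    rw [map_smul, hsr]
    exact X.smul_mem _ (X.neg_mem (bX i).2)

end Cfsg.Agent.Lib.Helper24.SpLag
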