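import Mathlib
import Cfsg.Agent.Lib.Helper24.SpLagC
import Cfsg.Prelude.Def_GeometricClasses

set_option autoImplicit false
set_option linter.style.haveILetI false
set_option linter.unusedSimpArgs false

namespace Cfsg.Agent.Lib.Helper24.SpLag

open Matrix Module Cfsg Cfsg.Geo Cfsg.Agent.Lib.Helper27.SympTransv

variable {F : Type*} [Field F] {m : ℕ}

theorem eq_top_of_both {X Y : Submodule F (Fin m ⊕ Fin m → F)} (h : LPair X Y)
    {M : Subgroup (Matrix.symplecticGroup (Fin m) F)} (hM : Std M X Y)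
    (hTX : ∀ x ∈ X, ∀ c : F, tv x c ∈ M) (hTY : ∀ y ∈ Y, ∀ c : F, tv y c ∈ M) : M = ⊤ := by
  apply eq_top_of_tv_mem
  intro w c
  obtain ⟨x, hx, y, hy, rfl⟩ := h.decomp w
  by_cases hxy : sympForm m F x y = 0
  · rw [tv_add_eq hxy]
    exact M.mul_mem (M.mul_mem (hM _ (X.smul_mem c hx) y hy
      (by rw [sf_smul_left, hxy, mul_zero])) (hTX x hx c)) (hTY y hy c)
  · have e : act (tv y (1 / sympForm m F x y)) x = x + y := by
      rw [act_tv]
      have : 1 / sympForm m F x y * sympForm m F x y = 1 := by field_simp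
      rw [this, one_smul]
    have := conj_tv (tv y (1 / sympForm m F x y)) x c
    rw [e] at this
    rw [← this]
    exact M.mul_mem (M.mul_mem (hTY y hy _) (hTX x hx c)) (M.inv_mem (hTY y hy _))

theorem act_injective (A : Matrix.symplecticGroup (Fin m) F) : Function.Injective (act A) := by
  intro x y hxy
  have := congrArg (act A⁻¹) hxy
  rwa [act_inv_act, act_inv_act] at this

theorem map_eq_of_maps (A : Matrix.symplecticGroup (Fin m) F)
    {W W' : Submodule F (Fin m ⊕ Fin m → F)} (hdim : finrank F W = finrank F W')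
    (hmaps : ∀ w ∈ W, act A w ∈ W') :
    W.map (Matrix.toLin' (A : Matrix (Fin m ⊕ Fin m) (Fin m ⊕ Fin m) F)) = W' := by
  have hinj : Function.Injective (Matrix.toLin' (A : Matrix (Fin m ⊕ Fin m) (Fin m ⊕ Fin m) F)) := by
    intro x y hxy
    rw [Matrix.toLin'_apply, Matrix.toLin'_apply] at hxy
    exact act_injective A hxy
  apply Submodule.eq_of_le_of_finrank_eq
  · rintro _ ⟨w, hw, rfl⟩
    rw [Matrix.toLin'_apply]
    exact hmaps w hw
  · rw [← hdim]
    exact (LinearEquiv.finrank_eq (Submodule.equivMapOfInjective _ hinj W)).symm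

/-- The stabiliser of the pair inside the symplectic group. -/
def KD (D : Fin 2 → Submodule F (Fin m ⊕ Fin m → F)) :
    Subgroup (Matrix.symplecticGroup (Fin m) F) :=
  (decompositionStabilizer D).comap spHom

theorem mem_KD_of_fix {D : Fin 2 → Submodule F (Fin m ⊕ Fin m → F)}
    (A : Matrix.symplecticGroup (Fin m) F)
    (h0 : ∀ w ∈ D 0, act A w ∈ D 0) (h1 : ∀ w ∈ D 1, act A w ∈ D 1) : A ∈ KD D := by
  refine ⟨1, fun i => ?_⟩
  fin_cases i
  · exact map_eq_of_maps A rfl h0
  · exact map_eq_of_maps A rfl h1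

theorem mem_KD_of_swap {D : Fin 2 → Submodule F (Fin m ⊕ Fin m → F)}
    (hdim : finrank F (D 0) = finrank F (D 1)) (A : Matrix.symplecticGroup (Fin m) F)
    (h0 : ∀ w ∈ D 0, act A w ∈ D 1) (h1 : ∀ w ∈ D 1, act A w ∈ D 0) : A ∈ KD D := by
  refine ⟨Equiv.swap 0 1, fun i => ?_⟩
  fin_cases i
  · exact map_eq_of_maps A hdim h0
  · exact map_eq_of_maps A hdim.symm h1

theorem KD_cases {D : Fin 2 → Submodule F (Fin m ⊕ Fin m → F)}
    {A : Matrix.symplecticGroup (Fin m) F} (hA : A ∈ KD D) :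
    ∀ w ∈ D 0, act A w ∈ D 0 ∨ act A w ∈ D 1 := by
  obtain ⟨σ, hσ⟩ := hA
  intro w hw
  have h1 : act A w ∈ D (σ 0) := by
    rw [← hσ 0]
    exact ⟨w, hw, by rw [Matrix.toLin'_apply]; rfl⟩
  rcases Fin.exists_fin_two.mp ⟨σ 0, rfl⟩ with h | h
  · left; rwa [← h]
  · right; rwa [← h]


theorem union_lemma {W P Q : Submodule F (Fin m ⊕ Fin m → F)}
    (A : Matrix.symplecticGroup (Fin m) F) (h : ∀ w ∈ W, act A w ∈ P ∨ act A w ∈ Q) :
    (∀ w ∈ W, act A w ∈ P) ∨ (∀ w ∈ W, act A w ∈ Q) := by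
  by_contra hcon
  push Not at hcon
  obtain ⟨⟨x, hx, hxP⟩, ⟨y, hy, hyQ⟩⟩ := hcon
  have hxQ : act A x ∈ Q := (h x hx).resolve_left hxP
  have hyP : act A y ∈ P := (h y hy).resolve_right hyQ
  rcases h (x + y) (W.add_mem hx hy) with h1 | h1
  · rw [act_add] at h1
    apply hxP
    have := P.sub_mem h1 hyP
    rwa [add_sub_cancel_right] at this
  · rw [act_add] at h1
    apply hyQ
    have := Q.sub_mem h1 hxQ
    rwa [add_sub_cancel_left] at this

theorem exists_perp_ne_zero {W : Submodule F (Fin m ⊕ Fin m → F)} (hW : 2 ≤ finrank F W)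
    (a : Fin m ⊕ Fin m → F) : ∃ b ∈ W, b ≠ 0 ∧ sympForm m F a b = 0 := by
  have c1 := fin_cut' W (sympB m F a)
  have hne : (W ⊓ LinearMap.ker (sympB m F a) : Submodule F (Fin m ⊕ Fin m → F)) ≠ ⊥ := by
    intro h0
    rw [h0, finrank_bot] at c1
    omega
  obtain ⟨b, hb, hb0⟩ := Submodule.exists_mem_ne_zero_of_ne_bot hne
  rw [mem_cut'] at hb
  exact ⟨b, hb.1, hb0, hb.2⟩

theorem act_eq_zero {A : Matrix.symplecticGroup (Fin m) F} {x : Fin m ⊕ Fin m → F}
    (h : act A x = 0) : x = 0 := by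
  apply act_injective A
  rw [h, act_zero]

theorem two_ne_zero_of_odd'' [Fintype F] (hF : Odd (Fintype.card F)) : (2 : F) ≠ 0 := by
  intro h
  have hchar : ringChar F = 2 :=
    CharP.ringChar_of_prime_eq_zero Nat.prime_two (by exact_mod_cast h)
  have := FiniteField.even_card_of_char_two hchar
  rcases hF with ⟨k, hk⟩
  omega

theorem main [Fintype F] (hm : 7 ≤ m) (hodd : Odd (Fintype.card F))
    (D : Fin 2 → Submodule F (Fin m ⊕ Fin m → F)) (hD : IsMDecomposition m D)
    (hts : ∀ i, IsTotallySingularFor (sympForm m F) (D i)) :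
    IsMaximalIn (spGL m F) (decompositionStabilizer D ⊓ spGL m F) := by
  have h2 : (2 : F) ≠ 0 := two_ne_zero_of_odd'' hodd
  have hr0 := hD.finrank_eq 0
  have hr1 := hD.finrank_eq 1
  have hdisj : D 0 ⊓ D 1 = ⊥ :=
    disjoint_iff.mp (hD.indep.pairwiseDisjoint (by decide : (0 : Fin 2) ≠ 1))
  have hsup : D 0 ⊔ D 1 = ⊤ := by
    rw [eq_top_iff, ← hD.iSup_eq_top]
    apply iSup_le
    intro i
    fin_cases i
    · exact le_sup_left
    · exact le_sup_right
  have hLP : LPair (D 0) (D 1) := ⟨hts 0, hts 1, hdisj, hsup⟩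
  have hStd : Std (KD D) (D 0) (D 1) := by
    intro x hx y hy hxy
    apply mem_KD_of_fix
    · intro w hw
      rw [act_sg hxy, hts 0 w hw x hx, zero_smul, add_zero]
      exact (D 0).add_mem hw ((D 0).smul_mem _ hx)
    · intro w hw
      rw [act_sg hxy, hts 1 w hw y hy, zero_smul, add_zero]
      exact (D 1).add_mem hw ((D 1).smul_mem _ hy)
  have hinter : ∀ v, v ∈ D 0 → v ∈ D 1 → v = 0 := by
    intro v h0 h1
    have : v ∈ D 0 ⊓ D 1 := ⟨h0, h1⟩
    rwa [hdisj, Submodule.mem_bot] at this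
  apply isMaximalIn_of_comap
  · -- proper
    intro htop
    obtain ⟨x, hx, hx0⟩ : ∃ x ∈ D 0, x ≠ 0 := by
      have : D 0 ≠ ⊥ := by
        intro h0
        rw [h0, finrank_bot] at hr0
        omega
      exact Submodule.exists_mem_ne_zero_of_ne_bot this
    obtain ⟨y₀, hy₀, hxy₀⟩ := hLP.exists_pair hx hx0
    obtain ⟨y, hy, hxy⟩ : ∃ y ∈ D 1, sympForm m F x y = 1 :=
      ⟨(1 / sympForm m F x y₀) • y₀, (D 1).smul_mem _ hy₀, by
        rw [sf_smul_right]; field_simp⟩
    have hA : tv (x + y) 1 ∈ KD D := by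
      change tv (x + y) 1 ∈ (decompositionStabilizer D).comap spHom
      rw [htop]
      trivial
    have e : act (tv (x + y) 1) x = (2 : F) • x + y := by
      rw [act_tv, sf_add_right, sf_self, hxy, zero_add, one_mul, one_smul, two_smul]
      abel
    rcases KD_cases hA x hx with h | h
    · rw [e] at h
      have hy0 : y ∈ D 0 := by
        have := (D 0).sub_mem h ((D 0).smul_mem 2 hx)
        rwa [add_sub_cancel_left] at this
      have := hinter y hy0 hy
      rw [this, sf_zero_right] at hxy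
      exact zero_ne_one hxy
    · rw [e] at h
      have hx1 : (2 : F) • x ∈ D 1 := by
        have := (D 1).sub_mem h hy
        rwa [add_sub_cancel_right] at this
      have hx1' : x ∈ D 1 := by
        have := (D 1).smul_mem (2 : F)⁻¹ hx1
        rwa [smul_smul, inv_mul_cancel₀ h2, one_smul] at this
      exact hx0 (hinter x hx hx1')
  · -- maximal
    intro M hKM
    by_cases hMK : M = (decompositionStabilizer D).comap spHom
    · exact Or.inl hMK
    right
    have hKM' : KD D ≤ M := hKM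
    obtain ⟨g, hgM, hgK⟩ : ∃ g ∈ M, g ∉ KD D := by
      by_contra hcon
      push Not at hcon
      exact hMK (le_antisymm hcon hKM)
    have hStdM : Std M (D 0) (D 1) := fun x hx y hy hxy => hKM' (hStd x hx y hy hxy)
    -- the non-bad pair
    have hB1 : ∃ a' ∈ D 0, ∃ b' ∈ D 1, sympForm m F a' b' = 0 ∧
        ((act g a' ∉ D 1 ∧ act g b' ∉ D 1) ∨ (act g a' ∉ D 0 ∧ act g b' ∉ D 0)) := by
      by_contra hcon
      push Not at hcon
      have hc : ∀ a' ∈ D 0, ∀ b' ∈ D 1, sympForm m F a' b' = 0 →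
          (act g a' ∈ D 1 ∨ act g b' ∈ D 1) ∧ (act g a' ∈ D 0 ∨ act g b' ∈ D 0) := by
        intro a' ha' b' hb' hab
        obtain ⟨c1, c2⟩ := hcon a' ha' b' hb' hab
        constructor
        · by_contra hn
          push Not at hn
          exact hn.2 (c1 hn.1)
        · by_contra hn
          push Not at hn
          exact hn.2 (c2 hn.1)
      have i0 : ∀ a' ∈ D 0, act g a' ∈ D 0 ∨ act g a' ∈ D 1 := by
        intro a' ha'
        obtain ⟨b', hb', hb'0, hab⟩ := exists_perp_ne_zero (W := D 1) (by omega) a'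
        obtain ⟨c1, c2⟩ := hc a' ha' b' hb' hab
        by_contra hn
        push Not at hn
        have q1 : act g b' ∈ D 1 := c1.resolve_left hn.2
        have q0 : act g b' ∈ D 0 := c2.resolve_left hn.1
        exact hb'0 (act_eq_zero (hinter _ q0 q1))
      have i1 : ∀ b' ∈ D 1, act g b' ∈ D 0 ∨ act g b' ∈ D 1 := by
        intro b' hb'
        obtain ⟨a', ha', ha'0, hba⟩ := exists_perp_ne_zero (W := D 0) (by omega) b'
        have hab : sympForm m F a' b' = 0 := by rw [sf_swap, hba, neg_zero]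
        obtain ⟨c1, c2⟩ := hc a' ha' b' hb' hab
        by_contra hn
        push Not at hn
        have q1 : act g a' ∈ D 1 := c1.resolve_right hn.2
        have q0 : act g a' ∈ D 0 := c2.resolve_right hn.1
        exact ha'0 (act_eq_zero (hinter _ q0 q1))
      -- a nonzero orthogonal pair
      obtain ⟨a₁, ha₁, ha₁0⟩ : ∃ x ∈ D 0, x ≠ 0 := by
        have : D 0 ≠ ⊥ := by
          intro h0
          rw [h0, finrank_bot] at hr0
          omega
        exact Submodule.exists_mem_ne_zero_of_ne_bot this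
      obtain ⟨b₁, hb₁, hb₁0, hab₁⟩ := exists_perp_ne_zero (W := D 1) (by omega) a₁
      obtain ⟨c1, c2⟩ := hc a₁ ha₁ b₁ hb₁ hab₁
      rcases union_lemma g i0 with u0 | u0 <;> rcases union_lemma g i1 with u1 | u1
      · -- both into D 0
        rcases c1 with q | q
        · exact ha₁0 (act_eq_zero (hinter _ (u0 a₁ ha₁) q))
        · exact hb₁0 (act_eq_zero (hinter _ (u1 b₁ hb₁) q))
      · exact hgK (mem_KD_of_fix g u0 u1)
      · exact hgK (mem_KD_of_swap (by rw [hr0, hr1]) g u0 u1)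
      · rcases c2 with q | q
        · exact ha₁0 (act_eq_zero (hinter _ q (u0 a₁ ha₁)))
        · exact hb₁0 (act_eq_zero (hinter _ q (u1 b₁ hb₁)))
    obtain ⟨a', ha', b', hb', hab, hcase⟩ := hB1
    have hgab : sympForm m F (act g a') (act g b') = 0 := by rw [act_preserves, hab]
    have hsgM : sg (act g a') (act g b') ∈ M := by
      rw [← conj_sg]
      exact M.mul_mem (M.mul_mem hgM (hStdM a' ha' b' hb' hab)) (M.inv_mem hgM)
    obtain ⟨s, hs0, hs1⟩ := exists_swap hLP hr0 hr1
    have hsM : s ∈ M := hKM' (mem_KD_of_swap (by rw [hr0, hr1]) s hs0 hs1)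
    rcases hcase with ⟨n1, n2⟩ | ⟨n1, n2⟩
    · obtain ⟨a, haX, ha0, μ, hμ, hT⟩ := exists_tv hLP (by omega) h2 hStdM hgab hsgM n1 n2
      have hTX := all_tv_X hLP (by omega) h2 hStdM haX ha0 hμ hT
      have hTY : ∀ y ∈ D 1, ∀ c : F, tv y c ∈ M := by
        intro y hy c
        have h1 := hTX (act s y) (hs1 y hy) c
        have h3 := M.mul_mem (M.mul_mem (M.inv_mem hsM) h1) (M.inv_mem (M.inv_mem hsM))
        rwa [conj_tv, act_inv_act] at h3
      exact eq_top_of_both hLP hStdM hTX hTY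
    · obtain ⟨a, haX, ha0, μ, hμ, hT⟩ :=
        exists_tv hLP.symm (by omega) h2 hStdM.symm
          (by rw [sf_swap, hgab, neg_zero] : sympForm m F (act g b') (act g a') = 0)
          (by rw [← sg_symm hgab]; exact hsgM) n2 n1
      have hTY := all_tv_X hLP.symm (by omega) h2 hStdM.symm haX ha0 hμ hT
      have hTX : ∀ x ∈ D 0, ∀ c : F, tv x c ∈ M := by
        intro x hx c
        have h1 := hTY (act s x) (hs0 x hx) c
        have h3 := M.mul_mem (M.mul_mem (M.inv_mem hsM) h1) (M.inv_mem (M.inv_mem hsM))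
        rwa [conj_tv, act_inv_act] at h3
      exact eq_top_of_both hLP hStdM hTX hTY

end Cfsg.Agent.Lib.Helper24.SpLag
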