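import Mathlib
import Cfsg.Agent.Lib.Helper24.SpOD
import Cfsg.Agent.Lib.Helper24.OInvH

set_option autoImplicit false
set_option linter.style.haveILetI false
set_option linter.unusedSimpArgs false
set_option linter.unusedSectionVars false

namespace Cfsg.Agent.Lib.Helper24.SpO

open Matrix Cfsg QuadraticMap
open Cfsg.Agent.Lib.Helper19.QuadStd
open Cfsg.Agent.Lib.Helper27.SympTransv Cfsg.Agent.Lib.Helper27.SpInvol
open Cfsg.Agent.Lib.Helper24.OInv

variable {F : Type*} [Field F] {d : ℕ} {Q : (Fin d ⊕ Fin d → F) → F}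

theorem vadd_self' (h2 : (2 : F) = 0) {ι : Type*} (v : ι → F) : v + v = 0 := by
  rw [← two_smul F v, h2, zero_smul]

/-- if all involutions of the symplectic group are conjugate into the orthogonal group then the
form is of plus type or the rank is odd -/
theorem plus_or_odd_of_conj [Fintype F] [CharP F 2] (hd : 1 ≤ d)
    (hQf : ∀ u v, polar Q u v = sympForm d F u v)
    (h : ∀ x ∈ Cfsg.spGL d F, x.1 * x.1 = 1 → x.1 ≠ 1 →
      ∃ g ∈ Cfsg.spGL d F, g⁻¹ * x * g ∈ Cfsg.Geo.quadSimilarityGroup Q) :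
    Cfsg.Geo.IsPlusTypeOn Q ⊤ ∨ Odd d := by
  classical
  have h2 : (2 : F) = 0 := by
    have := CharP.cast_eq_zero F 2
    exact_mod_cast this
  by_contra hcon
  push Not at hcon
  obtain ⟨hnp, hnodd⟩ := hcon
  rw [Nat.not_odd_iff_even] at hnodd
  obtain ⟨k, hk⟩ := hnodd
  obtain ⟨t, htt, hrk, halt⟩ := plus_repA (F := F) h2 d k (by omega) (by omega)
  have hiso : ∀ v, stdPlus d F ((t.1.1 : Matrix _ _ F) *ᵥ v) = stdPlus d F v :=
    fun v => (Cfsg.Agent.Lib.Helper24.OConj.mem_iso_iff _ t.1).mp t.2 v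
  have hsq : (t.1.1 : Matrix _ _ F) * (t.1.1 : Matrix _ _ F) = 1 := by
    have := congrArg (fun x : ↥(Cfsg.isometryGroup F ⇑(stdPlus d F)) =>
      (x.1.1 : Matrix _ _ F)) htt
    exact this
  have hpf : ∀ u v, polar (⇑(stdPlus d F)) u v = sympForm d F u v :=
    fun u v => polar_plus_eq_sf h2 u v
  have htsp : t.1 ∈ Cfsg.spGL d F := iso_le_sp hpf t.1 t.2
  have halt' : ∀ v, sympForm d F v ((t.1.1 : Matrix _ _ F) *ᵥ v) = 0 :=
    (alt_iff h2 hpf _ hiso).mp halt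
  have hne1 : (t.1.1 : Matrix _ _ F) ≠ 1 := by
    intro h1
    rw [h1, sub_self, Matrix.rank_zero] at hrk
    omega
  obtain ⟨g, hg, hgx⟩ := h t.1 htsp hsq hne1
  obtain ⟨y, hy⟩ : ∃ y : GL (Fin d ⊕ Fin d) F, y = g⁻¹ * t.1 * g := ⟨_, rfl⟩
  rw [← hy] at hgx
  have hysp : y ∈ Cfsg.spGL d F := by
    rw [hy]
    exact mul_mem (mul_mem (inv_mem hg) htsp) hg
  have hyiso : y ∈ Cfsg.isometryGroup F Q := by
    rw [← sim_inf_sp hd hQf]
    exact ⟨hgx, hysp⟩
  have hyQ : ∀ v, Q (y.1 *ᵥ v) = Q v := (Cfsg.Agent.Lib.Helper24.OConj.mem_iso_iff Q y).mp hyiso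
  have hgy : g.1 * y.1 = (t.1.1 : Matrix _ _ F) * g.1 := by
    have : g * y = t.1 * g := by rw [hy]; group
    have := congrArg (fun x : GL (Fin d ⊕ Fin d) F => x.1) this
    exact this
  have hgsp : ∀ u v, sympForm d F (g.1 *ᵥ u) (g.1 *ᵥ v) = sympForm d F u v :=
    (mem_spGL_iff g).mp hg
  have hyalt : ∀ v, sympForm d F v (y.1 *ᵥ v) = 0 := by
    intro v
    rw [← hgsp, Matrix.mulVec_mulVec, hgy, ← Matrix.mulVec_mulVec]
    exact halt' _
  have hyaltQ : ∀ v, Q (v + y.1 *ᵥ v) = 0 := (alt_iff h2 hQf y.1 hyQ).mpr hyalt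
  have hrank : (y.1 - 1).rank = d := by
    have h3 : g.1 * (y.1 - 1) = ((t.1.1 : Matrix _ _ F) - 1) * g.1 := by
      rw [mul_sub, sub_mul, hgy, mul_one, one_mul]
    have hdet : IsUnit (g.1 : Matrix (Fin d ⊕ Fin d) (Fin d ⊕ Fin d) F).det :=
      (Matrix.isUnit_iff_isUnit_det _).mp g.isUnit
    rw [← Matrix.rank_mul_eq_right_of_isUnit_det g.1 (y.1 - 1) hdet, h3,
      Matrix.rank_mul_eq_left_of_isUnit_det g.1 ((t.1.1 : Matrix _ _ F) - 1) hdet, hrk]
    omega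
  apply hnp
  refine ⟨LinearMap.range (y.1 - 1).mulVecLin, le_top, ?_, ?_⟩
  · rintro _ ⟨v, rfl⟩
    rw [Matrix.mulVecLin_apply, Matrix.sub_mulVec, Matrix.one_mulVec]
    have : y.1 *ᵥ v - v = v + y.1 *ᵥ v := by
      have h3 := vadd_self' h2 v
      have h4 : -v = v := neg_eq_of_add_eq_zero_left h3
      rw [sub_eq_add_neg, h4, add_comm]
    rw [this]
    exact hyaltQ v
  · have : Module.finrank F (LinearMap.range (y.1 - 1).mulVecLin) = d := hrank
    rw [this, finrank_top, Module.finrank_fintype_fun_eq_card]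
    simp only [Fintype.card_sum, Fintype.card_fin]
    omega

end Cfsg.Agent.Lib.Helper24.SpO
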