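import Mathlib
import Cfsg.Agent.Lib.Helper24.SpOE
import Cfsg.Agent.Lib.Helper24.OInvI
import Cfsg.Agent.Lib.Helper24.NsPtE

set_option autoImplicit false
set_option linter.style.haveILetI false
set_option linter.unusedSimpArgs false
set_option linter.unusedSectionVars false

namespace Cfsg.Agent.Lib.Helper24.SpO

open Matrix Cfsg QuadraticMap
open Cfsg.Agent.Lib.Helper19.QuadStd
open Cfsg.Agent.Lib.Helper27.SympTransv Cfsg.Agent.Lib.Helper27.SpInvol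
open Cfsg.Agent.Lib.Helper24.OInv Cfsg.Agent.Lib.Helper24.OEv

variable {F : Type*} [Field F] {d : ℕ} {Q : (Fin d ⊕ Fin d → F) → F}

theorem not_scalar_of_fpf (h2 : (2 : F) = 0) (hd : 1 ≤ d) (x : GL (Fin d ⊕ Fin d) F)
    (hx : x ∈ Cfsg.spGL d F) (hfix : ∀ v, x.1 *ᵥ v = v → v = 0) :
    ∀ z : F, x.1 ≠ z • (1 : Matrix (Fin d ⊕ Fin d) (Fin d ⊕ Fin d) F) := by
  intro z hz
  obtain ⟨u, v, huv⟩ := Cfsg.Agent.Lib.Helper24.OrthInSp.exists_sf_eq_one (F := F) hd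
  have h1 := (mem_spGL_iff x).mp hx u v
  rw [hz, Matrix.smul_mulVec, Matrix.smul_mulVec, Matrix.one_mulVec, Matrix.one_mulVec,
    sf_smul_left, sf_smul_right, huv] at h1
  have h3 : (z - 1) * (z - 1) = 0 := by linear_combination h1 - (z - 1) * h2
  have hz1 : z = 1 := by
    rcases mul_eq_zero.mp h3 with h | h <;> exact sub_eq_zero.mp h
  have hu0 : u = 0 := by
    apply hfix
    rw [hz, hz1, one_smul, Matrix.one_mulVec]
  rw [hu0, sf_zero_left] at huv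
  exact zero_ne_one huv

theorem conj_fpf {ι : Type} [Fintype ι] [DecidableEq ι] (x g : GL ι F) (r : ℕ)
    (hxr : x.1 ^ r = 1) (hfix : ∀ v, x.1 *ᵥ v = v → v = 0) :
    (g⁻¹ * x * g).1 ^ r = 1 ∧ ∀ v, (g⁻¹ * x * g).1 *ᵥ v = v → v = 0 := by
  have hxr' : x ^ r = 1 := by
    apply Units.ext
    rw [Units.val_pow_eq_pow_val]
    exact hxr
  constructor
  · rw [← Units.val_pow_eq_pow_val]
    have : (g⁻¹ * x * g) ^ r = 1 := by
      have h1 := conj_pow (i := r) (a := g⁻¹) (b := x)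
      rw [inv_inv] at h1
      rw [h1, hxr']
      group
    rw [this]
    rfl
  · intro v hv
    have h1 : g.1 * (g⁻¹ * x * g).1 = x.1 * g.1 := by
      have : g * (g⁻¹ * x * g) = x * g := by group
      have := congrArg (fun y : GL ι F => y.1) this
      exact this
    have h3 : x.1 *ᵥ (g.1 *ᵥ v) = g.1 *ᵥ v := by
      rw [Matrix.mulVec_mulVec, ← h1, ← Matrix.mulVec_mulVec, hv]
    have h4 := hfix _ h3
    have h5 : (g⁻¹).1 *ᵥ (g.1 *ᵥ v) = v := by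
      rw [Matrix.mulVec_mulVec, ← Units.val_mul, inv_mul_cancel, Units.val_one, Matrix.one_mulVec]
    rw [← h5, h4, Matrix.mulVec_zero]

theorem cj_fpf {ι κ : Type} [Fintype ι] [DecidableEq ι] [Fintype κ] [DecidableEq κ]
    (T : (κ → F) ≃ₗ[F] (ι → F)) (y : GL κ F) (r : ℕ)
    (hyr : y.1 ^ r = 1) (hfix : ∀ v, y.1 *ᵥ v = v → v = 0) :
    (cjGL T y).1 ^ r = 1 ∧ ∀ v, (cjGL T y).1 *ᵥ v = v → v = 0 := by
  constructor
  · rw [cjGL_val, ← cj_pow, hyr, cj_one]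
  · intro v hv
    rw [cjGL_mulVec] at hv
    have h1 : y.1 *ᵥ T.symm v = T.symm v := by
      have := congrArg T.symm hv
      rw [LinearEquiv.symm_apply_apply] at this
      exact this
    have h3 := hfix _ h1
    rw [← T.apply_symm_apply v, h3, map_zero]

/-- plus type: an element of odd prime order dividing the index without conjugates in the
orthogonal group -/
theorem no_conj_plus [Fintype F] [CharP F 2] (hd : 1 ≤ d)
    (hQf : ∀ u v, polar Q u v = sympForm d F u v)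
    (T : (Fin d ⊕ Fin d → F) ≃ₗ[F] (Fin d ⊕ Fin d → F)) (hT : ∀ w, Q (T w) = stdPlus d F w)
    (r : ℕ) [Fact r.Prime] (hr2 : r ≠ 2)
    (hΩ : r ∣ (Cfsg.Geo.quadSimilarityGroup Q).relIndex (Cfsg.spGL d F)) :
    ∃ x ∈ Cfsg.spGL d F, x.1 ^ r = 1 ∧
      (∀ z : F, x.1 ≠ z • (1 : Matrix (Fin d ⊕ Fin d) (Fin d ⊕ Fin d) F)) ∧
      ¬ ∃ g ∈ Cfsg.spGL d F, g⁻¹ * x * g ∈ Cfsg.Geo.quadSimilarityGroup Q := by
  classical
  have h2 : (2 : F) = 0 := by
    have := CharP.cast_eq_zero F 2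
    exact_mod_cast this
  have hr : r.Prime := Fact.out
  have hx0 : ((Fintype.card F : ℕ) : ZMod r) ≠ 0 :=
    Cfsg.Agent.Lib.Helper24.NsPt.card_ne_zero_zmod r hr2
  have hidx := two_mul_relIndex_plus (q := Fintype.card F) rfl hd hQf T hT
  have hm : ((Fintype.card F : ℕ) : ZMod r) ^ d = -1 := by
    obtain ⟨R, hR⟩ := hΩ
    have h3 := congrArg (fun n : ℕ => (n : ZMod r)) hidx
    simp only [Nat.cast_mul, Nat.cast_add, Nat.cast_pow, Nat.cast_one, Nat.cast_ofNat] at h3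
    rw [hR, Nat.cast_mul, ZMod.natCast_self, zero_mul, mul_zero] at h3
    have h4 := (mul_eq_zero.mp h3.symm).resolve_left (pow_ne_zero d hx0)
    exact eq_neg_of_add_eq_zero_left h4
  have hne := one_ne_neg_one_zmod (r := r) hr2
  have hx1 : ((Fintype.card F : ℕ) : ZMod r) ≠ 1 := by
    intro h
    rw [h, one_pow] at hm
    exact hne hm
  obtain ⟨k, rfl⟩ : ∃ k, d = k + 1 := ⟨d - 1, by omega⟩
  obtain ⟨a₀, c₀, hac⟩ := exists_aniso F
  have ha₀ := a_ne_zero hac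
  obtain ⟨g', hg'r, hg'fix⟩ := Cfsg.Agent.Lib.Helper24.NsPt.exists_minus_no_fix (p := 2)
    (q := Fintype.card F) rfl k r a₀ c₀ hac hr hr2 hr2 hm
  have hg'iso : ∀ v, stdMinus k F a₀ c₀ ((g'.1.1 : Matrix _ _ F) *ᵥ v) = stdMinus k F a₀ c₀ v := by
    intro v
    rw [stdMinus_apply, stdMinus_apply]
    exact (Cfsg.Agent.Lib.Helper24.OConj.mem_iso_iff _ g'.1).mp g'.2 v
  have hpol : ∀ a b, polar ⇑(stdMinus k F a₀ c₀) ((g'.1.1 : Matrix _ _ F) *ᵥ a)
      ((g'.1.1 : Matrix _ _ F) *ᵥ b) = polar ⇑(stdMinus k F a₀ c₀) a b := by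
    intro a b
    unfold polar
    rw [← Matrix.mulVec_add, hg'iso, hg'iso, hg'iso]
  obtain ⟨T₀, hT₀⟩ : ∃ T₀ : (Fin (k + 1) ⊕ Fin (k + 1) → F) ≃ₗ[F]
      ((Fin k ⊕ Fin k) ⊕ Fin 2 → F), T₀ = minusT (n := k) ha₀ := ⟨_, rfl⟩
  have hTp : ∀ u v, polar ⇑(stdMinus k F a₀ c₀) (T₀ u) (T₀ v) = sympForm (k + 1) F u v := by
    intro u v
    rw [hT₀]
    exact polar_minusT h2 ha₀ c₀ u v
  have key : ∀ a b, sympForm (k + 1) F (T₀.symm a) (T₀.symm b) =
      polar ⇑(stdMinus k F a₀ c₀) a b := by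
    intro a b
    rw [← hTp, LinearEquiv.apply_symm_apply, LinearEquiv.apply_symm_apply]
  obtain ⟨x, hxdef⟩ : ∃ x : GL (Fin (k + 1) ⊕ Fin (k + 1)) F, x = cjGL T₀.symm g'.1 := ⟨_, rfl⟩
  have hxsp : x ∈ Cfsg.spGL (k + 1) F := by
    rw [mem_spGL_iff]
    intro u v
    rw [hxdef, cjGL_mulVec, cjGL_mulVec, LinearEquiv.symm_symm, key, hpol, hTp]
  obtain ⟨hxr, hxfix⟩ := cj_fpf T₀.symm g'.1 r hg'r hg'fix
  rw [← hxdef] at hxr hxfix
  refine ⟨x, hxsp, hxr, not_scalar_of_fpf h2 hd x hxsp hxfix, ?_⟩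
  rintro ⟨g, hg, hgx⟩
  obtain ⟨hyr, hyfix⟩ := conj_fpf x g r hxr hxfix
  obtain ⟨y, hy⟩ : ∃ y : GL (Fin (k + 1) ⊕ Fin (k + 1)) F, y = g⁻¹ * x * g := ⟨_, rfl⟩
  rw [← hy] at hgx hyr hyfix
  have hysp : y ∈ Cfsg.spGL (k + 1) F := by
    rw [hy]
    exact mul_mem (mul_mem (inv_mem hg) hxsp) hg
  have hyiso : y ∈ Cfsg.isometryGroup F Q := by
    rw [← sim_inf_sp hd hQf]
    exact ⟨hgx, hysp⟩
  have hT' : ∀ w, Cfsg.quadFormPlus (k + 1) F (T.symm w) = Q w := by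
    intro w
    rw [← stdPlus_apply, ← hT, LinearEquiv.apply_symm_apply]
  have hy'iso : cjGL T.symm y ∈ Cfsg.isometryGroup F (Cfsg.quadFormPlus (k + 1) F) :=
    (mem_iso_cjGL T.symm hT' y).mpr hyiso
  obtain ⟨hy'r, hy'fix⟩ := cj_fpf T.symm y r hyr hyfix
  exact excl_plus (cjGL T.symm y).1
    ((Cfsg.Agent.Lib.Helper24.OConj.mem_iso_iff _ _).mp hy'iso) hr2 hy'r hy'fix hx0 hx1 hm

theorem exists_inl_subspace (F : Type*) [Field F] (d : ℕ) :
    ∃ E : Submodule F (Fin d ⊕ Fin d → F), Module.finrank F E = d ∧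
      ∀ w ∈ E, ∀ i : Fin d, w (Sum.inr i) = 0 := by
  classical
  obtain ⟨b, hb⟩ : ∃ b : Fin d → (Fin d ⊕ Fin d → F),
      b = fun i => Pi.basisFun F (Fin d ⊕ Fin d) (Sum.inl i) := ⟨_, rfl⟩
  have hli : LinearIndependent F b := by
    rw [hb]
    exact (Pi.basisFun F (Fin d ⊕ Fin d)).linearIndependent.comp Sum.inl Sum.inl_injective
  refine ⟨Submodule.span F (Set.range b), ?_, ?_⟩
  · rw [finrank_span_eq_card hli, Fintype.card_fin]
  · intro w hw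
    induction hw using Submodule.span_induction with
    | mem x hx =>
      obtain ⟨j, rfl⟩ := hx
      intro i
      rw [hb]
      simp only [Pi.basisFun_apply]
      rw [Pi.single_apply, if_neg (by simp)]
    | zero => intro i; rfl
    | add x y _ _ hx hy =>
      intro i
      rw [Pi.add_apply, hx i, hy i, add_zero]
    | smul c x _ hx =>
      intro i
      rw [Pi.smul_apply, hx i, smul_zero]

/-- the linear equivalence of an invertible matrix -/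
noncomputable def glEquiv {ι : Type} [Fintype ι] [DecidableEq ι] (g : GL ι F) :
    (ι → F) ≃ₗ[F] (ι → F) where
  toFun v := g.1 *ᵥ v
  map_add' := Matrix.mulVec_add _
  map_smul' c v := Matrix.mulVec_smul _ _ _
  invFun v := g⁻¹.1 *ᵥ v
  left_inv v := by
    show g⁻¹.1 *ᵥ (g.1 *ᵥ v) = v
    rw [Matrix.mulVec_mulVec, ← Units.val_mul, inv_mul_cancel, Units.val_one, Matrix.one_mulVec]
  right_inv v := by
    show g.1 *ᵥ (g⁻¹.1 *ᵥ v) = v
    rw [Matrix.mulVec_mulVec, ← Units.val_mul, mul_inv_cancel, Units.val_one, Matrix.one_mulVec]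

theorem glEquiv_apply {ι : Type} [Fintype ι] [DecidableEq ι] (g : GL ι F) (v : ι → F) :
    glEquiv g v = g.1 *ᵥ v := rfl

/-- the diagonal element `diag(μ, μ⁻¹)` -/
theorem exists_diag (hd : 1 ≤ d) (μ : Fˣ) (hμ2 : μ * μ ≠ 1) :
    ∃ x ∈ Cfsg.spGL d F, (∀ n : ℕ, μ ^ n = 1 → x.1 ^ n = 1) ∧
      (∀ z : F, x.1 ≠ z • (1 : Matrix (Fin d ⊕ Fin d) (Fin d ⊕ Fin d) F)) ∧
      ∀ w : Fin d ⊕ Fin d → F, (∀ i : Fin d, w (Sum.inr i) = 0) → x.1 *ᵥ w = (μ : F) • w := by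
  classical
  obtain ⟨dg, hdg⟩ : ∃ dg : Fin d ⊕ Fin d → F,
      dg = Sum.elim (fun _ => (μ : F)) (fun _ => ((μ⁻¹ : Fˣ) : F)) := ⟨_, rfl⟩
  obtain ⟨dgi, hdgi⟩ : ∃ dgi : Fin d ⊕ Fin d → F,
      dgi = Sum.elim (fun _ => ((μ⁻¹ : Fˣ) : F)) (fun _ => (μ : F)) := ⟨_, rfl⟩
  have hμ : (μ : F) * ((μ⁻¹ : Fˣ) : F) = 1 := Units.mul_inv μ
  have hμ' : ((μ⁻¹ : Fˣ) : F) * (μ : F) = 1 := Units.inv_mul μ
  have h1 : Matrix.diagonal dg * Matrix.diagonal dgi = 1 := by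
    rw [Matrix.diagonal_mul_diagonal, ← Matrix.diagonal_one]
    congr 1
    funext i
    rcases i with i | i
    · rw [hdg, hdgi]; exact hμ
    · rw [hdg, hdgi]; exact hμ'
  have h1' : Matrix.diagonal dgi * Matrix.diagonal dg = 1 := by
    rw [Matrix.diagonal_mul_diagonal, ← Matrix.diagonal_one]
    congr 1
    funext i
    rcases i with i | i
    · rw [hdg, hdgi]; exact hμ'
    · rw [hdg, hdgi]; exact hμ
  obtain ⟨x, hx⟩ : ∃ x : GL (Fin d ⊕ Fin d) F, x.1 = Matrix.diagonal dg :=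
    ⟨⟨Matrix.diagonal dg, Matrix.diagonal dgi, h1, h1'⟩, rfl⟩
  have hxl : ∀ (u : Fin d ⊕ Fin d → F) (i : Fin d), (x.1 *ᵥ u) (Sum.inl i) = μ * u (Sum.inl i) := by
    intro u i
    rw [hx, Matrix.mulVec_diagonal, hdg]
    rfl
  have hxr : ∀ (u : Fin d ⊕ Fin d → F) (i : Fin d), (x.1 *ᵥ u) (Sum.inr i) =
      ((μ⁻¹ : Fˣ) : F) * u (Sum.inr i) := by
    intro u i
    rw [hx, Matrix.mulVec_diagonal, hdg]
    rfl
  refine ⟨x, ?_, ?_, ?_, ?_⟩
  · rw [mem_spGL_iff]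
    intro u v
    rw [sf_apply, sf_apply]
    apply Finset.sum_congr rfl
    intro i _
    rw [hxl, hxl, hxr, hxr]
    linear_combination (u (Sum.inr i) * v (Sum.inl i) - u (Sum.inl i) * v (Sum.inr i)) * hμ
  · intro n hn
    rw [hx, Matrix.diagonal_pow, ← Matrix.diagonal_one]
    congr 1
    funext i
    rcases i with i | i
    · rw [hdg]
      show (μ : F) ^ n = 1
      rw [← Units.val_pow_eq_pow_val, hn, Units.val_one]
    · rw [hdg]
      show ((μ⁻¹ : Fˣ) : F) ^ n = 1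
      rw [← Units.val_pow_eq_pow_val, inv_pow, hn, inv_one, Units.val_one]
  · intro z hz
    have e1 := congrFun (congrFun hz (Sum.inl ⟨0, hd⟩)) (Sum.inl ⟨0, hd⟩)
    have e2 := congrFun (congrFun hz (Sum.inr ⟨0, hd⟩)) (Sum.inr ⟨0, hd⟩)
    rw [hx, Matrix.diagonal_apply_eq, Matrix.smul_apply, Matrix.one_apply_eq, smul_eq_mul,
      mul_one, hdg] at e1 e2
    simp only [Sum.elim_inl, Sum.elim_inr] at e1 e2
    apply hμ2
    apply Units.ext
    rw [Units.val_mul, Units.val_one]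
    calc (μ : F) * (μ : F) = (μ : F) * z := by rw [← e1]
      _ = (μ : F) * ((μ⁻¹ : Fˣ) : F) := by rw [e2]
      _ = 1 := hμ
  · intro w hw
    funext j
    rcases j with i | i
    · rw [hxl, Pi.smul_apply, smul_eq_mul]
    · rw [hxr, Pi.smul_apply, smul_eq_mul, hw i, mul_zero, mul_zero]

/-- minus type: an element of odd prime order dividing the index without conjugates in the
orthogonal group -/
theorem no_conj_minus [Fintype F] [CharP F 2] {k : ℕ} (hkd : k + 1 = d)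
    (hQs : ∀ (c : F) (v : Fin d ⊕ Fin d → F), Q (c • v) = c ^ 2 * Q v)
    (hQf : ∀ u v, polar Q u v = sympForm d F u v) (a c : F)
    (hac : ∀ z₁ z₂ : F, z₁ ^ 2 + a * z₁ * z₂ + c * z₂ ^ 2 = 0 → z₁ = 0 ∧ z₂ = 0)
    (T : ((Fin k ⊕ Fin k) ⊕ Fin 2 → F) ≃ₗ[F] (Fin d ⊕ Fin d → F))
    (hT : ∀ w, Q (T w) = stdMinus k F a c w)
    (r : ℕ) [Fact r.Prime] (hr2 : r ≠ 2)
    (hΩ : r ∣ (Cfsg.Geo.quadSimilarityGroup Q).relIndex (Cfsg.spGL d F)) :
    ∃ x ∈ Cfsg.spGL d F, x.1 ^ r = 1 ∧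
      (∀ z : F, x.1 ≠ z • (1 : Matrix (Fin d ⊕ Fin d) (Fin d ⊕ Fin d) F)) ∧
      ¬ ∃ g ∈ Cfsg.spGL d F, g⁻¹ * x * g ∈ Cfsg.Geo.quadSimilarityGroup Q := by
  classical
  have h2 : (2 : F) = 0 := by
    have := CharP.cast_eq_zero F 2
    exact_mod_cast this
  have hd : 1 ≤ d := by omega
  have hr : r.Prime := Fact.out
  have hx0 : ((Fintype.card F : ℕ) : ZMod r) ≠ 0 :=
    Cfsg.Agent.Lib.Helper24.NsPt.card_ne_zero_zmod r hr2
  have hidx := two_mul_relIndex_minus (q := Fintype.card F) rfl hkd hQf a c hac T hT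
  have hm : ((Fintype.card F : ℕ) : ZMod r) ^ d = 1 := by
    obtain ⟨R, hR⟩ := hΩ
    have h3 := congrArg (fun n : ℕ => (n : ZMod r)) hidx
    simp only [Nat.cast_mul, Nat.cast_add, Nat.cast_pow, Nat.cast_one, Nat.cast_ofNat] at h3
    rw [hR, Nat.cast_mul, ZMod.natCast_self, zero_mul, mul_zero, zero_add] at h3
    have h4 : ((Fintype.card F : ℕ) : ZMod r) ^ d * (((Fintype.card F : ℕ) : ZMod r) ^ d - 1) = 0 := by
      linear_combination -h3
    have h5 := (mul_eq_zero.mp h4).resolve_left (pow_ne_zero d hx0)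
    exact sub_eq_zero.mp h5
  have hnotplus : ¬ Cfsg.Geo.IsPlusTypeOn Q ⊤ := by
    subst hkd
    exact not_plusType_of_equiv (by simp only [Fintype.card_sum, Fintype.card_fin]; ring) Q a c hac T hT
  by_cases hx1 : ((Fintype.card F : ℕ) : ZMod r) = 1
  · -- diagonal element
    have hdvd : r ∣ Fintype.card Fˣ := by
      rw [Fintype.card_units]
      have h1 : 1 ≤ Fintype.card F := Fintype.card_pos
      rw [← ZMod.natCast_eq_zero_iff, Nat.cast_sub h1, hx1, Nat.cast_one, sub_self]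
    obtain ⟨μ, hμ⟩ := exists_prime_orderOf_dvd_card r hdvd
    have hμr : μ ^ r = 1 := by rw [← hμ]; exact pow_orderOf_eq_one μ
    have hμ2 : μ * μ ≠ 1 := by
      intro h
      have h3 : orderOf μ ∣ 2 := orderOf_dvd_of_pow_eq_one (by rw [pow_two]; exact h)
      rw [hμ] at h3
      exact hr2 ((Nat.prime_dvd_prime_iff_eq hr Nat.prime_two).mp h3)
    obtain ⟨x, hxsp, hxpow, hxns, hxE⟩ := exists_diag (F := F) hd μ hμ2
    refine ⟨x, hxsp, hxpow r hμr, hxns, ?_⟩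
    rintro ⟨g, hg, hgx⟩
    obtain ⟨y, hy⟩ : ∃ y : GL (Fin d ⊕ Fin d) F, y = g⁻¹ * x * g := ⟨_, rfl⟩
    rw [← hy] at hgx
    have hysp : y ∈ Cfsg.spGL d F := by
      rw [hy]
      exact mul_mem (mul_mem (inv_mem hg) hxsp) hg
    have hyiso : y ∈ Cfsg.isometryGroup F Q := by
      rw [← sim_inf_sp hd hQf]
      exact ⟨hgx, hysp⟩
    have hyQ : ∀ v, Q (y.1 *ᵥ v) = Q v :=
      (Cfsg.Agent.Lib.Helper24.OConj.mem_iso_iff Q y).mp hyiso
    obtain ⟨E, hEdim, hE⟩ := exists_inl_subspace F d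
    apply hnotplus
    refine ⟨E.map (glEquiv g⁻¹).toLinearMap, le_top, ?_, ?_⟩
    · rintro _ ⟨w, hw, rfl⟩
      show Q (glEquiv g⁻¹ w) = 0
      rw [glEquiv_apply]
      have h3 : y.1 *ᵥ (g⁻¹.1 *ᵥ w) = (μ : F) • (g⁻¹.1 *ᵥ w) := by
        have h4 : y.1 * g⁻¹.1 = g⁻¹.1 * x.1 := by
          have : y * g⁻¹ = g⁻¹ * x := by rw [hy]; group
          have := congrArg (fun z : GL (Fin d ⊕ Fin d) F => z.1) this
          exact this
        rw [Matrix.mulVec_mulVec, h4, ← Matrix.mulVec_mulVec, hxE w (hE w hw),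
          Matrix.mulVec_smul]
      have h5 := hyQ (g⁻¹.1 *ᵥ w)
      rw [h3, hQs] at h5
      have h6 : ((μ : F) ^ 2 - 1) * Q (g⁻¹.1 *ᵥ w) = 0 := by linear_combination h5
      rcases mul_eq_zero.mp h6 with h7 | h7
      · exfalso
        apply hμ2
        apply Units.ext
        rw [Units.val_mul, Units.val_one]
        linear_combination h7
      · exact h7
    · rw [LinearEquiv.finrank_map_eq (glEquiv g⁻¹), hEdim, finrank_top,
        Module.finrank_fintype_fun_eq_card]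
      simp only [Fintype.card_sum, Fintype.card_fin]
      omega
  · -- fixed point free element of the split orthogonal group
    obtain ⟨g', hg'r, hg'fix⟩ := Cfsg.Agent.Lib.Helper24.NsPt.exists_plus_no_fix (p := 2)
      (q := Fintype.card F) rfl d r hd hr hr2 hr2 hm
    have hpf : ∀ u v, polar (Cfsg.quadFormPlus d F) u v = sympForm d F u v := by
      intro u v
      rw [← coe_stdPlus]
      exact polar_plus_eq_sf h2 u v
    have hxsp : g'.1 ∈ Cfsg.spGL d F := iso_le_sp hpf g'.1 g'.2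
    refine ⟨g'.1, hxsp, hg'r, not_scalar_of_fpf h2 hd g'.1 hxsp hg'fix, ?_⟩
    rintro ⟨g, hg, hgx⟩
    obtain ⟨hyr, hyfix⟩ := conj_fpf g'.1 g r hg'r hg'fix
    obtain ⟨y, hy⟩ : ∃ y : GL (Fin d ⊕ Fin d) F, y = g⁻¹ * g'.1 * g := ⟨_, rfl⟩
    rw [← hy] at hgx hyr hyfix
    have hysp : y ∈ Cfsg.spGL d F := by
      rw [hy]
      exact mul_mem (mul_mem (inv_mem hg) hxsp) hg
    have hyiso : y ∈ Cfsg.isometryGroup F Q := by
      rw [← sim_inf_sp hd hQf]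
      exact ⟨hgx, hysp⟩
    have hT' : ∀ w, Cfsg.quadFormMinus k F a c (T.symm w) = Q w := by
      intro w
      rw [← stdMinus_apply, ← hT, LinearEquiv.apply_symm_apply]
    have hy'iso : cjGL T.symm y ∈ Cfsg.isometryGroup F (Cfsg.quadFormMinus k F a c) :=
      (mem_iso_cjGL T.symm hT' y).mpr hyiso
    obtain ⟨hy'r, hy'fix⟩ := cj_fpf T.symm y r hyr hyfix
    subst hkd
    exact excl_minus a c hac (cjGL T.symm y).1
      ((Cfsg.Agent.Lib.Helper24.OConj.mem_iso_iff _ _).mp hy'iso) hr2 hy'r hy'fix hx0 hx1 hm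

theorem scalar_eq_one_of_sp (h2 : (2 : F) = 0) (hd : 1 ≤ d)
    (M : Matrix (Fin d ⊕ Fin d) (Fin d ⊕ Fin d) F)
    (hM : ∀ u v, sympForm d F (M *ᵥ u) (M *ᵥ v) = sympForm d F u v) (z : F)
    (hz : M = z • (1 : Matrix (Fin d ⊕ Fin d) (Fin d ⊕ Fin d) F)) : M = 1 := by
  obtain ⟨u, v, huv⟩ := Cfsg.Agent.Lib.Helper24.OrthInSp.exists_sf_eq_one (F := F) hd
  have h1 := hM u v
  rw [hz, Matrix.smul_mulVec, Matrix.smul_mulVec, Matrix.one_mulVec, Matrix.one_mulVec,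
    sf_smul_left, sf_smul_right, huv] at h1
  have h3 : (z - 1) * (z - 1) = 0 := by linear_combination h1 - (z - 1) * h2
  have hz1 : z = 1 := by
    rcases mul_eq_zero.mp h3 with h | h <;> exact sub_eq_zero.mp h
  rw [hz, hz1, one_smul]

end Cfsg.Agent.Lib.Helper24.SpO
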