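import Mathlib

set_option autoImplicit false

namespace Cfsg.Agent.Lib.Helper24

open scoped Pointwise

/-- Transfer into an abelian group from a normal subgroup of finite index, evaluated on an element
of the subgroup, for a conjugation-invariant homomorphism: it is the `index`-th power. -/
theorem transfer_normal_apply {G A : Type*} [Group G] [CommGroup A] (N : Subgroup G)
    [hN : N.Normal] [N.FiniteIndex] (ϕ : N →* A)
    (hinv : ∀ (g : G) (n : N), ϕ ⟨g * n * g⁻¹, hN.conj_mem (n : G) n.2 g⟩ = ϕ n) (n : N) :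
    MonoidHom.transfer ϕ (n : G) = ϕ n ^ N.index := by
  classical
  let T : N.LeftTransversal := default
  let _ := N.fintypeQuotientOfFiniteIndex
  rw [MonoidHom.transfer_def ϕ T]
  have hfix : ∀ q : G ⧸ N, ((n : G))⁻¹ • q = q := by
    intro q
    induction q using QuotientGroup.induction_on with
    | H x =>
      rw [MulAction.Quotient.smul_mk, QuotientGroup.eq]
      have : (((n : G))⁻¹ • x)⁻¹ * x = x⁻¹ * (n : G) * x⁻¹⁻¹ := by
        simp [smul_eq_mul, mul_assoc]
      rw [this]
      exact hN.conj_mem _ n.2 _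
  have key : ∀ q : G ⧸ N,
      ϕ ⟨((T.2.leftQuotientEquiv q : G))⁻¹ * (((n : G) • T).2.leftQuotientEquiv q : G),
        QuotientGroup.leftRel_apply.mp <|
          Quotient.exact' ((T.2.leftQuotientEquiv.symm_apply_apply q).trans
            ((((n : G) • T).2.leftQuotientEquiv).symm_apply_apply q).symm)⟩ = ϕ n := by
    intro q
    have h1 : ((((n : G) • T).2.leftQuotientEquiv q : G)) =
        (n : G) * (T.2.leftQuotientEquiv q : G) := by
      rw [Subgroup.smul_apply_eq_smul_apply_inv_smul, hfix, smul_eq_mul]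
    rw [← hinv ((T.2.leftQuotientEquiv q : G))⁻¹ n]
    congr 1
    apply Subtype.ext
    simp only [h1, inv_inv, mul_assoc]
  calc Subgroup.leftTransversals.diff ϕ T ((n : G) • T)
      = ∏ _q : G ⧸ N, ϕ n := Finset.prod_congr rfl (fun q _ => key q)
    _ = ϕ n ^ N.index := by
      rw [Finset.prod_const, Finset.card_univ, Subgroup.index_eq_card, Nat.card_eq_fintype_card]

/-- The transfer of `ϕ` takes values in the range of `ϕ`. -/
theorem transfer_mem_range {G A : Type*} [Group G] [CommGroup A] (H : Subgroup G)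
    [H.FiniteIndex] (ϕ : H →* A) (g : G) : MonoidHom.transfer ϕ g ∈ ϕ.range := by
  classical
  let T : H.LeftTransversal := default
  let _ := H.fintypeQuotientOfFiniteIndex
  rw [MonoidHom.transfer_def ϕ T]
  exact Subgroup.prod_mem _ (fun q _ => ⟨_, rfl⟩)

/-- Unique extension of an invariant homomorphism of order coprime to the index (hom form of the
character-theoretic statement, for any commutative target group). -/
theorem hom_extension_coprime {G A : Type*} [Group G] [Finite G] [CommGroup A] (N : Subgroup G)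
    [hN : N.Normal] (lam : N →* A)
    (hinv : ∀ (g : G) (n : N), lam ⟨g * n * g⁻¹, hN.conj_mem (n : G) n.2 g⟩ = lam n)
    (hcop : Nat.Coprime N.index (orderOf lam)) :
    ∃ μ : G →* A, (μ.comp N.subtype = lam ∧ orderOf μ = orderOf lam) ∧
      ∀ μ' : G →* A, μ'.comp N.subtype = lam → Nat.Coprime N.index (orderOf μ') → μ' = μ := by
  classical
  set m := orderOf lam with hm
  set t := N.index with ht
  have hlamm : lam ^ m = 1 := pow_orderOf_eq_one lam
  obtain ⟨s, hs⟩ : ∃ s, t * s ≡ 1 [MOD m] := by
    rcases Nat.eq_zero_or_pos m with h0 | h0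
    · rw [h0, Nat.coprime_zero_right] at hcop
      exact ⟨1, by rw [hcop]⟩
    · obtain ⟨s, -, hs⟩ := Nat.exists_mul_mod_eq_of_coprime 1 hcop h0.ne'
      exact ⟨s, hs⟩
  have hpow : lam ^ (t * s) = lam := by
    have := (pow_eq_pow_iff_modEq (x := lam) (n := t * s) (m := 1)).2 (by rw [← hm]; exact hs)
    rw [this, pow_one]
  set μ : G →* A := (MonoidHom.transfer lam) ^ s with hμ
  have hres : μ.comp N.subtype = lam := by
    ext n
    have h1 : MonoidHom.transfer lam ((N.subtype n : G)) = lam n ^ t :=
      transfer_normal_apply N lam hinv n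
    have h2 : (lam ^ (t * s)) n = lam n := by rw [hpow]
    rw [MonoidHom.comp_apply, hμ, MonoidHom.pow_apply, h1, ← pow_mul]
    rw [MonoidHom.pow_apply] at h2
    exact h2
  have hμm : μ ^ m = 1 := by
    ext g
    obtain ⟨n, hn⟩ := transfer_mem_range N lam g
    rw [MonoidHom.pow_apply, hμ, MonoidHom.pow_apply, ← hn, ← pow_mul, mul_comm, pow_mul,
      ← MonoidHom.pow_apply, hlamm]
    simp
  have hord : orderOf μ = m := by
    apply Nat.dvd_antisymm (orderOf_dvd_of_pow_eq_one hμm)
    rw [hm]
    apply orderOf_dvd_of_pow_eq_one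
    rw [← hres]
    ext n
    have : (μ ^ orderOf μ) (N.subtype n) = 1 := by rw [pow_orderOf_eq_one]; rfl
    rw [MonoidHom.pow_apply] at this
    rw [MonoidHom.pow_apply, MonoidHom.comp_apply]
    exact this
  refine ⟨μ, ⟨hres, hord⟩, ?_⟩
  intro μ' hres' hcop'
  set ν : G →* A := μ' / μ with hν
  have hνN : ∀ n : N, ν (n : G) = 1 := by
    intro n
    have h1 : μ' (N.subtype n) = lam n := by rw [← hres']; rfl
    have h2 : μ (N.subtype n) = lam n := by rw [← hres]; rfl
    rw [hν, MonoidHom.div_apply]
    change μ' (N.subtype n) / μ (N.subtype n) = 1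
    rw [h1, h2, div_self']
  have hνt : ν ^ t = 1 := by
    ext g
    rw [MonoidHom.pow_apply, ← map_pow]
    have : g ^ t ∈ N := N.pow_index_mem g
    exact hνN ⟨g ^ t, this⟩
  have hνm : ν ^ (orderOf μ' * m) = 1 := by
    rw [hν, div_pow, pow_mul, pow_orderOf_eq_one, one_pow, mul_comm, pow_mul, hμm, one_pow,
      div_one]
  have ho : orderOf ν = 1 := by
    have d1 : orderOf ν ∣ t := orderOf_dvd_of_pow_eq_one hνt
    have d2 : orderOf ν ∣ orderOf μ' * m := orderOf_dvd_of_pow_eq_one hνm
    have c : Nat.Coprime t (orderOf μ' * m) := Nat.Coprime.mul_right hcop' hcop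
    exact Nat.Coprime.eq_one_of_dvd (Nat.Coprime.coprime_dvd_left d1 c) d2
  rw [orderOf_eq_one_iff] at ho
  exact div_eq_one.1 ho

end Cfsg.Agent.Lib.Helper24
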