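import Mathlib
import Cfsg.Prelude.Def_Classical
import Cfsg.Agent.Lib.Helper24.U33Phi
import Cfsg.Agent.Lib.Helper24.PSL27

set_option autoImplicit false
set_option linter.style.haveILetI false

namespace Cfsg.Agent.Lib.Helper24
namespace U33
open Matrix Cfsg.Agent.Lib.Helper24.PSL27

/-- induction on `SL₂(7)` from the two unit transvections -/
theorem gen_induction (P : Matrix.SpecialLinearGroup (Fin 2) (ZMod 7) → Prop) (h1 : P 1)
    (hgen : ∀ (i j : Fin 2) (h : i ≠ j), P (Matrix.SpecialLinearGroup.transvection h 1))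
    (hmul : ∀ A B, P A → P B → P (A * B)) : ∀ A, P A := by
  intro A
  refine Matrix.SL2.transvection_induction P ?_ hmul A
  intro i j h c
  have hk : ∀ k : ℕ, P (Matrix.SpecialLinearGroup.transvection h ((k : ℕ) : ZMod 7)) := by
    intro k
    induction k with
    | zero =>
      have : Matrix.SpecialLinearGroup.transvection h ((0 : ℕ) : ZMod 7) = 1 := by
        apply Subtype.ext
        simp [Matrix.SpecialLinearGroup.transvection_coe, Matrix.transvection]
      rw [this]; exact h1
    | succ k ih =>
      have : Matrix.SpecialLinearGroup.transvection h (((k + 1 : ℕ)) : ZMod 7) =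
          Matrix.SpecialLinearGroup.transvection h ((k : ℕ) : ZMod 7) *
            Matrix.SpecialLinearGroup.transvection h 1 := by
        apply Subtype.ext
        simp only [Matrix.SpecialLinearGroup.transvection_coe, Matrix.SpecialLinearGroup.coe_mul]
        change Matrix.transvection i j _ = Matrix.transvection i j _ * Matrix.transvection i j _
        rw [Matrix.transvection_mul_transvection_same i j h]
        push_cast
        rfl
      rw [this]
      exact hmul _ _ ih (hgen i j h)
  have := hk c.val
  rwa [ZMod.natCast_zmod_val] at this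

/-- `phi` as a monoid homomorphism on `SL₂(7)`. -/
def phiHom : Matrix.SpecialLinearGroup (Fin 2) (ZMod 7) →* Matrix (Fin 3) (Fin 3) F9 where
  toFun A := phi A.1
  map_one' := phi_one
  map_mul' A B := by
    revert A
    refine gen_induction
      (fun B => ∀ A : Matrix.SpecialLinearGroup (Fin 2) (ZMod 7),
        phi (A * B).1 = phi A.1 * phi B.1) ?_ ?_ ?_ B
    · intro A
      rw [mul_one]
      have : phi (1 : Matrix.SpecialLinearGroup (Fin 2) (ZMod 7)).1 = 1 := phi_one
      rw [this, mul_one]
    · intro i j h A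
      have e1 : ((A * Matrix.SpecialLinearGroup.transvection h 1 :
          Matrix.SpecialLinearGroup (Fin 2) (ZMod 7)) : Matrix (Fin 2) (Fin 2) (ZMod 7)) =
          A.1 * (1 + Matrix.single i j 1) := rfl
      have e2 : ((Matrix.SpecialLinearGroup.transvection h 1 :
          Matrix.SpecialLinearGroup (Fin 2) (ZMod 7)) : Matrix (Fin 2) (Fin 2) (ZMod 7)) =
          1 + Matrix.single i j 1 := rfl
      rw [e1, e2]
      exact phi_mul_gen i j h A.1 A.2
    · intro B C hB hC A
      rw [← mul_assoc, hC (A * B), hB A, hC B, mul_assoc]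

theorem phiHom_apply (A : Matrix.SpecialLinearGroup (Fin 2) (ZMod 7)) : phiHom A = phi A.1 := rfl

set_option maxRecDepth 100000 in
theorem phi_det_gen : ∀ (i j : Fin 2), i ≠ j → (phi (1 + Matrix.single i j 1)).det = 1 := by
  intro i j h
  rw [Matrix.det_fin_three]
  revert i j
  decide +kernel

theorem phiHom_good (A : Matrix.SpecialLinearGroup (Fin 2) (ZMod 7)) :
    (phiHom A).det = 1 ∧ (phiHom A)ᵀ * (phiHom A).map F9.frob = 1 := by
  refine gen_induction (fun A => (phiHom A).det = 1 ∧ (phiHom A)ᵀ * (phiHom A).map F9.frob = 1)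
    ?_ ?_ ?_ A
  · rw [map_one]
    refine ⟨Matrix.det_one, ?_⟩
    rw [Matrix.transpose_one, Matrix.one_mul]
    ext i j
    simp [Matrix.map_apply, Matrix.one_apply]
  · intro i j h
    have e2 : phiHom (Matrix.SpecialLinearGroup.transvection h 1) = phi (1 + Matrix.single i j 1) :=
      rfl
    rw [e2]
    exact ⟨phi_det_gen i j h, phi_unitary_gen i j h⟩
  · rintro A B ⟨hA1, hA2⟩ ⟨hB1, hB2⟩
    rw [map_mul]
    refine ⟨by rw [Matrix.det_mul, hA1, hB1, mul_one], ?_⟩
    rw [Matrix.transpose_mul, Matrix.map_mul, Matrix.mul_assoc,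
      ← Matrix.mul_assoc _ ((phiHom A).map F9.frob), hA2, Matrix.one_mul, hB2]

end U33
end Cfsg.Agent.Lib.Helper24
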