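import Mathlib
import Cfsg.Prelude.Def_Classical
import Cfsg.Agent.Lib.Helper24.U33

set_option autoImplicit false
set_option linter.style.haveILetI false

namespace Cfsg.Agent.Lib.Helper24
namespace U33
open Matrix Cfsg.Agent.Lib.Helper24.PSL27

theorem hermForm_eq_dot (u v : Fin 3 → F9) :
    Cfsg.hermForm 3 F9 3 u v = u ⬝ᵥ (fun i => F9.frob (v i)) := rfl

theorem herm_preserved (B : Matrix (Fin 3) (Fin 3) F9) (hB : Bᵀ * B.map F9.frob = 1)
    (u v : Fin 3 → F9) :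
    Cfsg.hermForm 3 F9 3 (B *ᵥ u) (B *ᵥ v) = Cfsg.hermForm 3 F9 3 u v := by
  rw [hermForm_eq_dot, hermForm_eq_dot]
  have h1 : (fun i => F9.frob ((B *ᵥ v) i)) = B.map F9.frob *ᵥ (fun i => F9.frob (v i)) := by
    funext i
    exact RingHom.map_mulVec F9.frob B v i
  rw [h1]
  obtain ⟨w, hw⟩ : ∃ w : Fin 3 → F9, w = fun i => F9.frob (v i) := ⟨_, rfl⟩
  rw [← hw]
  calc (B *ᵥ u) ⬝ᵥ (B.map F9.frob *ᵥ w) = (u ᵥ* Bᵀ) ⬝ᵥ (B.map F9.frob *ᵥ w) := by
        rw [Matrix.vecMul_transpose]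
    _ = u ⬝ᵥ (Bᵀ *ᵥ (B.map F9.frob *ᵥ w)) := (Matrix.dotProduct_mulVec _ _ _).symm
    _ = u ⬝ᵥ ((Bᵀ * B.map F9.frob) *ᵥ w) := by rw [Matrix.mulVec_mulVec]
    _ = u ⬝ᵥ w := by rw [hB, Matrix.one_mulVec]

/-- `phi` into `SL₃(𝔽₉)` -/
def phiSL : Matrix.SpecialLinearGroup (Fin 2) (ZMod 7) →* Matrix.SpecialLinearGroup (Fin 3) F9 where
  toFun A := ⟨phiHom A, (phiHom_good A).1⟩
  map_one' := Subtype.ext (map_one phiHom)
  map_mul' A B := Subtype.ext (map_mul phiHom A B)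

theorem phiSL_mem_SU (A : Matrix.SpecialLinearGroup (Fin 2) (ZMod 7)) :
    phiSL A ∈ Cfsg.SU 3 F9 3 := by
  intro u v
  exact herm_preserved (phiHom A) (phiHom_good A).2 u v

section transfer
variable {F : Type*} [Field F]

theorem herm_map (ρ : F9 ≃+* F) (x y : Fin 3 → F9) :
    Cfsg.hermForm 3 F 3 (fun i => ρ (x i)) (fun i => ρ (y i)) = ρ (Cfsg.hermForm 3 F9 3 x y) := by
  unfold Cfsg.hermForm
  rw [map_sum]
  apply Finset.sum_congr rfl
  intro i _
  rw [map_mul, map_pow]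

theorem map_mem_SU (ρ : F9 ≃+* F) (g : Matrix.SpecialLinearGroup (Fin 3) F9)
    (hg : g ∈ Cfsg.SU 3 F9 3) :
    Matrix.SpecialLinearGroup.map ρ.toRingHom g ∈ Cfsg.SU 3 F 3 := by
  intro u v
  have hu : u = fun i => ρ (ρ.symm (u i)) := by funext i; simp
  have hv : v = fun i => ρ (ρ.symm (v i)) := by funext i; simp
  have key : ∀ w : Fin 3 → F9,
      (Cfsg.slToMat 3 F (Matrix.SpecialLinearGroup.map ρ.toRingHom g)) *ᵥ (fun i => ρ (w i)) =
        fun i => ρ ((Cfsg.slToMat 3 F9 g *ᵥ w) i) := by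
    intro w
    funext i
    have := RingHom.map_mulVec ρ.toRingHom (g : Matrix (Fin 3) (Fin 3) F9) w i
    exact this.symm
  rw [hu, hv, key, key, herm_map, herm_map, hg]

end transfer


theorem phiSL_val (A : Matrix.SpecialLinearGroup (Fin 2) (ZMod 7)) :
    (phiSL A : Matrix (Fin 3) (Fin 3) F9) = phi A.1 := rfl

theorem center_SL27 (x : Matrix.SpecialLinearGroup (Fin 2) (ZMod 7))
    (hx : x ∈ Subgroup.center (Matrix.SpecialLinearGroup (Fin 2) (ZMod 7))) :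
    x.1 = 1 ∨ x.1 = -1 := by
  rw [Matrix.SpecialLinearGroup.mem_center_iff] at hx
  obtain ⟨r, hr, hr2⟩ := hx
  have h7 : ∀ r : ZMod 7, r ^ 2 = 1 → r = 1 ∨ r = -1 := by decide
  simp only [Fintype.card_fin] at hr
  rcases h7 r hr with rfl | rfl
  · left
    rw [← hr2]
    simp
  · right
    rw [← hr2]
    ext i j
    fin_cases i <;> fin_cases j <;> simp

theorem main {F : Type*} [Field F] [Fintype F] (hF : Fintype.card F = 9)
    {K : Type*} [Field K] [Fintype K] (hK : Fintype.card K = 7) :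
    ∃ H : Subgroup (Cfsg.PSU 3 F 3),
      Nonempty (H ≃* Matrix.ProjectiveSpecialLinearGroup (Fin 2) K) := by
  classical
  let ρ : F9 ≃+* F := FiniteField.ringEquivOfCardEq (K := F9) (K' := F) (by rw [F9.card, hF])
  let ρK : K ≃+* ZMod 7 := (ZMod.ringEquivOfPrime K (by norm_num) hK).symm
  let eK := slRingEquiv (n := Fin 2) ρK
  let mρ : Matrix.SpecialLinearGroup (Fin 3) F9 →* Matrix.SpecialLinearGroup (Fin 3) F :=
    Matrix.SpecialLinearGroup.map ρ.toRingHom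
  have hmρinj : Function.Injective mρ := by
    intro a b hab
    apply Subtype.ext
    ext i j
    have h1 : (mρ a : Matrix (Fin 3) (Fin 3) F) i j = (mρ b : Matrix (Fin 3) (Fin 3) F) i j := by
      rw [hab]
    exact ρ.injective h1
  let Ψ₁ : Matrix.SpecialLinearGroup (Fin 2) K →* Matrix.SpecialLinearGroup (Fin 3) F :=
    mρ.comp (phiSL.comp eK.toMonoidHom)
  have hΨ₁ : ∀ x, Ψ₁ x = mρ (phiSL (eK x)) := fun x => rfl
  have hΨ₁mem : ∀ x, Ψ₁ x ∈ Cfsg.SU 3 F 3 := by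
    intro x
    rw [hΨ₁]
    exact map_mem_SU ρ _ (phiSL_mem_SU _)
  let Ψ₂ : Matrix.SpecialLinearGroup (Fin 2) K →* ↥(Cfsg.SU 3 F 3) :=
    Ψ₁.codRestrict (Cfsg.SU 3 F 3) hΨ₁mem
  have hΨ₂ : ∀ x, (Ψ₂ x : Matrix.SpecialLinearGroup (Fin 3) F) = Ψ₁ x := fun x => rfl
  let Ψ₀ : Matrix.SpecialLinearGroup (Fin 2) K →* Cfsg.PSU 3 F 3 :=
    (QuotientGroup.mk' (Subgroup.center ↥(Cfsg.SU 3 F 3))).comp Ψ₂
  have hcen : Subgroup.center (Matrix.SpecialLinearGroup (Fin 2) K) ≤ Ψ₀.ker := by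
    intro x hx
    rw [MonoidHom.mem_ker]
    show QuotientGroup.mk' _ (Ψ₂ x) = 1
    have h0 := center_SL27 _ (mulEquiv_mem_center eK x hx)
    have h1 : phiSL (eK x) = 1 := by
      apply Subtype.ext
      rw [phiSL_val]
      rcases h0 with h | h
      · rw [h]; exact phi_one
      · rw [h]; exact phi_neg_one
    have h2 : Ψ₂ x = 1 := by
      apply Subtype.ext
      rw [hΨ₂, hΨ₁, h1, map_one]
      rfl
    rw [h2, map_one]
  let Ψ : Matrix.ProjectiveSpecialLinearGroup (Fin 2) K →* Cfsg.PSU 3 F 3 :=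
    QuotientGroup.lift (Subgroup.center (Matrix.SpecialLinearGroup (Fin 2) K)) Ψ₀ hcen
  haveI : IsSimpleGroup (Matrix.ProjectiveSpecialLinearGroup (Fin 2) K) :=
    Matrix.ProjectiveSpecialLinearGroup.rank_two_simple
      (by rw [Nat.card_eq_fintype_card, hK]; norm_num)
  have hker : Ψ.ker = ⊥ := by
    rcases Ψ.normal_ker.eq_bot_or_eq_top with h | h
    · exact h
    · exfalso
      let u₀ : Matrix.SpecialLinearGroup (Fin 2) K :=
        eK.symm (Matrix.SpecialLinearGroup.transvection (zero_ne_one : (0 : Fin 2) ≠ 1) (1 : ZMod 7))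
      let l₀ : Matrix.SpecialLinearGroup (Fin 2) K :=
        eK.symm (Matrix.SpecialLinearGroup.transvection (one_ne_zero : (1 : Fin 2) ≠ 0) (1 : ZMod 7))
      have h1 : (QuotientGroup.mk u₀ : Matrix.ProjectiveSpecialLinearGroup (Fin 2) K) ∈ Ψ.ker := by
        rw [h]; trivial
      rw [MonoidHom.mem_ker] at h1
      have h2 : QuotientGroup.mk' (Subgroup.center ↥(Cfsg.SU 3 F 3)) (Ψ₂ u₀) = 1 := h1
      rw [QuotientGroup.mk'_apply, QuotientGroup.eq_one_iff, Subgroup.mem_center_iff] at h2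
      have h3 := h2 (Ψ₂ l₀)
      have h4 : Ψ₁ l₀ * Ψ₁ u₀ = Ψ₁ u₀ * Ψ₁ l₀ := by
        have := congrArg (Subtype.val) h3
        exact this
      have h4' : mρ (phiSL (eK l₀) * phiSL (eK u₀)) = mρ (phiSL (eK u₀) * phiSL (eK l₀)) := by
        rw [map_mul, map_mul]
        exact h4
      have h5 := hmρinj h4'
      have el : eK l₀ = Matrix.SpecialLinearGroup.transvection (one_ne_zero : (1 : Fin 2) ≠ 0) (1 : ZMod 7) :=
        MulEquiv.apply_symm_apply _ _
      have eu : eK u₀ = Matrix.SpecialLinearGroup.transvection (zero_ne_one : (0 : Fin 2) ≠ 1) (1 : ZMod 7) :=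
        MulEquiv.apply_symm_apply _ _
      rw [el, eu] at h5
      have h6 := congrArg (fun z : Matrix.SpecialLinearGroup (Fin 3) F9 => z.1) h5
      simp only [Matrix.SpecialLinearGroup.coe_mul] at h6
      apply phi_noncomm
      exact h6.symm
  have hinj : Function.Injective Ψ := (MonoidHom.ker_eq_bot_iff Ψ).mp hker
  exact ⟨Ψ.range, ⟨(MonoidHom.ofInjective hinj).symm⟩⟩

end U33
end Cfsg.Agent.Lib.Helper24
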