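import Mathlib
import Cfsg.Agent.Lib.Helper27.UMax

set_option autoImplicit false
set_option linter.style.haveILetI false
set_option linter.unusedSimpArgs false
set_option linter.unusedSectionVars false

namespace Cfsg.Agent.Lib.Helper24.ULag

open Matrix Module Cfsg Cfsg.Agent.Lib.Helper27.Unitary Cfsg.Agent.Lib.Helper27.GLStab

variable {F : Type*} [Field F] [Fintype F] {q n : ℕ}

/-- The element `x ↦ x + h(x,a) b - h(x,b) a` (for `a, b` isotropic and orthogonal), written as a
product of three transvections. -/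
noncomputable def sg (q : ℕ) (θ : F) (a b : Fin n → F) : GL (Fin n) F :=
  tv q (a + θ • b) θ⁻¹ * tv q a (-θ⁻¹) * tv q b θ

theorem iso_add_smul (hF : Fintype.card F = q ^ 2) {a b : Fin n → F}
    (ha : hermForm n F q a a = 0) (hb : hermForm n F q b b = 0) (hab : hermForm n F q a b = 0)
    (t : F) : hermForm n F q (a + t • b) (a + t • b) = 0 := by
  have hba : hermForm n F q b a = 0 := hf_eq_zero_swap hF hab
  rw [hf_add_left, hf_add_right hF, hf_add_right hF, hf_smul_left, hf_smul_left, hf_smul_right,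
    hf_smul_right, ha, hb, hab, hba]
  ring

theorem sg_gact (hF : Fintype.card F = q ^ 2) {θ : F} (hθ0 : θ ≠ 0) (hθ : θ + θ ^ q = 0)
    {a b : Fin n → F} (ha : hermForm n F q a a = 0) (hb : hermForm n F q b b = 0)
    (hab : hermForm n F q a b = 0) (x : Fin n → F) :
    gact (sg q θ a b) x = x + hermForm n F q x a • b - hermForm n F q x b • a := by
  have hba : hermForm n F q b a = 0 := hf_eq_zero_swap hF hab
  have hθq : θ ^ q = -θ := by linear_combination hθ
  unfold sg
  rw [gact_mul, gact_mul, tv_gact hb, tv_gact ha, tv_gact (iso_add_smul hF ha hb hab θ)]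
  simp only [hf_add_left, hf_add_right hF, hf_smul_left, hf_smul_right, ha, hb, hab, hba, hθq,
    mul_zero, add_zero, zero_add, smul_add, smul_smul]
  have e1 : θ⁻¹ * θ = 1 := inv_mul_cancel₀ hθ0
  match_scalars <;> field_simp <;> ring

theorem sg_mem_SUg (hF : Fintype.card F = q ^ 2) {θ : F} (hθ : θ + θ ^ q = 0)
    (a b : Fin n → F) : sg q θ a b ∈ GU n F q ⊓ Cfsg.Geo.specialLinear (Fin n) F := by
  by_cases hθ0 : θ = 0
  · unfold sg
    rw [hθ0, _root_.inv_zero, neg_zero, tv_zero_right, tv_zero_right, tv_zero_right, mul_one,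
      mul_one]
    exact Subgroup.one_mem _
  have hθq : θ ^ q = -θ := by linear_combination hθ
  have h1 : θ⁻¹ + (θ⁻¹) ^ q = 0 := by
    rw [inv_pow, hθq]
    field_simp
    ring
  have h2 : -θ⁻¹ + (-θ⁻¹) ^ q = 0 := by
    rw [cj_neg hF, inv_pow, hθq]
    field_simp
    ring
  unfold sg
  exact mul_mem (mul_mem (tv_mem_SUg hF _ h1) (tv_mem_SUg hF _ h2)) (tv_mem_SUg hF _ hθ)

theorem conj_sg (hF : Fintype.card F = q ^ 2) {g : GL (Fin n) F} (hg : g ∈ GU n F q) (θ : F)
    {a b : Fin n → F} (ha : hermForm n F q a a = 0) (hb : hermForm n F q b b = 0)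
    (hab : hermForm n F q a b = 0) :
    g * sg q θ a b * g⁻¹ = sg q θ (gact g a) (gact g b) := by
  unfold sg
  rw [← conj_tv hF hg ha, ← conj_tv hF hg hb, ← gact_smul, ← gact_add,
    ← conj_tv hF hg (iso_add_smul hF ha hb hab θ)]
  group


theorem tv_zero_left (c : F) : tv q (0 : Fin n → F) c = 1 := by
  apply gact_ext
  intro x
  rw [tv_gact (hf_zero_left _), smul_zero, add_zero, gact_one]

/-- The commutator of two such elements with the same first vector is a transvection. -/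
theorem sg_comm_eq (hF : Fintype.card F = q ^ 2) {θ : F} (hθ0 : θ ≠ 0) (hθ : θ + θ ^ q = 0)
    {a b b' : Fin n → F} (ha : hermForm n F q a a = 0) (hb : hermForm n F q b b = 0)
    (hb' : hermForm n F q b' b' = 0) (hab : hermForm n F q a b = 0)
    (hab' : hermForm n F q a b' = 0) :
    sg q θ a b * sg q θ a b' =
      tv q a (hermForm n F q b b' - hermForm n F q b' b) * (sg q θ a b' * sg q θ a b) := by
  have hba : hermForm n F q b a = 0 := hf_eq_zero_swap hF hab
  have hb'a : hermForm n F q b' a = 0 := hf_eq_zero_swap hF hab'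
  apply gact_ext
  intro x
  rw [gact_mul, gact_mul, gact_mul, sg_gact hF hθ0 hθ ha hb hab, sg_gact hF hθ0 hθ ha hb' hab',
    sg_gact hF hθ0 hθ ha hb' hab', sg_gact hF hθ0 hθ ha hb hab, tv_gact ha]
  simp only [hf_add_left, hf_sub_left, hf_smul_left, ha, hb, hb', hab, hab', hba, hb'a,
    mul_zero, add_zero, zero_add, sub_zero, smul_add, smul_sub, smul_smul]
  module

theorem sg_symm (hF : Fintype.card F = q ^ 2) {θ : F} (hθ0 : θ ≠ 0) (hθ : θ + θ ^ q = 0)
    {a b : Fin n → F} (ha : hermForm n F q a a = 0) (hb : hermForm n F q b b = 0)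
    (hab : hermForm n F q a b = 0) : sg q θ b a = sg q θ a (-b) := by
  have hba : hermForm n F q b a = 0 := hf_eq_zero_swap hF hab
  have hnb : hermForm n F q (-b) (-b) = 0 := by rw [hf_neg_left, hf_neg_right hF, hb]; ring
  have hanb : hermForm n F q a (-b) = 0 := by rw [hf_neg_right hF, hab, neg_zero]
  apply gact_ext
  intro x
  rw [sg_gact hF hθ0 hθ hb ha hba, sg_gact hF hθ0 hθ ha hnb hanb, hf_neg_right hF]
  module

/-- The transvection with centre `x + y` in terms of `sg`. -/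
theorem tv_add_eq (hF : Fintype.card F = q ^ 2) {θ : F} (hθ0 : θ ≠ 0) (hθ : θ + θ ^ q = 0)
    {x y : Fin n → F} (hx : hermForm n F q x x = 0) (hy : hermForm n F q y y = 0)
    (hxy : hermForm n F q x y = 0) {c : F} (hc : c + c ^ q = 0) :
    tv q (x + y) c = sg q θ ((-c) • x) y * tv q x c * tv q y c := by
  have hyx : hermForm n F q y x = 0 := hf_eq_zero_swap hF hxy
  have hcq : c ^ q = -c := by linear_combination hc
  have h1 : hermForm n F q ((-c) • x) ((-c) • x) = 0 := by rw [hf_smul_self, hx, mul_zero]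
  have h2 : hermForm n F q ((-c) • x) y = 0 := by rw [hf_smul_left, hxy, mul_zero]
  have h3 : hermForm n F q (x + y) (x + y) = 0 := by
    have := iso_add_smul hF hx hy hxy 1
    rwa [one_smul] at this
  apply gact_ext
  intro v
  rw [gact_mul, gact_mul, sg_gact hF hθ0 hθ h1 hy h2, tv_gact hx, tv_gact hy, tv_gact h3]
  simp only [hf_add_left, hf_add_right hF, hf_smul_left, hf_smul_right, hf_neg_right hF, hx, hy,
    hxy, hyx, cj_neg hF, hcq, mul_zero, add_zero, zero_add, smul_add, smul_smul]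
  module

/-- A pair of complementary totally isotropic subspaces. -/
structure LPair (q : ℕ) (X Y : Submodule F (Fin n → F)) : Prop where
  isoX : ∀ u ∈ X, ∀ v ∈ X, hermForm n F q u v = 0
  isoY : ∀ u ∈ Y, ∀ v ∈ Y, hermForm n F q u v = 0
  disj : X ⊓ Y = ⊥
  sup : X ⊔ Y = ⊤

theorem LPair.symm {X Y : Submodule F (Fin n → F)} (h : LPair q X Y) : LPair q Y X :=
  ⟨h.isoY, h.isoX, by rw [inf_comm]; exact h.disj, by rw [sup_comm]; exact h.sup⟩

theorem LPair.decomp {X Y : Submodule F (Fin n → F)} (h : LPair q X Y)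
    (v : Fin n → F) : ∃ x ∈ X, ∃ y ∈ Y, v = x + y := by
  have : v ∈ X ⊔ Y := by rw [h.sup]; exact Submodule.mem_top
  obtain ⟨x, hx, y, hy, hxy⟩ := Submodule.mem_sup.mp this
  exact ⟨x, hx, y, hy, hxy.symm⟩

theorem LPair.exists_pair (hF : Fintype.card F = q ^ 2) {X Y : Submodule F (Fin n → F)}
    (h : LPair q X Y) {x : Fin n → F} (hx : x ∈ X) (hx0 : x ≠ 0) :
    ∃ y ∈ Y, hermForm n F q x y ≠ 0 := by
  obtain ⟨v, hv⟩ : ∃ v, hermForm n F q x v ≠ 0 := by
    by_contra hne
    push Not at hne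
    exact hx0 (hf_nondeg hF x hne)
  obtain ⟨x', hx', y, hy, rfl⟩ := h.decomp v
  refine ⟨y, hy, ?_⟩
  rwa [hf_add_right hF, h.isoX x hx x' hx', zero_add] at hv

theorem LPair.exists_of_not_mem (hF : Fintype.card F = q ^ 2) {X Y : Submodule F (Fin n → F)}
    (h : LPair q X Y) {a : Fin n → F} (ha : a ∉ Y) : ∃ d ∈ Y, hermForm n F q d a ≠ 0 := by
  obtain ⟨x, hx, y, hy, rfl⟩ := h.decomp a
  have hx0 : x ≠ 0 := by
    intro h0
    apply ha
    rw [h0, zero_add]
    exact hy
  obtain ⟨d, hd, hxd⟩ := h.exists_pair hF hx hx0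
  refine ⟨d, hd, ?_⟩
  rw [hf_add_right hF, h.isoY d hd y hy, add_zero]
  intro h0
  exact hxd (hf_eq_zero_swap hF h0)

theorem LPair.eq_zero_of_forall (hF : Fintype.card F = q ^ 2) {X Y : Submodule F (Fin n → F)}
    (h : LPair q X Y) {x : Fin n → F} (hx : x ∈ X) (hall : ∀ y ∈ Y, hermForm n F q x y = 0) :
    x = 0 := by
  by_contra h0
  obtain ⟨y, hy, hxy⟩ := h.exists_pair hF hx h0
  exact hxy (hall y hy)

/-- `M` contains the standard elements of the stabiliser of the pair. -/
def Std (q : ℕ) (θ : F) (M : Subgroup (GL (Fin n) F)) (X Y : Submodule F (Fin n → F)) : Prop :=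
  ∀ x ∈ X, ∀ y ∈ Y, hermForm n F q x y = 0 → sg q θ x y ∈ M

theorem Std.symm (hF : Fintype.card F = q ^ 2) {θ : F} (hθ0 : θ ≠ 0) (hθ : θ + θ ^ q = 0)
    {M : Subgroup (GL (Fin n) F)} {X Y : Submodule F (Fin n → F)} (hL : LPair q X Y)
    (h : Std q θ M X Y) : Std q θ M Y X := by
  intro y hy x hx hyx
  have hxy : hermForm n F q x y = 0 := hf_eq_zero_swap hF hyx
  rw [sg_symm hF hθ0 hθ (hL.isoX x hx x hx) (hL.isoY y hy y hy) hxy]
  exact h x hx (-y) (Y.neg_mem hy) (by rw [hf_neg_right hF, hxy, neg_zero])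

end Cfsg.Agent.Lib.Helper24.ULag
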