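import Mathlib
import Cfsg.Agent.Lib.Helper24.ULagA

set_option autoImplicit false
set_option linter.style.haveILetI false
set_option linter.unusedSimpArgs false
set_option linter.unusedSectionVars false

namespace Cfsg.Agent.Lib.Helper24.ULag

open Matrix Module Cfsg Cfsg.Agent.Lib.Helper27.Unitary Cfsg.Agent.Lib.Helper27.GLStab

variable {F : Type*} [Field F] [Fintype F] {q n : ℕ}

theorem fin_cut' {V : Type*} [AddCommGroup V] [Module F V] [FiniteDimensional F V]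
    (Z : Submodule F V) (φ : V →ₗ[F] F) :
    finrank F Z ≤ finrank F (Z ⊓ LinearMap.ker φ : Submodule F V) + 1 := by
  have h1 := Submodule.finrank_sup_add_finrank_inf_eq Z (LinearMap.ker φ)
  have h2 := LinearMap.finrank_range_add_finrank_ker φ
  have h3 : finrank F (LinearMap.range φ) ≤ 1 := by
    have := Submodule.finrank_le (LinearMap.range φ)
    rwa [finrank_self] at this
  have h4 : finrank F (Z ⊔ LinearMap.ker φ : Submodule F V) ≤ finrank F V :=
    Submodule.finrank_le _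
  omega

theorem mem_cut' (hF : Fintype.card F = q ^ 2) {Z : Submodule F (Fin n → F)}
    {w x : Fin n → F} :
    x ∈ (Z ⊓ LinearMap.ker (hermB hF n w) : Submodule F (Fin n → F)) ↔
      x ∈ Z ∧ hermForm n F q x w = 0 := by
  rw [Submodule.mem_inf, LinearMap.mem_ker, hermB_apply]

/-- The key step: a family of non-standard `sg a' (t b')` in `M` yields a transvection in `M`. -/
theorem exists_tv (hF : Fintype.card F = q ^ 2) {θ : F} (hθ0 : θ ≠ 0) (hθ : θ + θ ^ q = 0)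
    {X Y : Submodule F (Fin n → F)} (h : LPair q X Y) (hX : 5 ≤ finrank F X)
    {M : Subgroup (GL (Fin n) F)} (hMU : M ≤ GU n F q) (hM : Std q θ M X Y)
    {a' b' : Fin n → F} (ha'i : hermForm n F q a' a' = 0) (hb'i : hermForm n F q b' b' = 0)
    (hab : hermForm n F q a' b' = 0) (hg : ∀ t : F, sg q θ a' (t • b') ∈ M)
    (ha' : a' ∉ Y) (hb' : b' ∉ Y) :
    ∃ a ∈ X, a ≠ 0 ∧ ∃ c : F, c ≠ 0 ∧ c + c ^ q = 0 ∧ tv q a c ∈ M := by
  obtain ⟨d₁, hd₁, e₁⟩ := h.exists_of_not_mem hF ha'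
  obtain ⟨d₂, hd₂, e₂⟩ := h.exists_of_not_mem hF hb'
  obtain ⟨b, hbY, hbd, hba', hbb'⟩ : ∃ b ∈ Y, (∃ s t : F, b = s • d₁ + t • d₂) ∧
      hermForm n F q b a' ≠ 0 ∧ hermForm n F q b b' ≠ 0 := by
    by_cases c1 : hermForm n F q d₁ b' = 0
    · by_cases c2 : hermForm n F q d₂ a' = 0
      · refine ⟨d₁ + d₂, Y.add_mem hd₁ hd₂, ⟨1, 1, by rw [one_smul, one_smul]⟩, ?_, ?_⟩
        · rw [hf_add_left, c2, add_zero]; exact e₁
        · rw [hf_add_left, c1, zero_add]; exact e₂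
      · exact ⟨d₂, hd₂, ⟨0, 1, by rw [zero_smul, one_smul, zero_add]⟩, c2, e₂⟩
    · exact ⟨d₁, hd₁, ⟨1, 0, by rw [zero_smul, one_smul, add_zero]⟩, e₁, c1⟩
  have hdim : 1 ≤ finrank F (X ⊓ LinearMap.ker (hermB hF n a') ⊓ LinearMap.ker (hermB hF n b')
      ⊓ LinearMap.ker (hermB hF n d₁) ⊓ LinearMap.ker (hermB hF n d₂) :
        Submodule F (Fin n → F)) := by
    have c1 := fin_cut' X (hermB hF n a')
    have c2 := fin_cut' (X ⊓ LinearMap.ker (hermB hF n a')) (hermB hF n b')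
    have c3 := fin_cut' (X ⊓ LinearMap.ker (hermB hF n a') ⊓ LinearMap.ker (hermB hF n b'))
      (hermB hF n d₁)
    have c4 := fin_cut' (X ⊓ LinearMap.ker (hermB hF n a') ⊓ LinearMap.ker (hermB hF n b')
      ⊓ LinearMap.ker (hermB hF n d₁)) (hermB hF n d₂)
    omega
  have hne : (X ⊓ LinearMap.ker (hermB hF n a') ⊓ LinearMap.ker (hermB hF n b')
      ⊓ LinearMap.ker (hermB hF n d₁) ⊓ LinearMap.ker (hermB hF n d₂) :
        Submodule F (Fin n → F)) ≠ ⊥ := by
    intro h0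
    rw [h0, finrank_bot] at hdim
    omega
  obtain ⟨a, ha, ha0⟩ := Submodule.exists_mem_ne_zero_of_ne_bot hne
  rw [mem_cut' hF, mem_cut' hF, mem_cut' hF, mem_cut' hF] at ha
  obtain ⟨⟨⟨⟨haX, q1⟩, q2⟩, q3⟩, q4⟩ := ha
  obtain ⟨s, t, hst⟩ := hbd
  have hai : hermForm n F q a a = 0 := h.isoX a haX a haX
  have hbi : hermForm n F q b b = 0 := h.isoY b hbY b hbY
  have hab0 : hermForm n F q a b = 0 := by
    rw [hst, hf_add_right hF, hf_smul_right, hf_smul_right, q3, q4]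
    ring
  -- scalars
  obtain ⟨ζ, hζ⟩ := exists_not_fixed hF
  obtain ⟨α, hα⟩ : ∃ α : F, α = hermForm n F q b a' := ⟨_, rfl⟩
  obtain ⟨β, hβ⟩ : ∃ β : F, β = hermForm n F q b b' := ⟨_, rfl⟩
  have hα0 : α ≠ 0 := by rw [hα]; exact hba'
  have hβ0 : β ≠ 0 := by rw [hβ]; exact hbb'
  have hβq0 : β ^ q ≠ 0 := fun h0 => hβ0 ((cj_eq_zero hF).mp h0)
  have hu0 : α * β ^ q ≠ 0 := mul_ne_zero hα0 hβq0
  obtain ⟨lam, hlam⟩ : ∃ lam : F, lam = ζ / (α * β ^ q) := ⟨_, rfl⟩
  have e1 : lam * (α * β ^ q) = ζ := by rw [hlam, div_mul_cancel₀ _ hu0]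
  have e2 : lam ^ q * (α ^ q * β) = ζ ^ q := by
    rw [← e1, mul_pow, mul_pow, cj_cj hF]
  have hζd : ζ - ζ ^ q ≠ 0 := fun h0 => hζ (sub_eq_zero.mp h0).symm
  obtain ⟨lam₂, hlam₂⟩ : ∃ lam₂ : F, lam₂ = ζ / (ζ - ζ ^ q) := ⟨_, rfl⟩
  have e3 : lam₂ * (ζ - ζ ^ q) = ζ := by rw [hlam₂, div_mul_cancel₀ _ hζd]
  -- the element g0
  have hb''i : hermForm n F q (lam • b') (lam • b') = 0 := by rw [hf_smul_self, hb'i, mul_zero]
  have hab'' : hermForm n F q a' (lam • b') = 0 := by rw [hf_smul_right, hab, mul_zero]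
  have hg0 := hg lam
  have hg0U : sg q θ a' (lam • b') ∈ GU n F q := hMU hg0
  have fix_a : gact (sg q θ a' (lam • b')) a = a := by
    rw [sg_gact hF hθ0 hθ ha'i hb''i hab'', q1, hf_smul_right, q2, mul_zero, zero_smul, zero_smul,
      add_zero, sub_zero]
  obtain ⟨w, hw⟩ : ∃ w, w = gact (sg q θ a' (lam • b')) b := ⟨_, rfl⟩
  have hw' : w = b + α • (lam • b') - (lam ^ q * β) • a' := by
    rw [hw, sg_gact hF hθ0 hθ ha'i hb''i hab'', hf_smul_right, ← hα, ← hβ]
  have hwi : hermForm n F q w w = 0 := by rw [hw, GU_preserves hg0U, hbi]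
  have haw : hermForm n F q a w = 0 := by
    rw [hw]
    nth_rewrite 1 [← fix_a]
    rw [GU_preserves hg0U, hab0]
  have hwb : hermForm n F q w b = ζ - ζ ^ q := by
    rw [hw', hf_sub_left, hf_add_left, hf_smul_left, hf_smul_left, hf_smul_left, hbi,
      hf_swap hF b b', hf_swap hF b a', ← hα, ← hβ]
    linear_combination e1 - e2
  have hbw : hermForm n F q b w = ζ ^ q - ζ := by
    rw [hf_swap hF w b, hwb, cj_sub hF, cj_cj hF]
  -- memberships
  have m1 : sg q θ a b ∈ M := hM a haX b hbY hab0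
  have m2 : sg q θ a (lam₂ • b) ∈ M :=
    hM a haX _ (Y.smul_mem _ hbY) (by rw [hf_smul_right, hab0, mul_zero])
  have m3 : sg q θ a (lam₂ • w) ∈ M := by
    have := M.mul_mem (M.mul_mem hg0 m2) (M.inv_mem hg0)
    rwa [conj_sg hF hg0U θ hai (by rw [hf_smul_self, hbi, mul_zero])
      (by rw [hf_smul_right, hab0, mul_zero]), fix_a, gact_smul, ← hw] at this
  have key := sg_comm_eq hF hθ0 hθ hai hbi
    (by rw [hf_smul_self, hwi, mul_zero] : hermForm n F q (lam₂ • w) (lam₂ • w) = 0) hab0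
    (by rw [hf_smul_right, haw, mul_zero] : hermForm n F q a (lam₂ • w) = 0)
  have hc : hermForm n F q b (lam₂ • w) - hermForm n F q (lam₂ • w) b = ζ ^ q - ζ := by
    rw [hf_smul_left, hwb, e3, hf_smul_right, hbw]
    have : lam₂ ^ q * (ζ ^ q - ζ) = ζ ^ q := by
      have := congrArg (fun z => z ^ q) e3
      simp only [mul_pow, cj_sub hF, cj_cj hF] at this
      exact this
    rw [this]
  rw [hc] at key
  refine ⟨a, haX, ha0, ζ ^ q - ζ, ?_, ?_, ?_⟩
  · intro h0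
    exact hζ (sub_eq_zero.mp h0)
  · rw [cj_sub hF, cj_cj hF]
    ring
  · have e : tv q a (ζ ^ q - ζ) =
        sg q θ a b * sg q θ a (lam₂ • w) * (sg q θ a (lam₂ • w) * sg q θ a b)⁻¹ := by
      rw [key]
      group
    rw [e]
    exact M.mul_mem (M.mul_mem m1 m3) (M.inv_mem (M.mul_mem m3 m1))


theorem exists_move (hF : Fintype.card F = q ^ 2) {θ : F} (hθ0 : θ ≠ 0) (hθ : θ + θ ^ q = 0)
    {X Y : Submodule F (Fin n → F)} (h : LPair q X Y)
    {M : Subgroup (GL (Fin n) F)} (hM : Std q θ M X Y)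
    {a a₂ : Fin n → F} (ha : a ∈ X) (ha₂ : a₂ ∈ X) (ha0 : a ≠ 0)
    (hni : a₂ ∉ Submodule.span F {a}) : ∃ A ∈ M, gact A a = a₂ := by
  have hc : a₂ - a ∈ X := X.sub_mem ha₂ ha
  have hc0 : a₂ - a ≠ 0 := by
    intro h0
    apply hni
    rw [sub_eq_zero.mp h0]
    exact Submodule.mem_span_singleton_self a
  have hy : ∃ y ∈ Y, hermForm n F q (a₂ - a) y = 0 ∧ hermForm n F q a y ≠ 0 := by
    by_contra hcon
    push Not at hcon
    obtain ⟨y₀, hy₀, hcy₀⟩ := h.exists_pair hF hc hc0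
    have hz : a - (hermForm n F q a y₀ / hermForm n F q (a₂ - a) y₀) • (a₂ - a) = 0 := by
      apply h.eq_zero_of_forall hF (X.sub_mem ha (X.smul_mem _ hc))
      intro y hy
      have h1 := hcon (y - ((hermForm n F q (a₂ - a) y / hermForm n F q (a₂ - a) y₀) ^ q) • y₀)
        (Y.sub_mem hy (Y.smul_mem _ hy₀)) (by
          rw [hf_sub_right hF, hf_smul_right, cj_cj hF]
          field_simp
          ring)
      rw [hf_sub_right hF, hf_smul_right, cj_cj hF] at h1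
      rw [hf_sub_left, hf_smul_left]
      field_simp
      field_simp at h1
      linear_combination h1
    obtain ⟨lam, hlam⟩ : ∃ lam : F, a = lam • (a₂ - a) := ⟨_, sub_eq_zero.mp hz⟩
    by_cases hl : lam = 0
    · rw [hl, zero_smul] at hlam
      exact ha0 hlam
    · apply hni
      rw [Submodule.mem_span_singleton]
      refine ⟨(1 + lam) / lam, ?_⟩
      have : lam • a₂ = (1 + lam) • a := by
        have h' : a = lam • a₂ - lam • a := by rw [← smul_sub]; exact hlam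
        rw [add_smul, one_smul]
        calc lam • a₂ = (lam • a₂ - lam • a) + lam • a := by abel
          _ = a + lam • a := by rw [← h']
      rw [div_eq_inv_mul, mul_smul, ← this, smul_smul, inv_mul_cancel₀ hl, one_smul]
  obtain ⟨y, hyY, hy1, hy2⟩ := hy
  have hx'X : (-(1 / hermForm n F q a y)) • (a₂ - a) ∈ X := X.smul_mem _ hc
  have hperp : hermForm n F q ((-(1 / hermForm n F q a y)) • (a₂ - a)) y = 0 := by
    rw [hf_smul_left, hy1, mul_zero]
  refine ⟨sg q θ ((-(1 / hermForm n F q a y)) • (a₂ - a)) y, hM _ hx'X y hyY hperp, ?_⟩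
  rw [sg_gact hF hθ0 hθ (h.isoX _ hx'X _ hx'X) (h.isoY y hyY y hyY) hperp,
    h.isoX a ha _ hx'X, zero_smul, add_zero, smul_smul]
  have : hermForm n F q a y * -(1 / hermForm n F q a y) = -1 := by field_simp
  rw [this, neg_smul, one_smul]
  abel

theorem exists_move' (hF : Fintype.card F = q ^ 2) {θ : F} (hθ0 : θ ≠ 0) (hθ : θ + θ ^ q = 0)
    {X Y : Submodule F (Fin n → F)} (h : LPair q X Y)
    (hX : 2 ≤ finrank F X) {M : Subgroup (GL (Fin n) F)} (hM : Std q θ M X Y)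
    {a a₂ : Fin n → F} (ha : a ∈ X) (ha₂ : a₂ ∈ X) (ha0 : a ≠ 0) (ha₂0 : a₂ ≠ 0) :
    ∃ A ∈ M, gact A a = a₂ := by
  by_cases hni : a₂ ∈ Submodule.span F {a}
  · have hlt : ¬ X ≤ Submodule.span F {a} := by
      intro hle
      have := Submodule.finrank_mono hle
      rw [finrank_span_singleton ha0] at this
      omega
    obtain ⟨a₃, ha₃, hn₃⟩ := SetLike.not_le_iff_exists.mp hlt
    obtain ⟨A₁, hA₁, e₁⟩ := exists_move hF hθ0 hθ h hM ha ha₃ ha0 hn₃
    have hn₃' : a₂ ∉ Submodule.span F {a₃} := by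
      intro hmem
      obtain ⟨c, hc⟩ := Submodule.mem_span_singleton.mp hmem
      obtain ⟨d, hd⟩ := Submodule.mem_span_singleton.mp hni
      apply hn₃
      rw [Submodule.mem_span_singleton]
      have hc0 : c ≠ 0 := by
        intro h0
        rw [h0, zero_smul] at hc
        exact ha₂0 hc.symm
      refine ⟨d / c, ?_⟩
      rw [div_eq_inv_mul, mul_smul, hd, ← hc, smul_smul, inv_mul_cancel₀ hc0, one_smul]
    have ha₃0 : a₃ ≠ 0 := by
      intro h0
      apply hn₃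
      rw [h0]
      exact Submodule.zero_mem _
    obtain ⟨A₂, hA₂, e₂⟩ := exists_move hF hθ0 hθ h hM ha₃ ha₂ ha₃0 hn₃'
    exact ⟨A₂ * A₁, M.mul_mem hA₂ hA₁, by rw [gact_mul, e₁, e₂]⟩
  · exact exists_move hF hθ0 hθ h hM ha ha₂ ha0 hni

/-- From one transvection with centre in `X` to all of them. -/
theorem all_tv_X (hF : Fintype.card F = q ^ 2) {θ : F} (hθ0 : θ ≠ 0) (hθ : θ + θ ^ q = 0)
    {X Y : Submodule F (Fin n → F)} (h : LPair q X Y)
    (hX : 2 ≤ finrank F X) {M : Subgroup (GL (Fin n) F)} (hMU : M ≤ GU n F q)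
    (hM : Std q θ M X Y)
    {a : Fin n → F} (ha : a ∈ X) (ha0 : a ≠ 0) {μ : F} (hμ : μ ≠ 0) (hμt : μ + μ ^ q = 0)
    (hT : tv q a μ ∈ M) : ∀ x ∈ X, x ∈ ASet q M := by
  have s1 : ∀ x ∈ X, tv q x μ ∈ M := by
    intro x hx
    by_cases hx0 : x = 0
    · rw [hx0, tv_zero_left]
      exact M.one_mem
    obtain ⟨A, hA, e⟩ := exists_move' hF hθ0 hθ h hX hM ha hx ha0 hx0
    have := M.mul_mem (M.mul_mem hA hT) (M.inv_mem hA)
    rwa [conj_tv hF (hMU hA) (h.isoX a ha a ha), e] at this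
  intro x hx
  refine ⟨h.isoX x hx x hx, ?_⟩
  intro c hc
  have hμq : μ ^ q = -μ := by linear_combination hμt
  have hcq : c ^ q = -c := by linear_combination hc
  have hr : (c / μ) ^ q = c / μ := by
    rw [div_pow, hμq, hcq, neg_div_neg_eq]
  obtain ⟨ν, hν⟩ := nm_surj hF (c / μ) hr
  have e : tv q x c = tv q (ν • x) μ := by
    rw [tv_smul hF (h.isoX x hx x hx), hν, div_mul_cancel₀ _ hμ]
  rw [e]
  exact s1 _ (X.smul_mem _ hx)

/-- If `M` contains all transvections with centres in `X` and in `Y`, it is the whole group. -/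
theorem all_iso (hF : Fintype.card F = q ^ 2) {θ : F} (hθ0 : θ ≠ 0) (hθ : θ + θ ^ q = 0)
    {X Y : Submodule F (Fin n → F)} (h : LPair q X Y)
    {M : Subgroup (GL (Fin n) F)} (hMU : M ≤ GU n F q) (hM : Std q θ M X Y)
    (hTX : ∀ x ∈ X, x ∈ ASet q M) (hTY : ∀ y ∈ Y, y ∈ ASet q M) :
    ∀ w : Fin n → F, hermForm n F q w w = 0 → w ∈ ASet q M := by
  intro w hw
  obtain ⟨x, hx, y, hy, rfl⟩ := h.decomp w
  have hxi := h.isoX x hx x hx
  have hyi := h.isoY y hy y hy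
  by_cases hxy : hermForm n F q x y = 0
  · refine ⟨hw, ?_⟩
    intro c hc
    rw [tv_add_eq hF hθ0 hθ hxi hyi hxy hc]
    exact M.mul_mem (M.mul_mem (hM _ (X.smul_mem _ hx) y hy
      (by rw [hf_smul_left, hxy, mul_zero])) ((hTX x hx).2 c hc)) ((hTY y hy).2 c hc)
  · have hη : hermForm n F q x y + (hermForm n F q x y) ^ q = 0 := by
      rw [hf_add_left, hf_add_right hF, hf_add_right hF, hxi, hyi, hf_swap hF x y] at hw
      linear_combination hw
    have hηq : (hermForm n F q x y) ^ q = - hermForm n F q x y := by linear_combination hη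
    have hc : (hermForm n F q x y)⁻¹ + ((hermForm n F q x y)⁻¹) ^ q = 0 := by
      rw [inv_pow, hηq]
      field_simp
      ring
    have e : gact (tv q y (hermForm n F q x y)⁻¹) x = x + y := by
      rw [tv_gact hyi, inv_mul_cancel₀ hxy, one_smul]
    rw [← e]
    exact ASet_gact hF hMU ((hTY y hy).2 _ hc) (hTX x hx)

end Cfsg.Agent.Lib.Helper24.ULag
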