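import Mathlib
import Cfsg.Agent.Lib.Helper24.ULagB

set_option autoImplicit false
set_option linter.style.haveILetI false
set_option linter.unusedSimpArgs false
set_option linter.unusedSectionVars false

namespace Cfsg.Agent.Lib.Helper24.ULag

open Matrix Module Cfsg Cfsg.Agent.Lib.Helper27.Unitary Cfsg.Agent.Lib.Helper27.GLStab

variable {F : Type*} [Field F] [Fintype F] {q n : ℕ}

/-- Dual families in a pair of complementary totally isotropic subspaces. -/
theorem exists_dual_bases (hF : Fintype.card F = q ^ 2) {X Y : Submodule F (Fin n → F)}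
    (h : LPair q X Y) {k : ℕ} (hX : finrank F X = k) (hY : finrank F Y = k) :
    ∃ (bX : Basis (Fin k) F X) (bY : Basis (Fin k) F Y),
      ∀ i j, hermForm n F q (bY j : Fin n → F) (bX i : Fin n → F) =
        if i = j then 1 else 0 := by
  classical
  obtain ⟨bX⟩ : Nonempty (Basis (Fin k) F X) := ⟨Module.finBasisOfFinrankEq F X hX⟩
  obtain ⟨Φ, hΦ⟩ : ∃ Φ : Y →ₗ[F] (Fin k → F), ∀ (y : Y) (i : Fin k),
      Φ y i = hermForm n F q (y : Fin n → F) (bX i : Fin n → F) :=
    ⟨LinearMap.pi (fun i => (hermB hF n (bX i : Fin n → F)).comp Y.subtype),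
      fun y i => by simp [hermB_apply]⟩
  have hinj : Function.Injective Φ := by
    rw [← LinearMap.ker_eq_bot, LinearMap.ker_eq_bot']
    intro y hy
    have h1 : ∀ x ∈ X, hermForm n F q (y : Fin n → F) x = 0 := by
      intro x hx
      have hx' : x = ∑ i, (bX.repr ⟨x, hx⟩ i) • (bX i : Fin n → F) := by
        have := bX.sum_repr ⟨x, hx⟩
        have h2 := congrArg (fun z : X => (z : Fin n → F)) this
        simp only [Submodule.coe_sum, Submodule.coe_smul] at h2
        exact h2.symm
      rw [hx', hf_sum_right hF]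
      apply Finset.sum_eq_zero
      intro i _
      rw [hf_smul_right, ← hΦ, hy]
      simp
    have := h.symm.eq_zero_of_forall hF y.2 h1
    exact Subtype.ext this
  have hdim : finrank F Y = finrank F (Fin k → F) := by
    rw [hY, Module.finrank_fintype_fun_eq_card, Fintype.card_fin]
  obtain ⟨Φe, hΦe⟩ : ∃ Φe : Y ≃ₗ[F] (Fin k → F), ∀ y, Φe y = Φ y :=
    ⟨LinearMap.linearEquivOfInjective Φ hinj hdim, fun y => rfl⟩
  refine ⟨bX, Basis.ofEquivFun Φe, fun i j => ?_⟩
  rw [← hΦ, ← hΦe]
  have : Φe ((Basis.ofEquivFun Φe) j) = Pi.single j 1 := by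
    rw [Basis.coe_ofEquivFun, LinearEquiv.apply_symm_apply]
  rw [this, Pi.single_apply]

/-- The rotation of a hyperbolic pair. -/
noncomputable def rho (q : ℕ) (θ : F) (e f : Fin n → F) : GL (Fin n) F :=
  tv q f θ * tv q e (-θ⁻¹) * tv q f θ

theorem rho_mem (hF : Fintype.card F = q ^ 2) {θ : F} (hθ0 : θ ≠ 0) (hθ : θ + θ ^ q = 0)
    (e f : Fin n → F) : rho q θ e f ∈ GU n F q ⊓ Cfsg.Geo.specialLinear (Fin n) F := by
  have hθq : θ ^ q = -θ := by linear_combination hθ
  have h2 : -θ⁻¹ + (-θ⁻¹) ^ q = 0 := by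
    rw [cj_neg hF, inv_pow, hθq]
    field_simp
    ring
  unfold rho
  exact mul_mem (mul_mem (tv_mem_SUg hF _ hθ) (tv_mem_SUg hF _ h2)) (tv_mem_SUg hF _ hθ)

theorem rho_fix {θ : F} {e f : Fin n → F} (he : hermForm n F q e e = 0)
    (hf : hermForm n F q f f = 0) {v : Fin n → F} (hve : hermForm n F q v e = 0)
    (hvf : hermForm n F q v f = 0) : gact (rho q θ e f) v = v := by
  have h1 : gact (tv q f θ) v = v := by
    rw [tv_gact hf, hvf, mul_zero, zero_smul, add_zero]
  have h2 : gact (tv q e (-θ⁻¹)) v = v := by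
    rw [tv_gact he, hve, mul_zero, zero_smul, add_zero]
  unfold rho
  rw [gact_mul, gact_mul, h1, h2, h1]

theorem rho_e (hF : Fintype.card F = q ^ 2) {θ : F} (hθ0 : θ ≠ 0)
    {e f : Fin n → F} (he : hermForm n F q e e = 0)
    (hf : hermForm n F q f f = 0) (hfe : hermForm n F q f e = 1) :
    gact (rho q θ e f) e = θ • f := by
  have hef : hermForm n F q e f = 1 := by rw [hf_swap hF f e, hfe, one_pow]
  have h1 : gact (tv q f θ) e = e + θ • f := by
    rw [tv_gact hf, hef, mul_one]
  have h2 : gact (tv q e (-θ⁻¹)) (e + θ • f) = θ • f := by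
    rw [tv_gact he, hf_add_left, hf_smul_left, he, hfe, zero_add, mul_one, neg_mul,
      inv_mul_cancel₀ hθ0, neg_smul, one_smul]
    abel
  have h3 : gact (tv q f θ) (θ • f) = θ • f := by
    rw [tv_gact hf, hf_smul_left, hf, mul_zero, mul_zero, zero_smul, add_zero]
  unfold rho
  rw [gact_mul, gact_mul, h1, h2, h3]

theorem rho_f (hF : Fintype.card F = q ^ 2) {θ : F} (hθ0 : θ ≠ 0)
    {e f : Fin n → F} (he : hermForm n F q e e = 0)
    (hf : hermForm n F q f f = 0) (hfe : hermForm n F q f e = 1) :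
    gact (rho q θ e f) f = (-θ⁻¹) • e := by
  have hef : hermForm n F q e f = 1 := by rw [hf_swap hF f e, hfe, one_pow]
  have h1 : gact (tv q f θ) f = f := by
    rw [tv_gact hf, hf, mul_zero, zero_smul, add_zero]
  have h2 : gact (tv q e (-θ⁻¹)) f = f + (-θ⁻¹) • e := by
    rw [tv_gact he, hfe, mul_one]
  have h3 : gact (tv q f θ) (f + (-θ⁻¹) • e) = (-θ⁻¹) • e := by
    rw [tv_gact hf, hf_add_left, hf_smul_left, hf, hef, zero_add, mul_one, mul_neg,
      mul_inv_cancel₀ hθ0]
    module
  unfold rho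
  rw [gact_mul, gact_mul, h1, h2, h3]

/-- An element of the special unitary group interchanging the two members of the pair. -/
theorem exists_swap (hF : Fintype.card F = q ^ 2)
    {X Y : Submodule F (Fin n → F)} (h : LPair q X Y) {k : ℕ} (hX : finrank F X = k)
    (hY : finrank F Y = k) :
    ∃ s : GL (Fin n) F, s ∈ GU n F q ⊓ Cfsg.Geo.specialLinear (Fin n) F ∧
      (∀ x ∈ X, gact s x ∈ Y) ∧ (∀ y ∈ Y, gact s y ∈ X) := by
  obtain ⟨θ, hθ0, hθ⟩ := exists_theta hF
  obtain ⟨bX, bY, hdual⟩ := exists_dual_bases hF h hX hY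
  have hee : ∀ i j, hermForm n F q (bX i : Fin n → F) (bX j : Fin n → F) = 0 :=
    fun i j => h.isoX _ (bX i).2 _ (bX j).2
  have hff : ∀ i j, hermForm n F q (bY i : Fin n → F) (bY j : Fin n → F) = 0 :=
    fun i j => h.isoY _ (bY i).2 _ (bY j).2
  have hef : ∀ i j, i ≠ j → hermForm n F q (bX i : Fin n → F) (bY j : Fin n → F) = 0 := by
    intro i j hij
    apply hf_eq_zero_swap hF
    rw [hdual, if_neg hij]
  have hfe : ∀ i j, i ≠ j → hermForm n F q (bY j : Fin n → F) (bX i : Fin n → F) = 0 := by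
    intro i j hij
    rw [hdual, if_neg hij]
  have hfe1 : ∀ i, hermForm n F q (bY i : Fin n → F) (bX i : Fin n → F) = 1 := by
    intro i
    rw [hdual, if_pos rfl]
  have key : ∀ r : ℕ, r ≤ k → ∃ s : GL (Fin n) F,
      s ∈ GU n F q ⊓ Cfsg.Geo.specialLinear (Fin n) F ∧
      (∀ j : Fin k, j.val < r → gact s (bX j : Fin n → F) = θ • (bY j : Fin n → F) ∧
        gact s (bY j : Fin n → F) = (-θ⁻¹) • (bX j : Fin n → F)) ∧
      (∀ j : Fin k, r ≤ j.val → gact s (bX j : Fin n → F) = (bX j : Fin n → F) ∧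
        gact s (bY j : Fin n → F) = (bY j : Fin n → F)) := by
    intro r
    induction r with
    | zero =>
      intro _
      exact ⟨1, Subgroup.one_mem _, fun j hj => absurd hj (Nat.not_lt_zero _),
        fun j _ => ⟨gact_one _, gact_one _⟩⟩
    | succ r ih =>
      intro hr
      obtain ⟨s, hs, hlt, hge⟩ := ih (by omega)
      obtain ⟨i, hi⟩ : ∃ i : Fin k, i = ⟨r, by omega⟩ := ⟨_, rfl⟩
      have hiv : i.val = r := by rw [hi]
      refine ⟨rho q θ (bX i : Fin n → F) (bY i : Fin n → F) * s,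
        mul_mem (rho_mem hF hθ0 hθ _ _) hs, ?_, ?_⟩
      · intro j hj
        by_cases hji : j = i
        · rw [hji, gact_mul, gact_mul, (hge i (by omega)).1, (hge i (by omega)).2]
          exact ⟨rho_e hF hθ0 (hee i i) (hff i i) (hfe1 i),
            rho_f hF hθ0 (hee i i) (hff i i) (hfe1 i)⟩
        · have hjr : j.val < r := by
            have : j.val ≠ r := fun h0 => hji (Fin.ext (by rw [h0, hiv]))
            omega
          rw [gact_mul, gact_mul, (hlt j hjr).1, (hlt j hjr).2, gact_smul, gact_smul,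
            rho_fix (hee i i) (hff i i) (hfe i j (Ne.symm hji)) (hff j i),
            rho_fix (hee i i) (hff i i) (hee j i) (hef j i hji)]
          exact ⟨rfl, rfl⟩
      · intro j hj
        have hji : j ≠ i := by
          intro h0
          rw [h0, hiv] at hj
          omega
        rw [gact_mul, gact_mul, (hge j (by omega)).1, (hge j (by omega)).2,
          rho_fix (hee i i) (hff i i) (hee j i) (hef j i hji),
          rho_fix (hee i i) (hff i i) (hfe i j (Ne.symm hji)) (hff j i)]
        exact ⟨rfl, rfl⟩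
  obtain ⟨s, hs, hlt, -⟩ := key k le_rfl
  refine ⟨s, hs, ?_, ?_⟩
  · intro x hx
    have hx' : x = ∑ i, (bX.repr ⟨x, hx⟩ i) • (bX i : Fin n → F) := by
      have := bX.sum_repr ⟨x, hx⟩
      have h2 := congrArg (fun z : X => (z : Fin n → F)) this
      simp only [Submodule.coe_sum, Submodule.coe_smul] at h2
      exact h2.symm
    rw [hx', ← gactL_apply, map_sum]
    apply Y.sum_mem
    intro i _
    rw [map_smul, gactL_apply, (hlt i i.2).1]
    exact Y.smul_mem _ (Y.smul_mem _ (bY i).2)
  · intro y hy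
    have hy' : y = ∑ i, (bY.repr ⟨y, hy⟩ i) • (bY i : Fin n → F) := by
      have := bY.sum_repr ⟨y, hy⟩
      have h2 := congrArg (fun z : Y => (z : Fin n → F)) this
      simp only [Submodule.coe_sum, Submodule.coe_smul] at h2
      exact h2.symm
    rw [hy', ← gactL_apply, map_sum]
    apply X.sum_mem
    intro i _
    rw [map_smul, gactL_apply, (hlt i i.2).2]
    exact X.smul_mem _ (X.smul_mem _ (bX i).2)

end Cfsg.Agent.Lib.Helper24.ULag
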