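import Mathlib
import Cfsg.Agent.Lib.Helper24.ULagC
import Cfsg.Prelude.Def_GeometricClasses

set_option autoImplicit false
set_option linter.style.haveILetI false
set_option linter.unusedSimpArgs false
set_option linter.unusedSectionVars false

namespace Cfsg.Agent.Lib.Helper24.ULag

open Matrix Module Cfsg Cfsg.Geo Cfsg.Agent.Lib.Helper27.Unitary Cfsg.Agent.Lib.Helper27.GLStab

variable {F : Type*} [Field F] [Fintype F] {q n : ℕ}

theorem map_eq_of_maps (A : GL (Fin n) F)
    {W W' : Submodule F (Fin n → F)} (hdim : finrank F W = finrank F W')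
    (hmaps : ∀ w ∈ W, gact A w ∈ W') :
    W.map (Matrix.toLin' (A : Matrix (Fin n) (Fin n) F)) = W' := by
  have hinj : Function.Injective (Matrix.toLin' (A : Matrix (Fin n) (Fin n) F)) := by
    intro x y hxy
    rw [Matrix.toLin'_apply, Matrix.toLin'_apply] at hxy
    exact gact_injective A hxy
  apply Submodule.eq_of_le_of_finrank_eq
  · rintro _ ⟨w, hw, rfl⟩
    rw [Matrix.toLin'_apply]
    exact hmaps w hw
  · rw [← hdim]
    exact (LinearEquiv.finrank_eq (Submodule.equivMapOfInjective _ hinj W)).symm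

theorem mem_stab_of_fix {D : Fin 2 → Submodule F (Fin n → F)} (A : GL (Fin n) F)
    (h0 : ∀ w ∈ D 0, gact A w ∈ D 0) (h1 : ∀ w ∈ D 1, gact A w ∈ D 1) :
    A ∈ decompositionStabilizer D := by
  refine ⟨1, fun i => ?_⟩
  fin_cases i
  · exact map_eq_of_maps A rfl h0
  · exact map_eq_of_maps A rfl h1

theorem mem_stab_of_swap {D : Fin 2 → Submodule F (Fin n → F)}
    (hdim : finrank F (D 0) = finrank F (D 1)) (A : GL (Fin n) F)
    (h0 : ∀ w ∈ D 0, gact A w ∈ D 1) (h1 : ∀ w ∈ D 1, gact A w ∈ D 0) :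
    A ∈ decompositionStabilizer D := by
  refine ⟨Equiv.swap 0 1, fun i => ?_⟩
  fin_cases i
  · exact map_eq_of_maps A hdim h0
  · exact map_eq_of_maps A hdim.symm h1

theorem stab_cases {D : Fin 2 → Submodule F (Fin n → F)} {A : GL (Fin n) F}
    (hA : A ∈ decompositionStabilizer D) :
    ∀ w ∈ D 0, gact A w ∈ D 0 ∨ gact A w ∈ D 1 := by
  obtain ⟨σ, hσ⟩ := hA
  intro w hw
  have h1 : gact A w ∈ D (σ 0) := by
    rw [← hσ 0]
    exact ⟨w, hw, by rw [Matrix.toLin'_apply]; rfl⟩
  rcases Fin.exists_fin_two.mp ⟨σ 0, rfl⟩ with h | h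
  · left; rwa [← h]
  · right; rwa [← h]

theorem union_lemma {W P Q : Submodule F (Fin n → F)} (A : GL (Fin n) F)
    (h : ∀ w ∈ W, gact A w ∈ P ∨ gact A w ∈ Q) :
    (∀ w ∈ W, gact A w ∈ P) ∨ (∀ w ∈ W, gact A w ∈ Q) := by
  by_contra hcon
  push Not at hcon
  obtain ⟨⟨x, hx, hxP⟩, ⟨y, hy, hyQ⟩⟩ := hcon
  have hxQ : gact A x ∈ Q := (h x hx).resolve_left hxP
  have hyP : gact A y ∈ P := (h y hy).resolve_right hyQ
  rcases h (x + y) (W.add_mem hx hy) with h1 | h1
  · rw [gact_add] at h1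
    apply hxP
    have := P.sub_mem h1 hyP
    rwa [add_sub_cancel_right] at this
  · rw [gact_add] at h1
    apply hyQ
    have := Q.sub_mem h1 hxQ
    rwa [add_sub_cancel_left] at this

theorem exists_perp_ne_zero (hF : Fintype.card F = q ^ 2) {W : Submodule F (Fin n → F)}
    (hW : 2 ≤ finrank F W) (a : Fin n → F) :
    ∃ b ∈ W, b ≠ 0 ∧ hermForm n F q b a = 0 ∧ hermForm n F q a b = 0 := by
  have c1 := fin_cut' W (hermB hF n a)
  have hne : (W ⊓ LinearMap.ker (hermB hF n a) : Submodule F (Fin n → F)) ≠ ⊥ := by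
    intro h0
    rw [h0, finrank_bot] at c1
    omega
  obtain ⟨b, hb, hb0⟩ := Submodule.exists_mem_ne_zero_of_ne_bot hne
  rw [mem_cut' hF] at hb
  exact ⟨b, hb.1, hb0, hb.2, hf_eq_zero_swap hF hb.2⟩

theorem main (n q : ℕ) (hF : Fintype.card F = q ^ 2) (hn : 13 ≤ n) (k : ℕ) (hk : 2 * k = n)
    (D : Fin 2 → Submodule F (Fin n → F)) (hD : IsMDecomposition k D)
    (hts : ∀ i, IsTotallySingularFor (hermForm n F q) (D i)) :
    IsMaximalIn (GU n F q ⊓ specialLinear (Fin n) F)
      (decompositionStabilizer D ⊓ (GU n F q ⊓ specialLinear (Fin n) F)) := by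
  obtain ⟨θ, hθ0, hθ⟩ := exists_theta hF
  have hr0 := hD.finrank_eq 0
  have hr1 := hD.finrank_eq 1
  have hk7 : 7 ≤ k := by omega
  have hdisj : D 0 ⊓ D 1 = ⊥ :=
    disjoint_iff.mp (hD.indep.pairwiseDisjoint (by decide : (0 : Fin 2) ≠ 1))
  have hsup : D 0 ⊔ D 1 = ⊤ := by
    rw [eq_top_iff, ← hD.iSup_eq_top]
    apply iSup_le
    intro i
    fin_cases i
    · exact le_sup_left
    · exact le_sup_right
  have hLP : LPair q (D 0) (D 1) := ⟨hts 0, hts 1, hdisj, hsup⟩
  have hStd : ∀ x ∈ D 0, ∀ y ∈ D 1, hermForm n F q x y = 0 →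
      sg q θ x y ∈ decompositionStabilizer D ⊓ (GU n F q ⊓ specialLinear (Fin n) F) := by
    intro x hx y hy hxy
    refine ⟨?_, sg_mem_SUg hF hθ x y⟩
    apply mem_stab_of_fix
    · intro w hw
      rw [sg_gact hF hθ0 hθ (hts 0 x hx x hx) (hts 1 y hy y hy) hxy, hts 0 w hw x hx, zero_smul,
        add_zero]
      exact (D 0).sub_mem hw ((D 0).smul_mem _ hx)
    · intro w hw
      rw [sg_gact hF hθ0 hθ (hts 0 x hx x hx) (hts 1 y hy y hy) hxy, hts 1 w hw y hy, zero_smul,
        sub_zero]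
      exact (D 1).add_mem hw ((D 1).smul_mem _ hy)
  have hinter : ∀ v, v ∈ D 0 → v ∈ D 1 → v = 0 := by
    intro v h0 h1
    have : v ∈ D 0 ⊓ D 1 := ⟨h0, h1⟩
    rwa [hdisj, Submodule.mem_bot] at this
  have hex : ¬ (n = 3 ∧ q = 2) := by omega
  refine ⟨lt_of_le_of_ne inf_le_right ?_, ?_⟩
  · -- proper
    intro htop
    obtain ⟨x, hx, hx0⟩ : ∃ x ∈ D 0, x ≠ 0 := by
      have : D 0 ≠ ⊥ := by
        intro h0
        rw [h0, finrank_bot] at hr0
        omega
      exact Submodule.exists_mem_ne_zero_of_ne_bot this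
    obtain ⟨y, hy, hxy⟩ := hLP.exists_pair hF hx hx0
    have hA : tv q y θ ∈ decompositionStabilizer D := by
      have h1 : tv q y θ ∈ GU n F q ⊓ specialLinear (Fin n) F := tv_mem_SUg hF y hθ
      rw [← htop] at h1
      exact h1.1
    have e : gact (tv q y θ) x = x + (θ * hermForm n F q x y) • y :=
      tv_gact (hts 1 y hy y hy) θ x
    have hsc : θ * hermForm n F q x y ≠ 0 := mul_ne_zero hθ0 hxy
    rcases stab_cases hA x hx with h | h
    · rw [e] at h
      have hy0 : (θ * hermForm n F q x y) • y ∈ D 0 := by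
        have := (D 0).sub_mem h hx
        rwa [add_sub_cancel_left] at this
      have hy0' : y ∈ D 0 := by
        have := (D 0).smul_mem (θ * hermForm n F q x y)⁻¹ hy0
        rwa [smul_smul, inv_mul_cancel₀ hsc, one_smul] at this
      have := hinter y hy0' hy
      rw [this, hf_zero_right hF] at hxy
      exact hxy rfl
    · rw [e] at h
      have hx1 : x ∈ D 1 := by
        have := (D 1).sub_mem h ((D 1).smul_mem (θ * hermForm n F q x y) hy)
        rwa [add_sub_cancel_right] at this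
      exact hx0 (hinter x hx hx1)
  · -- maximal
    intro M hKM hMtop
    by_cases hMK : M = decompositionStabilizer D ⊓ (GU n F q ⊓ specialLinear (Fin n) F)
    · exact Or.inl hMK
    right
    have hMU : M ≤ GU n F q := le_trans hMtop inf_le_left
    obtain ⟨g, hgM, hgK⟩ : ∃ g ∈ M, g ∉ decompositionStabilizer D := by
      by_contra hcon
      push Not at hcon
      exact hMK (le_antisymm (fun g hg => ⟨hcon g hg, hMtop hg⟩) hKM)
    have hgU : g ∈ GU n F q := hMU hgM
    have hStdM : Std q θ M (D 0) (D 1) := fun x hx y hy hxy => hKM (hStd x hx y hy hxy)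
    -- the non-bad pair
    have hB1 : ∃ a' ∈ D 0, ∃ b' ∈ D 1, hermForm n F q a' b' = 0 ∧
        ((gact g a' ∉ D 1 ∧ gact g b' ∉ D 1) ∨ (gact g a' ∉ D 0 ∧ gact g b' ∉ D 0)) := by
      by_contra hcon
      push Not at hcon
      have hc : ∀ a' ∈ D 0, ∀ b' ∈ D 1, hermForm n F q a' b' = 0 →
          (gact g a' ∈ D 1 ∨ gact g b' ∈ D 1) ∧ (gact g a' ∈ D 0 ∨ gact g b' ∈ D 0) := by
        intro a' ha' b' hb' hab
        obtain ⟨c1, c2⟩ := hcon a' ha' b' hb' hab
        constructor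
        · by_contra hn
          push Not at hn
          exact hn.2 (c1 hn.1)
        · by_contra hn
          push Not at hn
          exact hn.2 (c2 hn.1)
      have i0 : ∀ a' ∈ D 0, gact g a' ∈ D 0 ∨ gact g a' ∈ D 1 := by
        intro a' ha'
        obtain ⟨b', hb', hb'0, -, hab⟩ := exists_perp_ne_zero hF (W := D 1) (by omega) a'
        obtain ⟨c1, c2⟩ := hc a' ha' b' hb' hab
        by_contra hn
        push Not at hn
        have q1 : gact g b' ∈ D 1 := c1.resolve_left hn.2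
        have q0 : gact g b' ∈ D 0 := c2.resolve_left hn.1
        exact hb'0 ((gact_eq_zero g).mp (hinter _ q0 q1))
      have i1 : ∀ b' ∈ D 1, gact g b' ∈ D 0 ∨ gact g b' ∈ D 1 := by
        intro b' hb'
        obtain ⟨a', ha', ha'0, hab, -⟩ := exists_perp_ne_zero hF (W := D 0) (by omega) b'
        obtain ⟨c1, c2⟩ := hc a' ha' b' hb' hab
        by_contra hn
        push Not at hn
        have q1 : gact g a' ∈ D 1 := c1.resolve_right hn.2
        have q0 : gact g a' ∈ D 0 := c2.resolve_right hn.1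
        exact ha'0 ((gact_eq_zero g).mp (hinter _ q0 q1))
      obtain ⟨a₁, ha₁, ha₁0⟩ : ∃ x ∈ D 0, x ≠ 0 := by
        have : D 0 ≠ ⊥ := by
          intro h0
          rw [h0, finrank_bot] at hr0
          omega
        exact Submodule.exists_mem_ne_zero_of_ne_bot this
      obtain ⟨b₁, hb₁, hb₁0, -, hab₁⟩ := exists_perp_ne_zero hF (W := D 1) (by omega) a₁
      obtain ⟨c1, c2⟩ := hc a₁ ha₁ b₁ hb₁ hab₁
      rcases union_lemma g i0 with u0 | u0 <;> rcases union_lemma g i1 with u1 | u1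
      · rcases c1 with q | q
        · exact ha₁0 ((gact_eq_zero g).mp (hinter _ (u0 a₁ ha₁) q))
        · exact hb₁0 ((gact_eq_zero g).mp (hinter _ (u1 b₁ hb₁) q))
      · exact hgK (mem_stab_of_fix g u0 u1)
      · exact hgK (mem_stab_of_swap (by rw [hr0, hr1]) g u0 u1)
      · rcases c2 with q | q
        · exact ha₁0 ((gact_eq_zero g).mp (hinter _ q (u0 a₁ ha₁)))
        · exact hb₁0 ((gact_eq_zero g).mp (hinter _ q (u1 b₁ hb₁)))
    obtain ⟨a', ha', b', hb', hab, hcase⟩ := hB1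
    have hba : hermForm n F q b' a' = 0 := hf_eq_zero_swap hF hab
    have ha'i : hermForm n F q a' a' = 0 := hts 0 a' ha' a' ha'
    have hb'i : hermForm n F q b' b' = 0 := hts 1 b' hb' b' hb'
    obtain ⟨s, hsSU, hs0, hs1⟩ := exists_swap hF hLP hr0 hr1
    have hsM : s ∈ M := hKM ⟨mem_stab_of_swap (by rw [hr0, hr1]) s hs0 hs1, hsSU⟩
    have hsU : s ∈ GU n F q := hMU hsM
    have transfer : ∀ {P Q : Submodule F (Fin n → F)}, (∀ x ∈ Q, gact s x ∈ P) →
        (∀ x ∈ P, x ∈ ASet q M) → ∀ y ∈ Q, y ∈ ASet q M := by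
      intro P Q hQP hP y hy
      have h1 := ASet_gact hF hMU (M.inv_mem hsM) (hP _ (hQP y hy))
      rwa [gact_inv_gact] at h1
    have hfin : (∀ x ∈ D 0, x ∈ ASet q M) → (∀ y ∈ D 1, y ∈ ASet q M) →
        M = GU n F q ⊓ specialLinear (Fin n) F := by
      intro hTX hTY
      exact ASet_top hF hex hMtop (all_iso hF hθ0 hθ hLP hMU hStdM hTX hTY)
    rcases hcase with ⟨n1, n2⟩ | ⟨n1, n2⟩
    · have hfam : ∀ t : F, sg q θ (gact g a') (t • gact g b') ∈ M := by
        intro t
        have h1 : sg q θ a' (t • b') ∈ M :=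
          hStdM a' ha' _ ((D 1).smul_mem t hb') (by rw [hf_smul_right, hab, mul_zero])
        have h2 := M.mul_mem (M.mul_mem hgM h1) (M.inv_mem hgM)
        rwa [conj_sg hF hgU θ ha'i (by rw [hf_smul_self, hb'i, mul_zero])
          (by rw [hf_smul_right, hab, mul_zero]), gact_smul] at h2
      obtain ⟨a, haX, ha0, c, hc0, hct, hT⟩ := exists_tv hF hθ0 hθ hLP (by omega) hMU hStdM
        (by rw [GU_preserves hgU, ha'i]) (by rw [GU_preserves hgU, hb'i])
        (by rw [GU_preserves hgU, hab]) hfam n1 n2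
      have hTX := all_tv_X hF hθ0 hθ hLP (by omega) hMU hStdM haX ha0 hc0 hct hT
      exact hfin hTX (transfer hs1 hTX)
    · have hStdM' : Std q θ M (D 1) (D 0) := hStdM.symm hF hθ0 hθ hLP
      have hfam : ∀ t : F, sg q θ (gact g b') (t • gact g a') ∈ M := by
        intro t
        have h1 : sg q θ b' (t • a') ∈ M :=
          hStdM' b' hb' _ ((D 0).smul_mem t ha') (by rw [hf_smul_right, hba, mul_zero])
        have h2 := M.mul_mem (M.mul_mem hgM h1) (M.inv_mem hgM)
        rwa [conj_sg hF hgU θ hb'i (by rw [hf_smul_self, ha'i, mul_zero])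
          (by rw [hf_smul_right, hba, mul_zero]), gact_smul] at h2
      obtain ⟨a, haX, ha0, c, hc0, hct, hT⟩ := exists_tv hF hθ0 hθ hLP.symm (by omega) hMU hStdM'
        (by rw [GU_preserves hgU, hb'i]) (by rw [GU_preserves hgU, ha'i])
        (by rw [GU_preserves hgU, hba]) hfam n2 n1
      have hTY := all_tv_X hF hθ0 hθ hLP.symm (by omega) hMU hStdM' haX ha0 hc0 hct hT
      exact hfin (transfer hs0 hTY) hTY

end Cfsg.Agent.Lib.Helper24.ULag
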