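import Mathlib
import Cfsg.Agent.Lib.Helper24.USubfield
import Cfsg.Agent.Lib.Helper24.ULagB
import Cfsg.Agent.Lib.Helper19.OrthPoints
import Cfsg.Agent.Lib.Helper19.OrthStab
import Cfsg.Agent.Lib.Helper19.QuadStd

set_option autoImplicit false
set_option linter.style.haveILetI false
set_option linter.unusedSimpArgs false
set_option linter.unusedSectionVars false

namespace Cfsg.Agent.Lib.Helper24.UOrth

open Matrix Module Cfsg QuadraticMap
open Cfsg.Agent.Lib.Helper27.Unitary Cfsg.Agent.Lib.Helper27.GLStab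
open Cfsg.Agent.Lib.Helper24.USubfield Cfsg.Agent.Lib.Helper24.ULag

variable {F : Type*} [Field F] [Fintype F] {q n : ℕ}

/-- the hypotheses of the orthogonal-type subfield structure in the unitary group -/
structure OSetup (F₀ : Subfield F) (P : GL (Fin n) F) (θ : F) (q : ℕ) : Prop where
  hF : Fintype.card F = q ^ 2
  hcard : Fintype.card F = Nat.card F₀ ^ 2
  h2 : (2 : F) ≠ 0
  hθ0 : θ ≠ 0
  hθ : θ + θ ^ q = 0
  hP : Cfsg.Geo.IsFormRationalStructure (hermForm n F q) F₀ 1 P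

variable {F₀ : Subfield F} {P : GL (Fin n) F} {θ : F}

theorem OSetup.fix (S : OSetup F₀ P θ q) (a : ↥F₀) : (a : F) ^ q = a :=
  mem_fix S.hF F₀ S.hcard a.2

theorem OSetup.θq (S : OSetup F₀ P θ q) : θ ^ q = -θ := by linear_combination S.hθ

theorem OSetup.θne (S : OSetup F₀ P θ q) : θ ^ q ≠ θ := by
  rw [S.θq]
  intro h
  have : (2 : F) * θ = 0 := by linear_combination -h
  rcases mul_eq_zero.mp this with h1 | h1
  · exact S.h2 h1
  · exact S.hθ0 h1

theorem OSetup.hf_mem (S : OSetup F₀ P θ q) (u v : Fin n → ↥F₀) :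
    hermForm n F q (emb F₀ P u) (emb F₀ P v) ∈ F₀ := by
  have := S.hP _ _ (fun i => (u i).2) (fun i => (v i).2)
  rwa [one_mul] at this

theorem OSetup.two_ne (S : OSetup F₀ P θ q) : (2 : ↥F₀) ≠ 0 := by
  intro h
  apply S.h2
  have := congrArg (fun x : ↥F₀ => (x : F)) h
  simp only [ZeroMemClass.coe_zero] at this
  rw [← this]
  norm_cast

/-- the symmetric `F₀`-bilinear form on the rational structure -/
noncomputable def Bf (S : OSetup F₀ P θ q) :
    (Fin n → ↥F₀) →ₗ[↥F₀] (Fin n → ↥F₀) →ₗ[↥F₀] ↥F₀ :=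
  LinearMap.mk₂ ↥F₀
    (fun u v => ⟨hermForm n F q (emb F₀ P u) (emb F₀ P v), S.hf_mem u v⟩)
    (by
      intro u u' v
      apply Subtype.ext
      simp only [Subfield.coe_add]
      rw [emb_add, hf_add_left])
    (by
      intro a u v
      apply Subtype.ext
      simp only [smul_eq_mul, Subfield.coe_mul]
      rw [emb_smul, hf_smul_left])
    (by
      intro u v v'
      apply Subtype.ext
      simp only [Subfield.coe_add]
      rw [emb_add, hf_add_right S.hF])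
    (by
      intro a u v
      apply Subtype.ext
      simp only [smul_eq_mul, Subfield.coe_mul]
      rw [emb_smul, hf_smul_right, S.fix a])

theorem Bf_apply (S : OSetup F₀ P θ q) (u v : Fin n → ↥F₀) :
    ((Bf S u v : ↥F₀) : F) = hermForm n F q (emb F₀ P u) (emb F₀ P v) := rfl

theorem Bf_symm (S : OSetup F₀ P θ q) (u v : Fin n → ↥F₀) : Bf S u v = Bf S v u := by
  apply Subtype.ext
  rw [Bf_apply S u v, hf_swap S.hF (emb F₀ P v) (emb F₀ P u), ← Bf_apply S v u, S.fix]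

theorem Bf_eq_zero_iff (S : OSetup F₀ P θ q) (u v : Fin n → ↥F₀) :
    Bf S u v = 0 ↔ hermForm n F q (emb F₀ P u) (emb F₀ P v) = 0 := by
  constructor
  · intro h
    have h1 := congrArg Subtype.val h
    rw [Bf_apply S] at h1
    exact h1
  · intro h
    apply Subtype.ext
    rw [Bf_apply S, h]
    rfl

/-- the form against a general vector -/
theorem hf_emb_decomp (S : OSetup F₀ P θ q) (u x₁ x₂ : Fin n → ↥F₀) :
    hermForm n F q (emb F₀ P u) (emb F₀ P x₁ + θ • emb F₀ P x₂) =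
      (Bf S u x₁ : F) - θ * (Bf S u x₂ : F) := by
  rw [hf_add_right S.hF, hf_smul_right, S.θq, Bf_apply S, Bf_apply S]
  ring

theorem hf_decomp_emb (S : OSetup F₀ P θ q) (u x₁ x₂ : Fin n → ↥F₀) :
    hermForm n F q (emb F₀ P x₁ + θ • emb F₀ P x₂) (emb F₀ P u) =
      (Bf S x₁ u : F) + θ * (Bf S x₂ u : F) := by
  rw [hf_add_left, hf_smul_left, Bf_apply S, Bf_apply S]

theorem hf_decomp_self (S : OSetup F₀ P θ q) (x₁ x₂ : Fin n → ↥F₀) :
    hermForm n F q (emb F₀ P x₁ + θ • emb F₀ P x₂) (emb F₀ P x₁ + θ • emb F₀ P x₂) =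
      (Bf S x₁ x₁ : F) - θ ^ 2 * (Bf S x₂ x₂ : F) := by
  rw [hf_add_left, hf_smul_left, hf_emb_decomp S, hf_emb_decomp S, Bf_symm S x₂ x₁]
  ring

theorem coe_eq_zero {a : ↥F₀} (h : (a : F) = 0) : a = 0 := Subtype.ext h

/-- a relation `a + θ b = 0` with rational `a, b` forces both to vanish -/
theorem rat_parts (S : OSetup F₀ P θ q) {a b : ↥F₀} (h : (a : F) + θ * (b : F) = 0) :
    a = 0 ∧ b = 0 := by
  have h1 := decomp_field_unique S.hF F₀ S.hcard θ S.θne a b 0 0 (by simpa using h)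
  exact h1

theorem Bf_nondeg (S : OSetup F₀ P θ q) (u : Fin n → ↥F₀) (h : ∀ v, Bf S u v = 0) :
    u = 0 := by
  apply emb_eq_zero F₀ P
  apply hf_nondeg S.hF
  intro x
  obtain ⟨x₁, x₂, rfl⟩ := decomp_vec S.hF F₀ S.hcard P θ S.θne x
  rw [hf_emb_decomp S, h x₁, h x₂]
  simp

/-- the associated quadratic form `u ↦ B(u, u)` -/
noncomputable def Q₀ (S : OSetup F₀ P θ q) : QuadraticForm ↥F₀ (Fin n → ↥F₀) :=
  LinearMap.BilinMap.toQuadraticMap (Bf S)

theorem Q₀_apply (S : OSetup F₀ P θ q) (u : Fin n → ↥F₀) : Q₀ S u = Bf S u u := rfl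

theorem polar_Q₀ (S : OSetup F₀ P θ q) (u v : Fin n → ↥F₀) :
    polar (⇑(Q₀ S)) u v = 2 * Bf S u v := by
  unfold Q₀
  rw [LinearMap.BilinMap.polar_toQuadraticMap, Bf_symm S v u]
  ring

theorem polar_Q₀_eq_zero (S : OSetup F₀ P θ q) (u v : Fin n → ↥F₀) :
    polar (⇑(Q₀ S)) u v = 0 ↔ Bf S u v = 0 := by
  rw [polar_Q₀]
  constructor
  · intro h
    exact (mul_eq_zero.mp h).resolve_left S.two_ne
  · intro h
    rw [h, mul_zero]

theorem Q₀_nondeg (S : OSetup F₀ P θ q) : (polarBilin (Q₀ S)).Nondegenerate := by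
  apply Cfsg.Agent.Lib.Helper19.QuadStd.nondegenerate_of_sep
  intro v hv
  apply Bf_nondeg S
  intro w
  exact (polar_Q₀_eq_zero S v w).mp (hv w)


/-- singular rational vectors -/
def Sing (S : OSetup F₀ P θ q) (u : Fin n → ↥F₀) : Prop := Bf S u u = 0

theorem Sing.iso (S : OSetup F₀ P θ q) {u : Fin n → ↥F₀} (h : Sing S u) :
    hermForm n F q (emb F₀ P u) (emb F₀ P u) = 0 := (Bf_eq_zero_iff S u u).mp h

theorem Sing.Q₀ (S : OSetup F₀ P θ q) {u : Fin n → ↥F₀} (h : Sing S u) : Q₀ S u = 0 := h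

theorem Sing.smul (S : OSetup F₀ P θ q) {u : Fin n → ↥F₀} (h : Sing S u) (t : ↥F₀) :
    Sing S (t • u) := by
  unfold Sing at *
  simp only [map_smul, LinearMap.smul_apply, h, smul_zero]

theorem Sing.add (S : OSetup F₀ P θ q) {u v : Fin n → ↥F₀} (hu : Sing S u) (hv : Sing S v)
    (huv : Bf S u v = 0) : Sing S (u + v) := by
  unfold Sing at *
  simp only [map_add, LinearMap.add_apply, hu, hv, huv, Bf_symm S v u, add_zero]

theorem Sing.sub (S : OSetup F₀ P θ q) {u v : Fin n → ↥F₀} (hu : Sing S u) (hv : Sing S v)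
    (huv : Bf S u v = 0) : Sing S (u - v) := by
  have h1 : Sing S ((-1 : ↥F₀) • v) := hv.smul S (-1)
  have h2 : Bf S u ((-1 : ↥F₀) • v) = 0 := by rw [map_smul, huv]; simp
  have := hu.add S h1 h2
  rwa [neg_one_smul, ← sub_eq_add_neg] at this

/-- the action of a rational Siegel element on the rational structure -/
theorem rsg_gact (S : OSetup F₀ P θ q) {a b : Fin n → ↥F₀} (ha : Sing S a) (hb : Sing S b)
    (hab : Bf S a b = 0) (u : Fin n → ↥F₀) :
    gact (sg q θ (emb F₀ P a) (emb F₀ P b)) (emb F₀ P u) =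
      emb F₀ P (u + Bf S u a • b - Bf S u b • a) := by
  rw [sg_gact S.hF S.hθ0 S.hθ (ha.iso S) (hb.iso S) ((Bf_eq_zero_iff S a b).mp hab), emb_sub,
    emb_add, emb_smul, emb_smul, Bf_apply S, Bf_apply S]

theorem mem_H_of_maps (S : OSetup F₀ P θ q) {g : GL (Fin n) F}
    (hg : g ∈ GU n F q ⊓ Cfsg.Geo.specialLinear (Fin n) F)
    (φ : (Fin n → ↥F₀) → (Fin n → ↥F₀))
    (h : ∀ u, gact g (emb F₀ P u) = emb F₀ P (φ u)) :
    g ∈ Cfsg.Geo.subfieldSubgroup F₀ P ⊓ (GU n F q ⊓ Cfsg.Geo.specialLinear (Fin n) F) :=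
  ⟨mem_subfield_of F₀ P g 1 one_ne_zero (fun j => φ (Pi.single j 1))
    (fun j => by rw [one_smul]; exact h _), hg⟩

theorem rsg_mem_H (S : OSetup F₀ P θ q) {a b : Fin n → ↥F₀} (ha : Sing S a) (hb : Sing S b)
    (hab : Bf S a b = 0) :
    sg q θ (emb F₀ P a) (emb F₀ P b) ∈
      Cfsg.Geo.subfieldSubgroup F₀ P ⊓ (GU n F q ⊓ Cfsg.Geo.specialLinear (Fin n) F) :=
  mem_H_of_maps S (sg_mem_SUg S.hF S.hθ _ _) _ (rsg_gact S ha hb hab)

/-- scalar multiples of rational vectors -/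
theorem smul_emb (S : OSetup F₀ P θ q) (lam : F) (u : Fin n → ↥F₀) :
    ∃ a b : ↥F₀, lam = (a : F) + θ * (b : F) ∧
      lam • emb F₀ P u = emb F₀ P (a • u) + θ • emb F₀ P (b • u) := by
  obtain ⟨a, b, hab⟩ := decomp_field S.hF F₀ S.hcard θ S.θne lam
  refine ⟨a, b, hab, ?_⟩
  rw [emb_smul, emb_smul, hab]
  module

theorem not_rational (S : OSetup F₀ P θ q) (x₁ x₂ : Fin n → ↥F₀)
    (hx₁ : x₁ ≠ 0) (hx₂ : ∀ μ : ↥F₀, x₂ ≠ μ • x₁) (lam : F) (u' : Fin n → ↥F₀) :
    emb F₀ P x₁ + θ • emb F₀ P x₂ ≠ lam • emb F₀ P u' := by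
  intro h
  obtain ⟨a, b, -, h1⟩ := smul_emb S lam u'
  rw [h1] at h
  obtain ⟨h2, h3⟩ := decomp_vec_unique S.hF F₀ S.hcard P θ S.θne _ _ _ _ h
  by_cases ha : a = 0
  · apply hx₁
    rw [h2, ha, zero_smul]
  · apply hx₂ (b / a)
    rw [h3, h2, smul_smul, div_mul_cancel₀ _ ha]

theorem rational_of (S : OSetup F₀ P θ q) (x₁ x₂ : Fin n → ↥F₀)
    (h : x₁ = 0 ∨ ∃ μ : ↥F₀, x₂ = μ • x₁) :
    ∃ (lam : F) (u' : Fin n → ↥F₀), emb F₀ P x₁ + θ • emb F₀ P x₂ = lam • emb F₀ P u' := by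
  rcases h with h | ⟨μ, h⟩
  · exact ⟨θ, x₂, by rw [h, emb_zero, zero_add]⟩
  · refine ⟨1 + θ * (μ : F), x₁, ?_⟩
    rw [h, emb_smul]
    module

/-- the general commutator formula for two elements `sg` with one non-orthogonality -/
theorem sg_comm_eq' (hF : Fintype.card F = q ^ 2) (hθ0 : θ ≠ 0) (hθ : θ + θ ^ q = 0)
    {a b a' b' : Fin n → F} (ha : hermForm n F q a a = 0) (hb : hermForm n F q b b = 0)
    (ha' : hermForm n F q a' a' = 0) (hb' : hermForm n F q b' b' = 0)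
    (hab : hermForm n F q a b = 0) (hab' : hermForm n F q a' b' = 0)
    (h1 : hermForm n F q a a' = 0) (h2 : hermForm n F q a b' = 0)
    (h3 : hermForm n F q b a' = 0) :
    sg q θ a b * sg q θ a' b' =
      sg q θ a (hermForm n F q b b' • a') * (sg q θ a' b' * sg q θ a b) := by
  have hba : hermForm n F q b a = 0 := hf_eq_zero_swap hF hab
  have hb'a' : hermForm n F q b' a' = 0 := hf_eq_zero_swap hF hab'
  have h1' : hermForm n F q a' a = 0 := hf_eq_zero_swap hF h1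
  have h2' : hermForm n F q b' a = 0 := hf_eq_zero_swap hF h2
  have h3' : hermForm n F q a' b = 0 := hf_eq_zero_swap hF h3
  have h4' : hermForm n F q b' b = (hermForm n F q b b') ^ q := hf_swap hF b b'
  have hc : hermForm n F q (hermForm n F q b b' • a') (hermForm n F q b b' • a') = 0 := by
    rw [hf_smul_self, ha', mul_zero]
  have hac : hermForm n F q a (hermForm n F q b b' • a') = 0 := by
    rw [hf_smul_right, h1, mul_zero]
  apply gact_ext
  intro x
  rw [gact_mul, gact_mul, gact_mul, sg_gact hF hθ0 hθ ha' hb' hab', sg_gact hF hθ0 hθ ha hb hab,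
    sg_gact hF hθ0 hθ ha hb hab, sg_gact hF hθ0 hθ ha' hb' hab', sg_gact hF hθ0 hθ ha hc hac]
  simp only [hf_add_left, hf_sub_left, hf_smul_left, hf_smul_right, ha, hb, ha', hb', hab, hab',
    hba, hb'a', h1, h2, h3, h1', h2', h3', h4', mul_zero, add_zero, zero_add, sub_zero, smul_add,
    smul_sub, smul_smul]
  module

end Cfsg.Agent.Lib.Helper24.UOrth
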