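import Mathlib
import Cfsg.Agent.Lib.Helper24.UOrthA

set_option autoImplicit false
set_option linter.style.haveILetI false
set_option linter.unusedSimpArgs false
set_option linter.unusedSectionVars false

namespace Cfsg.Agent.Lib.Helper24.UOrth

open Matrix Module Cfsg QuadraticMap
open Cfsg.Agent.Lib.Helper27.Unitary Cfsg.Agent.Lib.Helper27.GLStab
open Cfsg.Agent.Lib.Helper24.USubfield Cfsg.Agent.Lib.Helper24.ULag

section generic
variable {K V : Type*} [Field K] [AddCommGroup V] [Module K V]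

/-- the common kernel of finitely many functionals -/
def cutK {m : ℕ} (f : Fin m → V →ₗ[K] K) : Submodule K V := LinearMap.ker (LinearMap.pi f)

theorem mem_cutK {m : ℕ} (f : Fin m → V →ₗ[K] K) (v : V) : v ∈ cutK f ↔ ∀ i, f i v = 0 := by
  unfold cutK
  rw [LinearMap.mem_ker]
  constructor
  · intro h i
    have := congrFun h i
    simpa using this
  · intro h
    funext i
    simpa using h i

theorem finrank_cutK [FiniteDimensional K V] {m : ℕ} (f : Fin m → V →ₗ[K] K) :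
    finrank K V ≤ finrank K (cutK f) + m := by
  have h := LinearMap.finrank_range_add_finrank_ker (LinearMap.pi f)
  have h2 : finrank K (LinearMap.range (LinearMap.pi f)) ≤ finrank K (Fin m → K) :=
    Submodule.finrank_le _
  rw [Module.finrank_fin_fun] at h2
  unfold cutK
  omega

end generic

variable {F : Type*} [Field F] [Fintype F] {q n : ℕ}
variable {F₀ : Subfield F} {P : GL (Fin n) F} {θ : F}

theorem exists_sing_orth (S : OSetup F₀ P θ q) {m : ℕ} (hm : m + 3 ≤ n)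
    (w : Fin m → (Fin n → ↥F₀)) :
    ∃ u : Fin n → ↥F₀, u ≠ 0 ∧ Sing S u ∧ ∀ i, Bf S u (w i) = 0 := by
  have h1 := finrank_cutK (fun i => Bf S (w i))
  rw [Module.finrank_fin_fun] at h1
  obtain ⟨u, hu, hu0, hQ⟩ := Cfsg.Agent.Lib.Helper19.QuadWitt.exists_singular_of_three
    (Q := Q₀ S) (cutK (fun i => Bf S (w i))) (by omega)
  refine ⟨u, hu0, hQ, ?_⟩
  intro i
  rw [Bf_symm S]
  exact (mem_cutK _ u).mp hu i

theorem Bf_nondegenerate (S : OSetup F₀ P θ q) :
    LinearMap.BilinForm.Nondegenerate (Bf S) := by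
  constructor
  · intro u hu
    exact Bf_nondeg S u hu
  · intro u hu
    apply Bf_nondeg S u
    intro v
    rw [Bf_symm S]
    exact hu v

/-- a large subspace represents every scalar -/
theorem rep (S : OSetup F₀ P θ q) (K' : Submodule ↥F₀ (Fin n → ↥F₀))
    (hK : n + 3 ≤ 2 * finrank ↥F₀ K') (c : ↥F₀) : ∃ k ∈ K', Bf S k k = c := by
  obtain ⟨R, hR⟩ : ∃ R : Submodule ↥F₀ (Fin n → ↥F₀),
      R = K' ⊓ LinearMap.BilinForm.orthogonal (Bf S) K' := ⟨_, rfl⟩
  have horth := LinearMap.BilinForm.finrank_orthogonal (Bf_nondegenerate S) K'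
  rw [Module.finrank_fin_fun] at horth
  have hRle : finrank ↥F₀ R ≤ n - finrank ↥F₀ K' := by
    rw [← horth, hR]
    exact Submodule.finrank_mono inf_le_right
  have hKn : finrank ↥F₀ K' ≤ n := by
    have := Submodule.finrank_le K'
    rwa [Module.finrank_fin_fun] at this
  obtain ⟨C, hC⟩ := Submodule.exists_isCompl R
  have hCdim := Submodule.finrank_add_eq_of_isCompl hC
  rw [Module.finrank_fin_fun] at hCdim
  have hsup : C ⊔ K' = ⊤ := by
    rw [eq_top_iff, ← hC.sup_eq_top]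
    apply sup_le
    · rw [hR]
      exact le_trans inf_le_left le_sup_right
    · exact le_sup_left
  have hdim := Submodule.finrank_sup_add_finrank_inf_eq C K'
  rw [hsup, finrank_top, Module.finrank_fin_fun] at hdim
  obtain ⟨s, hs, hs0, hQ⟩ := Cfsg.Agent.Lib.Helper19.QuadWitt.exists_singular_of_three
    (Q := Q₀ S) (C ⊓ K') (by omega)
  have hsR : s ∉ R := by
    intro h
    apply hs0
    have : s ∈ R ⊓ C := ⟨h, hs.1⟩
    rw [hC.inf_eq_bot] at this
    exact (Submodule.mem_bot _).mp this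
  have hso : s ∉ LinearMap.BilinForm.orthogonal (Bf S) K' := by
    intro h
    apply hsR
    rw [hR]
    exact ⟨hs.2, h⟩
  rw [LinearMap.BilinForm.mem_orthogonal_iff] at hso
  push Not at hso
  obtain ⟨k₁, hk₁, hk₁s⟩ := hso
  have hss : Bf S s s = 0 := hQ
  have h2 := S.two_ne
  refine ⟨k₁ + ((c - Bf S k₁ k₁) / (2 * Bf S k₁ s)) • s,
    K'.add_mem hk₁ (K'.smul_mem _ hs.2), ?_⟩
  simp only [map_add, map_smul, LinearMap.add_apply, LinearMap.smul_apply, smul_eq_mul, hss,
    Bf_symm S s k₁, mul_zero, add_zero]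
  field_simp
  ring

/-- separation of a vector from a pair by a vector orthogonal to the pair -/
theorem exists_sep2 (S : OSetup F₀ P θ q) (x y v : Fin n → ↥F₀)
    (hv : ∀ α β : ↥F₀, v ≠ α • x + β • y) :
    ∃ u : Fin n → ↥F₀, Bf S u x = 0 ∧ Bf S u y = 0 ∧ Bf S u v ≠ 0 := by
  by_contra hcon
  push Not at hcon
  obtain ⟨L, hL⟩ : ∃ L : Fin 2 → ((Fin n → ↥F₀) →ₗ[↥F₀] ↥F₀), L = ![Bf S x, Bf S y] := ⟨_, rfl⟩
  have hker : ⨅ i, LinearMap.ker (L i) ≤ LinearMap.ker (Bf S v) := by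
    intro u hu
    rw [Submodule.mem_iInf] at hu
    have h0 := hu 0
    have h1 := hu 1
    rw [hL] at h0 h1
    simp only [Matrix.cons_val_zero, Matrix.cons_val_one, LinearMap.mem_ker] at h0 h1
    rw [LinearMap.mem_ker, Bf_symm S]
    exact hcon u (by rw [Bf_symm S]; exact h0) (by rw [Bf_symm S]; exact h1)
  have hspan := mem_span_of_iInf_ker_le_ker hker
  obtain ⟨c, hc⟩ := (Submodule.mem_span_range_iff_exists_fun ↥F₀).1 hspan
  have hz : v - c 0 • x - c 1 • y = 0 := by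
    apply Bf_nondeg S
    intro u
    have h1 := congrArg (fun f : (Fin n → ↥F₀) →ₗ[↥F₀] ↥F₀ => f u) hc
    simp only [Fin.sum_univ_two, LinearMap.add_apply, LinearMap.smul_apply, hL,
      Matrix.cons_val_zero, Matrix.cons_val_one, smul_eq_mul] at h1
    simp only [map_sub, map_smul, LinearMap.sub_apply, LinearMap.smul_apply, smul_eq_mul]
    rw [← h1]
    ring
  apply hv (c 0) (c 1)
  have := sub_eq_zero.mp hz
  rw [sub_eq_iff_eq_add] at this
  rw [this]
  abel

/-- a singular vector orthogonal to a pair but not to a vector outside its span -/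
theorem exists_sing_sep (S : OSetup F₀ P θ q) (hn : 11 ≤ n) (x y v : Fin n → ↥F₀)
    (hv : ∀ α β : ↥F₀, v ≠ α • x + β • y) :
    ∃ z : Fin n → ↥F₀, Sing S z ∧ Bf S z x = 0 ∧ Bf S z y = 0 ∧ Bf S z v ≠ 0 := by
  obtain ⟨u₀, hux, huy, huv⟩ := exists_sep2 S x y v hv
  obtain ⟨f, hf⟩ : ∃ f : Fin 4 → ((Fin n → ↥F₀) →ₗ[↥F₀] ↥F₀),
      f = ![Bf S x, Bf S y, Bf S v, Bf S u₀] := ⟨_, rfl⟩
  have h1 := finrank_cutK f
  rw [Module.finrank_fin_fun] at h1
  obtain ⟨k, hk, hkk⟩ := rep S (cutK f) (by omega) (- Bf S u₀ u₀)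
  rw [mem_cutK] at hk
  have k0 := hk 0
  have k1 := hk 1
  have k2 := hk 2
  have k3 := hk 3
  rw [hf] at k0 k1 k2 k3
  simp only [Matrix.cons_val_zero, Matrix.cons_val_one, Matrix.cons_val] at k0 k1 k2 k3
  refine ⟨u₀ + k, ?_, ?_, ?_, ?_⟩
  · unfold Sing
    simp only [map_add, LinearMap.add_apply, hkk, k3, Bf_symm S k u₀]
    ring
  · rw [map_add, LinearMap.add_apply, hux, Bf_symm S k x, k0, add_zero]
  · rw [map_add, LinearMap.add_apply, huy, Bf_symm S k y, k1, add_zero]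
  · rw [map_add, LinearMap.add_apply, Bf_symm S k v, k2, add_zero]
    exact huv

/-- a singular vector not orthogonal to either of two nonzero vectors -/
theorem exists_sing_two (S : OSetup F₀ P θ q) (hn : 9 ≤ n) (x₁ x₂ : Fin n → ↥F₀)
    (h₁ : x₁ ≠ 0) (h₂ : x₂ ≠ 0) :
    ∃ u : Fin n → ↥F₀, Sing S u ∧ Bf S u x₁ ≠ 0 ∧ Bf S u x₂ ≠ 0 := by
  obtain ⟨v, hv1, hv2⟩ : ∃ v, Bf S v x₁ ≠ 0 ∧ Bf S v x₂ ≠ 0 := by
    obtain ⟨v₁, hv₁⟩ : ∃ v₁, Bf S v₁ x₁ ≠ 0 := by
      by_contra hcon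
      push Not at hcon
      apply h₁
      apply Bf_nondeg S
      intro w
      rw [Bf_symm S]
      exact hcon w
    obtain ⟨v₂, hv₂⟩ : ∃ v₂, Bf S v₂ x₂ ≠ 0 := by
      by_contra hcon
      push Not at hcon
      apply h₂
      apply Bf_nondeg S
      intro w
      rw [Bf_symm S]
      exact hcon w
    by_cases h3 : Bf S v₁ x₂ = 0
    · by_cases h4 : Bf S v₂ x₁ = 0
      · refine ⟨v₁ + v₂, ?_, ?_⟩
        · rw [map_add, LinearMap.add_apply, h4, add_zero]; exact hv₁
        · rw [map_add, LinearMap.add_apply, h3, zero_add]; exact hv₂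
      · exact ⟨v₂, h4, hv₂⟩
    · exact ⟨v₁, hv₁, h3⟩
  obtain ⟨f, hf⟩ : ∃ f : Fin 3 → ((Fin n → ↥F₀) →ₗ[↥F₀] ↥F₀),
      f = ![Bf S x₁, Bf S x₂, Bf S v] := ⟨_, rfl⟩
  have h1 := finrank_cutK f
  rw [Module.finrank_fin_fun] at h1
  obtain ⟨k, hk, hkk⟩ := rep S (cutK f) (by omega) (- Bf S v v)
  rw [mem_cutK] at hk
  have k0 := hk 0
  have k1 := hk 1
  have k2 := hk 2
  rw [hf] at k0 k1 k2
  simp only [Matrix.cons_val_zero, Matrix.cons_val_one, Matrix.cons_val] at k0 k1 k2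
  refine ⟨v + k, ?_, ?_, ?_⟩
  · unfold Sing
    simp only [map_add, LinearMap.add_apply, hkk, k2, Bf_symm S k v]
    ring
  · rw [map_add, LinearMap.add_apply, Bf_symm S k x₁, k0, add_zero]
    exact hv1
  · rw [map_add, LinearMap.add_apply, Bf_symm S k x₂, k1, add_zero]
    exact hv2

theorem zero_mem_ASet (M : Subgroup (GL (Fin n) F)) : (0 : Fin n → F) ∈ ASet q M :=
  ⟨hf_zero_left _, fun c _ => by rw [tv_zero_left]; exact M.one_mem⟩

/-- moving a rational singular vector to an orthogonal independent one -/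
theorem move_orth (S : OSetup F₀ P θ q) (hn : 11 ≤ n) (M : Subgroup (GL (Fin n) F))
    (hHM : Cfsg.Geo.subfieldSubgroup F₀ P ⊓ (GU n F q ⊓ Cfsg.Geo.specialLinear (Fin n) F) ≤ M)
    (hMU : M ≤ GU n F q) {y y' : Fin n → ↥F₀} (hy : Sing S y) (hy' : Sing S y')
    (hyy' : Bf S y y' = 0) (hind : ∀ α β : ↥F₀, α • y + β • y' = 0 → α = 0 ∧ β = 0)
    (hA : emb F₀ P y ∈ ASet q M) : emb F₀ P y' ∈ ASet q M := by
  have hb : Sing S (y' - y) := hy'.sub S hy (by rw [Bf_symm S]; exact hyy')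
  have hne : ∀ α β : ↥F₀, y ≠ α • (y' - y) + β • (y' - y) := by
    intro α β h
    have h1 : (1 + (α + β)) • y + (-(α + β)) • y' = 0 := by
      have : (1 + (α + β)) • y + (-(α + β)) • y' = y - (α • (y' - y) + β • (y' - y)) := by
        module
      rw [this, ← h, sub_self]
    obtain ⟨h2, h3⟩ := hind _ _ h1
    rw [neg_eq_zero] at h3
    rw [h3, add_zero] at h2
    exact one_ne_zero h2
  obtain ⟨a₁, ha₁, ha₁b, -, ha₁y⟩ := exists_sing_sep S hn (y' - y) (y' - y) y hne
  have ha₂ : Sing S ((Bf S a₁ y)⁻¹ • a₁) := ha₁.smul S _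
  have hab : Bf S ((Bf S a₁ y)⁻¹ • a₁) (y' - y) = 0 := by
    rw [map_smul, LinearMap.smul_apply, ha₁b, smul_zero]
  have h1 : Bf S y ((Bf S a₁ y)⁻¹ • a₁) = 1 := by
    rw [map_smul, Bf_symm S y a₁, smul_eq_mul, inv_mul_cancel₀ ha₁y]
  have h2 : Bf S y (y' - y) = 0 := by
    rw [map_sub, hyy', hy, sub_zero]
  have h3 := rsg_gact S ha₂ hb hab y
  rw [h1, h2, one_smul, zero_smul, sub_zero, add_sub_cancel] at h3
  rw [← h3]
  exact ASet_gact S.hF hMU (hHM (rsg_mem_H S ha₂ hb hab)) hA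

/-- all rational singular vectors are conjugate under the subfield group, up to scalars -/
theorem move_any (S : OSetup F₀ P θ q) (hn : 11 ≤ n) (M : Subgroup (GL (Fin n) F))
    (hHM : Cfsg.Geo.subfieldSubgroup F₀ P ⊓ (GU n F q ⊓ Cfsg.Geo.specialLinear (Fin n) F) ≤ M)
    (hMU : M ≤ GU n F q) {y : Fin n → ↥F₀} (hy : Sing S y) (hy0 : y ≠ 0)
    (hA : emb F₀ P y ∈ ASet q M) (y' : Fin n → ↥F₀) (hy' : Sing S y') :
    emb F₀ P y' ∈ ASet q M := by
  by_cases hdep : ∃ μ : ↥F₀, y' = μ • y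
  · obtain ⟨μ, rfl⟩ := hdep
    rw [emb_smul]
    exact ASet_smul S.hF hA _
  · push Not at hdep
    have hind : ∀ α β : ↥F₀, α • y + β • y' = 0 → α = 0 ∧ β = 0 := by
      intro α β h
      have hβ : β = 0 := by
        by_contra hβ
        apply hdep (-α / β)
        have : y' = β⁻¹ • (β • y') := by rw [smul_smul, inv_mul_cancel₀ hβ, one_smul]
        rw [this, eq_neg_of_add_eq_zero_right h, smul_neg, smul_smul, neg_div, neg_smul,
          div_eq_inv_mul]
      rw [hβ, zero_smul, add_zero] at h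
      exact ⟨(smul_eq_zero.mp h).resolve_right hy0, hβ⟩
    by_cases hyy' : Bf S y y' = 0
    · exact move_orth S hn M hHM hMU hy hy' hyy' hind hA
    · obtain ⟨z, hz0, hz, hzw⟩ := exists_sing_orth S (m := 2) (by omega) ![y, y']
      have hzy : Bf S z y = 0 := hzw 0
      have hzy' : Bf S z y' = 0 := hzw 1
      have hind1 : ∀ α β : ↥F₀, α • y + β • z = 0 → α = 0 ∧ β = 0 := by
        intro α β h
        have h1 := congrArg (fun w => Bf S w y') h
        simp only [map_add, map_smul, LinearMap.add_apply, LinearMap.smul_apply, hzy', smul_zero,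
          add_zero, LinearMap.zero_apply, map_zero, smul_eq_mul, mul_zero] at h1
        have hα : α = 0 := (mul_eq_zero.mp h1).resolve_right hyy'
        rw [hα, zero_smul, zero_add] at h
        exact ⟨hα, (smul_eq_zero.mp h).resolve_right hz0⟩
      have hind2 : ∀ α β : ↥F₀, α • z + β • y' = 0 → α = 0 ∧ β = 0 := by
        intro α β h
        have h1 := congrArg (fun w => Bf S y w) h
        simp only [map_add, map_smul, LinearMap.add_apply, LinearMap.smul_apply, Bf_symm S y z,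
          hzy, smul_zero, zero_add, map_zero, smul_eq_mul, mul_zero] at h1
        have hβ : β = 0 := (mul_eq_zero.mp h1).resolve_right hyy'
        rw [hβ, zero_smul, add_zero] at h
        exact ⟨(smul_eq_zero.mp h).resolve_right hz0, hβ⟩
      have hAz := move_orth S hn M hHM hMU hy hz (by rw [Bf_symm S]; exact hzy) hind1 hA
      exact move_orth S hn M hHM hMU hz hy' hzy' hind2 hAz

end Cfsg.Agent.Lib.Helper24.UOrth
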