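import Mathlib
import Cfsg.Agent.Lib.Helper24.UOrthB

set_option autoImplicit false
set_option linter.style.haveILetI false
set_option linter.unusedSimpArgs false
set_option linter.unusedSectionVars false

namespace Cfsg.Agent.Lib.Helper24.UOrth

open Matrix Module Cfsg QuadraticMap
open Cfsg.Agent.Lib.Helper27.Unitary Cfsg.Agent.Lib.Helper27.GLStab
open Cfsg.Agent.Lib.Helper24.USubfield Cfsg.Agent.Lib.Helper24.ULag

variable {F : Type*} [Field F] [Fintype F] {q n : ℕ}
variable {F₀ : Subfield F} {P : GL (Fin n) F} {θ : F}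

theorem indep_of_not_smul {y y' : Fin n → ↥F₀} (hy0 : y ≠ 0) (hdep : ∀ μ : ↥F₀, y' ≠ μ • y) :
    ∀ α β : ↥F₀, α • y + β • y' = 0 → α = 0 ∧ β = 0 := by
  intro α β h
  have hβ : β = 0 := by
    by_contra hβ
    apply hdep (-α / β)
    have : y' = β⁻¹ • (β • y') := by rw [smul_smul, inv_mul_cancel₀ hβ, one_smul]
    rw [this, eq_neg_of_add_eq_zero_right h, smul_neg, smul_smul, neg_div, neg_smul,
      div_eq_inv_mul]
  rw [hβ, zero_smul, add_zero] at h
  exact ⟨(smul_eq_zero.mp h).resolve_right hy0, hβ⟩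

theorem indep_of_orth (S : OSetup F₀ P θ q) {y z y' : Fin n → ↥F₀} (hz0 : z ≠ 0)
    (hzy' : Bf S z y' = 0) (hyy' : Bf S y y' ≠ 0) :
    ∀ α β : ↥F₀, α • y + β • z = 0 → α = 0 ∧ β = 0 := by
  intro α β h
  have h1 := congrArg (fun w => Bf S w y') h
  simp only [map_add, map_smul, LinearMap.add_apply, LinearMap.smul_apply, hzy', smul_zero,
    add_zero, LinearMap.zero_apply, map_zero, smul_eq_mul, mul_zero] at h1
  have hα : α = 0 := (mul_eq_zero.mp h1).resolve_right hyy'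
  rw [hα, zero_smul, zero_add] at h
  exact ⟨hα, (smul_eq_zero.mp h).resolve_right hz0⟩

theorem indep_swap {y z : Fin n → ↥F₀}
    (h : ∀ α β : ↥F₀, α • y + β • z = 0 → α = 0 ∧ β = 0) :
    ∀ α β : ↥F₀, α • z + β • y = 0 → α = 0 ∧ β = 0 := by
  intro α β h1
  rw [add_comm] at h1
  exact (h β α h1).symm

/-- `F₀`-independent rational vectors are `F`-independent -/
theorem emb_indep (S : OSetup F₀ P θ q) {s t : Fin n → ↥F₀}
    (hind : ∀ α β : ↥F₀, α • s + β • t = 0 → α = 0 ∧ β = 0) (x y : F)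
    (h : x • emb F₀ P s + y • emb F₀ P t = 0) : x = 0 ∧ y = 0 := by
  obtain ⟨x₁, x₂, hx⟩ := decomp_field S.hF F₀ S.hcard θ S.θne x
  obtain ⟨y₁, y₂, hy⟩ := decomp_field S.hF F₀ S.hcard θ S.θne y
  have h1 : emb F₀ P (x₁ • s + y₁ • t) + θ • emb F₀ P (x₂ • s + y₂ • t) =
      emb F₀ P 0 + θ • emb F₀ P 0 := by
    rw [emb_zero, smul_zero, add_zero, ← h, emb_add, emb_add, emb_smul, emb_smul, emb_smul,
      emb_smul, hx, hy]
    module
  obtain ⟨h2, h3⟩ := decomp_vec_unique S.hF F₀ S.hcard P θ S.θne _ _ _ _ h1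
  obtain ⟨h4, h5⟩ := hind _ _ h2
  obtain ⟨h6, h7⟩ := hind _ _ h3
  rw [hx, hy, h4, h5, h6, h7]
  simp

theorem emb_ne_zero {u : Fin n → ↥F₀} (hu : u ≠ 0) : emb F₀ P u ≠ 0 :=
  fun h => hu (emb_eq_zero F₀ P h)

/-- the ratio lemma for orthogonal independent singular vectors -/
theorem ratio_orth (S : OSetup F₀ P θ q) (g : GL (Fin n) F)
    (hg : ∀ s : Fin n → ↥F₀, Sing S s →
      ∃ (lam : F) (s' : Fin n → ↥F₀), gact g (emb F₀ P s) = lam • emb F₀ P s')
    {s t : Fin n → ↥F₀} (hs : Sing S s) (ht : Sing S t) (hst : Bf S s t = 0)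
    (hind : ∀ α β : ↥F₀, α • s + β • t = 0 → α = 0 ∧ β = 0) {lam : F} {s' : Fin n → ↥F₀}
    (hs' : gact g (emb F₀ P s) = lam • emb F₀ P s') :
    ∃ t'' : Fin n → ↥F₀, gact g (emb F₀ P t) = lam • emb F₀ P t'' := by
  have hs0 : s ≠ 0 := by
    intro h
    have := hind 1 0 (by rw [h]; simp)
    exact one_ne_zero this.1
  have ht0 : t ≠ 0 := by
    intro h
    have := hind 0 1 (by rw [h]; simp)
    exact one_ne_zero this.2
  have hst0 : s + t ≠ 0 := by
    intro h
    have := hind 1 1 (by rw [one_smul, one_smul]; exact h)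
    exact one_ne_zero this.1
  obtain ⟨lt, t', ht'⟩ := hg t ht
  obtain ⟨μ, w, hw⟩ := hg (s + t) (hs.add S ht hst)
  have hlam : lam ≠ 0 := by
    intro h0
    rw [h0, zero_smul, gact_eq_zero] at hs'
    exact emb_ne_zero hs0 hs'
  have hlt : lt ≠ 0 := by
    intro h0
    rw [h0, zero_smul, gact_eq_zero] at ht'
    exact emb_ne_zero ht0 ht'
  have hμ : μ ≠ 0 := by
    intro h0
    rw [h0, zero_smul, gact_eq_zero] at hw
    exact emb_ne_zero hst0 hw
  have hind' : ∀ α β : ↥F₀, α • s' + β • t' = 0 → α = 0 ∧ β = 0 := by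
    intro α β h
    have h1 : ((α : F) * lam⁻¹) • emb F₀ P s + ((β : F) * lt⁻¹) • emb F₀ P t = 0 := by
      apply gact_injective g
      rw [gact_add, gact_smul, gact_smul, hs', ht', smul_smul, smul_smul, mul_assoc, mul_assoc,
        inv_mul_cancel₀ hlam, inv_mul_cancel₀ hlt, mul_one, mul_one, ← emb_smul, ← emb_smul,
        ← emb_add, h, emb_zero]
      exact ((gact_eq_zero (g := g)).mpr rfl).symm
    obtain ⟨h2, h3⟩ := emb_indep S hind _ _ h1
    constructor
    · apply Subtype.ext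
      rcases mul_eq_zero.mp h2 with h4 | h4
      · exact h4
      · exact absurd (inv_eq_zero.mp h4) hlam
    · apply Subtype.ext
      rcases mul_eq_zero.mp h3 with h4 | h4
      · exact h4
      · exact absurd (inv_eq_zero.mp h4) hlt
  rw [emb_add, gact_add, hs', ht'] at hw
  obtain ⟨a₁, a₂, ha⟩ := decomp_field S.hF F₀ S.hcard θ S.θne (lam / μ)
  obtain ⟨b₁, b₂, hb⟩ := decomp_field S.hF F₀ S.hcard θ S.θne (lt / μ)
  have hw' : emb F₀ P w = (lam / μ) • emb F₀ P s' + (lt / μ) • emb F₀ P t' := by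
    have h1 : emb F₀ P w = μ⁻¹ • (μ • emb F₀ P w) := by
      rw [smul_smul, inv_mul_cancel₀ hμ, one_smul]
    rw [h1, ← hw, smul_add, smul_smul, smul_smul, div_eq_inv_mul, div_eq_inv_mul]
  have h1 : emb F₀ P w + θ • emb F₀ P 0 =
      emb F₀ P (a₁ • s' + b₁ • t') + θ • emb F₀ P (a₂ • s' + b₂ • t') := by
    rw [emb_zero, smul_zero, add_zero, emb_add, emb_add, emb_smul, emb_smul, emb_smul, emb_smul,
      hw', ha, hb]
    module
  obtain ⟨-, h2⟩ := decomp_vec_unique S.hF F₀ S.hcard P θ S.θne _ _ _ _ h1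
  obtain ⟨h3, h4⟩ := hind' _ _ h2.symm
  rw [h3] at ha
  rw [h4] at hb
  simp only [ZeroMemClass.coe_zero, mul_zero, add_zero] at ha hb
  have ha1 : (a₁ : F) ≠ 0 := by
    rw [← ha]
    exact div_ne_zero hlam hμ
  refine ⟨(b₁ / a₁) • t', ?_⟩
  rw [ht', emb_smul, smul_smul, Subfield.coe_div, ← ha, ← hb]
  congr 1
  field_simp

/-- an element mapping every rational singular point to a rational point lies in the subfield
group -/
theorem mem_subfield_of_sing (S : OSetup F₀ P θ q) (hn : 11 ≤ n) (g : GL (Fin n) F)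
    (hg : ∀ s : Fin n → ↥F₀, Sing S s →
      ∃ (lam : F) (s' : Fin n → ↥F₀), gact g (emb F₀ P s) = lam • emb F₀ P s') :
    g ∈ Cfsg.Geo.subfieldSubgroup F₀ P := by
  obtain ⟨s₀, hs₀0, hs₀, -⟩ := exists_sing_orth S (m := 0) (by omega) Fin.elim0
  obtain ⟨lam₀, s₀', h₀⟩ := hg s₀ hs₀
  have hlam₀ : lam₀ ≠ 0 := by
    intro h0
    rw [h0, zero_smul, gact_eq_zero] at h₀
    exact emb_ne_zero hs₀0 h₀
  have hsing : ∀ t : Fin n → ↥F₀, Sing S t →
      ∃ t'' : Fin n → ↥F₀, gact g (emb F₀ P t) = lam₀ • emb F₀ P t'' := by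
    intro t ht
    by_cases hdep : ∃ μ : ↥F₀, t = μ • s₀
    · obtain ⟨μ, rfl⟩ := hdep
      refine ⟨μ • s₀', ?_⟩
      rw [emb_smul, gact_smul, h₀, emb_smul, smul_smul, smul_smul, mul_comm]
    · push Not at hdep
      have hind := indep_of_not_smul hs₀0 hdep
      by_cases hst : Bf S s₀ t = 0
      · exact ratio_orth S g hg hs₀ ht hst hind h₀
      · obtain ⟨z, hz0, hz, hzw⟩ := exists_sing_orth S (m := 2) (by omega) ![s₀, t]
        have hzs : Bf S z s₀ = 0 := hzw 0
        have hzt : Bf S z t = 0 := hzw 1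
        have hind1 := indep_of_orth S hz0 hzt hst
        have hts : Bf S t s₀ ≠ 0 := by rw [Bf_symm S]; exact hst
        have hind2 := indep_swap (indep_of_orth S hz0 hzs hts)
        obtain ⟨z'', hz''⟩ := ratio_orth S g hg hs₀ hz (by rw [Bf_symm S]; exact hzs) hind1 h₀
        exact ratio_orth S g hg hz ht hzt hind2 hz''
  have hall : ∀ u : Fin n → ↥F₀,
      ∃ u'' : Fin n → ↥F₀, gact g (emb F₀ P u) = lam₀ • emb F₀ P u'' := by
    intro u
    by_cases hu : Sing S u
    · exact hsing u hu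
    · have hu0 : u ≠ 0 := by
        intro h
        apply hu
        unfold Sing
        rw [h]
        simp
      obtain ⟨s, hs, hsu, -⟩ := exists_sing_two S (by omega) u u hu0 hu0
      have h2 := S.two_ne
      obtain ⟨c, hc⟩ : ∃ c : ↥F₀, c = Bf S u u / (2 * Bf S s u) := ⟨_, rfl⟩
      have hss : Bf S s s = 0 := hs
      have ht : Sing S (u - c • s) := by
        unfold Sing
        simp only [map_sub, map_smul, LinearMap.sub_apply, LinearMap.smul_apply, smul_eq_mul,
          hss, Bf_symm S u s, mul_zero, sub_zero]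
        rw [hc]
        field_simp
        ring
      obtain ⟨t'', ht''⟩ := hsing _ ht
      obtain ⟨s'', hs''⟩ := hsing s hs
      refine ⟨t'' + c • s'', ?_⟩
      have h3 : emb F₀ P u = emb F₀ P (u - c • s) + (c : F) • emb F₀ P s := by
        rw [emb_sub, emb_smul]
        abel
      rw [h3, gact_add, gact_smul, ht'', hs'', emb_add, emb_smul]
      module
  choose U hU using hall
  exact mem_subfield_of F₀ P g lam₀ hlam₀ (fun j => U (Pi.single j 1)) (fun j => hU _)

end Cfsg.Agent.Lib.Helper24.UOrth
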