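import Mathlib
import Cfsg.Agent.Lib.Helper24.UOrthC

set_option autoImplicit false
set_option linter.style.haveILetI false
set_option linter.unusedSimpArgs false
set_option linter.unusedSectionVars false

namespace Cfsg.Agent.Lib.Helper24.UOrth

open Matrix Module Cfsg QuadraticMap
open Cfsg.Agent.Lib.Helper27.Unitary Cfsg.Agent.Lib.Helper27.GLStab
open Cfsg.Agent.Lib.Helper24.USubfield Cfsg.Agent.Lib.Helper24.ULag

variable {F : Type*} [Field F] [Fintype F] {q n : ℕ}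
variable {F₀ : Subfield F} {P : GL (Fin n) F} {θ : F}

/-- a vector has a component outside the span of a pair -/
def Good (a'₁ a'₂ b'₁ b'₂ : Fin n → ↥F₀) : Prop :=
  (∀ α β : ↥F₀, b'₁ ≠ α • a'₁ + β • a'₂) ∨ (∀ α β : ↥F₀, b'₂ ≠ α • a'₁ + β • a'₂)

theorem exists_partner (S : OSetup F₀ P θ q) {a : Fin n → ↥F₀} (ha : a ≠ 0) :
    ∃ f : Fin n → ↥F₀, Bf S a f ≠ 0 := by
  by_contra hcon
  push Not at hcon
  exact ha (Bf_nondeg S a hcon)

/-- two candidates cannot both be bad -/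
theorem exists_good (S : OSetup F₀ P θ q) (hn : 11 ≤ n) (g : GL (Fin n) F)
    {a₀ : Fin n → ↥F₀} (ha₀ : Sing S a₀) (ha₀0 : a₀ ≠ 0) {a'₁ a'₂ : Fin n → ↥F₀}
    (ha' : gact g (emb F₀ P a₀) = emb F₀ P a'₁ + θ • emb F₀ P a'₂) :
    ∃ b₀ b'₁ b'₂ : Fin n → ↥F₀, Sing S b₀ ∧ Bf S a₀ b₀ = 0 ∧
      gact g (emb F₀ P b₀) = emb F₀ P b'₁ + θ • emb F₀ P b'₂ ∧ Good a'₁ a'₂ b'₁ b'₂ := by
  obtain ⟨f, hf⟩ := exists_partner S ha₀0
  obtain ⟨b₀, hb₀0, hb₀, hb₀w⟩ := exists_sing_orth S (m := 2) (by omega) ![a₀, f]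
  have hb₀a : Bf S b₀ a₀ = 0 := hb₀w 0
  have hb₀f : Bf S b₀ f = 0 := hb₀w 1
  have hne : ∀ α β : ↥F₀, b₀ ≠ α • a₀ + β • f := by
    intro α β h
    have h1 : Bf S b₀ a₀ = β * Bf S a₀ f := by
      conv_lhs => rw [h]
      simp only [map_add, map_smul, LinearMap.add_apply, LinearMap.smul_apply, smul_eq_mul]
      rw [show Bf S a₀ a₀ = 0 from ha₀, Bf_symm S f a₀]
      ring
    rw [hb₀a] at h1
    have hβ : β = 0 := (mul_eq_zero.mp h1.symm).resolve_right hf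
    have h2 : Bf S b₀ f = α * Bf S a₀ f := by
      conv_lhs => rw [h]
      simp only [map_add, map_smul, LinearMap.add_apply, LinearMap.smul_apply, smul_eq_mul, hβ]
      ring
    rw [hb₀f] at h2
    have hα : α = 0 := (mul_eq_zero.mp h2.symm).resolve_right hf
    apply hb₀0
    rw [h, hα, hβ]
    simp
  obtain ⟨c₀, hc₀, hc₀a, hc₀f, hc₀b⟩ := exists_sing_sep S hn a₀ f b₀ hne
  obtain ⟨b'₁, b'₂, hb'⟩ := decomp_vec S.hF F₀ S.hcard P θ S.θne (gact g (emb F₀ P b₀))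
  obtain ⟨c'₁, c'₂, hc'⟩ := decomp_vec S.hF F₀ S.hcard P θ S.θne (gact g (emb F₀ P c₀))
  by_cases hgb : Good a'₁ a'₂ b'₁ b'₂
  · exact ⟨b₀, b'₁, b'₂, hb₀, by rw [Bf_symm S]; exact hb₀a, hb', hgb⟩
  by_cases hgc : Good a'₁ a'₂ c'₁ c'₂
  · exact ⟨c₀, c'₁, c'₂, hc₀, by rw [Bf_symm S]; exact hc₀a, hc', hgc⟩
  exfalso
  unfold Good at hgb hgc
  push Not at hgb hgc
  obtain ⟨⟨α₁, β₁, hb1⟩, ⟨α₂, β₂, hb2⟩⟩ := hgb
  obtain ⟨⟨γ₁, δ₁, hc1⟩, ⟨γ₂, δ₂, hc2⟩⟩ := hgc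
  obtain ⟨p, hp⟩ : ∃ p, p = emb F₀ P a'₁ := ⟨_, rfl⟩
  obtain ⟨r, hr⟩ : ∃ r, r = emb F₀ P a'₂ := ⟨_, rfl⟩
  obtain ⟨y₁, hy₁⟩ : ∃ y₁ : F, y₁ = (α₁ : F) + θ * (α₂ : F) := ⟨_, rfl⟩
  obtain ⟨y₂, hy₂⟩ : ∃ y₂ : F, y₂ = (β₁ : F) + θ * (β₂ : F) := ⟨_, rfl⟩
  obtain ⟨z₁, hz₁⟩ : ∃ z₁ : F, z₁ = (γ₁ : F) + θ * (γ₂ : F) := ⟨_, rfl⟩
  obtain ⟨z₂, hz₂⟩ : ∃ z₂ : F, z₂ = (δ₁ : F) + θ * (δ₂ : F) := ⟨_, rfl⟩
  have hu : gact g (emb F₀ P a₀) = p + θ • r := by rw [ha', hp, hr]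
  have hv : gact g (emb F₀ P b₀) = y₁ • p + y₂ • r := by
    rw [hb', hb1, hb2, emb_add, emb_add, emb_smul, emb_smul, emb_smul, emb_smul, ← hp, ← hr, hy₁,
      hy₂]
    module
  have hw : gact g (emb F₀ P c₀) = z₁ • p + z₂ • r := by
    rw [hc', hc1, hc2, emb_add, emb_add, emb_smul, emb_smul, emb_smul, emb_smul, ← hp, ← hr, hz₁,
      hz₂]
    module
  have hrel : (y₁ * z₂ - y₂ * z₁) • emb F₀ P a₀ - (z₂ - θ * z₁) • emb F₀ P b₀ +
      (y₂ - θ * y₁) • emb F₀ P c₀ = 0 := by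
    apply gact_injective g
    rw [gact_add, gact_sub, gact_smul, gact_smul, gact_smul, hu, hv, hw]
    have : gact g 0 = 0 := (gact_eq_zero (g := g)).mpr rfl
    rw [this]
    module
  have hd3 : y₂ - θ * y₁ = 0 := by
    have h1 := congrArg (fun x => hermForm n F q x (emb F₀ P b₀)) hrel
    simp only [hf_add_left, hf_sub_left, hf_smul_left, hf_zero_left] at h1
    rw [← Bf_apply S, ← Bf_apply S, ← Bf_apply S, Bf_symm S a₀ b₀, hb₀a,
      show Bf S b₀ b₀ = 0 from hb₀] at h1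
    simp only [ZeroMemClass.coe_zero, mul_zero, sub_zero, zero_add] at h1
    rcases mul_eq_zero.mp h1 with h2 | h2
    · exact h2
    · exact absurd (coe_eq_zero h2) hc₀b
  have hy2 : y₂ = θ * y₁ := by linear_combination hd3
  have h5 : emb F₀ P b₀ = y₁ • emb F₀ P a₀ := by
    apply gact_injective g
    rw [gact_smul, hu, hv, hy2]
    module
  have h6 := congrArg (fun x => hermForm n F q x (emb F₀ P f)) h5
  simp only [hf_smul_left] at h6
  rw [← Bf_apply S, ← Bf_apply S, hb₀f] at h6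
  simp only [ZeroMemClass.coe_zero] at h6
  have hy10 : y₁ = 0 := by
    rcases mul_eq_zero.mp h6.symm with h7 | h7
    · exact h7
    · exact absurd (coe_eq_zero h7) hf
  rw [hy10, zero_smul] at h5
  exact hb₀0 (emb_eq_zero F₀ P h5)

/-- first commutator step: a long-root-type element with a rational centre -/
theorem step_B1 (S : OSetup F₀ P θ q) (hn : 11 ≤ n) (M : Subgroup (GL (Fin n) F))
    (hHM : Cfsg.Geo.subfieldSubgroup F₀ P ⊓ (GU n F q ⊓ Cfsg.Geo.specialLinear (Fin n) F) ≤ M)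
    {a' b' : Fin n → F} {a'₁ a'₂ b'₁ b'₂ : Fin n → ↥F₀}
    (ha'eq : a' = emb F₀ P a'₁ + θ • emb F₀ P a'₂) (hb'eq : b' = emb F₀ P b'₁ + θ • emb F₀ P b'₂)
    (ha' : hermForm n F q a' a' = 0) (hb' : hermForm n F q b' b' = 0)
    (hab' : hermForm n F q a' b' = 0) (hgood : Good a'₁ a'₂ b'₁ b'₂)
    (hsg : sg q θ a' b' ∈ M) :
    ∃ (a : Fin n → ↥F₀) (β : F), a ≠ 0 ∧ Sing S a ∧ Bf S a a'₁ = 0 ∧ Bf S a a'₂ = 0 ∧ β ≠ 0 ∧
      ∀ r : ↥F₀, sg q θ (emb F₀ P a) (((r : F) * β) • a') ∈ M := by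
  obtain ⟨b, hb, hba1, hba2, hβ⟩ : ∃ b : Fin n → ↥F₀, Sing S b ∧ Bf S b a'₁ = 0 ∧
      Bf S b a'₂ = 0 ∧ hermForm n F q (emb F₀ P b) b' ≠ 0 := by
    rcases hgood with hg1 | hg2
    · obtain ⟨b, hb, h1, h2, h3⟩ := exists_sing_sep S hn a'₁ a'₂ b'₁ hg1
      refine ⟨b, hb, h1, h2, ?_⟩
      rw [hb'eq, hf_emb_decomp S]
      intro h0
      have h4 : ((Bf S b b'₁ : ↥F₀) : F) + θ * ((-(Bf S b b'₂) : ↥F₀) : F) = 0 := by
        rw [Subfield.coe_neg]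
        linear_combination h0
      exact h3 (rat_parts S h4).1
    · obtain ⟨b, hb, h1, h2, h3⟩ := exists_sing_sep S hn a'₁ a'₂ b'₂ hg2
      refine ⟨b, hb, h1, h2, ?_⟩
      rw [hb'eq, hf_emb_decomp S]
      intro h0
      have h4 : ((Bf S b b'₁ : ↥F₀) : F) + θ * ((-(Bf S b b'₂) : ↥F₀) : F) = 0 := by
        rw [Subfield.coe_neg]
        linear_combination h0
      exact h3 (neg_eq_zero.mp (rat_parts S h4).2)
  obtain ⟨a, ha0, ha, haw⟩ := exists_sing_orth S (m := 5) (by omega) ![a'₁, a'₂, b'₁, b'₂, b]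
  have h0 : Bf S a a'₁ = 0 := haw 0
  have h1 : Bf S a a'₂ = 0 := haw 1
  have h2 : Bf S a b'₁ = 0 := haw 2
  have h3 : Bf S a b'₂ = 0 := haw 3
  have h4 : Bf S a b = 0 := haw 4
  refine ⟨a, hermForm n F q (emb F₀ P b) b', ha0, ha, h0, h1, hβ, ?_⟩
  intro r
  have hrb : Sing S (r • b) := hb.smul S r
  have e1 : hermForm n F q (emb F₀ P a) (emb F₀ P (r • b)) = 0 := by
    rw [← Bf_eq_zero_iff S, map_smul, h4, smul_zero]
  have e2 : hermForm n F q (emb F₀ P a) a' = 0 := by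
    rw [ha'eq, hf_emb_decomp S, h0, h1]
    simp
  have e3 : hermForm n F q (emb F₀ P a) b' = 0 := by
    rw [hb'eq, hf_emb_decomp S, h2, h3]
    simp
  have e4 : hermForm n F q (emb F₀ P (r • b)) a' = 0 := by
    rw [ha'eq, hf_emb_decomp S]
    simp only [map_smul, LinearMap.smul_apply, hba1, hba2, smul_zero, ZeroMemClass.coe_zero,
      mul_zero, sub_zero]
  have hcomm := sg_comm_eq' S.hF S.hθ0 S.hθ (ha.iso S) (hrb.iso S) ha' hb' e1 hab' e2 e3 e4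
  have e5 : hermForm n F q (emb F₀ P (r • b)) b' = (r : F) * hermForm n F q (emb F₀ P b) b' := by
    rw [emb_smul, hf_smul_left]
  rw [e5] at hcomm
  have hH : sg q θ (emb F₀ P a) (emb F₀ P (r • b)) ∈ M :=
    hHM (rsg_mem_H S ha hrb (by rw [map_smul, h4, smul_zero]))
  have : sg q θ (emb F₀ P a) (((r : F) * hermForm n F q (emb F₀ P b) b') • a') =
      sg q θ (emb F₀ P a) (emb F₀ P (r • b)) * sg q θ a' b' *
        (sg q θ a' b' * sg q θ (emb F₀ P a) (emb F₀ P (r • b)))⁻¹ := by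
    rw [hcomm]
    group
  rw [this]
  exact mul_mem (mul_mem hH hsg) (inv_mem (mul_mem hsg hH))

theorem exists_coeff_θ (S : OSetup F₀ P θ q) (κ : F) (hκ : κ + κ ^ q = 0) :
    ∃ r : ↥F₀, κ = θ * (r : F) := by
  have hκq : κ ^ q = -κ := by linear_combination hκ
  have hfix : (κ / θ) ^ q = κ / θ := by
    rw [cj_div, S.θq, hκq, neg_div_neg_eq]
  refine ⟨⟨κ / θ, mem_of_fix S.hF F₀ S.hcard hfix⟩, ?_⟩
  have := S.hθ0
  simp only
  field_simp

theorem mem_ASet_of_coeff (S : OSetup F₀ P θ q) (M : Subgroup (GL (Fin n) F))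
    {a : Fin n → ↥F₀} (ha : Sing S a) (k : ↥F₀) (hk : k ≠ 0)
    (h : ∀ r : ↥F₀, tv q (emb F₀ P a) (θ * ((r * k : ↥F₀) : F)) ∈ M) :
    emb F₀ P a ∈ ASet q M := by
  refine ⟨ha.iso S, ?_⟩
  intro κ hκ
  obtain ⟨r', rfl⟩ := exists_coeff_θ S κ hκ
  have := h (r' / k)
  rwa [div_mul_cancel₀ _ hk] at this

/-- second commutator step: the transvections with rational centre -/
theorem step_B2 (S : OSetup F₀ P θ q) (hn : 11 ≤ n) (M : Subgroup (GL (Fin n) F))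
    (hHM : Cfsg.Geo.subfieldSubgroup F₀ P ⊓ (GU n F q ⊓ Cfsg.Geo.specialLinear (Fin n) F) ≤ M)
    {a : Fin n → ↥F₀} (ha : Sing S a) {c : Fin n → F} {c₁ c₂ : Fin n → ↥F₀}
    (hc : c = emb F₀ P c₁ + θ • emb F₀ P c₂) (hciso : hermForm n F q c c = 0)
    (hac : hermForm n F q (emb F₀ P a) c = 0) (hc₂ : c₂ ≠ 0)
    (hsg : ∀ r : ↥F₀, sg q θ (emb F₀ P a) ((r : F) • c) ∈ M) :
    emb F₀ P a ∈ ASet q M := by
  have hrc : ∀ r : ↥F₀, hermForm n F q ((r : F) • c) ((r : F) • c) = 0 := by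
    intro r
    rw [hf_smul_self, hciso, mul_zero]
  have harc : ∀ r : ↥F₀, hermForm n F q (emb F₀ P a) ((r : F) • c) = 0 := by
    intro r
    rw [hf_smul_right, hac, mul_zero]
  have h2 := S.two_ne
  by_cases hdep : ∃ t : ↥F₀, c₂ = t • a
  · -- dependent case
    obtain ⟨t, ht⟩ := hdep
    have ht0 : t ≠ 0 := by
      intro h
      apply hc₂
      rw [ht, h, zero_smul]
    have haa : Bf S a a = 0 := ha
    have hc₁ : Sing S c₁ := by
      have h1 := hciso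
      rw [hc, hf_decomp_self S, ht] at h1
      simp only [map_smul, LinearMap.smul_apply, haa, smul_zero, ZeroMemClass.coe_zero, mul_zero,
        sub_zero] at h1
      exact coe_eq_zero h1
    have hac₁ : Bf S a c₁ = 0 := by
      have h1 := hac
      rw [hc, hf_emb_decomp S, ht] at h1
      simp only [map_smul, LinearMap.smul_apply, haa, smul_zero, ZeroMemClass.coe_zero, mul_zero,
        sub_zero] at h1
      exact coe_eq_zero h1
    apply mem_ASet_of_coeff S M ha (2 * t) (mul_ne_zero h2 ht0)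
    intro r
    have hrc₁ : Sing S (r • c₁) := hc₁.smul S r
    have harc₁ : Bf S a (r • c₁) = 0 := by rw [map_smul, hac₁, smul_zero]
    have hH : sg q θ (emb F₀ P a) (emb F₀ P (r • c₁)) ∈ M := hHM (rsg_mem_H S ha hrc₁ harc₁)
    have hEq : sg q θ (emb F₀ P a) ((r : F) • c) =
        tv q (emb F₀ P a) (θ * ((r * (2 * t) : ↥F₀) : F)) *
          sg q θ (emb F₀ P a) (emb F₀ P (r • c₁)) := by
      apply gact_ext
      intro x
      have e1 : hermForm n F q (emb F₀ P c₁) (emb F₀ P a) = 0 := by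
        rw [← Bf_eq_zero_iff S, Bf_symm S]; exact hac₁
      rw [gact_mul, sg_gact S.hF S.hθ0 S.hθ (ha.iso S) (hrc r) (harc r),
        sg_gact S.hF S.hθ0 S.hθ (ha.iso S) (hrc₁.iso S) ((Bf_eq_zero_iff S _ _).mp harc₁),
        tv_gact (ha.iso S)]
      have hcc : c = emb F₀ P c₁ + (θ * (t : F)) • emb F₀ P a := by
        rw [hc, ht, emb_smul, smul_smul]
      rw [hcc]
      simp only [emb_smul, hf_add_left, hf_sub_left, hf_smul_left, hf_smul_right,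
        hf_add_right S.hF, ha.iso S, e1, S.fix, S.θq, mul_pow, mul_zero, add_zero, sub_zero,
        Subfield.coe_mul, smul_add, smul_smul]
      have h22 : ((2 : ↥F₀) : F) = 2 := by norm_cast
      rw [h22]
      module
    have : tv q (emb F₀ P a) (θ * ((r * (2 * t) : ↥F₀) : F)) =
        sg q θ (emb F₀ P a) ((r : F) • c) * (sg q θ (emb F₀ P a) (emb F₀ P (r • c₁)))⁻¹ := by
      rw [hEq]
      group
    rw [this]
    exact mul_mem (hsg r) (inv_mem hH)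
  · -- independent case
    push Not at hdep
    have hne : ∀ α β : ↥F₀, c₂ ≠ α • a + β • a := by
      intro α β h
      apply hdep (α + β)
      rw [h, add_smul]
    obtain ⟨b₂, hb₂, hb₂a, -, hb₂c⟩ := exists_sing_sep S hn a a c₂ hne
    have hab₂ : Bf S a b₂ = 0 := by rw [Bf_symm S]; exact hb₂a
    have hH : sg q θ (emb F₀ P a) (emb F₀ P b₂) ∈ M := hHM (rsg_mem_H S ha hb₂ hab₂)
    apply mem_ASet_of_coeff S M ha (-2 * Bf S b₂ c₂) (mul_ne_zero (neg_ne_zero.mpr h2) hb₂c)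
    intro r
    have hcomm := sg_comm_eq S.hF S.hθ0 S.hθ (ha.iso S) (hb₂.iso S) (hrc r)
      ((Bf_eq_zero_iff S _ _).mp hab₂) (harc r)
    have hval : hermForm n F q (emb F₀ P b₂) ((r : F) • c) -
        hermForm n F q ((r : F) • c) (emb F₀ P b₂) =
          θ * ((r * (-2 * Bf S b₂ c₂) : ↥F₀) : F) := by
      rw [hf_smul_right, hf_smul_left, S.fix, hc, hf_emb_decomp S, hf_decomp_emb S,
        Bf_symm S c₁ b₂, Bf_symm S c₂ b₂]
      have h22 : ((2 : ↥F₀) : F) = 2 := by norm_cast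
      simp only [Subfield.coe_mul, Subfield.coe_neg, h22]
      ring
    rw [hval] at hcomm
    have : tv q (emb F₀ P a) (θ * ((r * (-2 * Bf S b₂ c₂) : ↥F₀) : F)) =
        sg q θ (emb F₀ P a) (emb F₀ P b₂) * sg q θ (emb F₀ P a) ((r : F) • c) *
          (sg q θ (emb F₀ P a) ((r : F) • c) * sg q θ (emb F₀ P a) (emb F₀ P b₂))⁻¹ := by
      rw [hcomm]
      group
    rw [this]
    exact mul_mem (mul_mem hH (hsg r)) (inv_mem (mul_mem (hsg r) hH))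

/-- an overgroup element moving a rational singular point off the rational structure produces a
rational singular vector all of whose transvections lie in the overgroup -/
theorem step_B (S : OSetup F₀ P θ q) (hn : 11 ≤ n) (M : Subgroup (GL (Fin n) F))
    (hHM : Cfsg.Geo.subfieldSubgroup F₀ P ⊓ (GU n F q ⊓ Cfsg.Geo.specialLinear (Fin n) F) ≤ M)
    (hMU : M ≤ GU n F q) {g : GL (Fin n) F} (hgM : g ∈ M) {a₀ : Fin n → ↥F₀} (ha₀ : Sing S a₀)
    (hnr : ∀ (lam : F) (u' : Fin n → ↥F₀), gact g (emb F₀ P a₀) ≠ lam • emb F₀ P u') :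
    ∃ a : Fin n → ↥F₀, a ≠ 0 ∧ Sing S a ∧ emb F₀ P a ∈ ASet q M := by
  have ha₀0 : a₀ ≠ 0 := by
    intro h
    apply hnr 0 0
    rw [h, emb_zero, zero_smul]
    exact (gact_eq_zero (g := g)).mpr rfl
  obtain ⟨a'₁, a'₂, ha'⟩ := decomp_vec S.hF F₀ S.hcard P θ S.θne (gact g (emb F₀ P a₀))
  obtain ⟨b₀, b'₁, b'₂, hb₀, hab₀, hb', hgood⟩ := exists_good S hn g ha₀ ha₀0 ha'
  have hgU := hMU hgM
  have hiso_a : hermForm n F q (gact g (emb F₀ P a₀)) (gact g (emb F₀ P a₀)) = 0 := by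
    rw [GU_preserves hgU]; exact ha₀.iso S
  have hiso_b : hermForm n F q (gact g (emb F₀ P b₀)) (gact g (emb F₀ P b₀)) = 0 := by
    rw [GU_preserves hgU]; exact hb₀.iso S
  have hiso_ab : hermForm n F q (gact g (emb F₀ P a₀)) (gact g (emb F₀ P b₀)) = 0 := by
    rw [GU_preserves hgU]; exact (Bf_eq_zero_iff S _ _).mp hab₀
  have hsgM : sg q θ (gact g (emb F₀ P a₀)) (gact g (emb F₀ P b₀)) ∈ M := by
    rw [← conj_sg S.hF hgU θ (ha₀.iso S) (hb₀.iso S) ((Bf_eq_zero_iff S _ _).mp hab₀)]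
    exact mul_mem (mul_mem hgM (hHM (rsg_mem_H S ha₀ hb₀ hab₀))) (inv_mem hgM)
  obtain ⟨a, β, ha0, ha, haa1, haa2, hβ, hall⟩ := step_B1 S hn M hHM ha' hb' hiso_a hiso_b hiso_ab
    hgood hsgM
  refine ⟨a, ha0, ha, ?_⟩
  obtain ⟨c₁, c₂, hc⟩ := decomp_vec S.hF F₀ S.hcard P θ S.θne (β • gact g (emb F₀ P a₀))
  have hc₂ : c₂ ≠ 0 := by
    intro h
    apply hnr β⁻¹ c₁
    rw [h, emb_zero, smul_zero, add_zero] at hc
    rw [← hc, smul_smul, inv_mul_cancel₀ hβ, one_smul]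
  have hciso : hermForm n F q (β • gact g (emb F₀ P a₀)) (β • gact g (emb F₀ P a₀)) = 0 := by
    rw [hf_smul_self, hiso_a, mul_zero]
  have hac : hermForm n F q (emb F₀ P a) (β • gact g (emb F₀ P a₀)) = 0 := by
    rw [hf_smul_right, ha', hf_emb_decomp S, haa1, haa2]
    simp
  apply step_B2 S hn M hHM ha hc hciso hac hc₂
  intro r
  rw [smul_smul]
  exact hall r

end Cfsg.Agent.Lib.Helper24.UOrth
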