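import Mathlib
import Cfsg.Agent.Lib.Helper24.UOrthD

set_option autoImplicit false
set_option linter.style.haveILetI false
set_option linter.unusedSimpArgs false
set_option linter.unusedSectionVars false

namespace Cfsg.Agent.Lib.Helper24.UOrth

open Matrix Module Cfsg QuadraticMap
open Cfsg.Agent.Lib.Helper27.Unitary Cfsg.Agent.Lib.Helper27.GLStab
open Cfsg.Agent.Lib.Helper24.USubfield Cfsg.Agent.Lib.Helper24.ULag

variable {F : Type*} [Field F] [Fintype F] {q n : ℕ}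
variable {F₀ : Subfield F} {P : GL (Fin n) F} {θ : F}

/-- the square of `θ` is rational -/
theorem exists_delta (S : OSetup F₀ P θ q) : ∃ δ : ↥F₀, (δ : F) = θ ^ 2 := by
  have hfix : (θ ^ 2) ^ q = θ ^ 2 := by
    rw [← pow_mul, mul_comm, pow_mul, S.θq]
    ring
  exact ⟨⟨θ ^ 2, mem_of_fix S.hF F₀ S.hcard hfix⟩, rfl⟩

/-- isotropic vectors whose two rational components are singular -/
theorem iso_kind0 (S : OSetup F₀ P θ q) (M : Subgroup (GL (Fin n) F))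
    (hHM : Cfsg.Geo.subfieldSubgroup F₀ P ⊓ (GU n F q ⊓ Cfsg.Geo.specialLinear (Fin n) F) ≤ M)
    (hMU : M ≤ GU n F q)
    (hall : ∀ y : Fin n → ↥F₀, Sing S y → emb F₀ P y ∈ ASet q M)
    {x₁ x₂ : Fin n → ↥F₀} (hx₁ : Sing S x₁) (hx₂ : Sing S x₂) :
    emb F₀ P x₁ + θ • emb F₀ P x₂ ∈ ASet q M := by
  have hA1 := hall x₁ hx₁
  have hA2 := hall x₂ hx₂
  have hviso : hermForm n F q (emb F₀ P x₁ + θ • emb F₀ P x₂) (emb F₀ P x₁ + θ • emb F₀ P x₂) = 0 := by
    rw [hf_decomp_self S, show Bf S x₁ x₁ = 0 from hx₁, show Bf S x₂ x₂ = 0 from hx₂]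
    simp
  by_cases hr : Bf S x₁ x₂ = 0
  · refine ⟨hviso, ?_⟩
    intro c hc
    have hcq : c ^ q = -c := by linear_combination hc
    have hy : hermForm n F q (θ • emb F₀ P x₂) (θ • emb F₀ P x₂) = 0 := by
      rw [hf_smul_self, hx₂.iso S, mul_zero]
    have hxy : hermForm n F q (emb F₀ P x₁) (θ • emb F₀ P x₂) = 0 := by
      rw [hf_smul_right, (Bf_eq_zero_iff S _ _).mp hr, mul_zero]
    rw [tv_add_eq S.hF S.hθ0 S.hθ (hx₁.iso S) hy hxy hc]
    refine mul_mem (mul_mem ?_ (hA1.2 c hc)) ((ASet_smul S.hF hA2 θ).2 c hc)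
    apply hHM
    obtain ⟨r, hr'⟩ := exists_coeff_θ S c hc
    obtain ⟨δ, hδ⟩ := exists_delta S
    have h1 : hermForm n F q ((-c) • emb F₀ P x₁) ((-c) • emb F₀ P x₁) = 0 := by
      rw [hf_smul_self, hx₁.iso S, mul_zero]
    have h2 : hermForm n F q ((-c) • emb F₀ P x₁) (θ • emb F₀ P x₂) = 0 := by
      rw [hf_smul_left, hxy, mul_zero]
    apply mem_H_of_maps S (sg_mem_SUg S.hF S.hθ _ _)
      (fun u => u + (δ * r * Bf S u x₁) • x₂ - (δ * r * Bf S u x₂) • x₁)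
    intro u
    rw [sg_gact S.hF S.hθ0 S.hθ h1 hy h2]
    simp only [hf_smul_right, cj_neg S.hF, hcq, S.θq, emb_sub, emb_add, emb_smul, Subfield.coe_mul,
      hδ, Bf_apply S, smul_smul, neg_neg]
    rw [hr']
    module
  · have := ASet_line S.hF hMU hA2 hA1 θ hviso ((Bf_eq_zero_iff S _ _).not.mp hr)
    exact this

/-- every isotropic vector lies in the `A`-set once all rational singular vectors do -/
theorem all_iso (S : OSetup F₀ P θ q) (hn : 11 ≤ n) (M : Subgroup (GL (Fin n) F))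
    (hHM : Cfsg.Geo.subfieldSubgroup F₀ P ⊓ (GU n F q ⊓ Cfsg.Geo.specialLinear (Fin n) F) ≤ M)
    (hMU : M ≤ GU n F q)
    (hall : ∀ y : Fin n → ↥F₀, Sing S y → emb F₀ P y ∈ ASet q M)
    (v : Fin n → F) (hv : hermForm n F q v v = 0) : v ∈ ASet q M := by
  obtain ⟨x₁, x₂, rfl⟩ := decomp_vec S.hF F₀ S.hcard P θ S.θne v
  have h2 := S.two_ne
  have hiso := hv
  rw [hf_decomp_self S] at hiso
  by_cases hs : Bf S x₂ x₂ = 0
  · have hx₁ : Sing S x₁ := by
      rw [hs] at hiso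
      simp only [ZeroMemClass.coe_zero, mul_zero, sub_zero] at hiso
      exact coe_eq_zero hiso
    exact iso_kind0 S M hHM hMU hall hx₁ hs
  · have hs1 : Bf S x₁ x₁ ≠ 0 := by
      intro h
      rw [h] at hiso
      simp only [ZeroMemClass.coe_zero, zero_sub, neg_eq_zero] at hiso
      rcases mul_eq_zero.mp hiso with h3 | h3
      · exact S.hθ0 (pow_eq_zero_iff (by norm_num) |>.mp h3)
      · exact hs (coe_eq_zero h3)
    have hx₁0 : x₁ ≠ 0 := by
      intro h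
      apply hs1
      rw [h]
      simp
    have hx₂0 : x₂ ≠ 0 := by
      intro h
      apply hs
      rw [h]
      simp
    obtain ⟨u, hu, hu1, hu2⟩ := exists_sing_two S (by omega) x₁ x₂ hx₁0 hx₂0
    have huu : Bf S u u = 0 := hu
    obtain ⟨μ₁, hμ₁⟩ : ∃ μ₁ : ↥F₀, μ₁ = Bf S x₁ x₁ / (2 * Bf S u x₁) := ⟨_, rfl⟩
    obtain ⟨μ₂, hμ₂⟩ : ∃ μ₂ : ↥F₀, μ₂ = Bf S x₂ x₂ / (2 * Bf S u x₂) := ⟨_, rfl⟩
    have hy₁ : Sing S (x₁ - μ₁ • u) := by
      unfold Sing
      simp only [map_sub, map_smul, LinearMap.sub_apply, LinearMap.smul_apply, smul_eq_mul,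
        huu, Bf_symm S x₁ u, mul_zero, sub_zero]
      rw [hμ₁]
      field_simp
      ring
    have hy₂ : Sing S (x₂ - μ₂ • u) := by
      unfold Sing
      simp only [map_sub, map_smul, LinearMap.sub_apply, LinearMap.smul_apply, smul_eq_mul,
        huu, Bf_symm S x₂ u, mul_zero, sub_zero]
      rw [hμ₂]
      field_simp
      ring
    have hy' := iso_kind0 S M hHM hMU hall hy₁ hy₂
    have hveq : emb F₀ P x₁ + θ • emb F₀ P x₂ =
        (emb F₀ P (x₁ - μ₁ • u) + θ • emb F₀ P (x₂ - μ₂ • u)) +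
          ((μ₁ : F) + θ * (μ₂ : F)) • emb F₀ P u := by
      rw [emb_sub, emb_sub, emb_smul, emb_smul]
      module
    have hne : hermForm n F q (emb F₀ P (x₁ - μ₁ • u) + θ • emb F₀ P (x₂ - μ₂ • u))
        (emb F₀ P u) ≠ 0 := by
      rw [hf_decomp_emb S]
      intro h0
      have h3 := (rat_parts S h0).1
      simp only [map_sub, map_smul, LinearMap.sub_apply, LinearMap.smul_apply, huu, smul_zero,
        sub_zero] at h3
      apply hu1
      rw [Bf_symm S]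
      exact h3
    rw [hveq]
    apply ASet_line S.hF hMU (hall u hu) hy' _ _ hne
    rw [← hveq]
    exact hv

/-- an independent totally singular rational pair -/
theorem exists_ts_pair (S : OSetup F₀ P θ q) (hn : 5 ≤ n) :
    ∃ x₁ x₂ : Fin n → ↥F₀, x₁ ≠ 0 ∧ (∀ μ : ↥F₀, x₂ ≠ μ • x₁) ∧ Sing S x₁ ∧ Sing S x₂ ∧
      Bf S x₁ x₂ = 0 := by
  obtain ⟨x₁, hx₁0, hx₁, -⟩ := exists_sing_orth S (m := 0) (by omega) Fin.elim0
  obtain ⟨f, hf⟩ := exists_partner S hx₁0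
  obtain ⟨x₂, hx₂0, hx₂, hw⟩ := exists_sing_orth S (m := 2) (by omega) ![x₁, f]
  have h1 : Bf S x₂ x₁ = 0 := hw 0
  have h2 : Bf S x₂ f = 0 := hw 1
  refine ⟨x₁, x₂, hx₁0, ?_, hx₁, hx₂, by rw [Bf_symm S]; exact h1⟩
  intro μ h
  rw [h, map_smul, LinearMap.smul_apply, smul_eq_mul] at h2
  rcases mul_eq_zero.mp h2 with h3 | h3
  · apply hx₂0
    rw [h, h3, zero_smul]
  · exact hf h3

theorem maximal (S : OSetup F₀ P θ q) (hn : 11 ≤ n) :
    Cfsg.Geo.IsMaximalIn (GU n F q ⊓ Cfsg.Geo.specialLinear (Fin n) F)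
      (Cfsg.Geo.subfieldSubgroup F₀ P ⊓ (GU n F q ⊓ Cfsg.Geo.specialLinear (Fin n) F)) := by
  refine ⟨lt_of_le_of_ne inf_le_right ?_, ?_⟩
  · intro hEq
    obtain ⟨x₁, x₂, hx₁, hx₂, hs₁, hs₂, hB⟩ := exists_ts_pair S (by omega)
    have hiso : hermForm n F q (emb F₀ P x₁ + θ • emb F₀ P x₂) (emb F₀ P x₁ + θ • emb F₀ P x₂) = 0 := by
      rw [hf_decomp_self S, show Bf S x₁ x₁ = 0 from hs₁, show Bf S x₂ x₂ = 0 from hs₂]
      simp
    have hne1 : emb F₀ P x₁ ≠ 0 := fun h => hx₁ (emb_eq_zero F₀ P h)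
    have hne2 : emb F₀ P x₁ + θ • emb F₀ P x₂ ≠ 0 := by
      intro h
      have := not_rational S x₁ x₂ hx₁ hx₂ 0 0
      rw [zero_smul] at this
      exact this h
    obtain ⟨g, hg, hgx⟩ := su_trans1 S.hF (by omega) (emb F₀ P x₁) (emb F₀ P x₁ + θ • emb F₀ P x₂)
      hne1 (hs₁.iso S) hne2 hiso
    rw [← hEq] at hg
    obtain ⟨lam, -, hlam⟩ := of_mem_subfield F₀ P g hg.1
    obtain ⟨u', hu'⟩ := hlam x₁
    rw [hgx] at hu'
    exact not_rational S x₁ x₂ hx₁ hx₂ lam u' hu'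
  · intro M hHM hMK
    by_cases hMH : M ≤ Cfsg.Geo.subfieldSubgroup F₀ P ⊓
        (GU n F q ⊓ Cfsg.Geo.specialLinear (Fin n) F)
    · exact Or.inl (le_antisymm hMH hHM)
    · right
      obtain ⟨g, hgM, hgH⟩ := SetLike.not_le_iff_exists.1 hMH
      have hgK := hMK hgM
      have hgsub : g ∉ Cfsg.Geo.subfieldSubgroup F₀ P := fun h => hgH ⟨h, hgK⟩
      have hMU : M ≤ GU n F q := fun k hk => (hMK hk).1
      have hex : ∃ a₀ : Fin n → ↥F₀, Sing S a₀ ∧ ∀ (lam : F) (u' : Fin n → ↥F₀),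
          gact g (emb F₀ P a₀) ≠ lam • emb F₀ P u' := by
        by_contra hcon
        push Not at hcon
        exact hgsub (mem_subfield_of_sing S hn g hcon)
      obtain ⟨a₀, ha₀, hnr⟩ := hex
      obtain ⟨a, ha0, ha, hA⟩ := step_B S hn M hHM hMU hgM ha₀ hnr
      have hall : ∀ y : Fin n → ↥F₀, Sing S y → emb F₀ P y ∈ ASet q M :=
        fun y hy => move_any S hn M hHM hMU ha ha0 hA y hy
      apply ASet_top S.hF (by omega) hMK
      intro y hy
      exact all_iso S hn M hHM hMU hall y hy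

end Cfsg.Agent.Lib.Helper24.UOrth
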